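import Mathlib

/-!
# Automorphisms of an elementary abelian `p`-group embed in `GL(e, p)`

For a finite commutative group `A` of exponent `p` and order `p ^ e`, there is an injective
homomorphism `MulAut A →* GL (Fin e) (ZMod p)`.
-/

namespace Cfsg.Agent.Lib.Helper11

open Module

section

variable (A : Type*) [CommGroup A]

/-- An automorphism of `A` as a `ZMod p`-linear automorphism of `Additive A`. -/
def mulAutToLinearEquiv (p : ℕ) [Module (ZMod p) (Additive A)] :
    MulAut A →* (Additive A ≃ₗ[ZMod p] Additive A) where
  toFun f :=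
    { toFun := fun v => Additive.ofMul (f v.toMul)
      invFun := fun v => Additive.ofMul (f.symm v.toMul)
      left_inv := fun v => by simp
      right_inv := fun v => by simp
      map_add' := fun v w => by
        change Additive.ofMul (f (v.toMul * w.toMul)) = _
        rw [map_mul]; rfl
      map_smul' := fun c v => by
        let g : Additive A →+ Additive A := MonoidHom.toAdditive (f : A →* A)
        exact ZMod.map_smul g c v }
  map_one' := by ext v; rfl
  map_mul' f g := by ext v; rfl

theorem mulAutToLinearEquiv_injective (p : ℕ) [Module (ZMod p) (Additive A)] :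
    Function.Injective (mulAutToLinearEquiv A p) := by
  intro f g h
  ext a
  have := congrArg (fun L : Additive A ≃ₗ[ZMod p] Additive A => (L (Additive.ofMul a)).toMul) h
  exact this

/-- The embedding of `Aut A` in `GL(e, p)`, given the module structure. -/
theorem exists_mulAut_to_GL_aux [Finite A] (p e : ℕ) [Fact p.Prime]
    [Module (ZMod p) (Additive A)] (hcard : Nat.card A = p ^ e) :
    ∃ ψ : MulAut A →* GL (Fin e) (ZMod p), Function.Injective ψ := by
  have hp : p.Prime := Fact.out
  haveI : Finite (Additive A) := inferInstanceAs (Finite A)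
  haveI : Module.Finite (ZMod p) (Additive A) := Module.Finite.of_finite
  have hfin : finrank (ZMod p) (Additive A) = e := by
    have h1 := Module.natCard_eq_pow_finrank (K := ZMod p) (V := Additive A)
    rw [Nat.card_zmod] at h1
    have h2 : Nat.card (Additive A) = Nat.card A := rfl
    rw [h2, hcard] at h1
    exact (Nat.pow_right_injective hp.two_le h1).symm
  let b : Basis (Fin e) (ZMod p) (Additive A) := Module.finBasisOfFinrankEq (ZMod p) (Additive A) hfin
  let ψ2 : (Additive A ≃ₗ[ZMod p] Additive A) ≃* (Additive A →ₗ[ZMod p] Additive A)ˣ :=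
    (LinearMap.GeneralLinearGroup.generalLinearEquiv (ZMod p) (Additive A)).symm
  let ψ3 : (Additive A →ₗ[ZMod p] Additive A)ˣ ≃* (Matrix (Fin e) (Fin e) (ZMod p))ˣ :=
    Units.mapEquiv (LinearMap.toMatrixAlgEquiv b).toMulEquiv
  refine ⟨(ψ3.toMonoidHom.comp ψ2.toMonoidHom).comp (mulAutToLinearEquiv A p), ?_⟩
  intro f g h
  apply mulAutToLinearEquiv_injective A p
  have h1 : ψ3 (ψ2 (mulAutToLinearEquiv A p f)) = ψ3 (ψ2 (mulAutToLinearEquiv A p g)) := h
  exact ψ2.injective (ψ3.injective h1)

/-- The embedding of `Aut A` in `GL(e, p)`. -/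
theorem exists_mulAut_to_GL [Finite A] (p e : ℕ) [Fact p.Prime] (hexp : ∀ a : A, a ^ p = 1)
    (hcard : Nat.card A = p ^ e) :
    ∃ ψ : MulAut A →* GL (Fin e) (ZMod p), Function.Injective ψ := by
  letI : Module (ZMod p) (Additive A) := AddCommGroup.zmodModule (by
    intro x
    exact congrArg Additive.ofMul (hexp x.toMul))
  exact exists_mulAut_to_GL_aux A p e hcard

end

end Cfsg.Agent.Lib.Helper11
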