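import Mathlib
import Cfsg.Agent.Lib.Helper15.TwoByTwo

/-!
Dickson's lemma, matrix part (helper11): elementary matrices in `GL₂(F)` (as units of the matrix
ring), their conjugation relations, and the description of unipotent elements.
-/

set_option autoImplicit false

namespace Cfsg.Agent.Lib.Helper11.Dickson

open Matrix

variable {F : Type*} [Field F]

local notation "M2" => Matrix (Fin 2) (Fin 2) F
local notation "G2" => (Matrix (Fin 2) (Fin 2) F)ˣ

theorem m2_ext {A B : M2} (h00 : A 0 0 = B 0 0) (h01 : A 0 1 = B 0 1) (h10 : A 1 0 = B 1 0)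
    (h11 : A 1 1 = B 1 1) : A = B := by
  ext i j
  fin_cases i <;> fin_cases j <;> assumption

theorem g2_ext {g h : G2} (h00 : (g : M2) 0 0 = (h : M2) 0 0) (h01 : (g : M2) 0 1 = (h : M2) 0 1)
    (h10 : (g : M2) 1 0 = (h : M2) 1 0) (h11 : (g : M2) 1 1 = (h : M2) 1 1) : g = h :=
  Units.ext (m2_ext h00 h01 h10 h11)

/-- upper unitriangular -/
def xx (s : F) : G2 :=
  ⟨!![1, s; 0, 1], !![1, -s; 0, 1], by simp [Matrix.mul_fin_two, Matrix.one_fin_two],
    by simp [Matrix.mul_fin_two, Matrix.one_fin_two]⟩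

/-- lower unitriangular -/
def yy (t : F) : G2 :=
  ⟨!![1, 0; t, 1], !![1, 0; -t, 1], by simp [Matrix.mul_fin_two, Matrix.one_fin_two],
    by simp [Matrix.mul_fin_two, Matrix.one_fin_two]⟩

/-- `diag(r, 1)` -/
def dd (r : F) (hr : r ≠ 0) : G2 :=
  ⟨!![r, 0; 0, 1], !![r⁻¹, 0; 0, 1], by simp [Matrix.mul_fin_two, Matrix.one_fin_two, hr],
    by simp [Matrix.mul_fin_two, Matrix.one_fin_two, hr]⟩

/-- the element swapping `x(1)` and `y(lam)` -/
def MM (lam : F) (h : lam ≠ 0) : G2 :=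
  ⟨!![0, -lam⁻¹; -1, 0], !![0, -1; -lam, 0], by simp [Matrix.mul_fin_two, Matrix.one_fin_two, h],
    by simp [Matrix.mul_fin_two, Matrix.one_fin_two, h]⟩

/-- `diag(a, a⁻¹)` -/
def hh (a : F) (ha : a ≠ 0) : G2 :=
  ⟨!![a, 0; 0, a⁻¹], !![a⁻¹, 0; 0, a], by simp [Matrix.mul_fin_two, Matrix.one_fin_two, ha],
    by simp [Matrix.mul_fin_two, Matrix.one_fin_two, ha]⟩

@[simp] theorem xx_val (s : F) : ((xx s : G2) : M2) = !![1, s; 0, 1] := rfl
@[simp] theorem yy_val (t : F) : ((yy t : G2) : M2) = !![1, 0; t, 1] := rfl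
@[simp] theorem dd_val (r : F) (hr : r ≠ 0) : ((dd r hr : G2) : M2) = !![r, 0; 0, 1] := rfl
@[simp] theorem MM_val (lam : F) (h : lam ≠ 0) : ((MM lam h : G2) : M2) = !![0, -lam⁻¹; -1, 0] := rfl
@[simp] theorem hh_val (a : F) (ha : a ≠ 0) : ((hh a ha : G2) : M2) = !![a, 0; 0, a⁻¹] := rfl

theorem xx_inv (s : F) : (xx s)⁻¹ = xx (-s) := by
  apply Units.ext
  show !![1, -s; 0, 1] = !![1, -s; 0, 1]
  rfl

theorem yy_inv (t : F) : (yy t)⁻¹ = yy (-t) := by
  apply Units.ext
  rfl

theorem xx_mul (s t : F) : xx s * xx t = xx (s + t) := by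
  apply Units.ext
  simp [Matrix.mul_fin_two, add_comm]

theorem yy_mul (s t : F) : yy s * yy t = yy (s + t) := by
  apply Units.ext
  simp [Matrix.mul_fin_two, add_comm]

theorem xx_zero : xx (0 : F) = 1 := by
  apply Units.ext
  simp [Matrix.one_fin_two]

theorem yy_zero : yy (0 : F) = 1 := by
  apply Units.ext
  simp [Matrix.one_fin_two]

theorem xx_pow (s : F) (n : ℕ) : xx s ^ n = xx (n * s) := by
  induction n with
  | zero => simp [xx_zero]
  | succ n ih => rw [pow_succ, ih, xx_mul]; congr 1; push_cast; ring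

theorem yy_pow (s : F) (n : ℕ) : yy s ^ n = yy (n * s) := by
  induction n with
  | zero => simp [yy_zero]
  | succ n ih => rw [pow_succ, ih, yy_mul]; congr 1; push_cast; ring


theorem conj_of_mul_eq {G : Type*} [Group G] {a b c : G} (h : a * b = c * a) : a * b * a⁻¹ = c := by
  rw [h, mul_inv_cancel_right]

theorem dd_xx (r : F) (hr : r ≠ 0) (s : F) : dd r hr * xx s * (dd r hr)⁻¹ = xx (r * s) := by
  apply conj_of_mul_eq
  apply Units.ext
  simp [Matrix.mul_fin_two]

theorem dd_yy (r : F) (hr : r ≠ 0) (t : F) : dd r hr * yy t * (dd r hr)⁻¹ = yy (t / r) := by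
  apply conj_of_mul_eq
  apply Units.ext
  simp [Matrix.mul_fin_two]
  field_simp

theorem MM_xx (lam : F) (h : lam ≠ 0) (a : F) : MM lam h * xx a * (MM lam h)⁻¹ = yy (lam * a) := by
  apply conj_of_mul_eq
  apply Units.ext
  simp [Matrix.mul_fin_two]
  field_simp

theorem MM_yy (lam : F) (h : lam ≠ 0) (t : F) : MM lam h * yy t * (MM lam h)⁻¹ = xx (t / lam) := by
  apply conj_of_mul_eq
  apply Units.ext
  simp [Matrix.mul_fin_two]
  field_simp

/-- the transvection with centre `a` and parameter `t` -/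
def ww (a t : F) : G2 := xx a * yy t * xx (-a)

theorem ww_val (a t : F) : ((ww a t : G2) : M2) = !![1 + a * t, -(a * a * t); t, 1 - a * t] := by
  unfold ww
  simp [Matrix.mul_fin_two]
  constructor <;> ring

theorem ww_zero (t : F) : ww 0 t = yy t := by
  unfold ww
  rw [neg_zero, xx_zero, one_mul, mul_one]

theorem xx_ww (b a t : F) : xx b * ww a t * (xx b)⁻¹ = ww (b + a) t := by
  unfold ww
  have h1 : xx (-(b + a)) = xx (-a) * xx (-b) := by rw [xx_mul]; congr 1; ring
  rw [xx_inv, h1, ← xx_mul]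
  group

theorem ww_pow (a t : F) (n : ℕ) : ww a t ^ n = ww a (n * t) := by
  unfold ww
  have h : xx (-a) = (xx a)⁻¹ := (xx_inv a).symm
  rw [h, conj_pow, yy_pow]


/-- `x(a) diag(r,1) x(-a)` -/
def ha (a r : F) (hr : r ≠ 0) : G2 := xx a * dd r hr * xx (-a)

theorem ha_xx (a r : F) (hr : r ≠ 0) (s : F) : ha a r hr * xx s * (ha a r hr)⁻¹ = xx (r * s) := by
  have h1 : ha a r hr * xx s * (ha a r hr)⁻¹ =
      xx a * (dd r hr * (xx (-a) * xx s * xx a) * (dd r hr)⁻¹) * xx (-a) := by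
    unfold ha
    rw [← xx_inv a]
    group
  have h2 : xx (-a) * xx s * xx a = xx s := by
    rw [xx_mul, xx_mul]; congr 1; ring
  rw [h1, h2, dd_xx, xx_mul, xx_mul]
  congr 1; ring

theorem ha_ww (a r : F) (hr : r ≠ 0) (t : F) :
    ha a r hr * ww a t * (ha a r hr)⁻¹ = ww a (t / r) := by
  have h1 : ha a r hr * ww a t * (ha a r hr)⁻¹ =
      xx a * (dd r hr * yy t * (dd r hr)⁻¹) * xx (-a) := by
    unfold ha ww
    rw [← xx_inv a]
    group
  rw [h1, dd_yy]
  rfl

theorem ha_zero (r : F) (hr : r ≠ 0) : ha 0 r hr = dd r hr := by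
  unfold ha
  rw [neg_zero, xx_zero, one_mul, mul_one]

theorem dd_inv_mul_ha (a r : F) (hr : r ≠ 0) :
    (dd r hr)⁻¹ * ha a r hr = xx (r⁻¹ * a - a) := by
  have h1 : (dd r hr)⁻¹ * ha a r hr = ((dd r hr)⁻¹ * xx a * ((dd r hr)⁻¹)⁻¹) * xx (-a) := by
    unfold ha; group
  have h2 : (dd r hr)⁻¹ = dd r⁻¹ (inv_ne_zero hr) := by
    apply Units.ext
    rfl
  rw [h1, h2, dd_xx, xx_mul]
  congr 1
  ring

theorem MM_ww (lam : F) (h : lam ≠ 0) (b t : F) (hb : b ≠ 0) :
    MM lam h * ww b t * (MM lam h)⁻¹ = ww (lam * b)⁻¹ (-(lam * b * b * t)) := by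
  apply conj_of_mul_eq
  apply Units.ext
  rw [Units.val_mul, Units.val_mul, ww_val, ww_val]
  simp [Matrix.mul_fin_two]
  refine ⟨⟨?_, ?_⟩, ?_, ?_⟩ <;> field_simp <;> ring

/-- the Weyl-type element `x(a) y(-1/a) x(a)` -/
def nn (a : F) : G2 := xx a * yy (-a⁻¹) * xx a

theorem nn_val (a : F) (ha : a ≠ 0) : ((nn a : G2) : M2) = !![0, a; -a⁻¹, 0] := by
  unfold nn
  simp [Matrix.mul_fin_two, ha]

theorem nn_eq (a : F) (ha : a ≠ 0) : nn a = hh a ha * nn 1 := by
  apply Units.ext
  rw [Units.val_mul, nn_val a ha, nn_val 1 one_ne_zero]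
  simp [Matrix.mul_fin_two]

theorem hh_xx (a : F) (ha : a ≠ 0) (s : F) : hh a ha * xx s * (hh a ha)⁻¹ = xx (a * a * s) := by
  apply conj_of_mul_eq
  apply Units.ext
  simp [Matrix.mul_fin_two]
  field_simp

theorem nn_one_yy (t : F) : nn (1 : F) * yy t * (nn (1 : F))⁻¹ = xx (-t) := by
  apply conj_of_mul_eq
  apply Units.ext
  rw [Units.val_mul, Units.val_mul, nn_val 1 one_ne_zero]
  simp [Matrix.mul_fin_two]


/-- elements of order dividing `p` are unipotent of square zero -/
theorem sq_zero_of_pow (p : ℕ) [hp : Fact p.Prime] [CharP F p] (g : G2) (hg : g ^ p = 1) :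
    ((g : M2) - 1) * ((g : M2) - 1) = 0 := by
  have hgp : (g : M2) ^ p = 1 := by
    rw [← Units.val_pow_eq_pow_val, hg, Units.val_one]
  set n : M2 := (g : M2) - 1 with hn
  have hnp : n ^ p = 0 := by
    rw [hn, sub_pow_char_of_commute p (Commute.one_right (g : M2)), hgp, one_pow, sub_self]
  have hdet : n.det = 0 := by
    have h1 : n.det ^ p = 0 := by rw [← Matrix.det_pow, hnp, Matrix.det_zero]
    exact (pow_eq_zero_iff hp.out.ne_zero).mp h1
  have hcay := Cfsg.Agent.Lib.Helper15.TwoByTwo.cayley n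
  rw [hdet, zero_smul, sub_zero] at hcay
  have hpow : ∀ k : ℕ, n ^ (k + 1) = n.trace ^ k • n := by
    intro k
    induction k with
    | zero => simp
    | succ k ih => rw [pow_succ, ih, smul_mul_assoc, hcay, smul_smul, ← pow_succ]
  have h1 : n.trace ^ (p - 1) • n = 0 := by
    rw [← hpow (p - 1), Nat.sub_add_cancel hp.out.one_le, hnp]
  rcases smul_eq_zero.1 h1 with h | h
  · have : n.trace = 0 := (pow_eq_zero_iff (Nat.sub_ne_zero_of_lt hp.out.one_lt)).mp h
    rw [hcay, this, zero_smul]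
  · rw [h, mul_zero]

/-- a unipotent element with nonzero lower-left entry is a transvection `ww a t` -/
theorem eq_ww_of_sq_zero (g : G2) (hg : ((g : M2) - 1) * ((g : M2) - 1) = 0)
    (h10 : (g : M2) 1 0 ≠ 0) :
    g = ww (((g : M2) 0 0 - 1) / (g : M2) 1 0) ((g : M2) 1 0) := by
  have e00 := congrFun (congrFun hg 0) 0
  have e01 := congrFun (congrFun hg 0) 1
  have e10 := congrFun (congrFun hg 1) 0
  have e11 := congrFun (congrFun hg 1) 1
  simp only [Matrix.mul_apply, Fin.sum_univ_two, Matrix.sub_apply, Matrix.one_apply_eq,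
    Matrix.zero_apply, Matrix.one_apply_ne (show (0 : Fin 2) ≠ 1 by decide),
    Matrix.one_apply_ne (show (1 : Fin 2) ≠ 0 by decide), sub_zero] at e00 e01 e10 e11
  set α := (g : M2) 0 0 with hα
  set β := (g : M2) 0 1 with hβ
  set γ := (g : M2) 1 0 with hγ
  set δ := (g : M2) 1 1 with hδ
  have hd : δ - 1 = -(α - 1) := by
    have : γ * ((α - 1) + (δ - 1)) = 0 := by linear_combination e10
    rcases mul_eq_zero.1 this with h | h
    · exact absurd h h10
    · linear_combination h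
  have hb : β = -((α - 1) * (α - 1)) / γ := by
    field_simp
    linear_combination e00
  apply g2_ext
  · rw [ww_val]; simp only [Matrix.of_apply, Matrix.cons_val_zero, Matrix.cons_val', Matrix.cons_val_fin_one]
    field_simp
    ring
  · rw [ww_val]; simp only [Matrix.of_apply, Matrix.cons_val_zero, Matrix.cons_val_one, Matrix.cons_val', Matrix.cons_val_fin_one]
    rw [← hβ, hb]
    field_simp
  · rw [ww_val]; simp [hγ]
  · rw [ww_val]; simp only [Matrix.of_apply, Matrix.cons_val_one, Matrix.cons_val', Matrix.cons_val_fin_one]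
    rw [← hδ]
    have : δ = 1 - (α - 1) := by linear_combination hd
    rw [this]
    field_simp

/-- a unipotent element with zero lower-left entry is upper unitriangular -/
theorem eq_xx_of_sq_zero (g : G2) (hg : ((g : M2) - 1) * ((g : M2) - 1) = 0)
    (h10 : (g : M2) 1 0 = 0) : g = xx ((g : M2) 0 1) := by
  have e00 := congrFun (congrFun hg 0) 0
  have e11 := congrFun (congrFun hg 1) 1
  simp only [Matrix.mul_apply, Fin.sum_univ_two, Matrix.sub_apply, Matrix.one_apply_eq,
    Matrix.zero_apply, Matrix.one_apply_ne (show (0 : Fin 2) ≠ 1 by decide),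
    Matrix.one_apply_ne (show (1 : Fin 2) ≠ 0 by decide), sub_zero, h10, mul_zero, zero_mul,
    add_zero, zero_add] at e00 e11
  have h00 : (g : M2) 0 0 = 1 := by
    have := mul_self_eq_zero.1 e00
    linear_combination this
  have h11 : (g : M2) 1 1 = 1 := by
    have := mul_self_eq_zero.1 e11
    linear_combination this
  apply g2_ext
  · simpa using h00
  · simp
  · simpa using h10
  · simpa using h11

/-- `x(s)`, `s ≠ 0`, does not commute with an element with nonzero lower-left entry -/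
theorem xx_not_commute (s : F) (hs : s ≠ 0) (g : G2) (h10 : (g : M2) 1 0 ≠ 0) :
    xx s * g ≠ g * xx s := by
  intro h
  have h1 := congrArg (fun u : G2 => (u : M2) 0 0) h
  simp only [Units.val_mul, xx_val, Matrix.mul_apply, Fin.sum_univ_two] at h1
  simp at h1
  rcases h1 with h1 | h1
  · exact hs h1
  · exact h10 h1

theorem ww_entry (a t : F) : ((ww a t : G2) : M2) 1 0 = t := by
  rw [ww_val]; simp

theorem ww_centre (a t : F) (ht : t ≠ 0) :
    (((ww a t : G2) : M2) 0 0 - 1) / ((ww a t : G2) : M2) 1 0 = a := by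
  rw [ww_val]; simp
  field_simp

end Cfsg.Agent.Lib.Helper11.Dickson
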