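import Mathlib
import Cfsg.Agent.Lib.Helper11.Dickson1

/-!
Dickson's lemma, group-theoretic core (helper11): in a subgroup `L` of `GL₂(F)` (char `p` odd)
containing `x(1)` and `y(lam)` in which every non-commuting pair of elements of order `p`
generates `L`, the element `x(1/lam)` lies in `L`.
-/

set_option autoImplicit false

namespace Cfsg.Agent.Lib.Helper11.Dickson

open Matrix

variable {F : Type*} [Field F]

local notation "M2" => Matrix (Fin 2) (Fin 2) F
local notation "G2" => (Matrix (Fin 2) (Fin 2) F)ˣ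

/-- every non-commuting pair of elements of order `p` generates `L` -/
def MinPair (p : ℕ) (L : Subgroup G2) : Prop :=
  ∀ u ∈ L, ∀ w ∈ L, u ^ p = 1 → w ^ p = 1 → u * w ≠ w * u → Subgroup.closure {u, w} = L

theorem mem_normalizer_of_conj_pairs {G : Type*} [Group G] (L : Subgroup G) (c u w u' w' : G)
    (h1 : Subgroup.closure {u, w} = L) (h2 : Subgroup.closure {u', w'} = L)
    (hu : c * u * c⁻¹ = u') (hw : c * w * c⁻¹ = w') : c ∈ Subgroup.normalizer (L : Set G) := by
  have hmap : L.map (MulAut.conj c).toMonoidHom = L := by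
    conv_lhs => rw [← h1]
    rw [MonoidHom.map_closure, Set.image_pair]
    have e1 : (MulAut.conj c).toMonoidHom u = u' := by simpa using hu
    have e2 : (MulAut.conj c).toMonoidHom w = w' := by simpa using hw
    rw [e1, e2, h2]
  rw [Subgroup.mem_normalizer_iff]
  intro h
  constructor
  · intro hh
    have : (MulAut.conj c).toMonoidHom h ∈ L.map (MulAut.conj c).toMonoidHom :=
      Subgroup.mem_map_of_mem _ hh
    rw [hmap] at this
    simpa using this
  · intro hh
    have h3 : c * h * c⁻¹ ∈ L.map (MulAut.conj c).toMonoidHom := by rw [hmap]; exact hh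
    obtain ⟨h', hh', he⟩ := h3
    have : h' = h := by
      have he' : c * h' * c⁻¹ = c * h * c⁻¹ := by simpa using he
      have := mul_right_cancel he'
      exact mul_left_cancel this
    rw [← this]; exact hh'

theorem conj_mem_of_mem_normalizer {G : Type*} [Group G] {L : Subgroup G} {c h : G}
    (hc : c ∈ Subgroup.normalizer (L : Set G)) (hh : h ∈ L) : c * h * c⁻¹ ∈ L :=
  (Subgroup.mem_normalizer_iff.mp hc h).mp hh

theorem two_ne_zero_F {p : ℕ} [hp : Fact p.Prime] [CharP F p] (hp2 : p ≠ 2) : (2 : F) ≠ 0 := by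
  intro h
  have h1 : ((2 : ℕ) : F) = 0 := by exact_mod_cast h
  rw [CharP.cast_eq_zero_iff F p] at h1
  have := (Nat.prime_dvd_prime_iff_eq hp.out Nat.prime_two).mp h1
  exact hp2 this

section core

variable {p : ℕ} [hp : Fact p.Prime] [CharP F p]

/-- `(p + 1) / 2` is `1/2` in `F` -/
theorem half_cast (hp2 : p ≠ 2) : (((p + 1) / 2 : ℕ) : F) = (2 : F)⁻¹ := by
  have hodd : p % 2 = 1 := by
    rcases hp.out.eq_two_or_odd with h | h
    · exact absurd h hp2
    · exact h
  have h1 : 2 * ((p + 1) / 2) = p + 1 := by omega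
  have h2 : (2 : F) * (((p + 1) / 2 : ℕ) : F) = 1 := by
    have := congrArg (fun n : ℕ => (n : F)) h1
    simp only [Nat.cast_mul, Nat.cast_add, Nat.cast_one, CharP.cast_eq_zero, zero_add] at this
    exact_mod_cast this
  have h20 : (2 : F) ≠ 0 := two_ne_zero_F (F := F) hp2
  exact eq_inv_of_mul_eq_one_right h2

theorem xx_pow_p (s : F) : xx s ^ p = 1 := by
  rw [xx_pow, CharP.cast_eq_zero, zero_mul, xx_zero]

theorem yy_pow_p (s : F) : yy s ^ p = 1 := by
  rw [yy_pow, CharP.cast_eq_zero, zero_mul, yy_zero]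

theorem ww_pow_p (a t : F) : ww a t ^ p = 1 := by
  rw [ww_pow, CharP.cast_eq_zero, zero_mul]
  unfold ww
  rw [yy_zero, mul_one, xx_mul, add_neg_cancel, xx_zero]

variable (hp2 : p ≠ 2) {L : Subgroup (Matrix (Fin 2) (Fin 2) F)ˣ} {lam : F} (hlam : lam ≠ 0)
  (hxL : xx (1 : F) ∈ L) (hyL : yy lam ∈ L) (hmin : MinPair p L)

include hp2 hxL hmin in
/-- Claim A: the element `x(a) diag(1/2,1) x(-a)` normalizes `L` for every centre `a`. -/
theorem ha_mem_normalizer (a t : F) (ht : t ≠ 0) (hg : ww a t ∈ L) :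
    ha a (2 : F)⁻¹ (inv_ne_zero (two_ne_zero_F hp2)) ∈ Subgroup.normalizer (L : Set G2) := by
  have h20 := two_ne_zero_F (F := F) hp2
  set r : F := (2 : F)⁻¹ with hr
  have hr0 : r ≠ 0 := inv_ne_zero h20
  set m : ℕ := (p + 1) / 2 with hm
  have hmr : (m : F) = r := half_cast hp2
  have hgm : ww a t ^ m = ww a (r * t) := by rw [ww_pow, hmr]
  have hxm : xx (1 : F) ^ m = xx r := by rw [xx_pow, hmr, mul_one]
  apply mem_normalizer_of_conj_pairs L _ (xx 1) (ww a (r * t)) (xx r) (ww a t)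
  · apply hmin _ hxL _ (by rw [← hgm]; exact pow_mem hg _) (xx_pow_p 1) (ww_pow_p _ _)
    apply xx_not_commute 1 one_ne_zero
    rw [ww_entry]
    exact mul_ne_zero hr0 ht
  · apply hmin _ (by rw [← hxm]; exact pow_mem hxL _) _ hg (xx_pow_p r) (ww_pow_p _ _)
    apply xx_not_commute r hr0
    rw [ww_entry]
    exact ht
  · rw [ha_xx, mul_one]
  · rw [ha_ww]
    congr 1
    rw [hr]
    field_simp

include hp2 hxL hyL hmin hlam in
theorem dd_mem_normalizer :
    dd (2 : F)⁻¹ (inv_ne_zero (two_ne_zero_F hp2)) ∈ Subgroup.normalizer (L : Set G2) := by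
  have := ha_mem_normalizer hp2 hxL hmin 0 lam hlam (by rw [ww_zero]; exact hyL)
  rwa [ha_zero] at this

include hp2 hxL hyL hmin hlam in
/-- translations by centres normalize `L` -/
theorem xx_mem_normalizer (a t : F) (ht : t ≠ 0) (hg : ww a t ∈ L) :
    xx a ∈ Subgroup.normalizer (L : Set G2) := by
  have h1 := ha_mem_normalizer hp2 hxL hmin a t ht hg
  have h2 := dd_mem_normalizer hp2 hlam hxL hyL hmin
  have h3 := Subgroup.mul_mem _ (Subgroup.inv_mem _ h2) h1
  rw [dd_inv_mul_ha, inv_inv] at h3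
  have : (2 : F) * a - a = a := by ring
  rwa [this] at h3

/-- the set of centres of transvections of `L` -/
def Centres (L : Subgroup (Matrix (Fin 2) (Fin 2) F)ˣ) : Set F := {a | ∃ t : F, t ≠ 0 ∧ ww a t ∈ L}

include hp2 hxL hyL hmin hlam in
theorem centres_normalizer {a : F} (ha : a ∈ Centres L) :
    xx a ∈ Subgroup.normalizer (L : Set G2) := by
  obtain ⟨t, ht, hg⟩ := ha
  exact xx_mem_normalizer hp2 hlam hxL hyL hmin a t ht hg

include hlam hyL in
omit hp [CharP F p] in
theorem zero_mem_centres : (0 : F) ∈ Centres L := ⟨lam, hlam, by rw [ww_zero]; exact hyL⟩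

include hlam hyL in
omit hp [CharP F p] in
/-- translating by a normalizing `x(c)` preserves the set of centres -/
theorem add_mem_centres_of_normalizer {c b : F} (hc : xx c ∈ Subgroup.normalizer (L : Set G2))
    (hb : b ∈ Centres L) : c + b ∈ Centres L := by
  obtain ⟨t, ht, hg⟩ := hb
  refine ⟨t, ht, ?_⟩
  rw [← xx_ww]
  exact conj_mem_of_mem_normalizer hc hg

include hp2 hxL hyL hmin hlam in
theorem add_mem_centres {a b : F} (ha : a ∈ Centres L) (hb : b ∈ Centres L) :
    a + b ∈ Centres L :=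
  add_mem_centres_of_normalizer hlam hyL (centres_normalizer hp2 hlam hxL hyL hmin ha) hb

include hp2 hxL hyL hmin hlam in
theorem nat_mul_mem_centres {a : F} (ha : a ∈ Centres L) (n : ℕ) : (n : F) * a ∈ Centres L := by
  have h1 := centres_normalizer hp2 hlam hxL hyL hmin ha
  have h2 : xx ((n : F) * a) ∈ Subgroup.normalizer (L : Set G2) := by
    rw [← xx_pow]; exact Subgroup.pow_mem _ h1 n
  have := add_mem_centres_of_normalizer hlam hyL h2 (zero_mem_centres hlam hyL)
  rwa [add_zero] at this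

include hp2 hxL hyL hmin hlam in
theorem neg_mem_centres {a : F} (ha : a ∈ Centres L) : -a ∈ Centres L := by
  have h1 := centres_normalizer hp2 hlam hxL hyL hmin ha
  have h2 : xx (-a) ∈ Subgroup.normalizer (L : Set G2) := by
    rw [← xx_inv]; exact Subgroup.inv_mem _ h1
  have := add_mem_centres_of_normalizer hlam hyL h2 (zero_mem_centres hlam hyL)
  rwa [add_zero] at this

include hp2 hxL hyL hmin hlam in
theorem half_mem_centres {a : F} (ha : a ∈ Centres L) : (2 : F)⁻¹ * a ∈ Centres L := by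
  have := nat_mul_mem_centres hp2 hlam hxL hyL hmin ha ((p + 1) / 2)
  rwa [half_cast hp2] at this

include hxL hyL hlam in
omit hp [CharP F p] in
theorem one_mem_centres : (1 : F) ∈ Centres L := by
  refine ⟨lam, hlam, ?_⟩
  have h : xx (1 : F) * ww 0 lam * (xx (1 : F))⁻¹ ∈ L := by
    rw [ww_zero]
    exact L.mul_mem (L.mul_mem hxL hyL) (L.inv_mem hxL)
  rwa [xx_ww, add_zero] at h

include hxL hyL hmin hlam in
/-- the element swapping the two generators normalizes `L` -/
theorem MM_mem_normalizer : MM lam hlam ∈ Subgroup.normalizer (L : Set G2) := by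
  have hnc : xx (1 : F) * yy lam ≠ yy lam * xx 1 := by
    apply xx_not_commute 1 one_ne_zero
    simp [hlam]
  have h1 : Subgroup.closure {xx (1 : F), yy lam} = L :=
    hmin _ hxL _ hyL (xx_pow_p 1) (yy_pow_p lam) hnc
  have h2 : Subgroup.closure {yy lam, xx (1 : F)} = L := by rw [Set.pair_comm]; exact h1
  apply mem_normalizer_of_conj_pairs L _ _ _ _ _ h1 h2
  · rw [MM_xx, mul_one]
  · rw [MM_yy, div_self hlam]

include hxL hyL hmin hlam in
theorem inv_mem_centres {b : F} (hb : b ∈ Centres L) (hb0 : b ≠ 0) : (lam * b)⁻¹ ∈ Centres L := by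
  obtain ⟨t, ht, hg⟩ := hb
  refine ⟨-(lam * b * b * t), ?_, ?_⟩
  · exact neg_ne_zero.mpr (mul_ne_zero (mul_ne_zero (mul_ne_zero hlam hb0) hb0) ht)
  · rw [← MM_ww lam hlam b t hb0]
    exact conj_mem_of_mem_normalizer (MM_mem_normalizer hlam hxL hyL hmin) hg

include hp2 hxL hyL hmin hlam in
theorem yy_mem_normalizer {a : F} (ha : a ∈ Centres L) :
    yy (lam * a) ∈ Subgroup.normalizer (L : Set G2) := by
  rw [← MM_xx lam hlam a]
  have hM := MM_mem_normalizer hlam hxL hyL hmin
  exact Subgroup.mul_mem _ (Subgroup.mul_mem _ hM (centres_normalizer hp2 hlam hxL hyL hmin ha))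
    (Subgroup.inv_mem _ hM)

include hp2 hxL hyL hmin hlam in
theorem nn_mem_normalizer {a : F} (ha : a ∈ Centres L) (ha0 : a ≠ 0) :
    nn a ∈ Subgroup.normalizer (L : Set G2) := by
  have hx := centres_normalizer hp2 hlam hxL hyL hmin ha
  have hb : -(lam * a)⁻¹ ∈ Centres L :=
    neg_mem_centres hp2 hlam hxL hyL hmin (inv_mem_centres hlam hxL hyL hmin ha ha0)
  have hy := yy_mem_normalizer hp2 hlam hxL hyL hmin hb
  have e : lam * -(lam * a)⁻¹ = -a⁻¹ := by field_simp
  rw [e] at hy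
  unfold nn
  exact Subgroup.mul_mem _ (Subgroup.mul_mem _ hx hy) hx

include hp2 hxL hyL hmin hlam in
theorem hh_mem_normalizer {a : F} (ha : a ∈ Centres L) (ha0 : a ≠ 0) :
    hh a ha0 ∈ Subgroup.normalizer (L : Set G2) := by
  have h1 := nn_mem_normalizer hp2 hlam hxL hyL hmin ha ha0
  have h2 := nn_mem_normalizer hp2 hlam hxL hyL hmin (one_mem_centres hlam hxL hyL) one_ne_zero
  have e : hh a ha0 = nn a * (nn (1 : F))⁻¹ := by
    rw [nn_eq a ha0, mul_inv_cancel_right]
  rw [e]
  exact Subgroup.mul_mem _ h1 (Subgroup.inv_mem _ h2)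

include hp2 hxL hyL hmin hlam in
theorem sq_mem {a : F} (ha : a ∈ Centres L) : xx (a * a) ∈ L := by
  by_cases ha0 : a = 0
  · rw [ha0, mul_zero, xx_zero]; exact L.one_mem
  · have h := conj_mem_of_mem_normalizer (hh_mem_normalizer hp2 hlam hxL hyL hmin ha ha0) hxL
    rwa [hh_xx, mul_one] at h

include hp2 hxL hyL hmin hlam in
/-- **Core**: in a minimal configuration, `x(1/lam) ∈ L`. -/
theorem xx_inv_lam_mem : xx lam⁻¹ ∈ L := by
  have h20 : (2 : F) ≠ 0 := two_ne_zero_F (p := p) hp2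
  have h1 := one_mem_centres hlam hxL hyL
  have hli : lam⁻¹ ∈ Centres L := by
    have := inv_mem_centres hlam hxL hyL hmin h1 one_ne_zero
    rwa [mul_one] at this
  have ha₁ : (2 : F)⁻¹ * (lam⁻¹ + 1) ∈ Centres L :=
    half_mem_centres hp2 hlam hxL hyL hmin (add_mem_centres hp2 hlam hxL hyL hmin hli h1)
  have ha₂ : (2 : F)⁻¹ * (lam⁻¹ + -1) ∈ Centres L :=
    half_mem_centres hp2 hlam hxL hyL hmin (add_mem_centres hp2 hlam hxL hyL hmin hli
      (neg_mem_centres hp2 hlam hxL hyL hmin h1))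
  have s₁ := sq_mem hp2 hlam hxL hyL hmin ha₁
  have s₂ := sq_mem hp2 hlam hxL hyL hmin ha₂
  have h3 := L.mul_mem s₁ (L.inv_mem s₂)
  rw [xx_inv, xx_mul] at h3
  have e : (2 : F)⁻¹ * (lam⁻¹ + 1) * ((2 : F)⁻¹ * (lam⁻¹ + 1)) +
      -((2 : F)⁻¹ * (lam⁻¹ + -1) * ((2 : F)⁻¹ * (lam⁻¹ + -1))) = lam⁻¹ := by
    field_simp
    ring
  rwa [e] at h3

end core

end Cfsg.Agent.Lib.Helper11.Dickson
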