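import Mathlib
import Cfsg.Agent.Lib.Helper11.Dickson2
import Cfsg.Agent.Lib.Helper9.SL2Gen

/-!
Dickson's lemma (helper11): a finite subgroup of `GL₂(F)` (`char F = p` odd) containing two
non-commuting elements of order `p` contains a copy of `SL₂(𝔽_p)`.
-/

set_option autoImplicit false

namespace Cfsg.Agent.Lib.Helper11.Dickson

open Matrix

variable {F : Type*} [Field F]

local notation "M2" => Matrix (Fin 2) (Fin 2) F
local notation "G2" => (Matrix (Fin 2) (Fin 2) F)ˣ

section normalform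

variable {p : ℕ} [hp : Fact p.Prime] [CharP F p]

theorem dd_inv (r : F) (hr : r ≠ 0) : (dd r hr)⁻¹ = dd r⁻¹ (inv_ne_zero hr) := by
  apply Units.ext
  rfl

/-- an element of order `p` is conjugate to `x(1)` -/
theorem exists_conj_xx_one (u : G2) (hu : u ^ p = 1) (hu1 : u ≠ 1) :
    ∃ c : G2, c * u * c⁻¹ = xx 1 := by
  have hsq := sq_zero_of_pow p u hu
  by_cases h10 : (u : M2) 1 0 = 0
  · have hux := eq_xx_of_sq_zero u hsq h10
    set b := (u : M2) 0 1 with hb
    have hb0 : b ≠ 0 := by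
      intro h
      apply hu1
      rw [hux, h, xx_zero]
    refine ⟨dd b⁻¹ (inv_ne_zero hb0), ?_⟩
    rw [hux, dd_xx, inv_mul_cancel₀ hb0]
  · have huw := eq_ww_of_sq_zero u hsq h10
    set t := (u : M2) 1 0 with ht
    set a := ((u : M2) 0 0 - 1) / t with ha
    have hnt : -t ≠ 0 := neg_ne_zero.mpr h10
    refine ⟨dd (-t)⁻¹ (inv_ne_zero hnt) * nn 1 * xx (-a), ?_⟩
    have e1 : xx (-a) * u * (xx (-a))⁻¹ = yy t := by
      rw [huw, xx_ww, neg_add_cancel, ww_zero]
    have e2 : (dd (-t)⁻¹ (inv_ne_zero hnt) * nn 1 * xx (-a)) * u *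
        (dd (-t)⁻¹ (inv_ne_zero hnt) * nn 1 * xx (-a))⁻¹ =
        dd (-t)⁻¹ (inv_ne_zero hnt) * (nn 1 * (xx (-a) * u * (xx (-a))⁻¹) * (nn 1)⁻¹) *
          (dd (-t)⁻¹ (inv_ne_zero hnt))⁻¹ := by group
    rw [e2, e1, nn_one_yy, dd_xx, inv_mul_cancel₀ hnt]

/-- normal form of a non-commuting pair of elements of order `p` -/
theorem exists_normal_form (u w : G2) (hu : u ^ p = 1) (hw : w ^ p = 1) (hnc : u * w ≠ w * u) :
    ∃ (c : G2) (lam : F), lam ≠ 0 ∧ c * u * c⁻¹ = xx 1 ∧ c * w * c⁻¹ = yy lam := by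
  have hu1 : u ≠ 1 := by
    intro h; apply hnc; rw [h, one_mul, mul_one]
  obtain ⟨c₁, hc₁⟩ := exists_conj_xx_one u hu hu1
  set w' := c₁ * w * c₁⁻¹ with hw'
  have hw'p : w' ^ p = 1 := by rw [hw', conj_pow, hw, mul_one, mul_inv_cancel]
  have hnc' : xx 1 * w' ≠ w' * xx 1 := by
    intro h
    apply hnc
    rw [← hc₁, hw'] at h
    have h2 : c₁ * (u * w) * c₁⁻¹ = c₁ * (w * u) * c₁⁻¹ := by
      calc c₁ * (u * w) * c₁⁻¹ = c₁ * u * c₁⁻¹ * (c₁ * w * c₁⁻¹) := by group
        _ = c₁ * w * c₁⁻¹ * (c₁ * u * c₁⁻¹) := h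
        _ = c₁ * (w * u) * c₁⁻¹ := by group
    exact mul_left_cancel (mul_right_cancel h2)
  have hsq := sq_zero_of_pow p w' hw'p
  have h10 : (w' : M2) 1 0 ≠ 0 := by
    intro h
    apply hnc'
    rw [eq_xx_of_sq_zero w' hsq h, xx_mul, xx_mul, add_comm]
  have hww := eq_ww_of_sq_zero w' hsq h10
  set t := (w' : M2) 1 0 with ht
  set a := ((w' : M2) 0 0 - 1) / t with ha
  refine ⟨xx (-a) * c₁, t, h10, ?_, ?_⟩
  · have e : (xx (-a) * c₁) * u * (xx (-a) * c₁)⁻¹ = xx (-a) * (c₁ * u * c₁⁻¹) * (xx (-a))⁻¹ := by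
      group
    rw [e, hc₁, xx_inv, xx_mul, xx_mul]
    congr 1; ring
  · have e : (xx (-a) * c₁) * w * (xx (-a) * c₁)⁻¹ = xx (-a) * (c₁ * w * c₁⁻¹) * (xx (-a))⁻¹ := by
      group
    rw [e, ← hw', hww, xx_ww, neg_add_cancel, ww_zero]

end normalform

section copy

variable {p : ℕ} [hp : Fact p.Prime] [CharP F p]

open Cfsg.Agent.Lib.Helper9.SL2Upper Cfsg.Agent.Lib.Helper9.SL2Gen

/-- the natural embedding `SL₂(𝔽_p) → GL₂(F)` -/
noncomputable def emb (p : ℕ) [Fact p.Prime] (F : Type*) [Field F] [CharP F p] :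
    Matrix.SpecialLinearGroup (Fin 2) (ZMod p) →* (Matrix (Fin 2) (Fin 2) F)ˣ :=
  (Matrix.SpecialLinearGroup.toGL).comp
    (Matrix.SpecialLinearGroup.map (ZMod.castHom (dvd_refl p) F))

theorem emb_val (g : Matrix.SpecialLinearGroup (Fin 2) (ZMod p)) :
    ((emb p F g : G2) : M2) =
      (g : Matrix (Fin 2) (Fin 2) (ZMod p)).map (ZMod.castHom (dvd_refl p) F) := rfl

theorem emb_injective : Function.Injective (emb p F) := by
  intro g h hgh
  have h1 := congrArg (fun u : G2 => (u : M2)) hgh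
  simp only [emb_val] at h1
  apply Subtype.ext
  ext i j
  have h2 := congrFun (congrFun h1 i) j
  simp only [Matrix.map_apply] at h2
  exact (ZMod.castHom (dvd_refl p) F).injective h2

theorem emb_upper : emb p F (upper 1) = xx 1 := by
  apply Units.ext
  rw [emb_val]
  ext i j
  fin_cases i <;> fin_cases j <;> simp [upper]

theorem emb_lower : emb p F (lower 1) = yy 1 := by
  apply Units.ext
  rw [emb_val]
  ext i j
  fin_cases i <;> fin_cases j <;> simp [lower]

/-- if `x(1/lam)` and `y(lam)` lie in `L` then `L` contains a copy of `SL₂(𝔽_p)` -/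
theorem exists_copy_of_pair (L : Subgroup G2) (lam : F) (hlam : lam ≠ 0)
    (hx : xx lam⁻¹ ∈ L) (hy : yy lam ∈ L) :
    ∃ K : Subgroup G2, K ≤ L ∧
      Nonempty (K ≃* Matrix.SpecialLinearGroup (Fin 2) (ZMod p)) := by
  set ψ : Matrix.SpecialLinearGroup (Fin 2) (ZMod p) →* G2 :=
    (MulAut.conj (dd lam hlam)⁻¹).toMonoidHom.comp (emb p F) with hψ
  have hinj : Function.Injective ψ := by
    intro g h hgh
    apply emb_injective (p := p) (F := F)
    exact (MulAut.conj (dd lam hlam)⁻¹).injective hgh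
  have h1 : ψ (upper 1) = xx lam⁻¹ := by
    show (MulAut.conj (dd lam hlam)⁻¹) (emb p F (upper 1)) = _
    rw [emb_upper, MulAut.conj_apply, dd_inv, dd_xx, mul_one]
  have h2 : ψ (lower 1) = yy lam := by
    show (MulAut.conj (dd lam hlam)⁻¹) (emb p F (lower 1)) = _
    rw [emb_lower, MulAut.conj_apply, dd_inv, dd_yy, one_div, inv_inv]
  refine ⟨ψ.range, ?_, ⟨(MonoidHom.ofInjective hinj).symm⟩⟩
  rw [MonoidHom.range_eq_map, ← closure_upper_lower (1 : ZMod p) 1 one_ne_zero one_ne_zero,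
    MonoidHom.map_closure, Set.image_pair, h1, h2, Subgroup.closure_le]
  intro z hz
  rcases hz with rfl | rfl
  · exact hx
  · exact hy

end copy

section main

variable {p : ℕ} [hp : Fact p.Prime] [CharP F p]

omit hp [CharP F p] in
theorem minPair_map (e : G2 ≃* G2) (L : Subgroup G2) (h : MinPair p L) :
    MinPair p (L.map e.toMonoidHom) := by
  rintro _ ⟨u, hu, rfl⟩ _ ⟨w, hw, rfl⟩ hup hwp hnc
  have hup' : u ^ p = 1 := by
    apply e.injective
    simpa using hup
  have hwp' : w ^ p = 1 := by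
    apply e.injective
    simpa using hwp
  have hnc' : u * w ≠ w * u := by
    intro hc
    apply hnc
    show e u * e w = e w * e u
    rw [← map_mul, hc, map_mul]
  have := h u hu w hw hup' hwp' hnc'
  rw [← this, MonoidHom.map_closure, Set.image_pair]

/-- **Dickson's lemma.** A finite subgroup of `GL₂(F)`, `char F = p` odd, containing two
non-commuting elements of order `p`, contains a subgroup isomorphic to `SL₂(𝔽_p)`. -/
theorem exists_SL2p_subgroup (hp2 : p ≠ 2) : ∀ (n : ℕ) (L : Subgroup G2) [Finite L],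
    Nat.card L = n → ∀ u ∈ L, ∀ w ∈ L, u ^ p = 1 → w ^ p = 1 → u * w ≠ w * u →
    ∃ K : Subgroup G2, K ≤ L ∧
      Nonempty (K ≃* Matrix.SpecialLinearGroup (Fin 2) (ZMod p)) := by
  intro n
  induction n using Nat.strong_induction_on with
  | _ n ih =>
  intro L _ hn u hu w hw hup hwp hnc
  by_cases hmin : MinPair p L
  · obtain ⟨c, lam, hlam, hcu, hcw⟩ := exists_normal_form u w hup hwp hnc
    set e : G2 ≃* G2 := MulAut.conj c with he
    set L' := L.map e.toMonoidHom with hL'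
    have hmin' : MinPair p L' := minPair_map e L hmin
    have hxL' : xx (1 : F) ∈ L' := ⟨u, hu, by simpa [he] using hcu⟩
    have hyL' : yy lam ∈ L' := ⟨w, hw, by simpa [he] using hcw⟩
    have hx := xx_inv_lam_mem hp2 hlam hxL' hyL' hmin'
    obtain ⟨K', hK'L, ⟨iso⟩⟩ := exists_copy_of_pair (p := p) L' lam hlam hx hyL'
    refine ⟨K'.map e.symm.toMonoidHom, ?_, ⟨?_⟩⟩
    · intro z hz
      obtain ⟨k, hk, rfl⟩ := hz
      obtain ⟨l, hl, hlk⟩ := hK'L hk
      have : e.symm.toMonoidHom k = l := by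
        rw [← hlk]
        exact e.symm_apply_apply l
      rw [this]; exact hl
    · exact (Subgroup.equivMapOfInjective K' e.symm.toMonoidHom e.symm.injective).symm.trans iso
  · unfold MinPair at hmin
    push_neg at hmin
    obtain ⟨u', hu', w', hw', hup', hwp', hnc', hne⟩ := hmin
    set L₁ := Subgroup.closure {u', w'} with hL₁
    have hle : L₁ ≤ L := by
      rw [hL₁, Subgroup.closure_le]
      intro z hz
      rcases hz with rfl | rfl
      · exact hu'
      · exact hw'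
    haveI : Finite L₁ := Finite.of_injective (Subgroup.inclusion hle) (Subgroup.inclusion_injective hle)
    have hlt : Nat.card L₁ < n := by
      rw [← hn]
      by_contra hcon
      exact hne (Subgroup.eq_of_le_of_card_ge hle (not_lt.mp hcon))
    obtain ⟨K, hK, hiso⟩ := ih (Nat.card L₁) hlt L₁ rfl u' (Subgroup.subset_closure (by simp))
      w' (Subgroup.subset_closure (by simp)) hup' hwp' hnc'
    exact ⟨K, hK.trans hle, hiso⟩

/-- Dickson's lemma for subgroups of `SL₂(F)`. -/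
theorem exists_SL2p_subgroup_SL (hp2 : p ≠ 2) (L : Subgroup (Matrix.SpecialLinearGroup (Fin 2) F))
    [Finite L] (u w : Matrix.SpecialLinearGroup (Fin 2) F) (hu : u ∈ L) (hw : w ∈ L)
    (hup : u ^ p = 1) (hwp : w ^ p = 1) (hnc : u * w ≠ w * u) :
    ∃ K : Subgroup (Matrix.SpecialLinearGroup (Fin 2) F), K ≤ L ∧
      Nonempty (K ≃* Matrix.SpecialLinearGroup (Fin 2) (ZMod p)) := by
  set ι : Matrix.SpecialLinearGroup (Fin 2) F →* G2 := Matrix.SpecialLinearGroup.toGL with hι
  have hinj : Function.Injective ι := by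
    intro g h hgh
    apply Subtype.ext
    have := congrArg (fun u : G2 => (u : M2)) hgh
    exact this
  haveI : Finite (L.map ι) := by
    have : Finite ((L.map ι : Subgroup G2) : Set G2) := by
      rw [Subgroup.coe_map]
      exact Set.Finite.image _ (Set.toFinite _)
    exact this
  obtain ⟨K', hK', ⟨iso⟩⟩ := exists_SL2p_subgroup hp2 (Nat.card (L.map ι)) (L.map ι) rfl (ι u)
    ⟨u, hu, rfl⟩ (ι w) ⟨w, hw, rfl⟩ (by rw [← map_pow, hup, map_one]) (by rw [← map_pow, hwp, map_one])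
    (by
      intro h
      apply hnc
      apply hinj
      rw [map_mul, map_mul]; exact h)
  refine ⟨K'.comap ι, ?_, ⟨?_⟩⟩
  · intro x hx
    obtain ⟨l, hl, hlx⟩ := hK' hx
    rw [← hinj hlx]; exact hl
  · have hrange : K' ≤ ι.range := by
      intro z hz
      obtain ⟨l, -, hlz⟩ := hK' hz
      exact ⟨l, hlz⟩
    have e1 : (K'.comap ι).map ι = K' := Subgroup.map_comap_eq_self hrange
    have e2 := Subgroup.equivMapOfInjective (K'.comap ι) ι hinj
    exact (e2.trans (MulEquiv.subgroupCongr e1)).trans iso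

end main

end Cfsg.Agent.Lib.Helper11.Dickson
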