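import Mathlib
import Cfsg.Prelude.Def_PLocal
import Cfsg.Prelude.Def_LocalEven
import Cfsg.Agent.Lib.Helper15.QuadPStable
import Cfsg.Agent.Lib.Helper15.QdSection
import Cfsg.Agent.Lib.Lead.SL2PSolv
import Cfsg.Agent.Lib.Helper11.Dickson3

/-!
# Quadratic action in `SL₂(p)`-free groups, `p` odd (helper11)

A copy of helper15's / lead's chain (`QuadCore`, `QuadInternal`, `QuadPStable`, `QuadSolv`) with the
hypothesis replaced by "`SL₂(p)` is not involved in `G`", using Dickson's lemma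
(`Cfsg.Agent.Lib.Helper11.Dickson`).
-/

set_option autoImplicit false

namespace Cfsg.Agent.Lib.Helper11.QuadFree

open Module Polynomial Cfsg.Agent.Lib.Helper15.QuadChain Cfsg.Agent.Lib.Helper15.QuadSL2
open Cfsg.Agent.Lib.Helper15.QuadCore Cfsg.Agent.Lib.Helper15.QuadInternal
open Cfsg.Agent.Lib.Helper15.QuadPStable Cfsg.Agent.Lib.Helper11
open Cfsg.Agent.Lib.Lead.SL2PSolv

section Free

/-- `SL₂(p)` is not involved in `G` -/
def SL2Free (p : ℕ) (G : Type*) [Group G] : Prop :=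
  ¬ Cfsg.Involves (Matrix.SpecialLinearGroup (Fin 2) (ZMod p)) G

/-- a section of a subgroup is a section of the group -/
theorem involves_of_subgroup {Y : Type*} [Group Y] {G : Type*} [Group G] (L : Subgroup G)
    (h : Cfsg.Involves Y L) : Cfsg.Involves Y G := by
  obtain ⟨K, R, hR, ⟨e⟩⟩ := h
  have hinj : Function.Injective L.subtype := L.subtype_injective
  set K' : Subgroup G := K.map L.subtype with hK'
  let f : K ≃* K' := Subgroup.equivMapOfInjective K L.subtype hinj
  let Ψ : K' →* Y := (e.toMonoidHom.comp (QuotientGroup.mk' (R.subgroupOf K))).comp f.symm.toMonoidHom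
  apply Cfsg.Agent.Lib.Helper15.QdSection.involves_of_surjective K' Ψ
  intro y
  obtain ⟨q, rfl⟩ := e.surjective y
  obtain ⟨k, rfl⟩ := QuotientGroup.mk'_surjective (R.subgroupOf K) q
  exact ⟨f k, by simp [Ψ]⟩

theorem sl2Free_subgroup {p : ℕ} {G : Type*} [Group G] (h : SL2Free p G) (L : Subgroup G) :
    SL2Free p L := fun hL => h (involves_of_subgroup L hL)

/-- the image of a homomorphism into `SL₂(F)` sending two generators to non-commuting elements of
order `p` contains `SL₂(p)`, so `SL₂(p)` is involved in the source -/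
theorem involves_of_hom (p : ℕ) [Fact p.Prime] {F : Type*} [Field F] [CharP F p] (hp2 : p ≠ 2)
    {G : Type*} [Group G] [Finite G] (a b : G) (hgen : Subgroup.closure {a, b} = ⊤)
    (φ : G →* Matrix.SpecialLinearGroup (Fin 2) F) (ha : φ a ^ p = 1) (hb : φ b ^ p = 1)
    (hnp : ¬ PQuot p φ.ker) :
    Cfsg.Involves (Matrix.SpecialLinearGroup (Fin 2) (ZMod p)) G := by
  have hsurj : Function.Surjective φ.rangeRestrict := φ.rangeRestrict_surjective
  haveI : Finite φ.range := Finite.of_surjective _ hsurj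
  have hrange : φ.range = Subgroup.closure {φ a, φ b} := by
    rw [MonoidHom.range_eq_map, ← hgen, MonoidHom.map_closure, Set.image_pair]
  have hnc : φ a * φ b ≠ φ b * φ a := by
    intro hc
    apply hnp
    rw [pquot_ker_iff_range]
    -- an abelian group generated by two elements of order dividing `p` is a `p`-group
    have hcomm : ∀ x ∈ φ.range, ∀ y ∈ φ.range, x * y = y * x := by
      intro x hx y hy
      rw [hrange] at hx hy
      have hcl : Subgroup.closure {φ a, φ b} ≤ Subgroup.centralizer ({φ a, φ b} : Set _) := by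
        rw [Subgroup.closure_le]
        intro z hz
        rw [SetLike.mem_coe, Subgroup.mem_centralizer_iff]
        intro t ht
        rcases hz with rfl | rfl <;> rcases ht with rfl | rfl
        · rfl
        · exact hc.symm
        · exact hc
        · rfl
      have hx' := hcl hx
      rw [← Subgroup.centralizer_closure] at hx'
      exact (Subgroup.mem_centralizer_iff.mp hx' y hy).symm
    have hexp : ∀ x ∈ φ.range, x ^ p = 1 := by
      intro x hx
      rw [hrange] at hx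
      induction hx using Subgroup.closure_induction with
      | mem z hz =>
        rcases hz with rfl | rfl
        · exact ha
        · exact hb
      | one => exact one_pow _
      | mul x y hx hy ihx ihy =>
        have hxr : x ∈ φ.range := by rw [hrange]; exact hx
        have hyr : y ∈ φ.range := by rw [hrange]; exact hy
        have : Commute x y := hcomm x hxr y hyr
        rw [this.mul_pow, ihx, ihy, one_mul]
      | inv x hx ihx => rw [inv_pow, ihx, inv_one]
    rintro ⟨x, hx⟩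
    refine ⟨1, Subtype.ext ?_⟩
    simpa using hexp x hx
  obtain ⟨K, hK, ⟨e⟩⟩ := Cfsg.Agent.Lib.Helper11.Dickson.exists_SL2p_subgroup_SL hp2 φ.range
    (φ a) (φ b) ⟨a, rfl⟩ ⟨b, rfl⟩ ha hb hnc
  -- pull back
  let Γ : Subgroup G := K.comap φ
  let Ψ₀ : Γ →* K :=
    { toFun := fun g => ⟨φ (g : G), g.2⟩
      map_one' := Subtype.ext (map_one φ)
      map_mul' := fun x y => Subtype.ext (map_mul φ (x : G) (y : G)) }
  apply Cfsg.Agent.Lib.Helper15.QdSection.involves_of_surjective Γ (e.toMonoidHom.comp Ψ₀)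
  intro y
  obtain ⟨k, rfl⟩ := e.surjective y
  obtain ⟨g, hg⟩ := hK k.2
  refine ⟨⟨g, by show φ g ∈ K; rw [hg]; exact k.2⟩, ?_⟩
  show e (Ψ₀ _) = e k
  congr 1
  exact Subtype.ext hg

end Free

section Core

theorem core_two_gen (p : ℕ) [Fact p.Prime] (hp2 : p ≠ 2) {K : Type*} [Field K] [CharP K p]
    {G : Type*} [Group G] [Finite G] (a b : G) (hgen : Subgroup.closure {a, b} = ⊤)
    {V : Type*} [AddCommGroup V] [Module K V] [FiniteDimensional K V] (ρ : Representation K G V)
    (ha : (ρ a - 1) * (ρ a - 1) = 0) (hb : (ρ b - 1) * (ρ b - 1) = 0) (hnp : ¬ PQuot p ρ.ker)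
    : Cfsg.Involves (Matrix.SpecialLinearGroup (Fin 2) (ZMod p)) G := by
  classical
  let F := AlgebraicClosure K
  let n := finrank K V
  let β : Basis (Fin n) K V := finBasis K V
  let Φ : (V →ₗ[K] V) ≃ₐ[K] Matrix (Fin n) (Fin n) K := LinearMap.toMatrixAlgEquiv β
  let ι : Matrix (Fin n) (Fin n) K →+* Matrix (Fin n) (Fin n) F := (algebraMap K F).mapMatrix
  let Ψ : Matrix (Fin n) (Fin n) F ≃ₐ[F] Module.End F (Fin n → F) := Matrix.toLinAlgEquiv'
  let R : (V →ₗ[K] V) →+* Module.End F (Fin n → F) :=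
    (Ψ : Matrix (Fin n) (Fin n) F →+* Module.End F (Fin n → F)).comp
      (ι.comp (Φ : (V →ₗ[K] V) →+* Matrix (Fin n) (Fin n) K))
  have hRinj : Function.Injective R := by
    intro x y hxy
    have h1 : ι (Φ x) = ι (Φ y) := Ψ.injective hxy
    have h2 : Φ x = Φ y := by
      have hinj : Function.Injective ι := by
        intro A B hAB
        exact Matrix.map_injective (algebraMap K F).injective hAB
      exact hinj h1
    exact Φ.injective h2
  let ρF : Representation F G (Fin n → F) := (R : (V →ₗ[K] V) →* Module.End F (Fin n → F)).comp ρ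
  have hρF : ∀ g, ρF g = R (ρ g) := fun g => rfl
  have hker : ρF.ker = ρ.ker := by
    ext g
    rw [MonoidHom.mem_ker, MonoidHom.mem_ker, hρF]
    constructor
    · intro h
      exact hRinj (h.trans (map_one R).symm)
    · intro h
      rw [h, map_one]
  have hquad : ∀ g, (ρ g - 1) * (ρ g - 1) = 0 → (ρF g - 1) * (ρF g - 1) = 0 := by
    intro g hg
    rw [hρF, ← map_one R, ← map_sub, ← map_mul, hg, map_zero]
  have hn : 0 < orderOf (a * b) := orderOf_pos _
  have hsplit : (X ^ orderOf (a * b) - 1 : F[X]).Splits := IsAlgClosed.splits _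
  have hnp' : ¬ PQuot p ρF.ker := by rwa [hker]
  obtain ⟨φ, hφ1, hφ2⟩ := chain p a b hgen _ hn (pow_orderOf_eq_one _) hsplit _ (Fin n → F) ρF rfl
    (hquad a ha) (hquad b hb) hnp'
  have hpow : ∀ g, (ρ g - 1) * (ρ g - 1) = 0 → φ g ^ p = 1 := by
    intro g hg
    have h1 : ρ g ^ p = 1 := pow_eq_one_of_sq_zero (F := K) p (ρ g) hg
    have h2 : g ^ p ∈ ρF.ker := by
      rw [hker, MonoidHom.mem_ker, map_pow, h1]
    have h3 := hφ1 h2
    rwa [MonoidHom.mem_ker, map_pow] at h3
  exact involves_of_hom p hp2 a b hgen φ (hpow a ha) (hpow b hb) hφ2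

/-- two quadratic elements of a group with abelian Sylow 2-subgroups generate a `p`-group
modulo the kernel. -/
theorem pquot_closure_pair (p : ℕ) [hp : Fact p.Prime] (hp2 : p ≠ 2) {K : Type*} [Field K] [CharP K p]
    {G : Type*} [Group G] [Finite G]
    {V : Type*} [AddCommGroup V] [Module K V] [FiniteDimensional K V] (ρ : Representation K G V)
    (hab2 : SL2Free p G) (x y : G)
    (hx : (ρ x - 1) * (ρ x - 1) = 0) (hy : (ρ y - 1) * (ρ y - 1) = 0) :
    ∀ g ∈ Subgroup.closure {x, y}, ∃ k : ℕ, g ^ p ^ k ∈ ρ.ker := by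
  set L := Subgroup.closure {x, y} with hL
  have hxL : x ∈ L := Subgroup.subset_closure (by simp)
  have hyL : y ∈ L := Subgroup.subset_closure (by simp)
  let ρL : Representation K L V := ρ.comp L.subtype
  have hgen : Subgroup.closure {(⟨x, hxL⟩ : L), ⟨y, hyL⟩} = ⊤ := by
    apply Subgroup.map_injective L.subtype_injective
    rw [MonoidHom.map_closure, ← MonoidHom.range_eq_map, Subgroup.range_subtype]
    have h1 : (L.subtype '' {(⟨x, hxL⟩ : L), ⟨y, hyL⟩} : Set G) = {x, y} := by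
      ext z; simp [Set.image_pair]
    rw [h1]
  by_contra hcon
  push_neg at hcon
  obtain ⟨g, hgL, hg⟩ := hcon
  have hnp : ¬ PQuot p ρL.ker := by
    intro h
    obtain ⟨k, hk⟩ := h ⟨g, hgL⟩
    exact hg k hk
  exact sl2Free_subgroup hab2 L (core_two_gen p hp2 (⟨x, hxL⟩ : L) ⟨y, hyL⟩ hgen ρL hx hy hnp)

/-- **Core theorem (element form).** -/
theorem core_element (p : ℕ) [hp : Fact p.Prime] (hp2 : p ≠ 2) {K : Type*} [Field K] [CharP K p]
    {G : Type*} [Group G] [Finite G]
    {V : Type*} [AddCommGroup V] [Module K V] [FiniteDimensional K V] (ρ : Representation K G V)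
    (hab2 : SL2Free p G) (a : G)
    (ha : (ρ a - 1) * (ρ a - 1) = 0) :
    ∃ D : Subgroup G, D.Normal ∧ ρ.ker ≤ D ∧ a ∈ D ∧ ∀ d ∈ D, ∃ k : ℕ, d ^ p ^ k ∈ ρ.ker := by
  let π := QuotientGroup.mk' ρ.ker
  let S : Set (G ⧸ ρ.ker) := {z | ∃ g : G, z = π (g * a * g⁻¹)}
  have hS : ∀ g x, x ∈ S → g * x * g⁻¹ ∈ S := by
    rintro g _ ⟨h, rfl⟩
    obtain ⟨g', rfl⟩ := QuotientGroup.mk'_surjective ρ.ker g
    refine ⟨g' * h, ?_⟩
    rw [← map_inv, ← map_mul, ← map_mul]
    congr 1
    group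
  have hpair : ∀ x ∈ S, ∀ y ∈ S, IsPGroup p (Subgroup.closure ({x, y} : Set (G ⧸ ρ.ker))) := by
    rintro _ ⟨g, rfl⟩ _ ⟨h, rfl⟩
    have h1 := pquot_closure_pair p hp2 ρ hab2 _ _ (quad_conj ρ a g ha) (quad_conj ρ a h ha)
    have h2 : Subgroup.closure ({π (g * a * g⁻¹), π (h * a * h⁻¹)} : Set (G ⧸ ρ.ker)) =
        (Subgroup.closure {g * a * g⁻¹, h * a * h⁻¹}).map π := by
      rw [MonoidHom.map_closure, Set.image_pair]
    rw [h2]
    rintro ⟨_, z, hz, rfl⟩
    obtain ⟨k, hk⟩ := h1 z hz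
    refine ⟨k, Subtype.ext ?_⟩
    rw [Subgroup.coe_pow, Subgroup.coe_one]
    change π z ^ p ^ k = 1
    rw [← map_pow]
    exact (QuotientGroup.eq_one_iff _).2 hk
  obtain ⟨hn, hpg⟩ := Cfsg.Agent.Lib.Lead.baer_suzuki_closure S hS hpair
  refine ⟨(Subgroup.closure S).comap π, ?_, ?_, ?_, ?_⟩
  · exact hn.comap π
  · intro g hg
    rw [Subgroup.mem_comap]
    have : π g = 1 := (QuotientGroup.eq_one_iff _).2 hg
    rw [this]
    exact Subgroup.one_mem _
  · rw [Subgroup.mem_comap]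
    apply Subgroup.subset_closure
    exact ⟨1, by simp⟩
  · intro d hd
    rw [Subgroup.mem_comap] at hd
    obtain ⟨k, hk⟩ := hpg ⟨π d, hd⟩
    refine ⟨k, ?_⟩
    have h1 := congrArg Subtype.val hk
    rw [Subgroup.coe_pow, Subgroup.coe_one] at h1
    change π d ^ p ^ k = 1 at h1
    rw [← map_pow] at h1
    exact (QuotientGroup.eq_one_iff _).1 h1


end Core

section MulAutForm

variable (p : ℕ) [hp : Fact p.Prime] {A : Type*} [CommGroup A] [Finite A]
  {G : Type*} [Group G] [Finite G]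

theorem core_mulAut (hp2 : p ≠ 2) (hexp : ∀ a : A, a ^ p = 1) (θ : G →* MulAut A)
    (hab2 : SL2Free p G) (a : G)
    (ha : ∀ v : A, θ a (θ a v / v) = θ a v / v) :
    ∃ D : Subgroup G, D.Normal ∧ θ.ker ≤ D ∧ a ∈ D ∧ ∀ d ∈ D, ∃ k : ℕ, d ^ p ^ k ∈ θ.ker := by
  let _ : Module (ZMod p) (Additive A) := AddCommGroup.zmodModule (by
    intro x
    exact congrArg Additive.ofMul (hexp x.toMul))
  have hfin : Finite (Additive A) := inferInstanceAs (Finite A)
  have hfd : FiniteDimensional (ZMod p) (Additive A) := Module.Finite.of_finite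
  have := @core_element p _ hp2 (ZMod p) _ _ G _ _ (Additive A) _ _ hfd (linRep p θ) hab2 a
    (linRep_quad p θ a ha)
  rwa [linRep_ker] at this


end MulAutForm

section Internal

open Subgroup
open scoped commutatorElement

variable {G : Type*} [Group G] [Finite G] (p : ℕ) [hp : Fact p.Prime]

/-- **Core theorem, homomorphism form.** -/
theorem core_hom (hp2 : p ≠ 2) {H' : Type*} [Group H'] [Finite H'] (ι : H' →* G)
    (V : Subgroup G) (hVc : ∀ x ∈ V, ∀ y ∈ V, x * y = y * x)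
    (hVe : ∀ x ∈ V, x ^ p = 1) (hιV : ∀ h, ι h ∈ normalizer (V : Set G))
    (hab2 : SL2Free p H') (a : H')
    (hq : ⁅⁅V, zpowers (ι a)⁆, zpowers (ι a)⁆ = ⊥) :
    ∃ D : Subgroup H', D.Normal ∧ (centralizer (V : Set G)).comap ι ≤ D ∧ a ∈ D ∧
      ∀ d ∈ D, ∃ k : ℕ, (ι d) ^ p ^ k ∈ centralizer (V : Set G) := by
  letI : CommGroup V :=
    { (inferInstance : Group V) with
      mul_comm := fun x y => Subtype.ext (hVc x x.2 y y.2) }
  have hexp : ∀ v : V, v ^ p = 1 := fun v => Subtype.ext (by simpa using hVe v v.2)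
  let θ : H' →* MulAut V := V.normalizerMonoidHom.comp (ι.codRestrict (normalizer (V : Set G)) hιV)
  have hθ : ∀ (h : H') (v : V), ((θ h v : V) : G) = ι h * v * (ι h)⁻¹ := fun h v => rfl
  have hker : θ.ker = (centralizer (V : Set G)).comap ι := by
    ext g
    rw [MonoidHom.mem_ker, mem_comap, mem_centralizer_iff]
    constructor
    · intro h v hv
      have := congrArg (fun f : MulAut V => ((f ⟨v, hv⟩ : V) : G)) h
      simp only [hθ] at this
      have h2 : ι g * v * (ι g)⁻¹ = v := this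
      have h3 : ι g * v = v * ι g := by
        have := congrArg (· * ι g) h2
        simpa using this
      exact h3.symm
    · intro h
      ext v
      rw [hθ]
      have := h v v.2
      change ι g * v * (ι g)⁻¹ = v
      rw [← this, mul_inv_cancel_right]
  have ha : ∀ v : V, θ a (θ a v / v) = θ a v / v := by
    intro v
    apply Subtype.ext
    rw [hθ]
    have h1 : ((θ a v / v : V) : G) = ι a * v * (ι a)⁻¹ * (v : G)⁻¹ := by
      rw [div_eq_mul_inv, Subgroup.coe_mul, hθ, Subgroup.coe_inv]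
    rw [h1]
    exact quad_elem V (ι a) hq v v.2
  obtain ⟨D, hDn, hD1, hD2, hD3⟩ := core_mulAut p hp2 hexp θ hab2 a ha
  refine ⟨D, hDn, hker ▸ hD1, hD2, ?_⟩
  intro d hd
  obtain ⟨k, hk⟩ := hD3 d hd
  refine ⟨k, ?_⟩
  rw [hker, mem_comap, map_pow] at hk
  exact hk

/-- normal subgroup form: `V ⊴ G` elementary abelian, Sylow 2-subgroups of `G` abelian, `a`
quadratic on `V`: the image of `a` in `G / C_G(V)` lies in a normal `p`-subgroup. -/
theorem core_normal (hp2 : p ≠ 2) (V : Subgroup G) [hVn : V.Normal]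
    (hVc : ∀ x ∈ V, ∀ y ∈ V, x * y = y * x) (hVe : ∀ x ∈ V, x ^ p = 1)
    (hab2 : SL2Free p G) (a : G)
    (hq : ⁅⁅V, zpowers a⁆, zpowers a⁆ = ⊥) :
    ∃ N : Subgroup (G ⧸ centralizer (V : Set G)), N.Normal ∧ IsPGroup p N ∧
      (QuotientGroup.mk a : G ⧸ centralizer (V : Set G)) ∈ N := by
  obtain ⟨D, hDn, hD1, hD2, hD3⟩ := core_hom p hp2 (MonoidHom.id G) V hVc hVe
    (fun h => by rw [normalizer_eq_top]; exact mem_top _) hab2 a hq
  refine ⟨D.map (QuotientGroup.mk' _), ?_, ?_, ⟨a, hD2, rfl⟩⟩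
  · exact hDn.map _ (QuotientGroup.mk'_surjective _)
  · rintro ⟨_, d, hd, rfl⟩
    obtain ⟨k, hk⟩ := hD3 d hd
    refine ⟨k, Subtype.ext ?_⟩
    rw [Subgroup.coe_pow, Subgroup.coe_one]
    change (QuotientGroup.mk' _ d) ^ p ^ k = 1
    rw [← map_pow]
    exact (QuotientGroup.eq_one_iff _).2 hk

open Cfsg.Agent.Lib.Helper3 in
/-- **Core theorem, section form.** `N ≤ K` normal in `G` with `K / N` elementary abelian. -/
theorem core_section (hp2 : p ≠ 2) (K N : Subgroup G) [hKn : K.Normal] [hNn : N.Normal]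
    (hcomm : ⁅K, K⁆ ≤ N) (hexp : ∀ x ∈ K, x ^ p ∈ N)
    (hab2 : SL2Free p G) (a : G)
    (hq : ⁅⁅K, zpowers a⁆, zpowers a⁆ ≤ N) :
    ∃ D : Subgroup G, D.Normal ∧ (quotAct N K).ker ≤ D ∧ a ∈ D ∧
      ∀ d ∈ D, ∃ k : ℕ, d ^ p ^ k ∈ (quotAct N K).ker := by
  letI : CommGroup (K ⧸ N.subgroupOf K) :=
    { (inferInstance : Group (K ⧸ N.subgroupOf K)) with
      mul_comm := by
        intro x y
        induction x using QuotientGroup.induction_on with
        | H x =>
        induction y using QuotientGroup.induction_on with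
        | H y =>
        rw [← QuotientGroup.mk_mul, ← QuotientGroup.mk_mul, QuotientGroup.eq, mem_subgroupOf]
        have h1 : ⁅((y : G))⁻¹, ((x : G))⁻¹⁆ ∈ ⁅K, K⁆ :=
          Subgroup.commutator_mem_commutator (K.inv_mem y.2) (K.inv_mem x.2)
        have h2 : (((x * y)⁻¹ * (y * x) : K) : G) = ⁅((y : G))⁻¹, ((x : G))⁻¹⁆ := by
          rw [commutatorElement_def]
          simp [mul_assoc]
        rw [h2]
        exact hcomm h1 }
  have hexp' : ∀ v : K ⧸ N.subgroupOf K, v ^ p = 1 := by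
    intro v
    induction v using QuotientGroup.induction_on with
    | H x =>
    rw [← QuotientGroup.mk_pow, QuotientGroup.eq_one_iff, mem_subgroupOf]
    simpa using hexp x x.2
  have ha : ∀ v : K ⧸ N.subgroupOf K,
      quotAct N K a (quotAct N K a v / v) = quotAct N K a v / v := by
    intro v
    induction v using QuotientGroup.induction_on with
    | H x =>
    obtain ⟨x, hx⟩ := x
    have hw : a * x * a⁻¹ * x⁻¹ ∈ K :=
      K.mul_mem (hKn.conj_mem x hx a) (K.inv_mem hx)
    have h1 : quotAct N K a (QuotientGroup.mk ⟨x, hx⟩) / (QuotientGroup.mk ⟨x, hx⟩)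
        = (QuotientGroup.mk (⟨a * x * a⁻¹ * x⁻¹, hw⟩ : K) : K ⧸ N.subgroupOf K) := by
      rw [quotAct_mk', div_eq_mul_inv, ← QuotientGroup.mk_inv, ← QuotientGroup.mk_mul]
      rfl
    rw [h1, quotAct_mk', QuotientGroup.eq, mem_subgroupOf]
    have hw1 : a * x * a⁻¹ * x⁻¹ ∈ ⁅K, zpowers a⁆ := by
      rw [Subgroup.commutator_comm]
      exact Subgroup.commutator_mem_commutator (mem_zpowers a) hx
    have h2 : ⁅a, (a * x * a⁻¹ * x⁻¹)⁻¹⁆ ∈ ⁅⁅K, zpowers a⁆, zpowers a⁆ := by
      rw [Subgroup.commutator_comm]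
      exact Subgroup.commutator_mem_commutator (mem_zpowers a) (Subgroup.inv_mem _ hw1)
    have h3 : (((⟨a * (a * x * a⁻¹ * x⁻¹) * a⁻¹, hKn.conj_mem _ hw a⟩ : K)⁻¹ *
        ⟨a * x * a⁻¹ * x⁻¹, hw⟩ : K) : G) = ⁅a, (a * x * a⁻¹ * x⁻¹)⁻¹⁆ := by
      rw [commutatorElement_def]
      simp [mul_assoc]
    rw [h3]
    exact hq h2
  exact core_mulAut p hp2 hexp' (quotAct N K) hab2 a ha

/-- `IsPStableOn` from abelian Sylow 2-subgroups. -/
theorem isPStableOn_of (hp2 : p ≠ 2) (hab2 : SL2Free p G)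
    (V : Subgroup G) [V.Normal] (hVc : ∀ x ∈ V, ∀ y ∈ V, x * y = y * x)
    (hVe : ∀ x ∈ V, x ^ p = 1) : Cfsg.IsPStableOn p V := by
  intro a hq
  obtain ⟨N, hNn, hNp, haN⟩ := core_normal p hp2 V hVc hVe hab2 a hq
  exact (le_sSup ⟨hNn, hNp⟩ : N ≤ Cfsg.pCore p _) haN

open Cfsg.Agent.Lib.Helper3 in
/-- `IsPStableOnSection` from abelian Sylow 2-subgroups, for an elementary abelian section. -/
theorem isPStableOnSection_of (hp2 : p ≠ 2) (hab2 : SL2Free p G)
    (K N : Subgroup G) [hKn : K.Normal] [hNn : N.Normal]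
    (hcomm : ⁅K, K⁆ ≤ N) (hexp : ∀ x ∈ K, x ^ p ∈ N) : Cfsg.IsPStableOnSection p K N := by
  intro a hq
  obtain ⟨D, hDn, hD1, hD2, hD3⟩ := core_section p hp2 K N hcomm hexp hab2 a hq
  rw [sectionKernel_eq]
  refine ⟨D, hDn, hD1, ?_, hD2⟩
  set C := (quotAct N K).ker with hC
  have hpg : IsPGroup p (D ⧸ C.subgroupOf D) := by
    intro x
    induction x using QuotientGroup.induction_on with
    | H d =>
    obtain ⟨k, hk⟩ := hD3 d d.2
    refine ⟨k, ?_⟩
    rw [← QuotientGroup.mk_pow, QuotientGroup.eq_one_iff, mem_subgroupOf]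
    simpa using hk
  obtain ⟨k, hk⟩ := (IsPGroup.iff_card).1 hpg
  refine ⟨k, ?_⟩
  rw [← hk, relIndex, index_eq_card]


end Internal

end Cfsg.Agent.Lib.Helper11.QuadFree
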