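import Mathlib
import Cfsg.Prelude.Def_Transfer

set_option autoImplicit false

namespace Cfsg.Agent.Lib.Helper11

open Subgroup

/-- For an abelian Sylow subgroup, the order of the automizer `N(P)/C(P)` divides the index of `P`. -/
theorem card_range_normalizerMonoidHom_dvd_index {G : Type*} [Group G] [Finite G] {p : ℕ}
    (P : Sylow p G) (hc : IsMulCommutative P) :
    Nat.card (P : Subgroup G).normalizerMonoidHom.range ∣ (P : Subgroup G).index := by
  rw [← Subgroup.index_ker, Subgroup.normalizerMonoidHom_ker]
  have hle : (P : Subgroup G).subgroupOf (normalizer ((P : Subgroup G) : Set G)) ≤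
      (centralizer ((P : Subgroup G) : Set G)).subgroupOf (normalizer ((P : Subgroup G) : Set G)) := by
    intro x hx
    rw [mem_subgroupOf] at hx ⊢
    rw [mem_centralizer_iff]
    intro y hy
    have := hc.is_comm.comm (⟨y, hy⟩ : P) ⟨x, hx⟩
    exact congrArg Subtype.val this
  have h1 := Subgroup.index_dvd_of_le hle
  have h2 : ((P : Subgroup G).subgroupOf (normalizer ((P : Subgroup G) : Set G))).index =
      (P : Subgroup G).relIndex (normalizer ((P : Subgroup G) : Set G)) := rfl
  rw [h2] at h1
  exact h1.trans (Subgroup.relIndex_dvd_index_of_le le_normalizer)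

/-- If the automizer of `P` is trivial then `N(P) ≤ C(P)`. -/
theorem normalizer_le_centralizer_of_card_range_eq_one {G : Type*} [Group G] (H : Subgroup G)
    (h1 : Nat.card H.normalizerMonoidHom.range = 1) :
    normalizer (H : Set G) ≤ centralizer (H : Set G) := by
  have hker : H.normalizerMonoidHom.ker = ⊤ := by
    rw [← Subgroup.index_eq_one, Subgroup.index_ker, h1]
  rw [Subgroup.normalizerMonoidHom_ker] at hker
  intro n hn
  have : (⟨n, hn⟩ : normalizer (H : Set G)) ∈ (centralizer (H : Set G)).subgroupOf (normalizer (H : Set G)) := by
    rw [hker]; trivial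
  exact mem_subgroupOf.mp this

/-- Burnside's normal p-complement theorem in the vocabulary of the statements. -/
theorem hasNormalPComplement_of_normalizer_le_centralizer {G : Type*} [Group G] [Finite G] {p : ℕ}
    [Fact p.Prime] (P : Sylow p G) (hP : normalizer ((P : Subgroup G) : Set G) ≤ centralizer (P : Set G)) :
    Cfsg.HasNormalPComplement p G :=
  ⟨P, (MonoidHom.transferSylow P hP).ker, inferInstance, MonoidHom.ker_transferSylow_isComplement' P hP⟩

/-- Burnside via the automizer: if no prime divides both the index of an abelian Sylow subgroup `P`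
and the order of `Aut(P)`-image of the normalizer, there is a normal complement. -/
theorem hasNormalPComplement_of_card_range_eq_one {G : Type*} [Group G] [Finite G] {p : ℕ}
    [Fact p.Prime] (P : Sylow p G)
    (h1 : Nat.card (P : Subgroup G).normalizerMonoidHom.range = 1) :
    Cfsg.HasNormalPComplement p G :=
  hasNormalPComplement_of_normalizer_le_centralizer P
    (normalizer_le_centralizer_of_card_range_eq_one (P : Subgroup G) h1)

end Cfsg.Agent.Lib.Helper11
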