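import Mathlib
import Cfsg.Prelude.Def_Local
import Cfsg.Agent.Lib.Helper2.Cores
import Cfsg.Agent.Lib.Helper1.FusionLift
import Cfsg.Agent.Lib.Helper1.WellPlaced

/-!
Subgroup-level API for `O_{p'}(N)` and `O_{p',p}(N)` of a subgroup `N` of a finite group `G`
(helper11), in preparation for the full Alperin–Goldschmidt conjugation theorem.
-/

set_option autoImplicit false

namespace Cfsg.Agent.Lib.Helper11.AG

open Cfsg Cfsg.Agent.Lib.Helper29 Cfsg.Agent.Lib.Helper1 Cfsg.Agent.Lib.Helper2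

variable {G : Type*} [Group G]

/-- `O_{p'}(N)` as a subgroup of `G`. -/
def opp (p : ℕ) (N : Subgroup G) : Subgroup G := (Cfsg.pPrimeCore p ↥N).map N.subtype

/-- `O_{p',p}(N)` as a subgroup of `G`. -/
def oppp (p : ℕ) (N : Subgroup G) : Subgroup G := (Cfsg.pPrimePCore p ↥N).map N.subtype

theorem opp_le (p : ℕ) (N : Subgroup G) : opp p N ≤ N := Subgroup.map_subtype_le _

theorem oppp_le (p : ℕ) (N : Subgroup G) : oppp p N ≤ N := Subgroup.map_subtype_le _

theorem pPrimeCore_le_pPrimePCore (p : ℕ) (H : Type*) [Group H] :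
    Cfsg.pPrimeCore p H ≤ Cfsg.pPrimePCore p H := by
  intro x hx
  unfold Cfsg.pPrimePCore
  rw [Subgroup.mem_comap]
  have : (QuotientGroup.mk' (Cfsg.pPrimeCore p H)) x = 1 := by
    rw [QuotientGroup.mk'_apply, QuotientGroup.eq_one_iff]; exact hx
  rw [this]
  exact one_mem _

theorem opp_le_oppp (p : ℕ) (N : Subgroup G) : opp p N ≤ oppp p N :=
  Subgroup.map_mono (pPrimeCore_le_pPrimePCore p ↥N)

/-- The image in `G` of a normal subgroup of `↥N` is normalized by `N`. -/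
theorem le_normalizer_map_subtype [Finite G] (N : Subgroup G) (X : Subgroup ↥N) (hX : X.Normal) :
    N ≤ Subgroup.normalizer ((X.map N.subtype : Subgroup G) : Set G) := by
  apply le_normalizer_of_forall_cj_le
  intro n hn y hy
  rw [mem_cj] at hy
  obtain ⟨x, hx, hxy⟩ := hy
  have h1 : (⟨n, hn⟩ : ↥N) * x * (⟨n, hn⟩ : ↥N)⁻¹ ∈ X := hX.conj_mem x hx ⟨n, hn⟩
  refine ⟨⟨n, hn⟩ * x * (⟨n, hn⟩ : ↥N)⁻¹, h1, ?_⟩
  have : (N.subtype x : G) = n⁻¹ * y * n := hxy
  simp only [Subgroup.subtype_apply] at this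
  simp only [Subgroup.subtype_apply, Subgroup.coe_mul, Subgroup.coe_inv, this]
  group

theorem pPrimePCore_normal (p : ℕ) (H : Type*) [Group H] : (Cfsg.pPrimePCore p H).Normal := by
  unfold Cfsg.pPrimePCore
  haveI := pCore_normal (G := H ⧸ Cfsg.pPrimeCore p H) p
  exact Subgroup.Normal.comap inferInstance _

theorem le_normalizer_opp [Finite G] (p : ℕ) (N : Subgroup G) :
    N ≤ Subgroup.normalizer ((opp p N : Subgroup G) : Set G) :=
  le_normalizer_map_subtype N _ (Cfsg.Agent.Lib.Helper2.pPrimeCore_normal (G := ↥N) p)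

theorem le_normalizer_oppp [Finite G] (p : ℕ) (N : Subgroup G) :
    N ≤ Subgroup.normalizer ((oppp p N : Subgroup G) : Set G) :=
  le_normalizer_map_subtype N _ (pPrimePCore_normal p ↥N)

theorem opp_coprime [Finite G] (p : ℕ) (N : Subgroup G) : (Nat.card (opp p N)).Coprime p := by
  unfold opp
  rw [Subgroup.card_map_of_injective (Subgroup.subtype_injective _)]
  exact pPrimeCore_coprime p

/-- `O_{p',p}(N)/O_{p'}(N)` is a `p`-group, elementwise. -/
theorem oppp_pow_mem [Finite G] {p : ℕ} [Fact p.Prime] (N : Subgroup G) :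
    ∀ x ∈ oppp p N, ∃ a : ℕ, x ^ (p ^ a) ∈ opp p N := by
  rintro _ ⟨x, hx, rfl⟩
  unfold Cfsg.pPrimePCore at hx
  rw [SetLike.mem_coe, Subgroup.mem_comap] at hx
  have hpg : IsPGroup p (Cfsg.pCore p (↥N ⧸ Cfsg.pPrimeCore p ↥N)) := pCore_isPGroup p
  obtain ⟨a, ha⟩ := hpg ⟨_, hx⟩
  refine ⟨a, ?_⟩
  have h1 : ((QuotientGroup.mk' (Cfsg.pPrimeCore p ↥N)) x) ^ (p ^ a) = 1 := by
    have := congrArg Subtype.val ha
    simpa using this
  rw [← map_pow, QuotientGroup.mk'_apply, QuotientGroup.eq_one_iff] at h1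
  exact ⟨x ^ (p ^ a), h1, by simp⟩

/-- A `p'`-subgroup of `N` normalized by `N` lies in `O_{p'}(N)`. -/
theorem le_opp [Finite G] {p : ℕ} {N Y : Subgroup G} (hYN : Y ≤ N)
    (hnorm : N ≤ Subgroup.normalizer (Y : Set G)) (hY : (Nat.card Y).Coprime p) :
    Y ≤ opp p N := by
  have hn : (Y.subgroupOf N).Normal := Subgroup.normal_subgroupOf_of_le_normalizer hnorm
  have hc : (Nat.card (Y.subgroupOf N)).Coprime p := by
    rw [card_subgroupOf_of_le hYN]; exact hY
  have h1 := le_pPrimeCore hn hc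
  have h2 := Subgroup.map_mono (f := N.subtype) h1
  rwa [Subgroup.map_subgroupOf_eq_of_le hYN] at h2

/-- A `p`-subgroup of `N` normalized by `N` lies in `O_{p',p}(N)`. -/
theorem le_oppp [Finite G] {p : ℕ} {N D : Subgroup G} (hDN : D ≤ N)
    (hnorm : N ≤ Subgroup.normalizer (D : Set G)) (hD : IsPGroup p D) :
    D ≤ oppp p N := by
  have hn : (D.subgroupOf N).Normal := Subgroup.normal_subgroupOf_of_le_normalizer hnorm
  have hp : IsPGroup p (D.subgroupOf N) := (isPGroup_subgroupOf_iff_of_le hDN).2 hD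
  have h1 : D.subgroupOf N ≤ Cfsg.pPrimePCore p ↥N := by
    unfold Cfsg.pPrimePCore
    rw [← Subgroup.map_le_iff_le_comap]
    apply le_pCore
    · exact Subgroup.Normal.map hn _ (QuotientGroup.mk'_surjective _)
    · exact hp.map _
  have h2 := Subgroup.map_mono (f := N.subtype) h1
  rwa [Subgroup.map_subgroupOf_eq_of_le hDN] at h2

/-- Two subgroups normalizing each other and meeting trivially commute. -/
theorem le_centralizer_of_normalize_of_disjoint {K U : Subgroup G}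
    (hKU : K ≤ Subgroup.normalizer (U : Set G)) (hUK : U ≤ Subgroup.normalizer (K : Set G))
    (hdisj : K ⊓ U = ⊥) : K ≤ Subgroup.centralizer (U : Set G) := by
  intro k hk
  rw [Subgroup.mem_centralizer_iff]
  intro u hu
  have hu' : u ∈ U := hu
  have h1 : k * u * k⁻¹ * u⁻¹ ∈ U :=
    U.mul_mem ((Subgroup.mem_normalizer_iff.mp (hKU hk) u).mp hu') (U.inv_mem hu')
  have h2 : k * u * k⁻¹ * u⁻¹ ∈ K := by
    have := (Subgroup.mem_normalizer_iff.mp (hUK hu') k⁻¹).mp (K.inv_mem hk)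
    have e : k * u * k⁻¹ * u⁻¹ = k * (u * k⁻¹ * u⁻¹) := by group
    rw [e]
    exact K.mul_mem hk this
  have h3 : k * u * k⁻¹ * u⁻¹ ∈ K ⊓ U := ⟨h2, h1⟩
  rw [hdisj, Subgroup.mem_bot] at h3
  have : u * k = (k * u * k⁻¹ * u⁻¹)⁻¹ * (k * u) := by group
  rw [this, h3, inv_one, one_mul]

/-- Frattini argument for subgroups of `G`. -/
theorem frattini_sub [Finite G] {p : ℕ} [Fact p.Prime] {N H R : Subgroup G}
    (hR : IsSylowSub p R N) (hRN : R ≤ N) (hHN : H ≤ N)
    (hnorm : N ≤ Subgroup.normalizer (H : Set G)) :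
    ∀ m ∈ N, ∃ h ∈ H, ∃ n ∈ N ⊓ Subgroup.normalizer ((R ⊓ H : Subgroup G) : Set G),
      m = h * n := by
  intro m hm
  have hQ : IsSylowSub p (R ⊓ H) H := isSylowSub_inf_of_normalized hR hRN hHN hnorm
  have hQp : IsPGroup p (R ⊓ H : Subgroup G) := (hR.isPGroup hRN).to_le inf_le_left
  have hle : cj m (R ⊓ H) ≤ H := by
    have := cj_mono (g := m) (inf_le_right : R ⊓ H ≤ H)
    rwa [cj_eq_of_mem_normalizer (hnorm hm)] at this
  obtain ⟨h, hh, hle2⟩ := exists_cj_le_of_isSylowSub hQ hle (isPGroup_cj hQp)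
  have heq : cj (h * m) (R ⊓ H) = R ⊓ H := by
    rw [← cj_cj]
    exact Subgroup.eq_of_le_of_card_ge hle2 (by rw [card_cj, card_cj])
  have hmem := mem_normalizer_of_cj_eq heq
  refine ⟨h⁻¹, H.inv_mem hh, h * m, ⟨N.mul_mem (hHN hh) hm, hmem⟩, by group⟩

end Cfsg.Agent.Lib.Helper11.AG
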