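import Mathlib
import Cfsg.Agent.Lib.Helper11.AG1

/-!
Burnside step for the Alperin–Goldschmidt theorem (helper11): a normal subgroup `C` of `N`
whose Sylow `p`-subgroup `R ∩ C` is central in `C` satisfies `C ≤ (R ∩ C) O_{p'}(N)`.
-/

set_option autoImplicit false

namespace Cfsg.Agent.Lib.Helper11.AG

open Cfsg Cfsg.Agent.Lib.Helper29 Cfsg.Agent.Lib.Helper1 Cfsg.Agent.Lib.Helper2

variable {G : Type*} [Group G]

theorem le_sup_opp_of_central [Finite G] {p : ℕ} [Fact p.Prime] {N R C : Subgroup G}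
    (hR : IsSylowSub p R N) (hRN : R ≤ N) (hCN : C ≤ N)
    (hnorm : N ≤ Subgroup.normalizer (C : Set G))
    (hcent : R ⊓ C ≤ Subgroup.centralizer (C : Set G)) :
    C ≤ (R ⊓ C) ⊔ opp p N := by
  have hQ : IsSylowSub p (R ⊓ C) C := isSylowSub_inf_of_normalized hR hRN hCN hnorm
  obtain ⟨S', hS'⟩ := hQ
  have hP : Subgroup.normalizer ((S' : Subgroup ↥C) : Set ↥C) ≤
      Subgroup.centralizer ((S' : Subgroup ↥C) : Set ↥C) := by
    intro x _
    rw [Subgroup.mem_centralizer_iff]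
    intro s hs
    have hs' : (s : G) ∈ R ⊓ C := by
      have : s ∈ (R ⊓ C).subgroupOf C := by rw [← hS']; exact hs
      exact Subgroup.mem_subgroupOf.mp this
    have := Subgroup.mem_centralizer_iff.mp (hcent hs') (x : G) x.2
    exact Subtype.ext (by simpa using this.symm)
  have hcompl : Subgroup.IsComplement' (MonoidHom.transferSylow S' hP).ker (S' : Subgroup ↥C) :=
    MonoidHom.ker_transferSylow_isComplement' S' hP
  have hnd : ¬ p ∣ Nat.card (MonoidHom.transferSylow S' hP).ker :=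
    MonoidHom.not_dvd_card_ker_transferSylow S' hP
  set Y' : Subgroup ↥C := (MonoidHom.transferSylow S' hP).ker with hY'
  have hidx : Y'.index = Nat.card (S' : Subgroup ↥C) := hcompl.symm.index_eq_card
  set Y₀ : Subgroup G := Y'.map C.subtype with hY₀
  have hmem : ∀ c ∈ C, (orderOf c).Coprime p → c ∈ Y₀ := by
    intro c hc hco
    obtain ⟨a, ha⟩ := IsPGroup.iff_card.mp S'.isPGroup'
    have h1 : (⟨c, hc⟩ : ↥C) ^ Y'.index ∈ Y' := Subgroup.pow_index_mem Y' _
    rw [hidx, ha] at h1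
    have hco' : (p ^ a).Coprime (orderOf (⟨c, hc⟩ : ↥C)) := by
      rw [Subgroup.orderOf_mk]; exact Nat.Coprime.pow_left a hco.symm
    obtain ⟨m, hm⟩ := exists_pow_eq_self_of_coprime hco'
    have : (⟨c, hc⟩ : ↥C) ∈ Y' := by rw [← hm]; exact Y'.pow_mem h1 m
    exact ⟨⟨c, hc⟩, this, rfl⟩
  have hY₀C : Y₀ ≤ C := Subgroup.map_subtype_le _
  have hY₀card : (Nat.card Y₀).Coprime p := by
    rw [hY₀, Subgroup.card_map_of_injective (Subgroup.subtype_injective _)]
    exact ((Nat.Prime.coprime_iff_not_dvd Fact.out).mpr hnd).symm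
  have hY₀norm : N ≤ Subgroup.normalizer (Y₀ : Set G) := by
    apply le_normalizer_of_forall_cj_le
    intro n hn y hy
    rw [mem_cj] at hy
    have hyC : n⁻¹ * y * n ∈ C := hY₀C hy
    have hy2 : y ∈ C := by
      have := (Subgroup.mem_normalizer_iff.mp (hnorm hn) (n⁻¹ * y * n)).mp hyC
      have e : n * (n⁻¹ * y * n) * n⁻¹ = y := by group
      rwa [e] at this
    apply hmem y hy2
    have e : orderOf (n⁻¹ * y * n) = orderOf y := by
      have h1 := MulEquiv.orderOf_eq (MulAut.conj n⁻¹) y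
      rwa [MulAut.conj_apply, inv_inv] at h1
    rw [← e]
    have hd : orderOf (n⁻¹ * y * n) ∣ Nat.card Y₀ := by
      have := orderOf_dvd_natCard (⟨n⁻¹ * y * n, hy⟩ : ↥Y₀)
      rwa [Subgroup.orderOf_mk] at this
    exact Nat.Coprime.coprime_dvd_left hd hY₀card
  have hY₀K : Y₀ ≤ opp p N := le_opp (hY₀C.trans hCN) hY₀norm hY₀card
  intro c hc
  have htop : Y' ⊔ (S' : Subgroup ↥C) = ⊤ := hcompl.sup_eq_top
  have hc' : (⟨c, hc⟩ : ↥C) ∈ Y' ⊔ (S' : Subgroup ↥C) := by rw [htop]; trivial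
  have h2 := Subgroup.mem_map_of_mem C.subtype hc'
  rw [Subgroup.map_sup, hS', Subgroup.map_subgroupOf_eq_of_le inf_le_right] at h2
  have h3 : c ∈ Y₀ ⊔ (R ⊓ C) := h2
  rw [sup_comm]
  exact (sup_le_sup_right hY₀K _) h3

end Cfsg.Agent.Lib.Helper11.AG
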