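import Mathlib
import Cfsg.Prelude.Def_TwoFusion
import Cfsg.Agent.Lib.Helper11.AG2

/-!
The Alperin–Goldschmidt family and chains up to centralizers (helper11).
-/

set_option autoImplicit false

namespace Cfsg.Agent.Lib.Helper11.AG

open Cfsg Cfsg.Agent.Lib.Helper29 Cfsg.Agent.Lib.Helper1 Cfsg.Agent.Lib.Helper2

variable {G : Type*} [Group G]

/-- The Alperin–Goldschmidt family attached to `P`. -/
def AGFam (p : ℕ) (P : Subgroup G) : Set (Subgroup G) :=
  {D | D ≤ P ∧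
    Subgroup.centralizer ((D : Subgroup G) : Set G) ≤ oppp p (Subgroup.normalizer (D : Set G)) ∧
    Cfsg.IsInternalDirectProduct (opp p (Subgroup.normalizer (D : Set G))) D
      (oppp p (Subgroup.normalizer (D : Set G))) ∧
    ¬ p ∣ (P ⊓ Subgroup.normalizer (D : Set G)).relIndex (Subgroup.normalizer (D : Set G))}

/-- Chains up to an element centralizing the starting set. -/
def WChain (𝓕 : Set (Subgroup G)) (A : Set G) (g : G) : Prop :=
  ∃ c ∈ Subgroup.centralizer A, ∃ y : G, FChain 𝓕 A y ∧ g = c * y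

theorem WChain.of_fchain {𝓕 : Set (Subgroup G)} {A : Set G} {g : G} (h : FChain 𝓕 A g) :
    WChain 𝓕 A g := ⟨1, one_mem _, g, h, (one_mul g).symm⟩

theorem WChain.mono {𝓕 : Set (Subgroup G)} {A B : Set G} {g : G} (h : WChain 𝓕 A g)
    (hB : B ⊆ A) : WChain 𝓕 B g := by
  obtain ⟨c, hc, y, hy, rfl⟩ := h
  exact ⟨c, Subgroup.centralizer_le hB hc, y, hy.mono B hB, rfl⟩

theorem WChain.centralizer_mul {𝓕 : Set (Subgroup G)} {A : Set G} {g c : G}
    (hc : c ∈ Subgroup.centralizer A) (h : WChain 𝓕 A g) : WChain 𝓕 A (c * g) := by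
  obtain ⟨c', hc', y, hy, rfl⟩ := h
  exact ⟨c * c', mul_mem hc hc', y, hy, (mul_assoc _ _ _).symm⟩

theorem rcs_eq_of_mem_centralizer {A : Set G} {c : G} (hc : c ∈ Subgroup.centralizer A) :
    rcs c A = A := by
  unfold rcs
  ext x
  constructor
  · rintro ⟨a, ha, rfl⟩
    have := Subgroup.mem_centralizer_iff.mp hc a ha
    have e : c⁻¹ * a * c = a := by rw [mul_assoc, this, ← mul_assoc, inv_mul_cancel, one_mul]
    show c⁻¹ * a * c ∈ A
    rw [e]; exact ha
  · intro hx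
    refine ⟨x, hx, ?_⟩
    have := Subgroup.mem_centralizer_iff.mp hc x hx
    show c⁻¹ * x * c = x
    rw [mul_assoc, this, ← mul_assoc, inv_mul_cancel, one_mul]

/-- Conjugating a centralizing element back. -/
theorem conj_mem_centralizer_of_rcs {A : Set G} {y c : G}
    (hc : c ∈ Subgroup.centralizer (rcs y A)) : y * c * y⁻¹ ∈ Subgroup.centralizer A := by
  rw [Subgroup.mem_centralizer_iff]
  intro a ha
  have h1 : y⁻¹ * a * y ∈ rcs y A := ⟨a, ha, rfl⟩
  have h2 := Subgroup.mem_centralizer_iff.mp hc _ h1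
  calc a * (y * c * y⁻¹) = y * ((y⁻¹ * a * y) * c) * y⁻¹ := by group
    _ = y * (c * (y⁻¹ * a * y)) * y⁻¹ := by rw [h2]
    _ = y * c * y⁻¹ * a := by group

theorem WChain.trans {𝓕 : Set (Subgroup G)} {A : Set G} {g k : G} (h : WChain 𝓕 A g)
    (hk : WChain 𝓕 (rcs g A) k) : WChain 𝓕 A (g * k) := by
  obtain ⟨c, hc, y, hy, rfl⟩ := h
  obtain ⟨c', hc', y', hy', rfl⟩ := hk
  have e : rcs (c * y) A = rcs y A := by rw [rcs_mul, rcs_eq_of_mem_centralizer hc]
  rw [e] at hc' hy'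
  refine ⟨c * (y * c' * y⁻¹), mul_mem hc (conj_mem_centralizer_of_rcs hc'), y * y',
    hy.trans y' hy', by group⟩

theorem WChain.symm {𝓕 : Set (Subgroup G)} {A : Set G} {g : G} (h : WChain 𝓕 A g) :
    WChain 𝓕 (rcs g A) g⁻¹ := by
  obtain ⟨c, hc, y, hy, rfl⟩ := h
  have e : rcs (c * y) A = rcs y A := by rw [rcs_mul, rcs_eq_of_mem_centralizer hc]
  rw [e]
  refine ⟨y⁻¹ * c⁻¹ * y, ?_, y⁻¹, hy.symm, by group⟩
  have h1 : c⁻¹ ∈ Subgroup.centralizer (rcs y⁻¹ (rcs y A)) := by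
    rw [rcs_inv_rcs]; exact inv_mem hc
  have := conj_mem_centralizer_of_rcs h1
  simpa using this

end Cfsg.Agent.Lib.Helper11.AG
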