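import Mathlib
import Cfsg.Agent.Lib.Helper11.AG3

/-!
The local step and the main induction of the Alperin–Goldschmidt theorem (helper11).
-/

set_option autoImplicit false

namespace Cfsg.Agent.Lib.Helper11.AG

open Cfsg Cfsg.Agent.Lib.Helper29 Cfsg.Agent.Lib.Helper1 Cfsg.Agent.Lib.Helper2

variable {G : Type*} [Group G]

theorem normalizer_le_normalizer_centralizer (U : Subgroup G) :
    Subgroup.normalizer (U : Set G) ≤
      Subgroup.normalizer ((Subgroup.centralizer (U : Set G) : Subgroup G) : Set G) := by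
  intro n hn
  apply mem_normalizer_of_cj_eq
  rw [cj_centralizer, cj_eq_of_mem_normalizer hn]

variable [Finite G] {p : ℕ} [Fact p.Prime]

theorem opp_inf_eq_bot {U : Subgroup G} (hUp : IsPGroup p U) (N : Subgroup G) :
    opp p N ⊓ U = ⊥ := by
  apply Subgroup.inf_eq_bot_of_coprime
  obtain ⟨a, ha⟩ := IsPGroup.iff_card.mp hUp
  rw [ha]
  exact Nat.Coprime.pow_right a (opp_coprime p N)

theorem opp_le_centralizer {U : Subgroup G} (hUp : IsPGroup p U) :
    opp p (Subgroup.normalizer (U : Set G)) ≤ Subgroup.centralizer (U : Set G) :=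
  le_centralizer_of_normalize_of_disjoint (opp_le p _)
    (Subgroup.le_normalizer.trans (le_normalizer_opp p _)) (opp_inf_eq_bot hUp _)

theorem oppp_le_sup {N R : Subgroup G} (hR : IsSylowSub p R N) (hRN : R ≤ N) :
    oppp p N ≤ (R ⊓ oppp p N) ⊔ opp p N := by
  have hQ : IsSylowSub p (R ⊓ oppp p N) (oppp p N) :=
    isSylowSub_inf_of_normalized hR hRN (oppp_le p N) (le_normalizer_oppp p N)
  have h := le_sup_of_pow_mem hQ inf_le_right ((oppp_le p N).trans (le_normalizer_opp p N))
    (oppp_pow_mem N)
  exact h.trans (sup_le_sup_left inf_le_left _)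

theorem isSylowSub_nP (P : Sylow p G) {U : Subgroup G}
    (hUsyl : ¬ p ∣ ((P : Subgroup G) ⊓ Subgroup.normalizer (U : Set G)).relIndex
      (Subgroup.normalizer (U : Set G))) :
    IsSylowSub p ((P : Subgroup G) ⊓ Subgroup.normalizer (U : Set G))
      (Subgroup.normalizer (U : Set G)) :=
  Cfsg.Agent.Lib.Helper1.isSylowSub_of_not_dvd_relIndex inf_le_right
    (P.isPGroup'.to_le inf_le_left) hUsyl

/-- Membership in the Alperin–Goldschmidt family. -/
theorem mem_AGFam (P : Sylow p G) {U : Subgroup G} (hUP : U ≤ (P : Subgroup G))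
    (hUsyl : ¬ p ∣ ((P : Subgroup G) ⊓ Subgroup.normalizer (U : Set G)).relIndex
      (Subgroup.normalizer (U : Set G)))
    (h1 : ((P : Subgroup G) ⊓ Subgroup.normalizer (U : Set G)) ⊓
      Subgroup.centralizer (U : Set G) ≤ U)
    (h2 : ((P : Subgroup G) ⊓ Subgroup.normalizer (U : Set G)) ⊓
      oppp p (Subgroup.normalizer (U : Set G)) ≤ U) :
    U ∈ AGFam p (P : Subgroup G) := by
  have hR := isSylowSub_nP P hUsyl
  have hUp : IsPGroup p U := P.isPGroup'.to_le hUP
  have hUN : U ≤ Subgroup.normalizer (U : Set G) := Subgroup.le_normalizer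
  have hUL : U ≤ oppp p (Subgroup.normalizer (U : Set G)) := le_oppp hUN le_rfl hUp
  have hKcent := opp_le_centralizer hUp
  have hcover := oppp_le_sup hR inf_le_right
  have hcentC : ((P : Subgroup G) ⊓ Subgroup.normalizer (U : Set G)) ⊓
      Subgroup.centralizer (U : Set G) ≤
      Subgroup.centralizer ((Subgroup.centralizer (U : Set G) : Subgroup G) : Set G) := by
    intro x hx
    rw [Subgroup.mem_centralizer_iff]
    intro c hc
    exact (Subgroup.mem_centralizer_iff.mp hc x (h1 hx)).symm
  have hB := le_sup_opp_of_central hR inf_le_right (Subgroup.centralizer_le_normalizer _)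
    (normalizer_le_normalizer_centralizer U) hcentC
  refine ⟨hUP, ?_, ⟨opp_le_oppp p _, hUL, ?_, opp_inf_eq_bot hUp _, ?_⟩, hUsyl⟩
  · exact hB.trans (sup_le (h1.trans hUL) (opp_le_oppp p _))
  · intro a ha b hb
    exact (Subgroup.mem_centralizer_iff.mp (hKcent ha) b hb).symm
  · exact le_antisymm (sup_le (opp_le_oppp p _) hUL)
      (hcover.trans (sup_le (h2.trans le_sup_right) le_sup_left))

theorem card_lt_of_le_of_not_le {U D : Subgroup G} (hUD : U ≤ D) (h : ¬ D ≤ U) :
    Nat.card U < Nat.card D := by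
  by_contra hcon
  exact h (Subgroup.eq_of_le_of_card_ge hUD (not_lt.mp hcon)).ge

theorem cj_inv_eq_of_mem_normalizer {n : G} {D : Subgroup G}
    (hn : n ∈ Subgroup.normalizer (D : Set G)) : cj n⁻¹ D = D :=
  cj_eq_of_mem_normalizer (inv_mem hn)

/-- The local step: elements of the normalizer of a fully normalized subgroup. -/
theorem local_step (P : Sylow p G) {U : Subgroup G} (hUP : U ≤ (P : Subgroup G))
    (hUsyl : ¬ p ∣ ((P : Subgroup G) ⊓ Subgroup.normalizer (U : Set G)).relIndex
      (Subgroup.normalizer (U : Set G)))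
    (ih : ∀ T : Subgroup G, T ≤ (P : Subgroup G) → Nat.card U < Nat.card T →
      ∀ g : G, cj g⁻¹ T ≤ (P : Subgroup G) → WChain (AGFam p (P : Subgroup G)) (T : Set G) g)
    (m : G) (hm : m ∈ Subgroup.normalizer (U : Set G)) :
    WChain (AGFam p (P : Subgroup G)) (U : Set G) m := by
  have hR := isSylowSub_nP P hUsyl
  have hUp : IsPGroup p U := P.isPGroup'.to_le hUP
  have hUN : U ≤ Subgroup.normalizer (U : Set G) := Subgroup.le_normalizer
  have hUL : U ≤ oppp p (Subgroup.normalizer (U : Set G)) := le_oppp hUN le_rfl hUp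
  have hKcent := opp_le_centralizer hUp
  have hcover := oppp_le_sup hR inf_le_right
  by_cases h1 : ((P : Subgroup G) ⊓ Subgroup.normalizer (U : Set G)) ⊓
      Subgroup.centralizer (U : Set G) ≤ U
  · by_cases h2 : ((P : Subgroup G) ⊓ Subgroup.normalizer (U : Set G)) ⊓
        oppp p (Subgroup.normalizer (U : Set G)) ≤ U
    · exact WChain.of_fchain (FChain.single (mem_AGFam P hUP hUsyl h1 h2) hm (subset_refl _))
    · obtain ⟨l, hl, n, hn, rfl⟩ := frattini_sub hR inf_le_right (oppp_le p _)
        (le_normalizer_oppp p _) m hm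
      have hnn : ((P : Subgroup G) ⊓ Subgroup.normalizer (U : Set G)) ⊓
          oppp p (Subgroup.normalizer (U : Set G)) ≤
          Subgroup.normalizer ((opp p (Subgroup.normalizer (U : Set G)) : Subgroup G) : Set G) :=
        (inf_le_right.trans (oppp_le p _)).trans (le_normalizer_opp p _)
      obtain ⟨q, hq, k, hk, rfl⟩ := mem_sup_of_le_normalizer hnn (hcover hl)
      have hqN : q ∈ Subgroup.normalizer (U : Set G) := (oppp_le p _) hq.2
      have hk' : q * k * q⁻¹ ∈ Subgroup.centralizer (U : Set G) := by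
        apply hKcent
        exact (Subgroup.mem_normalizer_iff.mp ((le_normalizer_opp p _) hqN) k).mp hk
      have hUQ : U ≤ ((P : Subgroup G) ⊓ Subgroup.normalizer (U : Set G)) ⊓
          oppp p (Subgroup.normalizer (U : Set G)) := le_inf (le_inf hUP hUN) hUL
      have hcard := card_lt_of_le_of_not_le hUQ h2
      have hqn : q * n ∈ Subgroup.normalizer ((((P : Subgroup G) ⊓
          Subgroup.normalizer (U : Set G)) ⊓ oppp p (Subgroup.normalizer (U : Set G)) :
          Subgroup G) : Set G) := mul_mem (Subgroup.le_normalizer hq) hn.2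
      have hch := ih _ (inf_le_left.trans inf_le_left) hcard (q * n)
        (by rw [cj_inv_eq_of_mem_normalizer hqn]; exact inf_le_left.trans inf_le_left)
      have := WChain.centralizer_mul hk' (hch.mono (SetLike.coe_subset_coe.mpr hUQ))
      have e : q * k * n = q * k * q⁻¹ * (q * n) := by group
      rw [e]
      exact this
  · obtain ⟨c, hc, n, hn, rfl⟩ := frattini_sub hR inf_le_right
      (Subgroup.centralizer_le_normalizer _) (normalizer_le_normalizer_centralizer U) m hm
    have hnD : n ∈ Subgroup.normalizer ((U ⊔ (((P : Subgroup G) ⊓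
        Subgroup.normalizer (U : Set G)) ⊓ Subgroup.centralizer (U : Set G)) : Subgroup G) :
        Set G) :=
      le_normalizer_sup (L := Subgroup.normalizer (U : Set G) ⊓ Subgroup.normalizer
        (((((P : Subgroup G) ⊓ Subgroup.normalizer (U : Set G)) ⊓
          Subgroup.centralizer (U : Set G)) : Subgroup G) : Set G)) inf_le_left inf_le_right hn
    have hcard := card_lt_of_le_of_not_le (le_sup_left : U ≤ U ⊔ (((P : Subgroup G) ⊓
        Subgroup.normalizer (U : Set G)) ⊓ Subgroup.centralizer (U : Set G)))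
      (fun h => h1 (le_sup_right.trans h))
    have hDP : U ⊔ (((P : Subgroup G) ⊓ Subgroup.normalizer (U : Set G)) ⊓
        Subgroup.centralizer (U : Set G)) ≤ (P : Subgroup G) :=
      sup_le hUP (inf_le_left.trans inf_le_left)
    have hch := ih _ hDP hcard n (by rw [cj_inv_eq_of_mem_normalizer hnD]; exact hDP)
    exact WChain.centralizer_mul hc (hch.mono (SetLike.coe_subset_coe.mpr le_sup_left))

end Cfsg.Agent.Lib.Helper11.AG
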