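import Mathlib
import Cfsg.Agent.Lib.Helper11.QuadFree
import Cfsg.Agent.Lib.Helper1.PStabTools
import Cfsg.Agent.Lib.Helper11.AG4

/-!
# `SL₂(p)`-free groups are `p`-stable in the normalizer form (helper11)
-/

set_option autoImplicit false

namespace Cfsg.Agent.Lib.Helper11.QuadFree

open Cfsg.Agent.Lib.Helper15.QuadChain Cfsg.Agent.Lib.Helper15.QuadCore Cfsg.Agent.Lib.Helper11
open Cfsg.Agent.Lib.Helper15.QuadInternal
open Subgroup
open scoped commutatorElement

section Internal

variable {G : Type*} [Group G] [Finite G] (p : ℕ) [hp : Fact p.Prime]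

open Cfsg.Agent.Lib.Helper3 in
/-- **Core theorem, `p`-group form.** `P ⊴ G` a `p`-group, `G` is `SL₂(p)`-free, `a`
quadratic on `P`: `a` lies in a normal subgroup `D ≥ C_G(P)` with `D / C_G(P)` a `p`-group. -/
theorem core_pgroup (hp2 : p ≠ 2) (P : Subgroup G) [hPn : P.Normal] (hP : IsPGroup p P)
    (hab2 : SL2Free p G) (a : G)
    (hq : ⁅⁅P, zpowers a⁆, zpowers a⁆ = ⊥) :
    ∃ D : Subgroup G, D.Normal ∧ centralizer (P : Set G) ≤ D ∧ a ∈ D ∧
      ∀ d ∈ D, ∃ k : ℕ, d ^ p ^ k ∈ centralizer (P : Set G) := by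
  set N : Subgroup G := (frattini ↥P).map P.subtype with hN
  haveI hNn : N.Normal := ConjAct.normal_of_characteristic_of_normal
  have hcomm : ⁅P, P⁆ ≤ N := by
    have h1 := Cfsg.Agent.Lib.Helper14.commutator_le_frattini_of_isPGroup' hP
    have h2 : ⁅P, P⁆ = (commutator ↥P).map P.subtype := by
      rw [commutator_def, Subgroup.map_commutator, ← MonoidHom.range_eq_map,
        Subgroup.range_subtype]
    rw [h2]
    exact Subgroup.map_mono h1
  have hexp : ∀ x ∈ P, x ^ p ∈ N := by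
    intro x hx
    exact ⟨⟨x, hx⟩ ^ p, Cfsg.Agent.Lib.Helper14.pow_mem_frattini_of_isPGroup' hP ⟨x, hx⟩, rfl⟩
  obtain ⟨D, hDn, hD1, hD2, hD3⟩ := core_section p hp2 P N hcomm hexp hab2 a (hq ▸ bot_le)
  have hC1 : centralizer (P : Set G) ≤ (quotAct N P).ker := by
    intro g hg
    rw [MonoidHom.mem_ker, quotAct_eq_one_iff]
    intro x hx
    have := mem_centralizer_iff.1 hg x hx
    have h1 : g * x * g⁻¹ * x⁻¹ = 1 := by rw [← this]; group
    rw [h1]; exact N.one_mem
  have hC2 : ∀ g ∈ (quotAct N P).ker, ∃ j : ℕ, g ^ p ^ j ∈ centralizer (P : Set G) := by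
    intro g hg
    rw [MonoidHom.mem_ker, quotAct_eq_one_iff] at hg
    have hα : (MulAut.conjNormal g : MulAut P) ∈ trivOnFrattiniQuot ↥P := by
      intro x
      obtain ⟨y, hy, hyx⟩ := hg x x.2
      have : y = (MulAut.conjNormal g : MulAut P) x * x⁻¹ := by
        apply Subtype.ext
        have hyx' : (y : G) = g * x * g⁻¹ * (x : G)⁻¹ := hyx
        rw [hyx']
        simp [MulAut.conjNormal_apply]
      rw [← this]
      exact hy
    obtain ⟨j, hj⟩ := exists_pow_eq_one_of_trivOnFrattiniQuot hP _ hα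
    refine ⟨j, ?_⟩
    rw [← map_pow] at hj
    rw [mem_centralizer_iff]
    intro x hx
    have := congrArg (fun β : MulAut P => ((β ⟨x, hx⟩ : P) : G)) hj
    simp only [MulAut.conjNormal_apply, MulAut.one_apply] at this
    have h2 : g ^ p ^ j * x = x * g ^ p ^ j := by
      have := congrArg (· * g ^ p ^ j) this
      simpa using this
    exact h2.symm
  refine ⟨D, hDn, hC1.trans hD1, hD2, ?_⟩
  intro d hd
  obtain ⟨k, hk⟩ := hD3 d hd
  obtain ⟨j, hj⟩ := hC2 _ hk
  exact ⟨k + j, by rwa [pow_add, pow_mul]⟩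

end Internal

section Transfer

/-- sections of a homomorphic image are sections of the source -/
theorem involves_of_surjective_hom {Y : Type*} [Group Y] {A B : Type*} [Group A] [Group B]
    (f : A →* B) (hf : Function.Surjective f) (h : Cfsg.Involves Y B) : Cfsg.Involves Y A := by
  obtain ⟨K, R, hR, ⟨e⟩⟩ := h
  let Γ : Subgroup A := K.comap f
  let Ψ₀ : Γ →* K :=
    { toFun := fun g => ⟨f (g : A), g.2⟩
      map_one' := Subtype.ext (map_one f)
      map_mul' := fun x y => Subtype.ext (map_mul f (x : A) (y : A)) }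
  apply Cfsg.Agent.Lib.Helper15.QdSection.involves_of_surjective Γ
    ((e.toMonoidHom.comp (QuotientGroup.mk' (R.subgroupOf K))).comp Ψ₀)
  intro y
  obtain ⟨q, rfl⟩ := e.surjective y
  obtain ⟨k, rfl⟩ := QuotientGroup.mk'_surjective (R.subgroupOf K) q
  obtain ⟨a, ha⟩ := hf (k : B)
  refine ⟨⟨a, by show f a ∈ K; rw [ha]; exact k.2⟩, ?_⟩
  show e (QuotientGroup.mk' _ (Ψ₀ _)) = e (QuotientGroup.mk' _ k)
  congr 2
  exact Subtype.ext ha

theorem sl2Free_of_surjective {p : ℕ} {A B : Type*} [Group A] [Group B] (f : A →* B)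
    (hf : Function.Surjective f) (h : SL2Free p A) : SL2Free p B :=
  fun hB => h (involves_of_surjective_hom f hf hB)

theorem sl2Free_of_le {p : ℕ} {G : Type*} [Group G] {H K : Subgroup G} (hHK : H ≤ K)
    (h : SL2Free p K) : SL2Free p H := by
  have h1 : SL2Free p (H.subgroupOf K) := sl2Free_subgroup h _
  exact sl2Free_of_surjective (Subgroup.subgroupOfEquivOfLe hHK).toMonoidHom
    (Subgroup.subgroupOfEquivOfLe hHK).surjective h1

/-- sections of `SL₂(p)`-free groups are `SL₂(p)`-free -/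
theorem sl2Free_section {p : ℕ} {G : Type*} [Group G] (h : SL2Free p G) (K R : Subgroup G)
    [hR : (R.subgroupOf K).Normal] : SL2Free p (K ⧸ R.subgroupOf K) :=
  sl2Free_of_surjective (QuotientGroup.mk' (R.subgroupOf K)) (QuotientGroup.mk'_surjective _)
    (sl2Free_subgroup h K)

end Transfer

section NormalizerForm

variable {Y : Type*} [Group Y] [Finite Y] {p : ℕ} [hp : Fact p.Prime]

/-- normalizer form: if `N_Y(P)` is `SL₂(p)`-free then quadratic elements of `N_Y(P)` lie in
`O_p(N_Y(P) / C_Y(P))`. -/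
theorem mem_pCore_of_quad (hp2 : p ≠ 2) (P : Subgroup Y) (hP : IsPGroup p P)
    (hfree : SL2Free p ↥(Subgroup.normalizer (P : Set Y)))
    (g : Y) (hg : g ∈ Subgroup.normalizer (P : Set Y))
    (hq : ⁅⁅P, Subgroup.zpowers g⁆, Subgroup.zpowers g⁆ = ⊥) :
    (QuotientGroup.mk (s := (Subgroup.centralizer (P : Set Y)).subgroupOf
        (Subgroup.normalizer (P : Set Y))) (⟨g, hg⟩ : ↥(Subgroup.normalizer (P : Set Y)))) ∈
      Cfsg.pCore p (↥(Subgroup.normalizer (P : Set Y)) ⧸
        (Subgroup.centralizer (P : Set Y)).subgroupOf (Subgroup.normalizer (P : Set Y))) := by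
  set X := Subgroup.normalizer (P : Set Y) with hX
  set Q : Subgroup ↥X := P.subgroupOf X with hQ
  haveI hQn : Q.Normal := Subgroup.normal_subgroupOf_of_le_normalizer le_rfl
  have hPX : P ≤ X := Subgroup.le_normalizer
  have hQp : IsPGroup p Q := hP.of_equiv (Subgroup.subgroupOfEquivOfLe hPX).symm
  have hq' : ⁅⁅Q, Subgroup.zpowers (⟨g, hg⟩ : ↥X)⁆, Subgroup.zpowers (⟨g, hg⟩ : ↥X)⁆ = ⊥ := by
    apply Subgroup.map_injective X.subtype_injective
    rw [Subgroup.map_commutator, Subgroup.map_commutator, MonoidHom.map_zpowers, Subgroup.map_bot,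
      hQ, Subgroup.map_subgroupOf_eq_of_le hPX]
    exact hq
  obtain ⟨D, hDn, -, hgD, hD⟩ := core_pgroup p hp2 Q hQp hfree ⟨g, hg⟩ hq'
  set C' := (Subgroup.centralizer (P : Set Y)).subgroupOf X with hC'
  haveI hC'n : C'.Normal :=
    Subgroup.normal_subgroupOf_of_le_normalizer
      (Cfsg.Agent.Lib.Helper11.AG.normalizer_le_normalizer_centralizer P)
  have hmem : (QuotientGroup.mk' C') ⟨g, hg⟩ ∈ D.map (QuotientGroup.mk' C') := ⟨_, hgD, rfl⟩
  have hle : D.map (QuotientGroup.mk' C') ≤ Cfsg.pCore p (↥X ⧸ C') := by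
    apply Cfsg.Agent.Lib.Helper2.le_pCore
    · exact hDn.map _ (QuotientGroup.mk'_surjective _)
    · rintro ⟨_, d, hd, rfl⟩
      obtain ⟨k, hk⟩ := hD d hd
      refine ⟨k, Subtype.ext ?_⟩
      rw [Subgroup.coe_pow, Subgroup.coe_one]
      change (QuotientGroup.mk' C' d) ^ p ^ k = 1
      rw [← map_pow, QuotientGroup.mk'_apply, QuotientGroup.eq_one_iff, hC',
        Subgroup.mem_subgroupOf, Subgroup.mem_centralizer_iff]
      intro x hx
      have := Subgroup.mem_centralizer_iff.mp hk ⟨x, hPX hx⟩ (Subgroup.mem_subgroupOf.mpr hx)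
      have := congrArg Subtype.val this
      simpa using this
  exact hle hmem

/-- **`SL₂(p)`-free groups are `p`-stable in the normalizer form.** -/
theorem nps_of_sl2Free (hp2 : p ≠ 2) (hfree : SL2Free p Y) : Cfsg.IsNormalizerPStable p Y := by
  intro P hP g hg hq
  exact mem_pCore_of_quad hp2 P hP (sl2Free_subgroup hfree _) g hg hq

end NormalizerForm

end Cfsg.Agent.Lib.Helper11.QuadFree
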