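import Mathlib

set_option autoImplicit false

namespace Cfsg.Agent.Lib.Helper11

open Subgroup

/-- A maximal subgroup of a finite `p`-group is normal. -/
theorem coatom_normal_of_isPGroup {P : Type*} [Group P] [Finite P] {p : ℕ} [Fact p.Prime]
    (hP : IsPGroup p P) (M : Subgroup P) (hM : IsCoatom M) : M.Normal := by
  haveI : Group.IsNilpotent P := hP.isNilpotent
  exact Subgroup.NormalizerCondition.normal_of_coatom M Group.normalizerCondition_of_isNilpotent hM

/-- In a finite `p`-group, `p`-th powers lie in every maximal subgroup. -/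
theorem pow_mem_coatom_of_isPGroup {P : Type*} [Group P] [Finite P] {p : ℕ} [Fact p.Prime]
    (hP : IsPGroup p P) (M : Subgroup P) (hM : IsCoatom M) (x : P) : x ^ p ∈ M := by
  haveI : M.Normal := coatom_normal_of_isPGroup hP M hM
  set g : P ⧸ M := QuotientGroup.mk x with hg
  -- the subgroup generated by g^p in the quotient
  set H : Subgroup (P ⧸ M) := Subgroup.zpowers (g ^ p) with hH
  have hsurj : Function.Surjective (QuotientGroup.mk' M) := QuotientGroup.mk'_surjective M
  have hMle : M ≤ H.comap (QuotientGroup.mk' M) := by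
    intro m hm
    rw [Subgroup.mem_comap]
    have : (QuotientGroup.mk' M) m = 1 := (QuotientGroup.eq_one_iff m).2 hm
    rw [this]; exact H.one_mem
  have hgp : g ^ p = 1 := by
    rcases eq_or_lt_of_le hMle with heq | hlt
    · -- comap H = M, so H = ⊥
      have : H = ⊥ := by
        rw [eq_bot_iff]
        intro y hy
        obtain ⟨w, rfl⟩ := hsurj y
        have hw : w ∈ H.comap (QuotientGroup.mk' M) := hy
        rw [← heq] at hw
        rw [Subgroup.mem_bot]
        exact (QuotientGroup.eq_one_iff w).2 hw
      have h1 : g ^ p ∈ H := Subgroup.mem_zpowers _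
      rw [this, Subgroup.mem_bot] at h1
      exact h1
    · -- comap H = ⊤, so H = ⊤ and g ∈ zpowers (g^p)
      have htop : H.comap (QuotientGroup.mk' M) = ⊤ := hM.2 _ hlt
      have hgH : g ∈ H := by
        have : x ∈ H.comap (QuotientGroup.mk' M) := by rw [htop]; trivial
        exact this
      obtain ⟨k, hk⟩ := Subgroup.mem_zpowers_iff.mp hgH
      -- g = g^(p k) so g^(p k - 1) = 1
      have h1 : g ^ ((p : ℤ) * k - 1) = 1 := by
        rw [zpow_sub, zpow_one, zpow_mul, zpow_natCast, hk, mul_inv_cancel]
      obtain ⟨n, hn⟩ := (hP.to_quotient M) g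
      have h2 : (orderOf g : ℤ) ∣ (p : ℤ) * k - 1 := orderOf_dvd_iff_zpow_eq_one.mpr h1
      have h3 : orderOf g ∣ p ^ n := orderOf_dvd_of_pow_eq_one hn
      obtain ⟨m, hm, hm'⟩ := (Nat.dvd_prime_pow (Fact.out : p.Prime)).mp h3
      have hg1 : orderOf g = 1 := by
        rcases Nat.eq_zero_or_pos m with h0 | hpos
        · rw [hm', h0, pow_zero]
        · exfalso
          have hpd : (p : ℤ) ∣ (orderOf g : ℤ) := by
            rw [hm']
            exact_mod_cast dvd_pow_self p hpos.ne'
          have h4 : (p : ℤ) ∣ (p : ℤ) * k - 1 := hpd.trans h2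
          have h5 : (p : ℤ) ∣ 1 := by
            have h6 : (p : ℤ) ∣ (p : ℤ) * k := dvd_mul_right _ _
            have := dvd_sub h6 h4
            simpa using this
          have h7 := Int.natAbs_dvd_natAbs.mpr h5
          simp at h7
          exact (Fact.out : p.Prime).one_lt.ne' h7
      rw [orderOf_eq_one_iff] at hg1
      rw [hg1, one_pow]
  have : (QuotientGroup.mk (x ^ p) : P ⧸ M) = 1 := by
    rw [QuotientGroup.mk_pow]; exact hgp
  exact (QuotientGroup.eq_one_iff _).1 this

/-- In a finite `p`-group, `p`-th powers lie in the Frattini subgroup. -/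
theorem pow_mem_frattini_of_isPGroup {P : Type*} [Group P] [Finite P] {p : ℕ} [Fact p.Prime]
    (hP : IsPGroup p P) (x : P) : x ^ p ∈ frattini P := by
  unfold frattini Order.radical
  rw [Subgroup.mem_iInf]
  intro M
  rw [Subgroup.mem_iInf]
  intro hM
  exact pow_mem_coatom_of_isPGroup hP M hM x

end Cfsg.Agent.Lib.Helper11
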