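import Mathlib
import Cfsg.Prelude.Def_Transfer

set_option autoImplicit false

namespace Cfsg.Agent.Lib.Helper11

open Subgroup

/-- Membership in a conjugate of a Sylow subgroup, elementwise. -/
theorem mem_smul_sylow_iff {G : Type*} [Group G] {p : ℕ} (P : Sylow p G) (v z : G) :
    z ∈ ((v • P : Sylow p G) : Subgroup G) ↔ v⁻¹ * z * v ∈ (P : Subgroup G) := by
  constructor
  · rintro ⟨s, hs, hsz⟩
    have hz : z = v * s * v⁻¹ := hsz.symm
    have : v⁻¹ * z * v = s := by rw [hz]; group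
    rw [this]; exact hs
  · intro h
    refine ⟨v⁻¹ * z * v, h, ?_⟩
    change v * (v⁻¹ * z * v) * v⁻¹ = z
    group

/-- If `Z ≤ Z(P)` is weakly closed in the Sylow `p`-subgroup `P`, then `N_G(Z)` controls
`G`-fusion of elements of `P`. -/
theorem exists_normalizer_conj_of_weaklyClosed {G : Type*} [Group G] [Finite G] {p : ℕ}
    [Fact p.Prime] (P : Sylow p G) (Z : Subgroup G)
    (hZ : Z ≤ centralizer (P : Set G)) (hW : Cfsg.IsWeaklyClosed Z P)
    (a b u : G) (ha : a ∈ P) (hb : b ∈ P) (hab : u * a * u⁻¹ = b) :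
    ∃ n ∈ normalizer (Z : Set G), n * a * n⁻¹ = b := by
  obtain ⟨hZP, hclosed⟩ := hW
  have hZpg : IsPGroup p Z := P.2.to_le hZP
  -- the centralizer of b
  set C : Subgroup G := centralizer ({b} : Set G) with hC
  have hcomm : ∀ z ∈ Z, ∀ s ∈ P, s * z = z * s := fun z hz s hs =>
    (mem_centralizer_iff.mp (hZ hz)) s hs
  have hZC : Z ≤ C := by
    intro z hz
    rw [hC, mem_centralizer_iff]
    rintro h rfl
    exact hcomm z hz h hb
  set Zu : Subgroup G := Z.map (MulAut.conj u).toMonoidHom with hZu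
  have hZuC : Zu ≤ C := by
    rintro w ⟨z, hz, rfl⟩
    rw [hC, mem_centralizer_iff]
    rintro h rfl
    have h1 := hcomm z hz a ha
    change h * (u * z * u⁻¹) = (u * z * u⁻¹) * h
    rw [← hab]
    calc u * a * u⁻¹ * (u * z * u⁻¹) = u * (a * z) * u⁻¹ := by group
      _ = u * (z * a) * u⁻¹ := by rw [h1]
      _ = u * z * u⁻¹ * (u * a * u⁻¹) := by group
  have hA : IsPGroup p (Z.subgroupOf C) := hZpg.comap_subtype
  have hB : IsPGroup p (Zu.subgroupOf C) := (hZpg.map _).comap_subtype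
  obtain ⟨S1, hS1⟩ := hA.exists_le_sylow
  obtain ⟨S2, hS2⟩ := hB.exists_le_sylow
  obtain ⟨c, hc⟩ := MulAction.exists_smul_eq C S2 S1
  have hT : IsPGroup p ((S1 : Subgroup C).map C.subtype) := S1.2.map _
  obtain ⟨Q, hQ⟩ := hT.exists_le_sylow
  obtain ⟨v, hv⟩ := MulAction.exists_smul_eq G P Q
  -- elements of Z lie in Q
  have hZQ : ∀ z ∈ Z, v⁻¹ * z * v ∈ (P : Subgroup G) := by
    intro z hz
    rw [← mem_smul_sylow_iff, hv]
    apply hQ
    exact ⟨⟨z, hZC hz⟩, hS1 (mem_subgroupOf.mpr hz), rfl⟩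
  have hZuQ : ∀ z ∈ Z, v⁻¹ * ((c : G) * (u * z * u⁻¹) * (c : G)⁻¹) * v ∈ (P : Subgroup G) := by
    intro z hz
    rw [← mem_smul_sylow_iff, hv]
    apply hQ
    have hw : u * z * u⁻¹ ∈ Zu := ⟨z, hz, rfl⟩
    have hw2 : (⟨u * z * u⁻¹, hZuC hw⟩ : C) ∈ (S2 : Subgroup C) := hS2 (mem_subgroupOf.mpr hw)
    have hw3 : c * ⟨u * z * u⁻¹, hZuC hw⟩ * c⁻¹ ∈ ((c • S2 : Sylow p C) : Subgroup C) := by
      rw [mem_smul_sylow_iff]
      have : c⁻¹ * (c * ⟨u * z * u⁻¹, hZuC hw⟩ * c⁻¹) * c = ⟨u * z * u⁻¹, hZuC hw⟩ := by group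
      rw [this]; exact hw2
    rw [hc] at hw3
    exact ⟨_, hw3, rfl⟩
  -- v⁻¹ normalizes Z
  have h1 : Z.map (MulAut.conj v⁻¹).toMonoidHom = Z := by
    apply hclosed
    rintro w ⟨z, hz, rfl⟩
    have := hZQ z hz
    change v⁻¹ * z * v⁻¹⁻¹ ∈ (P : Subgroup G)
    rwa [inv_inv]
  have h2 : Z.map (MulAut.conj (v⁻¹ * (c : G) * u)).toMonoidHom = Z := by
    apply hclosed
    rintro w ⟨z, hz, rfl⟩
    have := hZuQ z hz
    change (v⁻¹ * (c : G) * u) * z * (v⁻¹ * (c : G) * u)⁻¹ ∈ (P : Subgroup G)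
    have e : (v⁻¹ * (c : G) * u) * z * (v⁻¹ * (c : G) * u)⁻¹ =
        v⁻¹ * ((c : G) * (u * z * u⁻¹) * (c : G)⁻¹) * v := by group
    rw [e]; exact this
  have hn1 : v⁻¹ ∈ normalizer (Z : Set G) := mem_normalizer_iff_map_conj_eq.mpr h1
  have hn2 : v⁻¹ * (c : G) * u ∈ normalizer (Z : Set G) := mem_normalizer_iff_map_conj_eq.mpr h2
  have hn : (c : G) * u ∈ normalizer (Z : Set G) := by
    have : (c : G) * u = (v⁻¹)⁻¹ * (v⁻¹ * (c : G) * u) := by group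
    rw [this]
    exact Subgroup.mul_mem _ (Subgroup.inv_mem _ hn1) hn2
  refine ⟨(c : G) * u, hn, ?_⟩
  have hcb : b * (c : G) = (c : G) * b := by
    have hc2 : (c : G) ∈ centralizer ({b} : Set G) := c.2
    exact (mem_centralizer_iff.mp hc2) b rfl
  calc (c : G) * u * a * ((c : G) * u)⁻¹ = (c : G) * (u * a * u⁻¹) * (c : G)⁻¹ := by group
    _ = (c : G) * b * (c : G)⁻¹ := by rw [hab]
    _ = b := by rw [← hcb]; group

end Cfsg.Agent.Lib.Helper11
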