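import Mathlib
import Cfsg.Agent.S0086
import Cfsg.Agent.Lib.Helper11.WeaklyClosed

/-!
Frobenius' normal `p`-complement theorem, fusion form (helper11):
if a Sylow `p`-subgroup `P` of a finite group controls its own fusion, then `P` has a normal
complement.
-/

set_option autoImplicit false

namespace Cfsg.Agent.Lib.Helper11

open Subgroup
open scoped commutatorElement

universe u

/-- For a normal subgroup `N`, `|N : P ∩ N|` divides `|G : P|`. -/
theorem relIndex_dvd_index_of_normal_right {G : Type*} [Group G] [Finite G] (P N : Subgroup G)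
    [N.Normal] : P.relIndex N ∣ P.index := by
  have h1 : (P ⊓ N).relIndex N * N.relIndex (P ⊔ N) = (P ⊓ N).relIndex (P ⊔ N) :=
    relIndex_mul_relIndex _ _ _ inf_le_right le_sup_right
  have h2 : (P ⊓ N).relIndex P * P.relIndex (P ⊔ N) = (P ⊓ N).relIndex (P ⊔ N) :=
    relIndex_mul_relIndex _ _ _ inf_le_left le_sup_left
  have h3 : N.relIndex (P ⊔ N) = N.relIndex P := relIndex_sup_right P N
  have h4 : (P ⊓ N).relIndex P = N.relIndex P := inf_relIndex_left P N
  have h5 : (P ⊓ N).relIndex N = P.relIndex N := inf_relIndex_right P N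
  rw [h3, h5] at h1
  rw [h4] at h2
  have hne : N.relIndex P ≠ 0 := by
    have : (N.subgroupOf P).index ≠ 0 := Subgroup.index_ne_zero_of_finite
    exact this
  have h6 : P.relIndex N = P.relIndex (P ⊔ N) := by
    have : P.relIndex N * N.relIndex P = P.relIndex (P ⊔ N) * N.relIndex P := by
      rw [h1, ← h2, mul_comm]
    exact Nat.eq_of_mul_eq_mul_right (Nat.pos_of_ne_zero hne) this
  rw [h6]
  exact relIndex_dvd_index_of_le le_sup_left

/-- A normal subgroup of order prime to `p` and `p`-power index is a complement to every Sylow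
`p`-subgroup. -/
theorem isComplement'_sylow_of_coprime_of_index {G : Type*} [Group G] [Finite G] {p : ℕ}
    [Fact p.Prime] (P : Sylow p G) (K : Subgroup G) (hK : ¬ p ∣ Nat.card K) (a : ℕ)
    (hidx : K.index = p ^ a) : K.IsComplement' (P : Subgroup G) := by
  have hp : p.Prime := Fact.out
  have h1 : Nat.card K * K.index = Nat.card G := K.card_mul_index
  have hKpos : Nat.card K ≠ 0 := Nat.card_pos.ne'
  have hfac : (Nat.card G).factorization p = a := by
    rw [← h1, hidx, Nat.factorization_mul hKpos (pow_ne_zero _ hp.ne_zero)]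
    simp [Nat.factorization_eq_zero_of_not_dvd hK, hp.factorization_self]
  have hP : Nat.card (P : Subgroup G) = p ^ a := by
    rw [← hfac]; exact P.card_eq_multiplicity
  apply isComplement'_of_coprime
  · rw [hP, ← hidx]; exact h1
  · rw [hP]
    exact Nat.Coprime.pow_right a ((Nat.Prime.coprime_iff_not_dvd hp).mpr hK).symm

/-- `P` controls its own fusion in `G`. -/
def ControlsOwnFusion {G : Type*} [Group G] (P : Subgroup G) : Prop :=
  ∀ x ∈ P, ∀ g : G, g * x * g⁻¹ ∈ P → ∃ u ∈ P, g * x * g⁻¹ = u * x * u⁻¹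

/-- If a Sylow subgroup `P` controls its own fusion, then `C_P(x)` is a Sylow subgroup of
`C_G(x)` for every `x ∈ P`. -/
theorem not_dvd_index_centralizer_of_fusion {G : Type*} [Group G] [Finite G] {p : ℕ}
    [Fact p.Prime] (P : Sylow p G) (hfus : ControlsOwnFusion (P : Subgroup G))
    (x : G) (hx : x ∈ (P : Subgroup G)) :
    ¬ p ∣ ((P : Subgroup G).subgroupOf (centralizer ({x} : Set G))).index := by
  set C : Subgroup G := centralizer ({x} : Set G) with hC
  have hxC : x ∈ C := by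
    rw [hC, mem_centralizer_iff]; rintro y rfl; rfl
  have hCmem : ∀ s ∈ C, s * x * s⁻¹ = x := by
    intro s hs
    rw [hC, mem_centralizer_iff] at hs
    have := hs x rfl
    rw [← this]; group
  set Cp : Subgroup C := (P : Subgroup G).subgroupOf C with hCp
  have hCpg : IsPGroup p Cp := P.2.comap_subtype
  obtain ⟨S, hS⟩ := hCpg.exists_le_sylow
  have hT : IsPGroup p ((S : Subgroup C).map C.subtype) := S.2.map _
  obtain ⟨Q, hQ⟩ := hT.exists_le_sylow
  obtain ⟨g, hg⟩ := MulAction.exists_smul_eq G P Q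
  have hTP : ∀ s ∈ (S : Subgroup C).map C.subtype, g⁻¹ * s * g ∈ (P : Subgroup G) := by
    intro s hs
    rw [← mem_smul_sylow_iff, hg]
    exact hQ hs
  have hxT : x ∈ (S : Subgroup C).map C.subtype :=
    ⟨⟨x, hxC⟩, hS (mem_subgroupOf.mpr hx), rfl⟩
  have h1 : g⁻¹ * x * g⁻¹⁻¹ ∈ (P : Subgroup G) := by
    rw [inv_inv]; exact hTP x hxT
  obtain ⟨u, hu, hux⟩ := hfus x hx g⁻¹ h1
  rw [inv_inv] at hux
  -- conjugation by (g u)⁻¹ maps T into P ⊓ C
  set w : G := (g * u)⁻¹ with hw
  have hmap : ((S : Subgroup C).map C.subtype).map (MulAut.conj w).toMonoidHom ≤ (P : Subgroup G) ⊓ C := by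
    rintro z ⟨s, hs, rfl⟩
    have hsC : s ∈ C := by
      obtain ⟨s', -, rfl⟩ := hs
      exact s'.2
    have hz : (MulAut.conj w).toMonoidHom s = u⁻¹ * (g⁻¹ * s * g) * u := by
      change w * s * w⁻¹ = _
      rw [hw]; group
    rw [hz, Subgroup.mem_inf]
    refine ⟨?_, ?_⟩
    · exact Subgroup.mul_mem _ (Subgroup.mul_mem _ (Subgroup.inv_mem _ hu) (hTP s hs)) hu
    · rw [hC, mem_centralizer_iff]
      rintro y rfl
      have e1 := hCmem s hsC
      -- x = u⁻¹ g⁻¹ (s x s⁻¹) g u conjugated back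
      have e2 : g * (u * y * u⁻¹) * g⁻¹ = y := by
        rw [← hux]; group
      have e3 : (u⁻¹ * (g⁻¹ * s * g) * u) * y * (u⁻¹ * (g⁻¹ * s * g) * u)⁻¹ = y := by
        calc (u⁻¹ * (g⁻¹ * s * g) * u) * y * (u⁻¹ * (g⁻¹ * s * g) * u)⁻¹
            = u⁻¹ * (g⁻¹ * (s * (g * (u * y * u⁻¹) * g⁻¹) * s⁻¹) * g) * u := by group
          _ = u⁻¹ * (g⁻¹ * (s * y * s⁻¹) * g) * u := by rw [e2]
          _ = u⁻¹ * (g⁻¹ * y * g) * u := by rw [e1]
          _ = u⁻¹ * (u * y * u⁻¹) * u := by rw [hux]
          _ = y := by group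
      have : (u⁻¹ * (g⁻¹ * s * g) * u) * y = y * (u⁻¹ * (g⁻¹ * s * g) * u) := by
        nth_rewrite 2 [← e3]
        group
      exact this.symm
  have hcard1 : Nat.card (((S : Subgroup C).map C.subtype).map (MulAut.conj w).toMonoidHom) =
      Nat.card (S : Subgroup C) := by
    rw [Subgroup.card_map_of_injective (MulAut.conj w).injective,
      Subgroup.card_map_of_injective C.subtype_injective]
  have hcard2 : Nat.card Cp = Nat.card ((P : Subgroup G) ⊓ C : Subgroup G) := by
    rw [hCp, ← Subgroup.inf_subgroupOf_right]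
    exact Nat.card_congr (Subgroup.subgroupOfEquivOfLe inf_le_right).toEquiv
  have hle : Nat.card (S : Subgroup C) ≤ Nat.card Cp := by
    rw [← hcard1, hcard2]
    exact Nat.le_of_dvd Nat.card_pos (Subgroup.card_dvd_of_le hmap)
  have heq : Cp = (S : Subgroup C) := Subgroup.eq_of_le_of_card_ge hS hle
  rw [heq]
  exact S.not_dvd_index

/-- If `P` controls its own fusion in `G` and `N` is a normal subgroup of `p`-power index, then
`P ⊓ N` controls its own fusion in `N`. -/
theorem fusion_in_normal_of_fusion {G : Type*} [Group G] [Finite G] {p : ℕ}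
    [Fact p.Prime] (P : Sylow p G) (hfus : ControlsOwnFusion (P : Subgroup G))
    (N : Subgroup G) [N.Normal] (k : ℕ) (hN : N.index = p ^ k)
    (x : G) (hxP : x ∈ (P : Subgroup G)) (n : G) (hn : n ∈ N)
    (hy : n * x * n⁻¹ ∈ (P : Subgroup G)) :
    ∃ q ∈ (P : Subgroup G) ⊓ N, n * x * n⁻¹ = q * x * q⁻¹ := by
  obtain ⟨u, hu, hux⟩ := hfus x hxP n hy
  set C : Subgroup G := centralizer ({x} : Set G) with hC
  have hcC : u⁻¹ * n ∈ C := by
    rw [hC, mem_centralizer_iff]
    rintro y rfl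
    have : (u⁻¹ * n) * y * (u⁻¹ * n)⁻¹ = y := by
      calc (u⁻¹ * n) * y * (u⁻¹ * n)⁻¹ = u⁻¹ * (n * y * n⁻¹) * u := by group
        _ = u⁻¹ * (u * y * u⁻¹) * u := by rw [hux]
        _ = y := by group
    nth_rewrite 1 [← this]
    group
  set Cp : Subgroup C := (P : Subgroup G).subgroupOf C with hCp
  set CN : Subgroup C := N.subgroupOf C with hCN
  have hCNn : CN.Normal := Subgroup.Normal.subgroupOf inferInstance C
  have h1 : ¬ p ∣ Cp.index := not_dvd_index_centralizer_of_fusion P hfus x hxP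
  have h2 : CN.index ∣ p ^ k := by
    rw [← hN]; exact relIndex_dvd_index_of_normal N C
  have htop : Cp ⊔ CN = ⊤ := by
    rw [← Subgroup.index_eq_one]
    by_contra hne
    obtain ⟨r, hr, hrd⟩ := Nat.exists_prime_and_dvd hne
    have h3 : r ∣ Cp.index := hrd.trans (Subgroup.index_dvd_of_le le_sup_left)
    have h4 : r ∣ p ^ k := (hrd.trans (Subgroup.index_dvd_of_le le_sup_right)).trans h2
    have h5 : r = p := (Nat.prime_dvd_prime_iff_eq hr Fact.out).mp (hr.dvd_of_dvd_pow h4)
    exact h1 (h5 ▸ h3)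
  have hmem : (⟨u⁻¹ * n, hcC⟩ : C) ∈ Cp ⊔ CN := by rw [htop]; trivial
  obtain ⟨d, hd, e, he, hde⟩ := Subgroup.mem_sup_of_normal_right.mp hmem
  have hdP : (d : G) ∈ (P : Subgroup G) := mem_subgroupOf.mp hd
  have heN : (e : G) ∈ N := mem_subgroupOf.mp he
  have hde' : (d : G) * (e : G) = u⁻¹ * n := congrArg Subtype.val hde
  have hdx : (d : G) * x * (d : G)⁻¹ = x := by
    have hd2 : (d : G) ∈ centralizer ({x} : Set G) := d.2
    have h := (mem_centralizer_iff.mp hd2) x rfl
    rw [← h]; group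
  refine ⟨u * (d : G), ⟨Subgroup.mul_mem _ hu hdP, ?_⟩, ?_⟩
  · have : u * (d : G) = n * (e : G)⁻¹ := by
      have : (d : G) = u⁻¹ * n * (e : G)⁻¹ := by rw [← hde']; group
      rw [this]; group
    rw [this]
    exact Subgroup.mul_mem _ hn (Subgroup.inv_mem _ heN)
  · rw [hux]
    calc u * x * u⁻¹ = u * ((d : G) * x * (d : G)⁻¹) * u⁻¹ := by rw [hdx]
      _ = u * (d : G) * x * (u * (d : G))⁻¹ := by group

/-- If `P` controls its own fusion, its focal subgroup is its derived subgroup. -/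
theorem focalSubgroup_le_commutator_of_fusion {G : Type*} [Group G] (P : Subgroup G)
    (hfus : ControlsOwnFusion P) : P.focalSubgroup ≤ ⁅P, P⁆ := by
  rw [Subgroup.focalSubgroup_def, Subgroup.closure_le]
  rintro g ⟨hgP, x, hx, u, rfl⟩
  have hux : u * x⁻¹ * u⁻¹ ∈ P := by
    have : u * x⁻¹ * u⁻¹ = x⁻¹ * ⁅x, u⁆ := by rw [commutatorElement_def]; group
    rw [this]
    exact P.mul_mem (P.inv_mem hx) hgP
  obtain ⟨z, hz, hzx⟩ := hfus x⁻¹ (P.inv_mem hx) u hux
  have : ⁅x, u⁆ = ⁅x, z⁆ := by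
    rw [commutatorElement_def, commutatorElement_def]
    calc x * u * x⁻¹ * u⁻¹ = x * (u * x⁻¹ * u⁻¹) := by group
      _ = x * (z * x⁻¹ * z⁻¹) := by rw [hzx]
      _ = x * z * x⁻¹ * z⁻¹ := by group
  rw [SetLike.mem_coe, this]
  exact Subgroup.commutator_mem_commutator hx hz

/-- A nontrivial finite `p`-subgroup is not contained in its own derived subgroup. -/
theorem not_le_commutator_of_ne_bot {G : Type*} [Group G] [Finite G] {p : ℕ} [Fact p.Prime]
    (P : Subgroup G) (hP : IsPGroup p P) (hne : P ≠ ⊥) : ¬ P ≤ ⁅P, P⁆ := by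
  intro hPle
  have hnt : Nontrivial P := (Subgroup.nontrivial_iff_ne_bot P).mpr hne
  have hnil : Group.IsNilpotent P := hP.isNilpotent
  have hlt := Group.IsSolvable.commutator_lt_top_of_nontrivial (G := P)
  have : commutator P = ⊤ := by
    rw [eq_top_iff]
    intro x _
    have hx : (x : G) ∈ ⁅P, P⁆ := hPle x.2
    rw [← Subgroup.map_subtype_commutator] at hx
    obtain ⟨y, hy, hyx⟩ := hx
    have : y = x := Subtype.ext hyx
    rw [← this]; exact hy
  exact hlt.ne this

/-- **Frobenius' normal `p`-complement theorem** (fusion form), by induction on the order. -/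
theorem exists_normal_complement_of_fusion_aux (n : ℕ) : ∀ (G : Type u) [Group G] [Finite G],
    Nat.card G = n → ∀ (p : ℕ) [Fact p.Prime] (P : Sylow p G),
    ControlsOwnFusion (P : Subgroup G) →
    ∃ K : Subgroup G, K.Normal ∧ K.IsComplement' (P : Subgroup G) := by
  induction n using Nat.strong_induction_on with
  | _ n ih =>
  intro G _ _ hn p _ P hfus
  have hp : p.Prime := Fact.out
  by_cases hPbot : (P : Subgroup G) = ⊥
  · exact ⟨⊤, inferInstance, hPbot ▸ isComplement'_top_bot⟩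
  -- the kernel of the transfer into P / P*
  set V := (P : Subgroup G).transferFocal with hV
  set N : Subgroup G := V.ker with hN
  have hVsurj : Function.Surjective V := Subgroup.transferFocal_surjective P
  have hNP : N ⊓ (P : Subgroup G) = (P : Subgroup G).focalSubgroup :=
    Subgroup.ker_transferFocal_inf_eq_focalSubgroup P
  obtain ⟨k, hk⟩ : ∃ k : ℕ, N.index = p ^ k := by
    have h1 : N.index = Nat.card ((P : Subgroup G) ⧸ (P : Subgroup G).focalSubgroupOf) := by
      rw [hN, Subgroup.index_ker, MonoidHom.range_eq_top.mpr hVsurj, Subgroup.card_top]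
    rw [h1]
    exact IsPGroup.iff_card.mp (P.2.to_quotient _)
  have hNtop : N ≠ ⊤ := by
    intro htop
    rw [htop, top_inf_eq] at hNP
    apply not_le_commutator_of_ne_bot (P : Subgroup G) P.2 hPbot
    calc (P : Subgroup G) = (P : Subgroup G).focalSubgroup := hNP
      _ ≤ _ := focalSubgroup_le_commutator_of_fusion _ hfus
  have hNlt : Nat.card N < n := by
    rw [← hn]
    have : Nat.card N < Nat.card (⊤ : Subgroup G) :=
      Set.ncard_lt_ncard (s := (N : Set G)) (t := ((⊤ : Subgroup G) : Set G))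
        (by exact_mod_cast lt_top_iff_ne_top.mpr hNtop) (Set.toFinite _)
    rwa [Subgroup.card_top] at this
  -- the Sylow subgroup of N
  set Q₀ : Subgroup N := (P : Subgroup G).subgroupOf N with hQ₀
  have hQ₀p : IsPGroup p Q₀ := P.2.comap_subtype
  have hQ₀idx : ¬ p ∣ Q₀.index := by
    intro h
    exact P.not_dvd_index (h.trans (relIndex_dvd_index_of_normal_right (P : Subgroup G) N))
  set Q : Sylow p N := hQ₀p.toSylow hQ₀idx with hQ
  have hQcoe : (Q : Subgroup N) = Q₀ := rfl
  have hfusN : ControlsOwnFusion (Q : Subgroup N) := by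
    intro x hx g hy
    have hxP : (x : G) ∈ (P : Subgroup G) := mem_subgroupOf.mp hx
    have hyP : (g : G) * (x : G) * (g : G)⁻¹ ∈ (P : Subgroup G) := mem_subgroupOf.mp hy
    obtain ⟨q, ⟨hqP, hqN⟩, hq⟩ := fusion_in_normal_of_fusion P hfus N k hk (x : G) hxP (g : G) g.2 hyP
    refine ⟨⟨q, hqN⟩, mem_subgroupOf.mpr hqP, Subtype.ext ?_⟩
    exact hq
  obtain ⟨K, hKn, hK⟩ := ih (Nat.card N) hNlt N rfl p Q hfusN
  -- K consists of the p'-elements of N
  have hKmem : ∀ x : N, x ∈ K ↔ Nat.Coprime (orderOf x) p :=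
    fun x => Cfsg.Agent.S0086.result Q K hK x
  set K₀ : Subgroup G := K.map N.subtype with hK₀
  have hK₀n : K₀.Normal := by
    constructor
    rintro z ⟨y, hy, rfl⟩ g
    have hyN : g * (y : G) * g⁻¹ ∈ N := (inferInstance : N.Normal).conj_mem _ y.2 g
    refine ⟨⟨g * (y : G) * g⁻¹, hyN⟩, ?_, rfl⟩
    apply (hKmem _).mpr
    rw [← Subgroup.orderOf_coe]
    have h1 : orderOf (g * (y : G) * g⁻¹) = orderOf (y : G) :=
      ((SemiconjBy.conj_mk g (y : G)).orderOf_eq g).symm
    change Nat.Coprime (orderOf (g * (y : G) * g⁻¹)) p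
    rw [h1, Subgroup.orderOf_coe]
    exact (hKmem y).mp hy
  -- order and index of K₀
  have hKcard : Nat.card K₀ = Nat.card K :=
    Subgroup.card_map_of_injective N.subtype_injective
  have hKQ : Nat.card K = Q₀.index := hK.index_eq_card.symm
  have hK₀p : ¬ p ∣ Nat.card K₀ := by rw [hKcard, hKQ]; exact hQ₀idx
  obtain ⟨m, hm⟩ : ∃ m : ℕ, K.index = p ^ m := by
    have h1 : K.index = Nat.card (Q : Subgroup N) := hK.symm.index_eq_card
    rw [h1]
    exact IsPGroup.iff_card.mp Q.2
  have hK₀idx : K₀.index = p ^ (m + k) := by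
    rw [hK₀, Subgroup.index_map_subtype, hm, hk, pow_add]
  exact ⟨K₀, hK₀n, isComplement'_sylow_of_coprime_of_index P K₀ hK₀p (m + k) hK₀idx⟩

/-- **Frobenius' normal `p`-complement theorem** (fusion form): a Sylow `p`-subgroup that
controls its own fusion has a normal complement. -/
theorem exists_normal_complement_of_fusion {G : Type u} [Group G] [Finite G] {p : ℕ}
    [Fact p.Prime] (P : Sylow p G) (hfus : ControlsOwnFusion (P : Subgroup G)) :
    ∃ K : Subgroup G, K.Normal ∧ K.IsComplement' (P : Subgroup G) :=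
  exists_normal_complement_of_fusion_aux (Nat.card G) G rfl p P hfus

/-- A normal complement of `P` forces `P` to control its own fusion. -/
theorem controlsOwnFusion_of_normal_complement {G : Type*} [Group G] (P K : Subgroup G)
    [hKn : K.Normal] (hK : K.IsComplement' P) : ControlsOwnFusion P := by
  intro x hx g hy
  obtain ⟨⟨⟨k, hk⟩, ⟨u, hu⟩⟩, hku, -⟩ := (Subgroup.isComplement'_def.mp hK).existsUnique g
  simp only at hku
  refine ⟨u, hu, ?_⟩
  set x' := u * x * u⁻¹ with hx'
  have hx'P : x' ∈ P := P.mul_mem (P.mul_mem hu hx) (P.inv_mem hu)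
  have hgx : g * x * g⁻¹ = k * x' * k⁻¹ := by rw [← hku, hx']; group
  have h1 : k * x' * k⁻¹ * x'⁻¹ ∈ K := by
    have h2 : x' * k⁻¹ * x'⁻¹ ∈ K := hKn.conj_mem _ (K.inv_mem hk) x'
    have : k * x' * k⁻¹ * x'⁻¹ = k * (x' * k⁻¹ * x'⁻¹) := by group
    rw [this]; exact K.mul_mem hk h2
  have h3 : k * x' * k⁻¹ * x'⁻¹ ∈ P := P.mul_mem (hgx ▸ hy) (P.inv_mem hx'P)
  have h4 : k * x' * k⁻¹ * x'⁻¹ ∈ K ⊓ P := ⟨h1, h3⟩
  rw [hK.disjoint.eq_bot, Subgroup.mem_bot] at h4
  rw [hgx]
  calc k * x' * k⁻¹ = (k * x' * k⁻¹ * x'⁻¹) * x' := by group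
    _ = x' := by rw [h4, one_mul]

/-- In a finite nilpotent group, conjugation of an element of a Sylow subgroup by any element can be
achieved by an element of that Sylow subgroup. -/
theorem exists_sylow_conj_of_isNilpotent {H : Type*} [Group H] [Finite H] [Group.IsNilpotent H]
    {p : ℕ} [Fact p.Prime] (P : Sylow p H) (x : H) (hx : x ∈ (P : Subgroup H)) (h : H) :
    ∃ u ∈ (P : Subgroup H), h * x * h⁻¹ = u * x * u⁻¹ := by
  set C : Subgroup H := centralizer ({x} : Set H) with hC
  have hPn : (P : Subgroup H).Normal := inferInstance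
  have htop : (P : Subgroup H) ⊔ C = ⊤ := by
    rw [← Subgroup.index_eq_one]
    by_contra hne
    obtain ⟨q, hq, hqd⟩ := Nat.exists_prime_and_dvd hne
    haveI : Fact q.Prime := ⟨hq⟩
    by_cases hqp : q = p
    · subst hqp
      exact P.not_dvd_index (hqd.trans (Subgroup.index_dvd_of_le le_sup_left))
    · obtain ⟨Q⟩ : Nonempty (Sylow q H) := inferInstance
      have hQn : (Q : Subgroup H).Normal := inferInstance
      have hdis : Disjoint (P : Subgroup H) (Q : Subgroup H) :=
        IsPGroup.disjoint_of_ne p q (Ne.symm hqp) _ _ P.2 Q.2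
      have hQC : (Q : Subgroup H) ≤ C := by
        intro y hy
        rw [hC, mem_centralizer_iff]
        rintro z rfl
        exact (Subgroup.commute_of_normal_of_disjoint _ _ hPn hQn hdis z y hx hy).eq
      exact Q.not_dvd_index (hqd.trans (Subgroup.index_dvd_of_le (hQC.trans le_sup_right)))
  have hmem : h ∈ (P : Subgroup H) ⊔ C := by rw [htop]; trivial
  obtain ⟨u, hu, c, hc, huc⟩ := Subgroup.mem_sup_of_normal_left.mp hmem
  refine ⟨u, hu, ?_⟩
  have hcx : c * x * c⁻¹ = x := by
    rw [hC, mem_centralizer_iff] at hc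
    have := hc x rfl
    rw [← this]; group
  rw [← huc]
  calc u * c * x * (u * c)⁻¹ = u * (c * x * c⁻¹) * u⁻¹ := by group
    _ = u * x * u⁻¹ := by rw [hcx]

/-- A `q`-subgroup lies in every normal subgroup of `p`-power index, `p ≠ q`. -/
theorem le_of_isPGroup_of_index_pow {G : Type*} [Group G] {p q : ℕ} (hp : p.Prime) (hq : q.Prime)
    (hpq : p ≠ q) (K : Subgroup G) [K.Normal] (a : ℕ) (hK : K.index = p ^ a) (Q : Subgroup G)
    (hQ : IsPGroup q Q) : Q ≤ K := by
  intro x hx
  obtain ⟨j, hj⟩ := hQ ⟨x, hx⟩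
  have hxj : x ^ q ^ j = 1 := by
    have := congrArg Subtype.val hj
    simpa using this
  have h1 : orderOf (QuotientGroup.mk x : G ⧸ K) ∣ q ^ j :=
    orderOf_dvd_of_pow_eq_one (by rw [← QuotientGroup.mk_pow, hxj]; rfl)
  have h2 : orderOf (QuotientGroup.mk x : G ⧸ K) ∣ p ^ a := by
    have hfin : K.index ≠ 0 := by rw [hK]; exact pow_ne_zero _ hp.ne_zero
    haveI : K.FiniteIndex := ⟨hfin⟩
    haveI : Finite (G ⧸ K) := Subgroup.finite_quotient_of_finiteIndex
    have := orderOf_dvd_natCard (QuotientGroup.mk x : G ⧸ K)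
    rwa [← Subgroup.index_eq_card, hK] at this
  have hcop : Nat.Coprime (q ^ j) (p ^ a) :=
    Nat.Coprime.pow _ _ ((Nat.coprime_primes hq hp).mpr (Ne.symm hpq))
  have h3 : orderOf (QuotientGroup.mk x : G ⧸ K) = 1 := Nat.eq_one_of_dvd_coprimes hcop h1 h2
  rw [orderOf_eq_one_iff] at h3
  exact (QuotientGroup.eq_one_iff x).1 h3

end Cfsg.Agent.Lib.Helper11
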