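import Mathlib
import Cfsg.Agent.Lib.Helper11.FrobeniusF

/-!
Frobenius' normal `p`-complement theorem, local form (helper11):
if for every `p`-subgroup `D` the `p'`-elements of `N_G(D)` centralize `D`, then a Sylow
`p`-subgroup controls its own fusion, hence has a normal complement.
-/

set_option autoImplicit false

namespace Cfsg.Agent.Lib.Helper11

open Subgroup
open scoped Pointwise

universe u

/-- Normalizers grow in finite `p`-groups. -/
theorem lt_inf_normalizer_of_lt {G : Type*} [Group G] [Finite G] {p : ℕ} [Fact p.Prime]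
    (S D : Subgroup G) (hS : IsPGroup p S) (hlt : D < S) :
    D < S ⊓ normalizer (D : Set G) := by
  haveI : Group.IsNilpotent S := hS.isNilpotent
  have hnc : NormalizerCondition S := Group.normalizerCondition_of_isNilpotent
  have hH : D.subgroupOf S < ⊤ := by
    rw [lt_top_iff_ne_top]
    intro h
    rw [Subgroup.subgroupOf_eq_top] at h
    exact (not_le_of_gt hlt) h
  have h1 := hnc _ hH
  rw [← Subgroup.subgroupOf_normalizer_eq hlt.le] at h1
  obtain ⟨y, hyN, hyD⟩ := SetLike.exists_of_lt h1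
  refine lt_of_le_of_ne (le_inf hlt.le le_normalizer) ?_
  intro heq
  apply hyD
  rw [mem_subgroupOf, heq]
  exact ⟨y.2, mem_subgroupOf.mp hyN⟩

/-- The local hypothesis: `p'`-elements of normalizers of `p`-subgroups centralize them. -/
def LocalPNilpotent (p : ℕ) (G : Type*) [Group G] : Prop :=
  ∀ D : Subgroup G, IsPGroup p D → ∀ g ∈ normalizer (D : Set G), Nat.Coprime (orderOf g) p →
    g ∈ centralizer (D : Set G)

/-- Under the local hypothesis, `N_G(D) = S₁ C_N(D)` for every Sylow `p`-subgroup `S₁` of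
`N_G(D)`. -/
theorem sylow_sup_centralizer_eq_top {G : Type*} [Group G] [Finite G] {p : ℕ} [Fact p.Prime]
    (hc : LocalPNilpotent p G) (D : Subgroup G) (hD : IsPGroup p D)
    (S₁ : Sylow p (normalizer (D : Set G))) :
    (S₁ : Subgroup (normalizer (D : Set G))) ⊔
      (centralizer (D : Set G)).subgroupOf (normalizer (D : Set G)) = ⊤ := by
  rw [← Subgroup.index_eq_one]
  by_contra hne
  obtain ⟨q, hq, hqd⟩ := Nat.exists_prime_and_dvd hne
  haveI : Fact q.Prime := ⟨hq⟩
  by_cases hqp : q = p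
  · subst hqp
    exact S₁.not_dvd_index (hqd.trans (Subgroup.index_dvd_of_le le_sup_left))
  · obtain ⟨Q⟩ : Nonempty (Sylow q (normalizer (D : Set G))) := inferInstance
    have hQC : (Q : Subgroup (normalizer (D : Set G))) ≤
        (centralizer (D : Set G)).subgroupOf (normalizer (D : Set G)) := by
      intro y hy
      rw [mem_subgroupOf]
      apply hc D hD (y : G) y.2
      obtain ⟨j, hj⟩ := Q.2 ⟨y, hy⟩
      have hyj : y ^ q ^ j = 1 := by
        have := congrArg Subtype.val hj
        simpa using this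
      have h1 : orderOf (y : G) ∣ q ^ j := by
        rw [Subgroup.orderOf_coe]; exact orderOf_dvd_of_pow_eq_one hyj
      have hcop : Nat.Coprime (q ^ j) p :=
        Nat.Coprime.pow_left _ ((Nat.coprime_primes hq Fact.out).mpr hqp)
      exact Nat.Coprime.coprime_dvd_left h1 hcop
    exact Q.not_dvd_index (hqd.trans (Subgroup.index_dvd_of_le (hQC.trans le_sup_right)))

/-- Under the local hypothesis, Sylow `p`-subgroups of `N_G(D)` are conjugate by elements of
`C_G(D)`. -/
theorem exists_centralizer_conj_sylow_normalizer {G : Type*} [Group G] [Finite G] {p : ℕ}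
    [Fact p.Prime] (hc : LocalPNilpotent p G) (D : Subgroup G) (hD : IsPGroup p D)
    (S₁ T₁ : Sylow p (normalizer (D : Set G))) :
    ∃ c : normalizer (D : Set G), (c : G) ∈ centralizer (D : Set G) ∧ c • S₁ = T₁ := by
  have hCNn : ((centralizer (D : Set G)).subgroupOf (normalizer (D : Set G))).Normal := by
    rw [← Subgroup.normalizerMonoidHom_ker]
    infer_instance
  have htop : (centralizer (D : Set G)).subgroupOf (normalizer (D : Set G)) ⊔
      (S₁ : Subgroup (normalizer (D : Set G))) = ⊤ := by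
    rw [sup_comm]; exact sylow_sup_centralizer_eq_top hc D hD S₁
  obtain ⟨n, hn⟩ := MulAction.exists_smul_eq (normalizer (D : Set G)) S₁ T₁
  have hmem : n ∈ (centralizer (D : Set G)).subgroupOf (normalizer (D : Set G)) ⊔
      (S₁ : Subgroup (normalizer (D : Set G))) := by rw [htop]; trivial
  obtain ⟨c, hcC, s, hs, hcs⟩ := Subgroup.mem_sup_of_normal_left.mp hmem
  refine ⟨c, mem_subgroupOf.mp hcC, ?_⟩
  have hsS : s • S₁ = S₁ := Sylow.smul_eq_iff_mem_normalizer.mpr (le_normalizer hs)
  rw [← hn, ← hcs, mul_smul, hsS]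

theorem card_lt_card_of_lt {G : Type*} [Group G] [Finite G] {M N : Subgroup G} (h : M < N) :
    Nat.card M < Nat.card N :=
  Set.ncard_lt_ncard (s := (M : Set G)) (t := (N : Set G)) (by exact_mod_cast h) (Set.toFinite _)

/-- Auxiliary: a `p`-subgroup `X` of `N` lies in a Sylow `p`-subgroup of `N`, which (viewed in
`G`) lies in a Sylow `p`-subgroup of `G`. -/
theorem exists_sylow_tower {G : Type*} [Group G] [Finite G] {p : ℕ} [Fact p.Prime]
    (N X : Subgroup G) (hX : IsPGroup p X) (hXN : X ≤ N) :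
    ∃ (S₁ : Sylow p N) (S' : Sylow p G), X ≤ (S₁ : Subgroup N).map N.subtype ∧
      (S₁ : Subgroup N).map N.subtype ≤ S' := by
  have hA : IsPGroup p (X.subgroupOf N) := hX.comap_subtype
  obtain ⟨S₁, hS₁⟩ := hA.exists_le_sylow
  have hS₁G : IsPGroup p ((S₁ : Subgroup N).map N.subtype) := S₁.2.map _
  obtain ⟨S', hS'⟩ := hS₁G.exists_le_sylow
  refine ⟨S₁, S', ?_, hS'⟩
  intro x hx
  exact ⟨⟨x, hXN hx⟩, hS₁ (mem_subgroupOf.mpr hx), rfl⟩

/-- Alperin-type lemma under the local hypothesis: two Sylow `p`-subgroups are conjugate by an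
element centralizing their intersection. -/
theorem exists_centralizer_conj_sylow_aux {G : Type*} [Group G] [Finite G] {p : ℕ} [Fact p.Prime]
    (hc : LocalPNilpotent p G) (k : ℕ) : ∀ S T : Sylow p G,
    Nat.card (S : Subgroup G) - Nat.card ((S : Subgroup G) ⊓ T : Subgroup G) = k →
    ∃ c ∈ centralizer (((S : Subgroup G) ⊓ T : Subgroup G) : Set G), c • S = T := by
  induction k using Nat.strong_induction_on with
  | _ k ih =>
  intro S T hk
  have hcardST : Nat.card (T : Subgroup G) = Nat.card (S : Subgroup G) := by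
    rw [S.card_eq_multiplicity, T.card_eq_multiplicity]
  by_cases hDS : (S : Subgroup G) ⊓ T = S
  · have hle : (S : Subgroup G) ≤ T := hDS ▸ inf_le_right
    have : (T : Subgroup G) = S := S.is_maximal' T.2 hle
    exact ⟨1, Subgroup.one_mem _, by rw [one_smul]; exact Sylow.ext this.symm⟩
  have hDT : (S : Subgroup G) ⊓ T ≠ T := by
    intro h
    have hle : (T : Subgroup G) ≤ S := h ▸ inf_le_left
    have : (S : Subgroup G) = T := T.is_maximal' S.2 hle
    exact hDS (by rw [this, inf_idem])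
  set D : Subgroup G := (S : Subgroup G) ⊓ T with hD
  have hDp : IsPGroup p D := S.2.to_le inf_le_left
  have hDltS : D < S := lt_of_le_of_ne inf_le_left hDS
  have hDltT : D < T := lt_of_le_of_ne inf_le_right hDT
  have hDS' := lt_inf_normalizer_of_lt (S : Subgroup G) D S.2 hDltS
  have hDT' := lt_inf_normalizer_of_lt (T : Subgroup G) D T.2 hDltT
  obtain ⟨S₁, S', hS1, hS1'⟩ := exists_sylow_tower (normalizer (D : Set G))
    ((S : Subgroup G) ⊓ normalizer (D : Set G)) (S.2.to_le inf_le_left) inf_le_right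
  obtain ⟨T₁, T', hT1, hT1'⟩ := exists_sylow_tower (normalizer (D : Set G))
    ((T : Subgroup G) ⊓ normalizer (D : Set G)) (T.2.to_le inf_le_left) inf_le_right
  have hcardD : Nat.card D < Nat.card (S : Subgroup G) := card_lt_card_of_lt hDltS
  -- first application of the induction hypothesis: S and S'
  have hlt1 : D < (S : Subgroup G) ⊓ S' :=
    lt_of_lt_of_le hDS' (le_inf inf_le_left (hS1.trans hS1'))
  have hc1 : Nat.card D < Nat.card ((S : Subgroup G) ⊓ S' : Subgroup G) := card_lt_card_of_lt hlt1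
  have hc1' : Nat.card ((S : Subgroup G) ⊓ S' : Subgroup G) ≤ Nat.card (S : Subgroup G) :=
    Nat.le_of_dvd Nat.card_pos (Subgroup.card_dvd_of_le inf_le_left)
  obtain ⟨c₁, hc₁, hc₁S⟩ := ih _ (by omega) S S' rfl
  have hc₁D : c₁ ∈ centralizer (D : Set G) := centralizer_le (by exact_mod_cast hlt1.le) hc₁
  -- second application: T and T'
  have hlt2 : D < (T : Subgroup G) ⊓ T' :=
    lt_of_lt_of_le hDT' (le_inf inf_le_left (hT1.trans hT1'))
  have hc2 : Nat.card D < Nat.card ((T : Subgroup G) ⊓ T' : Subgroup G) := card_lt_card_of_lt hlt2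
  have hc2' : Nat.card ((T : Subgroup G) ⊓ T' : Subgroup G) ≤ Nat.card (T : Subgroup G) :=
    Nat.le_of_dvd Nat.card_pos (Subgroup.card_dvd_of_le inf_le_left)
  obtain ⟨c₂, hc₂, hc₂T⟩ := ih _ (by omega) T T' rfl
  have hc₂D : c₂ ∈ centralizer (D : Set G) := centralizer_le (by exact_mod_cast hlt2.le) hc₂
  -- conjugate the Sylow subgroups of the normalizer
  obtain ⟨c, hcD, hcS⟩ := exists_centralizer_conj_sylow_normalizer hc D hDp S₁ T₁
  have hT1'' : (T₁ : Subgroup (normalizer (D : Set G))).map (normalizer (D : Set G)).subtype ≤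
      (((c : G) • S' : Sylow p G) : Subgroup G) := by
    rintro z ⟨t, ht, rfl⟩
    rw [mem_smul_sylow_iff]
    apply hS1'
    have ht' : t ∈ ((c • S₁ : Sylow p (normalizer (D : Set G))) :
        Subgroup (normalizer (D : Set G))) := by rw [hcS]; exact ht
    rw [mem_smul_sylow_iff] at ht'
    exact ⟨c⁻¹ * t * c, ht', rfl⟩
  -- third application: c • S' and T'
  have hlt3 : D < (((c : G) • S' : Sylow p G) : Subgroup G) ⊓ T' :=
    lt_of_lt_of_le hDT' (le_inf (hT1.trans hT1'') (hT1.trans hT1'))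
  have hc3 : Nat.card D < Nat.card ((((c : G) • S' : Sylow p G) : Subgroup G) ⊓ T' : Subgroup G) :=
    card_lt_card_of_lt hlt3
  have hc3' : Nat.card ((((c : G) • S' : Sylow p G) : Subgroup G) ⊓ T' : Subgroup G) ≤
      Nat.card (((c : G) • S' : Sylow p G) : Subgroup G) :=
    Nat.le_of_dvd Nat.card_pos (Subgroup.card_dvd_of_le inf_le_left)
  have hcard3 : Nat.card (((c : G) • S' : Sylow p G) : Subgroup G) = Nat.card (S : Subgroup G) := by
    rw [S.card_eq_multiplicity, ((c : G) • S').card_eq_multiplicity]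
  obtain ⟨c₃, hc₃, hc₃S⟩ := ih _ (by omega) ((c : G) • S') T' rfl
  have hc₃D : c₃ ∈ centralizer (D : Set G) := centralizer_le (by exact_mod_cast hlt3.le) hc₃
  refine ⟨c₂⁻¹ * c₃ * (c : G) * c₁, ?_, ?_⟩
  · exact Subgroup.mul_mem _ (Subgroup.mul_mem _ (Subgroup.mul_mem _ (Subgroup.inv_mem _ hc₂D) hc₃D)
      hcD) hc₁D
  · rw [mul_smul, mul_smul, mul_smul, hc₁S, hc₃S, inv_smul_eq_iff, hc₂T]

/-- Alperin-type lemma under the local hypothesis. -/
theorem exists_centralizer_conj_sylow {G : Type*} [Group G] [Finite G] {p : ℕ} [Fact p.Prime]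
    (hc : LocalPNilpotent p G) (S T : Sylow p G) :
    ∃ c ∈ centralizer (((S : Subgroup G) ⊓ T : Subgroup G) : Set G), c • S = T :=
  exists_centralizer_conj_sylow_aux hc _ S T rfl

/-- Under the local hypothesis, a Sylow `p`-subgroup controls its own fusion. -/
theorem controlsOwnFusion_of_local {G : Type*} [Group G] [Finite G] {p : ℕ} [Fact p.Prime]
    (hc : LocalPNilpotent p G) (P : Sylow p G) : ControlsOwnFusion (P : Subgroup G) := by
  intro x hx g hy
  -- x lies in P ⊓ g⁻¹ P g
  have hxT : x ∈ ((g⁻¹ • P : Sylow p G) : Subgroup G) := by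
    rw [mem_smul_sylow_iff, inv_inv]; exact hy
  obtain ⟨c, hcC, hcP⟩ := exists_centralizer_conj_sylow hc P (g⁻¹ • P)
  have hcx : c * x * c⁻¹ = x := by
    have := (mem_centralizer_iff.mp hcC) x ⟨hx, hxT⟩
    rw [← this]; group
  have hgc : g * c ∈ normalizer ((P : Subgroup G) : Set G) := by
    apply Sylow.smul_eq_iff_mem_normalizer.mp
    rw [mul_smul, hcP, smul_inv_smul]
  -- N_G(P) = P C_G(P)
  have htop := sylow_sup_centralizer_eq_top hc (P : Subgroup G) P.2 (P.subtype le_normalizer)
  have hPn : ((P.subtype le_normalizer : Sylow p (normalizer ((P : Subgroup G) : Set G))) :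
      Subgroup (normalizer ((P : Subgroup G) : Set G))).Normal := by
    rw [Sylow.coe_subtype]
    exact Subgroup.normal_in_normalizer
  have hmem : (⟨g * c, hgc⟩ : normalizer ((P : Subgroup G) : Set G)) ∈
      ((P.subtype le_normalizer : Sylow p (normalizer ((P : Subgroup G) : Set G))) :
        Subgroup (normalizer ((P : Subgroup G) : Set G))) ⊔
      (centralizer ((P : Subgroup G) : Set G)).subgroupOf (normalizer ((P : Subgroup G) : Set G)) := by
    rw [htop]; trivial
  obtain ⟨u, hu, z, hz, huz⟩ := Subgroup.mem_sup_of_normal_left.mp hmem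
  have huP : (u : G) ∈ (P : Subgroup G) := by
    rw [Sylow.coe_subtype] at hu
    exact mem_subgroupOf.mp hu
  have hzC : (z : G) ∈ centralizer ((P : Subgroup G) : Set G) := mem_subgroupOf.mp hz
  have huz' : (u : G) * (z : G) = g * c := congrArg Subtype.val huz
  have hzx : (z : G) * x * (z : G)⁻¹ = x := by
    have := (mem_centralizer_iff.mp hzC) x hx
    rw [← this]; group
  refine ⟨(u : G), huP, ?_⟩
  calc g * x * g⁻¹ = g * (c * x * c⁻¹) * g⁻¹ := by rw [hcx]
    _ = (g * c) * x * (g * c)⁻¹ := by group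
    _ = ((u : G) * (z : G)) * x * ((u : G) * (z : G))⁻¹ := by rw [huz']
    _ = (u : G) * ((z : G) * x * (z : G)⁻¹) * (u : G)⁻¹ := by group
    _ = (u : G) * x * (u : G)⁻¹ := by rw [hzx]

/-- **Frobenius' normal `p`-complement theorem**, local form. -/
theorem exists_normal_complement_of_local {G : Type u} [Group G] [Finite G] {p : ℕ} [Fact p.Prime]
    (hc : LocalPNilpotent p G) (P : Sylow p G) :
    ∃ K : Subgroup G, K.Normal ∧ K.IsComplement' (P : Subgroup G) :=
  exists_normal_complement_of_fusion P (controlsOwnFusion_of_local hc P)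

/-- The local hypothesis for subgroups of one Sylow subgroup implies it for all `p`-subgroups. -/
theorem localPNilpotent_of_sylow {G : Type*} [Group G] [Finite G] {p : ℕ} [Fact p.Prime]
    (P : Sylow p G)
    (h : ∀ Q : Subgroup G, Q ≤ (P : Subgroup G) → ∀ g ∈ normalizer (Q : Set G),
      Nat.Coprime (orderOf g) p → g ∈ centralizer (Q : Set G)) : LocalPNilpotent p G := by
  intro D hD g hg hgo
  obtain ⟨S, hS⟩ := hD.exists_le_sylow
  obtain ⟨a, ha⟩ := MulAction.exists_smul_eq G P S
  set Q : Subgroup G := D.comap (MulAut.conj a).toMonoidHom with hQ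
  have hQmem : ∀ y, y ∈ Q ↔ a * y * a⁻¹ ∈ D := fun y => Iff.rfl
  have hQP : Q ≤ (P : Subgroup G) := by
    intro y hy
    have h1 : a * y * a⁻¹ ∈ ((a • P : Sylow p G) : Subgroup G) := by
      rw [ha]; exact hS ((hQmem y).mp hy)
    rw [mem_smul_sylow_iff] at h1
    have : a⁻¹ * (a * y * a⁻¹) * a = y := by group
    rwa [this] at h1
  have hg' : a⁻¹ * g * a ∈ normalizer (Q : Set G) := by
    rw [mem_normalizer_iff]
    intro y
    rw [hQmem, hQmem, (mem_normalizer_iff.mp hg) (a * y * a⁻¹)]
    have : a * (a⁻¹ * g * a * y * (a⁻¹ * g * a)⁻¹) * a⁻¹ = g * (a * y * a⁻¹) * g⁻¹ := by group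
    rw [this]
  have hord : orderOf (a⁻¹ * g * a) = orderOf g := by
    have := (SemiconjBy.conj_mk a⁻¹ g).orderOf_eq a⁻¹
    rw [inv_inv] at this
    exact this.symm
  have hcent := h Q hQP _ hg' (by rw [hord]; exact hgo)
  rw [mem_centralizer_iff]
  intro d hd
  have hy : a⁻¹ * d * a ∈ Q := by
    rw [hQmem]
    have : a * (a⁻¹ * d * a) * a⁻¹ = d := by group
    rw [this]; exact hd
  have h2 := (mem_centralizer_iff.mp hcent) _ hy
  have h3 : a * ((a⁻¹ * d * a) * (a⁻¹ * g * a)) * a⁻¹ = d * g := by group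
  have h4 : a * ((a⁻¹ * g * a) * (a⁻¹ * d * a)) * a⁻¹ = g * d := by group
  rw [← h3, ← h4, h2]

end Cfsg.Agent.Lib.Helper11
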