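import Mathlib
import Cfsg.Agent.Lib.Helper11.FrobeniusLocal

/-!
Alperin's fusion theorem for tame intersections, in the form needed for normal `p`-complements
(helper11): if `N_G(H) = N_P(H) C_G(H)` for every nontrivial tame intersection `H = P ∩ Q`,
then every Sylow `p`-subgroup `Q` is conjugate to `P` by an element centralising `P ∩ Q`,
and `P` controls its own fusion.
-/

set_option autoImplicit false

namespace Cfsg.Agent.Lib.Helper11

open Subgroup
open scoped Pointwise

universe u

/-- Factorisation hypothesis on tame intersections. -/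
def TameFactor {G : Type*} [Group G] {p : ℕ} (P : Sylow p G) : Prop :=
  ∀ Q : Sylow p G, (P : Subgroup G) ⊓ (Q : Subgroup G) ≠ ⊥ →
    ¬ p ∣ ((P : Subgroup G) ⊓ normalizer (((P : Subgroup G) ⊓ (Q : Subgroup G) : Subgroup G) : Set G)).relIndex
      (normalizer (((P : Subgroup G) ⊓ (Q : Subgroup G) : Subgroup G) : Set G)) →
    ¬ p ∣ ((Q : Subgroup G) ⊓ normalizer (((P : Subgroup G) ⊓ (Q : Subgroup G) : Subgroup G) : Set G)).relIndex
      (normalizer (((P : Subgroup G) ⊓ (Q : Subgroup G) : Subgroup G) : Set G)) →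
    ∀ n ∈ normalizer (((P : Subgroup G) ⊓ (Q : Subgroup G) : Subgroup G) : Set G),
      ∃ u ∈ (P : Subgroup G), ∃ c ∈ centralizer (((P : Subgroup G) ⊓ (Q : Subgroup G) : Subgroup G) : Set G),
        n = u * c

/-- Conjugation by an element of `N` preserves relative indices in `N`. -/
theorem relIndex_conj_smul {G : Type*} [Group G] (A N : Subgroup G) (n : G) (hn : n ∈ N) :
    (MulAut.conj n • A).relIndex N = A.relIndex N := by
  conv_lhs => rw [← Subgroup.conj_smul_eq_self_of_mem hn]
  exact Subgroup.relIndex_pointwise_smul _ _ _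

/-- If `N / C` is a `p`-group and `A ≤ N` has `p'`-index, then `N = A C`. -/
theorem exists_mul_of_isPGroup_quotient {G : Type*} [Group G] [Finite G] {p : ℕ} [Fact p.Prime]
    (N C A : Subgroup G) (hCN : C ≤ N) (hAN : A ≤ N) [hn : (C.subgroupOf N).Normal]
    (hq : IsPGroup p (N ⧸ C.subgroupOf N)) (hA : ¬ p ∣ A.relIndex N) :
    ∀ n ∈ N, ∃ u ∈ A, ∃ c ∈ C, n = u * c := by
  have htop : A.subgroupOf N ⊔ C.subgroupOf N = ⊤ := by
    rw [← Subgroup.index_eq_one]
    have h1 : (A.subgroupOf N ⊔ C.subgroupOf N).index ∣ (A.subgroupOf N).index :=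
      Subgroup.index_dvd_of_le le_sup_left
    have h2 : (A.subgroupOf N ⊔ C.subgroupOf N).index ∣ (C.subgroupOf N).index :=
      Subgroup.index_dvd_of_le le_sup_right
    obtain ⟨k, hk⟩ := hq.exists_card_eq
    rw [Subgroup.index_eq_card (C.subgroupOf N), hk] at h2
    obtain ⟨j, -, hj⟩ := (Nat.dvd_prime_pow Fact.out).1 h2
    rcases Nat.eq_zero_or_pos j with h0 | hpos
    · rw [hj, h0, pow_zero]
    · exfalso
      apply hA
      have : p ∣ (A.subgroupOf N ⊔ C.subgroupOf N).index := by
        rw [hj]; exact dvd_pow_self p hpos.ne'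
      exact this.trans h1
  intro n hnN
  have hmem : (⟨n, hnN⟩ : N) ∈ A.subgroupOf N ⊔ C.subgroupOf N := by rw [htop]; trivial
  obtain ⟨u, hu, c, hc, huc⟩ := Subgroup.mem_sup_of_normal_right.mp hmem
  refine ⟨u, mem_subgroupOf.mp hu, c, mem_subgroupOf.mp hc, ?_⟩
  have := congrArg Subtype.val huc
  simpa using this.symm

/-- elements centralising `D` normalise it -/
theorem mem_normalizer_of_mem_centralizer {G : Type*} [Group G] (D : Subgroup G) {c : G}
    (hc : c ∈ centralizer (D : Set G)) : c ∈ normalizer (D : Set G) :=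
  centralizer_le_normalizer _ hc

/-- conjugation by a centralising element fixes elements -/
theorem conj_eq_of_mem_centralizer {G : Type*} [Group G] (D : Subgroup G) {c d : G}
    (hc : c ∈ centralizer (D : Set G)) (hd : d ∈ D) : c * d * c⁻¹ = d := by
  have := (mem_centralizer_iff.mp hc) d hd
  rw [← this]; group

theorem conj_mem_of_mem_normalizer {G : Type*} [Group G] (D : Subgroup G) {n d : G}
    (hn : n ∈ normalizer (D : Set G)) (hd : d ∈ D) : n * d * n⁻¹ ∈ D :=
  (mem_normalizer_iff.mp hn d).mp hd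

theorem conj_inv_mem_of_mem_normalizer {G : Type*} [Group G] (D : Subgroup G) {n d : G}
    (hn : n ∈ normalizer (D : Set G)) (hd : d ∈ D) : n⁻¹ * d * n ∈ D := by
  have := (mem_normalizer_iff.mp (inv_mem hn) d).mp hd
  simpa using this

/-- **Alperin's theorem** (tame intersections, centraliser form), inductive version. -/
theorem exists_centralizer_conj_of_tame_aux {G : Type*} [Group G] [Finite G] {p : ℕ}
    [Fact p.Prime] (P : Sylow p G) (hT : TameFactor P) (k : ℕ) : ∀ Q : Sylow p G,
    Nat.card (P : Subgroup G) - Nat.card ((P : Subgroup G) ⊓ Q : Subgroup G) = k →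
    ∃ c ∈ centralizer (((P : Subgroup G) ⊓ Q : Subgroup G) : Set G), c • Q = P := by
  induction k using Nat.strong_induction_on with
  | _ k ih =>
  intro Q hk
  set D : Subgroup G := (P : Subgroup G) ⊓ Q with hD
  by_cases hD1 : D = ⊥
  · obtain ⟨c, hc⟩ := MulAction.exists_smul_eq G Q P
    refine ⟨c, ?_, hc⟩
    rw [hD1, mem_centralizer_iff]
    intro d hd
    rw [SetLike.mem_coe, Subgroup.mem_bot] at hd
    rw [hd, one_mul, mul_one]
  by_cases hDP : D = P
  · have hle : (P : Subgroup G) ≤ Q := hDP ▸ inf_le_right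
    have : (Q : Subgroup G) = P := P.is_maximal' Q.2 hle
    exact ⟨1, Subgroup.one_mem _, by rw [one_smul]; exact Sylow.ext this⟩
  have hDltP : D < P := lt_of_le_of_ne inf_le_left hDP
  have hcardle : ∀ R : Sylow p G, Nat.card ((P : Subgroup G) ⊓ R : Subgroup G) ≤
      Nat.card (P : Subgroup G) := fun R =>
    Nat.le_of_dvd Nat.card_pos (Subgroup.card_dvd_of_le inf_le_left)
  -- the induction hypothesis, packaged
  have IH : ∀ R : Sylow p G, D < (P : Subgroup G) ⊓ R →
      ∃ c ∈ centralizer (((P : Subgroup G) ⊓ R : Subgroup G) : Set G), c • R = P := by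
    intro R hR
    have h1 : Nat.card D < Nat.card ((P : Subgroup G) ⊓ R : Subgroup G) := card_lt_card_of_lt hR
    have h2 := hcardle R
    have h3 : Nat.card D < Nat.card (P : Subgroup G) := card_lt_card_of_lt hDltP
    exact ih _ (by omega) R rfl
  set N : Subgroup G := normalizer (D : Set G) with hN
  have hDN : D ≤ N := le_normalizer
  have hCN : centralizer (D : Set G) ≤ N := centralizer_le_normalizer _
  -- the tame factorisation for `P ⊓ P = P`
  have hPfac : ∀ m ∈ normalizer ((P : Subgroup G) : Set G), ∃ u ∈ (P : Subgroup G),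
      ∃ z ∈ centralizer ((P : Subgroup G) : Set G), m = u * z := by
    have hPne : (P : Subgroup G) ⊓ (P : Subgroup G) ≠ ⊥ := by
      rw [inf_idem]
      intro h
      apply hD1
      rw [eq_bot_iff, ← h]
      exact inf_le_left
    have h0 := hT P hPne
    rw [inf_idem] at h0
    have hsyl : ¬ p ∣ ((P : Subgroup G) ⊓ normalizer ((P : Subgroup G) : Set G)).relIndex
        (normalizer ((P : Subgroup G) : Set G)) := by
      rw [inf_of_le_left le_normalizer]
      intro hdvd
      apply P.not_dvd_index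
      rw [← Subgroup.relIndex_mul_index (le_normalizer (H := (P : Subgroup G)))]
      exact hdvd.mul_right _
    exact h0 hsyl hsyl
  -- core step
  have core : ∀ Q' : Sylow p G, (P : Subgroup G) ⊓ Q' = D →
      ¬ p ∣ ((P : Subgroup G) ⊓ N).relIndex N →
      ∃ c ∈ centralizer (D : Set G), c • Q' = P := by
    intro Q' hQ'D hNP
    have hDQ' : D ≤ Q' := hQ'D ▸ inf_le_right
    have hDneQ' : D ≠ Q' := by
      intro h
      have hle : (Q' : Subgroup G) ≤ P := by rw [← h]; exact inf_le_left
      have h2 : (P : Subgroup G) = Q' := Q'.is_maximal' P.2 hle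
      exact hDP (by rw [h, h2])
    have hDltQ' : D < Q' := lt_of_le_of_ne hDQ' hDneQ'
    have hNQ := lt_inf_normalizer_of_lt (Q' : Subgroup G) D Q'.2 hDltQ'
    -- Sylow subgroups of `N`
    have hpgP : IsPGroup p (((P : Subgroup G) ⊓ N).subgroupOf N) :=
      (P.2.to_le inf_le_left).comap_subtype
    set NPsyl : Sylow p N := hpgP.toSylow hNP with hNPsyl
    have hpgQ : IsPGroup p (((Q' : Subgroup G) ⊓ N).subgroupOf N) :=
      (Q'.2.to_le inf_le_left).comap_subtype
    obtain ⟨T1, hT1⟩ := hpgQ.exists_le_sylow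
    obtain ⟨n, hn⟩ := MulAction.exists_smul_eq N T1 NPsyl
    have hnN : (n : G) ∈ N := n.2
    have hconj : ∀ y ∈ (Q' : Subgroup G) ⊓ N, (n : G) * y * (n : G)⁻¹ ∈ (P : Subgroup G) ⊓ N := by
      intro y hy
      have hyN : y ∈ N := hy.2
      have h1 : (⟨y, hyN⟩ : N) ∈ (T1 : Subgroup N) := hT1 (mem_subgroupOf.mpr hy)
      have h2 : n * ⟨y, hyN⟩ * n⁻¹ ∈ ((n • T1 : Sylow p N) : Subgroup N) := by
        rw [mem_smul_sylow_iff]
        have : n⁻¹ * (n * ⟨y, hyN⟩ * n⁻¹) * n = ⟨y, hyN⟩ := by group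
        rw [this]; exact h1
      have hcoe : (NPsyl : Subgroup N) = ((P : Subgroup G) ⊓ N).subgroupOf N :=
        IsPGroup.toSylow_coe hpgP hNP
      rw [hn, hcoe, mem_subgroupOf] at h2
      simpa using h2
    set Q2 : Sylow p G := (n : G) • Q' with hQ2
    have hDQ2 : D ≤ (P : Subgroup G) ⊓ Q2 := by
      intro d hd
      refine Subgroup.mem_inf.2 ⟨hDltP.le hd, ?_⟩
      rw [hQ2, mem_smul_sylow_iff]
      exact hDQ' (conj_inv_mem_of_mem_normalizer D hnN hd)
    have hDltQ2 : D < (P : Subgroup G) ⊓ Q2 := by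
      refine lt_of_le_of_ne hDQ2 ?_
      intro heq
      obtain ⟨y, hy, hyD⟩ := SetLike.exists_of_lt hNQ
      apply hyD
      have h1 : (n : G) * y * (n : G)⁻¹ ∈ (P : Subgroup G) ⊓ Q2 := by
        refine Subgroup.mem_inf.2 ⟨(hconj y hy).1, ?_⟩
        rw [hQ2, mem_smul_sylow_iff]
        have : (n : G)⁻¹ * ((n : G) * y * (n : G)⁻¹) * (n : G) = y := by group
        rw [this]; exact hy.1
      rw [← heq] at h1
      have h2 := conj_inv_mem_of_mem_normalizer D hnN h1
      have : (n : G)⁻¹ * ((n : G) * y * (n : G)⁻¹) * (n : G) = y := by group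
      rwa [this] at h2
    obtain ⟨c2, hc2, hc2Q⟩ := IH Q2 hDltQ2
    -- factor `n = u * c0`
    obtain ⟨u, huP, c0, hc0, hnuc⟩ : ∃ u ∈ (P : Subgroup G), ∃ c0 ∈ centralizer (D : Set G),
        (n : G) = u * c0 := by
      set T : Sylow p G := (n : G)⁻¹ • P with hTdef
      have hDT : D ≤ (P : Subgroup G) ⊓ T := by
        intro d hd
        refine Subgroup.mem_inf.2 ⟨hDltP.le hd, ?_⟩
        rw [hTdef, mem_smul_sylow_iff, inv_inv]
        exact hDltP.le (conj_mem_of_mem_normalizer D hnN hd)
      by_cases hPT : (P : Subgroup G) ⊓ T = D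
      · -- tame case
        have h0 := hT T (by rw [hPT]; exact hD1)
        rw [hPT] at h0
        have hTN : ¬ p ∣ ((T : Subgroup G) ⊓ N).relIndex N := by
          have e1 : (T : Subgroup G) ⊓ N = MulAut.conj (n : G)⁻¹ • ((P : Subgroup G) ⊓ N) := by
            rw [Subgroup.smul_inf, Subgroup.conj_smul_eq_self_of_mem (inv_mem hnN), hTdef,
              Sylow.coe_subgroup_smul]
          rw [e1, relIndex_conj_smul _ _ _ (inv_mem hnN)]
          exact hNP
        exact h0 hNP hTN n hnN
      · have hlt : D < (P : Subgroup G) ⊓ T := lt_of_le_of_ne hDT (Ne.symm hPT)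
        obtain ⟨cT, hcT, hcTT⟩ := IH T hlt
        have hcTD : cT ∈ centralizer (D : Set G) :=
          centralizer_le (by exact_mod_cast hlt.le) hcT
        have hmN : (n : G) * cT⁻¹ ∈ normalizer ((P : Subgroup G) : Set G) := by
          have h1 : (cT * (n : G)⁻¹) • P = P := by rw [mul_smul, ← hTdef, hcTT]
          have h2 := Sylow.smul_eq_iff_mem_normalizer.mp h1
          have h3 := inv_mem h2
          simpa using h3
        obtain ⟨u, huP, z, hz, hmuz⟩ := hPfac _ hmN
        have hzD : z ∈ centralizer (D : Set G) :=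
          centralizer_le (by exact_mod_cast hDltP.le) hz
        refine ⟨u, huP, z * cT, mul_mem hzD hcTD, ?_⟩
        have : (n : G) = ((n : G) * cT⁻¹) * cT := by group
        rw [this, hmuz, mul_assoc]
    have huN : u ∈ N := by
      have : u = (n : G) * c0⁻¹ := by rw [hnuc]; group
      rw [this]
      exact mul_mem hnN (inv_mem (hCN hc0))
    refine ⟨u⁻¹ * c2 * u * c0, ?_, ?_⟩
    · apply mul_mem _ hc0
      rw [mem_centralizer_iff]
      intro d hd
      have hd' : u * d * u⁻¹ ∈ D := conj_mem_of_mem_normalizer D huN hd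
      have h1 := conj_eq_of_mem_centralizer _ hc2 (hDQ2 hd')
      have e1 : u⁻¹ * c2 * u * d = u⁻¹ * (c2 * (u * d * u⁻¹) * c2⁻¹) * c2 * u := by group
      rw [e1, h1]; group
    · have e1 : u⁻¹ * c2 * u * c0 = u⁻¹ * c2 * (n : G) := by rw [hnuc]; group
      rw [e1, mul_smul, ← hQ2, mul_smul, hc2Q, inv_smul_eq_iff]
      exact (Sylow.smul_eq_iff_mem_normalizer.mpr (le_normalizer huP)).symm
  -- reduction to the core step
  have hNPlt := lt_inf_normalizer_of_lt (P : Subgroup G) D P.2 hDltP
  obtain ⟨S₁, S', hS1, hS1'⟩ := exists_sylow_tower N ((P : Subgroup G) ⊓ N)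
    (P.2.to_le inf_le_left) inf_le_right
  have hlt1 : D < (P : Subgroup G) ⊓ S' :=
    lt_of_lt_of_le hNPlt (le_inf inf_le_left (hS1.trans hS1'))
  obtain ⟨c1, hc1, hc1S⟩ := IH S' hlt1
  have hc1D : c1 ∈ centralizer (D : Set G) := centralizer_le (by exact_mod_cast hlt1.le) hc1
  set Q1 : Sylow p G := c1 • Q with hQ1
  have hDQ1 : D ≤ (P : Subgroup G) ⊓ Q1 := by
    intro d hd
    refine Subgroup.mem_inf.2 ⟨hDltP.le hd, ?_⟩
    rw [hQ1, mem_smul_sylow_iff]
    have h1 := conj_eq_of_mem_centralizer D (inv_mem hc1D) hd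
    rw [inv_inv] at h1
    rw [h1]
    exact (inf_le_right : D ≤ Q) hd
  by_cases hQ1D : (P : Subgroup G) ⊓ Q1 = D
  · -- `N_P(D)` is a Sylow subgroup of `N`
    have hNP : ¬ p ∣ ((P : Subgroup G) ⊓ N).relIndex N := by
      set A : Subgroup G := (S₁ : Subgroup N).map N.subtype with hA
      have hAN : A ≤ N := map_subtype_le _
      have hArel : A.relIndex N = (S₁ : Subgroup N).index := by
        rw [Subgroup.relIndex, hA]
        congr 1
        exact Subgroup.comap_map_eq_self_of_injective (subtype_injective N) _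
      have hconjA : MulAut.conj c1 • A ≤ (P : Subgroup G) ⊓ N := by
        rintro _ ⟨a, ha, rfl⟩
        have haS : a ∈ (S' : Subgroup G) := hS1' ha
        refine Subgroup.mem_inf.2 ⟨?_, ?_⟩
        · have : c1 * a * c1⁻¹ ∈ ((c1 • S' : Sylow p G) : Subgroup G) := by
            rw [mem_smul_sylow_iff]
            have e : c1⁻¹ * (c1 * a * c1⁻¹) * c1 = a := by group
            rw [e]; exact haS
          rw [hc1S] at this
          exact this
        · exact N.mul_mem (N.mul_mem (hCN hc1D) (hAN ha)) (N.inv_mem (hCN hc1D))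
      have h1 : ((P : Subgroup G) ⊓ N).relIndex N ∣ (MulAut.conj c1 • A).relIndex N :=
        Subgroup.relIndex_dvd_of_le_left N hconjA
      rw [relIndex_conj_smul _ _ _ (hCN hc1D), hArel] at h1
      intro hdvd
      exact S₁.not_dvd_index (hdvd.trans h1)
    obtain ⟨c, hc, hcQ⟩ := core Q1 hQ1D hNP
    refine ⟨c * c1, mul_mem hc hc1D, ?_⟩
    rw [mul_smul, ← hQ1, hcQ]
  · have hlt : D < (P : Subgroup G) ⊓ Q1 := lt_of_le_of_ne hDQ1 (Ne.symm hQ1D)
    obtain ⟨c', hc', hc'Q⟩ := IH Q1 hlt
    have hc'D : c' ∈ centralizer (D : Set G) := centralizer_le (by exact_mod_cast hlt.le) hc'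
    refine ⟨c' * c1, mul_mem hc'D hc1D, ?_⟩
    rw [mul_smul, ← hQ1, hc'Q]

/-- **Alperin's theorem** (tame intersections, centraliser form). -/
theorem exists_centralizer_conj_of_tame {G : Type*} [Group G] [Finite G] {p : ℕ}
    [Fact p.Prime] (P : Sylow p G) (hT : TameFactor P) (Q : Sylow p G) :
    ∃ c ∈ centralizer (((P : Subgroup G) ⊓ Q : Subgroup G) : Set G), c • Q = P :=
  exists_centralizer_conj_of_tame_aux P hT _ Q rfl

/-- Under the tame factorisation hypothesis, `P` controls its own fusion. -/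
theorem controlsOwnFusion_of_tame {G : Type*} [Group G] [Finite G] {p : ℕ} [Fact p.Prime]
    (P : Sylow p G) (hT : TameFactor P) : ControlsOwnFusion (P : Subgroup G) := by
  intro x hx g hy
  by_cases hx1 : x = 1
  · exact ⟨1, one_mem _, by rw [hx1]; group⟩
  have hxT : x ∈ ((g⁻¹ • P : Sylow p G) : Subgroup G) := by
    rw [mem_smul_sylow_iff, inv_inv]; exact hy
  obtain ⟨c, hcC, hcP⟩ := exists_centralizer_conj_of_tame P hT (g⁻¹ • P)
  have hcx : c * x * c⁻¹ = x := by
    have := (mem_centralizer_iff.mp hcC) x (Subgroup.mem_inf.2 ⟨hx, hxT⟩)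
    rw [← this]; group
  -- `m = g c⁻¹` normalises `P`
  have hmN : g * c⁻¹ ∈ normalizer ((P : Subgroup G) : Set G) := by
    have h1 : (c * g⁻¹) • P = P := by rw [mul_smul, hcP]
    have h2 := inv_mem (Sylow.smul_eq_iff_mem_normalizer.mp h1)
    simpa using h2
  -- the tame factorisation for `P ⊓ P = P`
  have hPne : (P : Subgroup G) ⊓ (P : Subgroup G) ≠ ⊥ := by
    rw [inf_idem]
    intro h
    apply hx1
    have : x ∈ (⊥ : Subgroup G) := h ▸ hx
    simpa using this
  have h0 := hT P hPne
  rw [inf_idem] at h0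
  have hsyl : ¬ p ∣ ((P : Subgroup G) ⊓ normalizer ((P : Subgroup G) : Set G)).relIndex
      (normalizer ((P : Subgroup G) : Set G)) := by
    rw [inf_of_le_left le_normalizer]
    intro hdvd
    apply P.not_dvd_index
    rw [← Subgroup.relIndex_mul_index (le_normalizer (H := (P : Subgroup G)))]
    exact hdvd.mul_right _
  obtain ⟨u, huP, z, hz, hmuz⟩ := h0 hsyl hsyl _ hmN
  have hzx : z * x * z⁻¹ = x := by
    have := (mem_centralizer_iff.mp hz) x hx
    rw [← this]; group
  refine ⟨u, huP, ?_⟩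
  calc g * x * g⁻¹ = (g * c⁻¹) * (c * x * c⁻¹) * (g * c⁻¹)⁻¹ := by group
    _ = (u * z) * x * (u * z)⁻¹ := by rw [hcx, hmuz]
    _ = u * (z * x * z⁻¹) * u⁻¹ := by group
    _ = u * x * u⁻¹ := by rw [hzx]

/-- Normal `p`-complement from the tame factorisation hypothesis. -/
theorem exists_normal_complement_of_tame {G : Type u} [Group G] [Finite G] {p : ℕ} [Fact p.Prime]
    (P : Sylow p G) (hT : TameFactor P) :
    ∃ K : Subgroup G, K.Normal ∧ K.IsComplement' (P : Subgroup G) :=
  exists_normal_complement_of_fusion P (controlsOwnFusion_of_tame P hT)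

end Cfsg.Agent.Lib.Helper11
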