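import Mathlib

/-!
# The four-group generated by two commuting involutions, and fusion inside a four-group
-/

namespace Cfsg.Agent.Lib.Helper11

open Subgroup

section

variable {X : Type*} [Group X]

/-- The four-group `{1, a, b, ab}` generated by two commuting involutions. -/
def fourSubgroup (a b : X) (ha : a * a = 1) (hb : b * b = 1) (hab : a * b = b * a) :
    Subgroup X where
  carrier := {1, a, b, a * b}
  one_mem' := by simp
  mul_mem' := by
    intro x y hx hy
    have ha' : ∀ x, a * (a * x) = x := fun x => by rw [← mul_assoc, ha, one_mul]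
    have hb' : ∀ x, b * (b * x) = x := fun x => by rw [← mul_assoc, hb, one_mul]
    have hba : b * a = a * b := hab.symm
    have hba' : ∀ x, b * (a * x) = a * (b * x) := fun x => by
      rw [← mul_assoc, hba, mul_assoc]
    simp only [Set.mem_insert_iff, Set.mem_singleton_iff] at hx hy ⊢
    rcases hx with rfl | rfl | rfl | rfl <;> rcases hy with rfl | rfl | rfl | rfl <;>
      simp [mul_assoc, ha, hb, ha', hb', hba, hba']
  inv_mem' := by
    intro x hx
    have hai : a⁻¹ = a := inv_eq_of_mul_eq_one_left ha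
    have hbi : b⁻¹ = b := inv_eq_of_mul_eq_one_left hb
    simp only [Set.mem_insert_iff, Set.mem_singleton_iff] at hx ⊢
    rcases hx with rfl | rfl | rfl | rfl
    · simp
    · simp [hai]
    · simp [hbi]
    · right; right; right
      rw [mul_inv_rev, hai, hbi, hab]

theorem mem_fourSubgroup {a b : X} {ha : a * a = 1} {hb : b * b = 1} {hab : a * b = b * a}
    {x : X} : x ∈ fourSubgroup a b ha hb hab ↔ x = 1 ∨ x = a ∨ x = b ∨ x = a * b := by
  change x ∈ ({1, a, b, a * b} : Set X) ↔ _
  simp only [Set.mem_insert_iff, Set.mem_singleton_iff]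

theorem left_mem_fourSubgroup {a b : X} {ha : a * a = 1} {hb : b * b = 1} {hab : a * b = b * a} :
    a ∈ fourSubgroup a b ha hb hab := mem_fourSubgroup.2 (Or.inr (Or.inl rfl))

theorem right_mem_fourSubgroup {a b : X} {ha : a * a = 1} {hb : b * b = 1}
    {hab : a * b = b * a} : b ∈ fourSubgroup a b ha hb hab :=
  mem_fourSubgroup.2 (Or.inr (Or.inr (Or.inl rfl)))

theorem fourSubgroup_le {a b : X} {ha : a * a = 1} {hb : b * b = 1} {hab : a * b = b * a}
    {H : Subgroup X} (haH : a ∈ H) (hbH : b ∈ H) : fourSubgroup a b ha hb hab ≤ H := by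
  intro x hx
  rcases mem_fourSubgroup.1 hx with rfl | rfl | rfl | rfl
  · exact H.one_mem
  · exact haH
  · exact hbH
  · exact H.mul_mem haH hbH

theorem isKleinFour_fourSubgroup {a b : X} {ha : a * a = 1} {hb : b * b = 1}
    {hab : a * b = b * a} (ha1 : a ≠ 1) (hb1 : b ≠ 1) (hne : a ≠ b) :
    IsKleinFour (fourSubgroup a b ha hb hab) := by
  classical
  have hab1 : a * b ≠ 1 := by
    intro h
    apply hne
    have : a = a * b * b := by rw [mul_assoc, hb, mul_one]
    rw [this, h, one_mul]
  have haba : a * b ≠ a := by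
    intro h
    apply hb1
    have : b = a * (a * b) := by rw [← mul_assoc, ha, one_mul]
    rw [this, h, ha]
  have habb : a * b ≠ b := by
    intro h
    apply ha1
    have : a = a * b * b := by rw [mul_assoc, hb, mul_one]
    rw [this, h, hb]
  have hcard : Nat.card (fourSubgroup a b ha hb hab) = 4 := by
    have hset : ((fourSubgroup a b ha hb hab : Subgroup X) : Set X) = {1, a, b, a * b} := rfl
    have hcD : Nat.card (fourSubgroup a b ha hb hab) =
        Set.ncard ((fourSubgroup a b ha hb hab : Subgroup X) : Set X) :=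
      (Nat.card_coe_set_eq _)
    rw [hcD, hset, Set.ncard_eq_toFinset_card' ]
    have : ({1, a, b, a * b} : Set X).toFinset = {1, a, b, a * b} := by
      ext; simp
    rw [this]
    rw [Finset.card_insert_of_notMem, Finset.card_insert_of_notMem,
      Finset.card_insert_of_notMem, Finset.card_singleton]
    · simp only [Finset.mem_singleton]; exact habb.symm
    · simp only [Finset.mem_insert, Finset.mem_singleton, not_or]
      exact ⟨hne, haba.symm⟩
    · simp only [Finset.mem_insert, Finset.mem_singleton, not_or]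
      exact ⟨ha1.symm, hb1.symm, hab1.symm⟩
  refine ⟨hcard, ?_⟩
  have hdvd : Monoid.exponent (fourSubgroup a b ha hb hab) ∣ 2 := by
    apply Monoid.exponent_dvd_of_forall_pow_eq_one
    rintro ⟨q, hq⟩
    apply Subtype.ext
    have hsq : q * q = 1 := by
      rcases mem_fourSubgroup.1 hq with rfl | rfl | rfl | rfl
      · simp
      · exact ha
      · exact hb
      · rw [mul_assoc, ← mul_assoc b, ← hab, mul_assoc, hb, mul_one, ha]
    simpa [pow_two] using hsq
  rcases (Nat.dvd_prime Nat.prime_two).1 hdvd with h1 | h1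
  · exfalso
    rw [Monoid.exp_eq_one_iff] at h1
    have : Nat.card (fourSubgroup a b ha hb hab) ≤ 1 := Finite.card_le_one_iff_subsingleton.2 h1
    omega
  · exact h1

/-- If `3` divides `|N(U) : C(U)|` for a four-group `U`, then all involutions of `U` are
conjugate. -/
theorem fourGroup_conj_of_three_dvd [Finite X] (U : Subgroup X) (hU : IsKleinFour U)
    (h3 : 3 ∣ (centralizer (U : Set X)).relIndex (normalizer (U : Set X))) :
    ∀ x ∈ U, ∀ y ∈ U, x ≠ 1 → y ≠ 1 → ∃ g : X, g * x * g⁻¹ = y := by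
  classical
  set φ := U.normalizerMonoidHom with hφ
  have hcard : Nat.card φ.range =
      (centralizer (U : Set X)).relIndex (normalizer (U : Set X)) := by
    rw [← Subgroup.index_ker, normalizerMonoidHom_ker]; rfl
  rw [← hcard] at h3
  haveI : Fact (Nat.Prime 3) := ⟨by norm_num⟩
  haveI : Finite U := IsKleinFour.instFinite
  obtain ⟨σ, hσ⟩ := exists_prime_orderOf_dvd_card' 3 h3
  obtain ⟨g, hg⟩ : ∃ g, φ g = (σ : MulAut U) := σ.2
  have ho : orderOf (φ g) = 3 := by
    rw [hg, Subgroup.orderOf_coe]; exact hσ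
  have hφapp : ∀ u : U, ((φ g) u : X) = g * u * g⁻¹ := fun u => rfl
  have hne : φ g ≠ 1 := by
    intro h
    rw [h, orderOf_one] at ho
    omega
  have h3' : (φ g) ^ 3 = 1 := by rw [← ho]; exact pow_orderOf_eq_one _
  obtain ⟨a, ha⟩ : ∃ a : U, φ g a ≠ a := by
    by_contra hcon
    push Not at hcon
    exact hne (MulEquiv.ext hcon)
  obtain ⟨b, hb⟩ : ∃ b : U, b = φ g a := ⟨_, rfl⟩
  obtain ⟨c, hc⟩ : ∃ c : U, c = φ g b := ⟨_, rfl⟩
  have hca : φ g c = a := by
    have := DFunLike.congr_fun h3' a
    rw [hc, hb]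
    simpa [pow_succ] using this
  have hinj := (φ g).injective
  have ha1 : a ≠ 1 := by
    intro h
    apply ha
    rw [h, map_one]
  have hab : a ≠ b := fun h => ha (by rw [← hb]; exact h.symm)
  have hb1 : b ≠ 1 := by
    intro h
    apply ha1
    apply hinj
    rw [← hb, h, map_one]
  have hbc : b ≠ c := by
    intro h
    apply hab
    apply hinj
    rw [← hb, ← hc]; exact h
  have hc1 : c ≠ 1 := by
    intro h
    apply hb1
    apply hinj
    rw [← hc, h, map_one]
  have hcane : c ≠ a := by
    intro h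
    apply hab
    have h2 : φ g c = b := by rw [h, ← hb]
    rw [← hca, h2]
  have hcab : c = a * b := IsKleinFour.eq_mul_of_ne_all ha1 hb1 hab hc1 hcane (Ne.symm hbc)
  have hcases : ∀ x : U, x ≠ 1 → x = a ∨ x = b ∨ x = c := by
    intro x hx1
    by_cases hxa : x = a
    · exact Or.inl hxa
    by_cases hxb : x = b
    · exact Or.inr (Or.inl hxb)
    right; right
    rw [hcab]
    exact IsKleinFour.eq_mul_of_ne_all ha1 hb1 hab hx1 hxa hxb
  -- conjugacy relation
  have hR1 : g * (a : X) * g⁻¹ = b := by rw [hb]; rfl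
  have hR2 : g * (b : X) * g⁻¹ = c := by rw [hc]; rfl
  have hR3 : g * (c : X) * g⁻¹ = a := by rw [← hca]; rfl
  have hsymm : ∀ x y : X, (∃ h : X, h * x * h⁻¹ = y) → ∃ h : X, h * y * h⁻¹ = x := by
    rintro x y ⟨h, rfl⟩
    exact ⟨h⁻¹, by group⟩
  have htrans : ∀ x y z : X, (∃ h : X, h * x * h⁻¹ = y) → (∃ h : X, h * y * h⁻¹ = z) →
      ∃ h : X, h * x * h⁻¹ = z := by
    rintro x y z ⟨h, rfl⟩ ⟨k, rfl⟩
    exact ⟨k * h, by group⟩
  have hrefl : ∀ x : X, ∃ h : X, h * x * h⁻¹ = x := fun x => ⟨1, by group⟩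
  have hab' : ∃ h : X, h * (a : X) * h⁻¹ = b := ⟨g, hR1⟩
  have hbc' : ∃ h : X, h * (b : X) * h⁻¹ = c := ⟨g, hR2⟩
  have hca' : ∃ h : X, h * (c : X) * h⁻¹ = a := ⟨g, hR3⟩
  have hall : ∀ x y : U, x ≠ 1 → y ≠ 1 → ∃ h : X, h * (x : X) * h⁻¹ = y := by
    intro x y hx hy
    rcases hcases x hx with rfl | rfl | rfl <;> rcases hcases y hy with rfl | rfl | rfl
    · exact hrefl _
    · exact hab'
    · exact hsymm _ _ hca'
    · exact hsymm _ _ hab'
    · exact hrefl _
    · exact hbc'
    · exact hca'
    · exact hsymm _ _ hbc'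
    · exact hrefl _
  intro x hx y hy hx1 hy1
  exact hall ⟨x, hx⟩ ⟨y, hy⟩ (fun h => hx1 (congrArg Subtype.val h))
    (fun h => hy1 (congrArg Subtype.val h))

end

end Cfsg.Agent.Lib.Helper11
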