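import Mathlib
import Cfsg.Prelude.Def_LocalEven
import Cfsg.Agent.S2005

/-!
`Cfsg.IsNormalizerPStable` is invariant under isomorphisms (helper11).
-/

set_option autoImplicit false
open Cfsg

universe u

namespace Cfsg.Agent.Lib.Helper11.NPSIso

open Cfsg.Agent.S2005 (map_pCore_equiv IsSec)

variable {p : ℕ} [Fact p.Prime]

/-- the isomorphism of normalizers induced by an isomorphism -/
def normEquiv {Y₁ Y₂ : Type u} [Group Y₁] [Group Y₂] (e : Y₁ ≃* Y₂) (P₂ : Subgroup Y₂) :
    ↥(Subgroup.normalizer ((P₂.comap e.toMonoidHom : Subgroup Y₁) : Set Y₁)) ≃*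
      ↥(Subgroup.normalizer ((P₂ : Subgroup Y₂) : Set Y₂)) where
  toFun x := ⟨e x, by
    have hx := x.2
    rw [Subgroup.mem_normalizer_iff] at hx ⊢
    intro b
    have := hx (e.symm b)
    simp only [Subgroup.mem_comap, MulEquiv.coe_toMonoidHom, map_mul, map_inv,
      MulEquiv.apply_symm_apply] at this
    exact this⟩
  invFun y := ⟨e.symm y, by
    have hy := y.2
    rw [Subgroup.mem_normalizer_iff] at hy ⊢
    intro b
    have := hy (e b)
    simp only [Subgroup.mem_comap, MulEquiv.coe_toMonoidHom, map_mul, map_inv,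
      MulEquiv.apply_symm_apply]
    exact this⟩
  left_inv x := Subtype.ext (by simp)
  right_inv y := Subtype.ext (by simp)
  map_mul' x y := Subtype.ext (by
    show e ((x * y : ↥(Subgroup.normalizer ((P₂.comap e.toMonoidHom : Subgroup Y₁) : Set Y₁))) : Y₁) = e (x : Y₁) * e (y : Y₁)
    rw [Subgroup.coe_mul, map_mul])

theorem nps_of_equiv {Y₁ Y₂ : Type u} [Group Y₁] [Group Y₂] [Finite Y₁] (e : Y₁ ≃* Y₂)
    (h : Cfsg.IsNormalizerPStable p Y₁) : Cfsg.IsNormalizerPStable p Y₂ := by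
  intro P₂ hP₂ g₂ hg₂ hquad
  set P₁ : Subgroup Y₁ := P₂.comap e.toMonoidHom with hP₁
  have hmapP : P₁.map e.toMonoidHom = P₂ :=
    Subgroup.map_comap_eq_self_of_surjective e.surjective P₂
  have hP₁p : IsPGroup p P₁ := hP₂.comap_of_injective e.toMonoidHom e.injective
  set Φ₀ := normEquiv e P₂ with hΦ₀
  set x₁ := Φ₀.symm ⟨g₂, hg₂⟩ with hx₁
  have hx₁e : e (x₁ : Y₁) = g₂ := by
    have : Φ₀ x₁ = ⟨g₂, hg₂⟩ := Φ₀.apply_symm_apply _
    exact congrArg Subtype.val this
  have hquad₁ : ⁅⁅P₁, Subgroup.zpowers (x₁ : Y₁)⁆, Subgroup.zpowers (x₁ : Y₁)⁆ = ⊥ := by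
    apply (Subgroup.map_eq_bot_iff_of_injective (f := e.toMonoidHom) _ e.injective).mp
    rw [Subgroup.map_commutator, Subgroup.map_commutator, hmapP, MonoidHom.map_zpowers]
    have : e.toMonoidHom (x₁ : Y₁) = g₂ := hx₁e
    rw [this]
    exact hquad
  have h1 := h P₁ hP₁p (x₁ : Y₁) x₁.2 hquad₁
  -- the induced isomorphism of quotients
  have he : ((Subgroup.centralizer (P₁ : Set Y₁)).subgroupOf
      (Subgroup.normalizer (P₁ : Set Y₁))).map (Φ₀ : _ →* _) =
      (Subgroup.centralizer (P₂ : Set Y₂)).subgroupOf (Subgroup.normalizer (P₂ : Set Y₂)) := by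
    ext y
    constructor
    · rintro ⟨x, hx, rfl⟩
      have hx' : (x : Y₁) ∈ Subgroup.centralizer (P₁ : Set Y₁) := hx
      show e (x : Y₁) ∈ Subgroup.centralizer (P₂ : Set Y₂)
      rw [Subgroup.mem_centralizer_iff] at hx' ⊢
      intro b hb
      have hb' : e.symm b ∈ P₁ := by
        show e (e.symm b) ∈ P₂
        rw [e.apply_symm_apply]; exact hb
      have := congrArg e (hx' (e.symm b) hb')
      simpa using this
    · intro hy
      have hy' : (y : Y₂) ∈ Subgroup.centralizer (P₂ : Set Y₂) := hy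
      refine ⟨Φ₀.symm y, ?_, Φ₀.apply_symm_apply y⟩
      show e.symm (y : Y₂) ∈ Subgroup.centralizer (P₁ : Set Y₁)
      rw [Subgroup.mem_centralizer_iff] at hy' ⊢
      intro b hb
      have hb' : e b ∈ P₂ := hb
      have := congrArg e.symm (hy' (e b) hb')
      simpa using this
  set Φ := QuotientGroup.congr _ _ Φ₀ he with hΦ
  have h2 := map_pCore_equiv (p := p) Φ
  have h3 : Φ (QuotientGroup.mk (⟨(x₁ : Y₁), x₁.2⟩ :
      ↥(Subgroup.normalizer (P₁ : Set Y₁)))) ∈ Cfsg.pCore p _ := by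
    rw [← h2]
    exact ⟨_, h1, rfl⟩
  have h4 : Φ (QuotientGroup.mk (⟨(x₁ : Y₁), x₁.2⟩ :
      ↥(Subgroup.normalizer (P₁ : Set Y₁)))) = QuotientGroup.mk (⟨g₂, hg₂⟩ :
      ↥(Subgroup.normalizer (P₂ : Set Y₂))) := by
    rw [hΦ, QuotientGroup.congr_mk]
    congr 1
    exact Φ₀.apply_symm_apply _
  rw [h4] at h3
  exact h3

/-- if every section `K/R` of `G` is p-stable in the normalizer form, so is every abstract section -/
theorem nps_of_isSec {G : Type u} [Group G] [Finite G]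
    (hst : ∀ (K R : Subgroup G) [_hR : (R.subgroupOf K).Normal],
      Cfsg.IsNormalizerPStable p (↥K ⧸ R.subgroupOf K))
    (Y : Type u) [Group Y] (hY : IsSec Y G) : Cfsg.IsNormalizerPStable p Y := by
  obtain ⟨K, f, hf⟩ := hY
  have hRK : (f.ker.map K.subtype).subgroupOf K = f.ker :=
    Subgroup.comap_map_eq_self_of_injective K.subtype_injective _
  haveI : ((f.ker.map K.subtype).subgroupOf K).Normal := by rw [hRK]; infer_instance
  have e : ↥K ⧸ (f.ker.map K.subtype).subgroupOf K ≃* Y :=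
    (QuotientGroup.quotientMulEquivOfEq hRK).trans (QuotientGroup.quotientKerEquivOfSurjective f hf)
  exact nps_of_equiv e (hst K (f.ker.map K.subtype))

end Cfsg.Agent.Lib.Helper11.NPSIso
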