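import Mathlib
import Cfsg.Agent.S2005
import Cfsg.Agent.Lib.Helper1.LocalToGlobal
import Cfsg.Agent.Lib.Helper1.FusionLift
import Cfsg.Agent.Lib.Helper16.PCore

/-!
Control of strong fusion in sections (Glauberman): basic transport lemmas (helper11).
-/

set_option autoImplicit false
set_option linter.unusedSectionVars false
open Cfsg

universe u

namespace Cfsg.Agent.Lib.Helper11.SFS

open Cfsg.Agent.Lib.Helper29 Cfsg.Agent.Lib.Helper1 Cfsg.Agent.Lib.Helper16
open Cfsg.Agent.S2005 (induced_map induced_map_eq induced_le induced_ne_bot normalizer_le_normalizer_induced)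

variable {p : ℕ} [Fact p.Prime] {W : ∀ (Q : Type u) [Group Q], Subgroup Q}

/-- `N_X(W(S))` controls strong fusion in `S` -/
def CtlAt (W : ∀ (Q : Type u) [Group Q], Subgroup Q) (X : Type u) [Group X] (S : Subgroup X) : Prop :=
  ∀ (A : Set X) (g : X), A ⊆ (S : Set X) → (∀ a ∈ A, g * a * g⁻¹ ∈ S) →
    ∃ x ∈ Subgroup.normalizer ((Cfsg.inducedFunctor W S : Subgroup X) : Set X),
      ∀ a ∈ A, g * a * g⁻¹ = x * a * x⁻¹

/-- control of strong fusion with respect to every Sylow subgroup -/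
def Ctl (p : ℕ) (W : ∀ (Q : Type u) [Group Q], Subgroup Q) (X : Type u) [Group X] : Prop :=
  ∀ S : Sylow p X, CtlAt W X (S : Subgroup X)

theorem conjFunctor (hW : Cfsg.IsCharPFunctor.{u} p W) (X : Type u) [Group X] [Finite X] :
    Cfsg.IsConjugacyFunctor p (Cfsg.inducedFunctor (G := X) W) := by
  intro P hP
  refine ⟨induced_le P, fun hne => induced_ne_bot hW P hP hne, fun g => ?_⟩
  exact induced_map hW (MulAut.conj g).toMonoidHom P hP
    (fun a _ h => (MulAut.conj g).injective (by simpa using h))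

/-- control in the sense of `ControlsStrongFusionIn`, at a given Sylow subgroup of `H` -/
theorem ctlAt_of_ctlIn (hW : Cfsg.IsCharPFunctor.{u} p W) {X : Type u} [Group X] [Finite X]
    {H S : Subgroup X} (h : Cfsg.ControlsStrongFusionIn p (Cfsg.inducedFunctor (G := X) W) H)
    (hSH : S ≤ H) (hSp : IsPGroup p S) (hidx : ¬ p ∣ S.relIndex H) :
    ∀ (A : Set X) (g : X), g ∈ H → A ⊆ (S : Set X) → (∀ a ∈ A, g * a * g⁻¹ ∈ S) →
      ∃ x ∈ H ⊓ Subgroup.normalizer ((Cfsg.inducedFunctor W S : Subgroup X) : Set X),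
        ∀ a ∈ A, g * a * g⁻¹ = x * a * x⁻¹ := by
  intro A g hg hA hAg
  have hAg' : (fun a => g * a * g⁻¹) '' A ⊆ (S : Set X) := by
    rintro _ ⟨a, ha, rfl⟩
    exact hAg a ha
  obtain ⟨x, hx, hxa⟩ := controls_transport _ (conjFunctor hW X) H S hSH hSp hidx h A g hg hA hAg'
  exact ⟨x, hx, fun a ha => (hxa a ha).symm⟩

theorem ctlIn_top_of_ctlAt {X : Type u} [Group X] [Finite X] (S : Sylow p X)
    (h : CtlAt W X (S : Subgroup X)) :
    Cfsg.ControlsStrongFusionIn p (Cfsg.inducedFunctor (G := X) W) ⊤ := by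
  refine ⟨S, le_top, S.isPGroup', ?_, ?_⟩
  · rw [Subgroup.relIndex_top_right]; exact S.not_dvd_index
  · intro A g _ hA hAg
    obtain ⟨x, hx, hxa⟩ := h A g hA (fun a ha => hAg ⟨a, ha, rfl⟩)
    exact ⟨x, ⟨Subgroup.mem_top _, hx⟩, fun a ha => (hxa a ha).symm⟩

theorem ctl_of_ctlAt (hW : Cfsg.IsCharPFunctor.{u} p W) {X : Type u} [Group X] [Finite X]
    (S : Sylow p X) (h : CtlAt W X (S : Subgroup X)) : Ctl p W X := by
  intro S' A g hA hAg
  have h1 := ctlIn_top_of_ctlAt S h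
  obtain ⟨x, hx, hxa⟩ := ctlAt_of_ctlIn hW h1 (le_top : (S' : Subgroup X) ≤ ⊤) S'.isPGroup'
    (by rw [Subgroup.relIndex_top_right]; exact S'.not_dvd_index) A g (Subgroup.mem_top _) hA hAg
  exact ⟨x, hx.2, hxa⟩

/-- control in the group `↥H` gives control in the subgroup `H` of `X` -/
theorem ctlIn_of_ctl_sub (hW : Cfsg.IsCharPFunctor.{u} p W) {X : Type u} [Group X] [Finite X]
    (H : Subgroup X) (h : Ctl p W ↥H) :
    Cfsg.ControlsStrongFusionIn p (Cfsg.inducedFunctor (G := X) W) H := by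
  obtain ⟨T'⟩ : Nonempty (Sylow p ↥H) := inferInstance
  set T : Subgroup X := (T' : Subgroup ↥H).map H.subtype with hT
  have hTH : T ≤ H := Subgroup.map_subtype_le _
  have hTp : IsPGroup p T := T'.isPGroup'.map _
  have hsub : T.subgroupOf H = (T' : Subgroup ↥H) :=
    Subgroup.comap_map_eq_self_of_injective (Subgroup.subtype_injective H) _
  have hWT : Cfsg.inducedFunctor W T = (Cfsg.inducedFunctor W (T' : Subgroup ↥H)).map H.subtype :=
    induced_map hW H.subtype (T' : Subgroup ↥H) T'.isPGroup'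
      (fun a _ ha => Subtype.ext (by simpa using ha))
  refine ⟨T, hTH, hTp, ?_, ?_⟩
  · rw [Subgroup.relIndex, hsub]; exact T'.not_dvd_index
  · intro A g hg hA hAg
    set A' : Set ↥H := {a | (a : X) ∈ A} with hA'
    have hA'T : A' ⊆ ((T' : Subgroup ↥H) : Set ↥H) := by
      intro a ha
      have : (a : X) ∈ T := hA ha
      obtain ⟨b, hb, hba⟩ := this
      have : b = a := Subtype.ext hba
      rw [← this]; exact hb
    have hA'g : ∀ a ∈ A', (⟨g, hg⟩ : ↥H) * a * (⟨g, hg⟩ : ↥H)⁻¹ ∈ (T' : Subgroup ↥H) := by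
      intro a ha
      have : g * (a : X) * g⁻¹ ∈ T := hAg ⟨(a : X), ha, rfl⟩
      obtain ⟨b, hb, hba⟩ := this
      have : b = (⟨g, hg⟩ : ↥H) * a * (⟨g, hg⟩ : ↥H)⁻¹ := Subtype.ext (by simpa using hba)
      rw [← this]; exact hb
    obtain ⟨x, hx, hxa⟩ := h T' A' ⟨g, hg⟩ hA'T hA'g
    refine ⟨(x : X), ⟨x.2, ?_⟩, ?_⟩
    · rw [hWT]
      exact Subgroup.le_normalizer_map H.subtype ⟨x, hx, rfl⟩
    · intro a ha
      have haH : a ∈ H := hTH (hA ha)
      have := hxa ⟨a, haH⟩ ha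
      have h2 := congrArg Subtype.val this
      simpa using h2.symm

end Cfsg.Agent.Lib.Helper11.SFS
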