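import Mathlib
import Cfsg.Agent.Lib.Helper11.SFS1

/-!
Control of strong fusion in sections: lifting through a normal `p'`-subgroup, and reduction
modulo a normal subgroup (helper11).
-/

set_option autoImplicit false
set_option linter.unusedSectionVars false
open Cfsg

universe u

namespace Cfsg.Agent.Lib.Helper11.SFS

open Cfsg.Agent.Lib.Helper29 Cfsg.Agent.Lib.Helper1 Cfsg.Agent.Lib.Helper16
open Cfsg.Agent.S2005 (induced_map induced_map_eq induced_le induced_ne_bot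
  normalizer_le_normalizer_induced normalizer_map_mk not_dvd_relIndex_sup)

variable {p : ℕ} [Fact p.Prime] {W : ∀ (Q : Type u) [Group Q], Subgroup Q}

theorem sylow_le_normalizer_induced (hW : Cfsg.IsCharPFunctor.{u} p W) {X : Type u} [Group X]
    [Finite X] (S : Subgroup X) (hS : IsPGroup p S) :
    S ≤ Subgroup.normalizer ((Cfsg.inducedFunctor W S : Subgroup X) : Set X) :=
  Subgroup.le_normalizer.trans (normalizer_le_normalizer_induced hW S hS)

theorem inj_on_of_coprime {X : Type u} [Group X] [Finite X] (K : Subgroup X) [K.Normal]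
    (hK : (Nat.card K).Coprime p) (S : Subgroup X) (hS : IsPGroup p S) :
    ∀ a ∈ S, (QuotientGroup.mk' K) a = 1 → a = 1 := by
  intro a ha h
  have haK : a ∈ K := by
    rw [← QuotientGroup.ker_mk' K, MonoidHom.mem_ker]; exact h
  obtain ⟨k, hk⟩ := IsPGroup.iff_card.mp hS
  have hcop : (Nat.card S).Coprime (Nat.card K) := by
    rw [hk]; exact Nat.Coprime.pow_left k hK.symm
  have := Subgroup.inf_eq_bot_of_coprime hcop
  have h2 : a ∈ S ⊓ K := ⟨ha, haK⟩
  rw [this] at h2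
  exact h2

/-- lifting control of strong fusion through a normal `p'`-subgroup -/
theorem lift_pprime (hW : Cfsg.IsCharPFunctor.{u} p W) {X : Type u} [Group X] [Finite X]
    (K : Subgroup X) [K.Normal] (hK : (Nat.card K).Coprime p) (S : Sylow p X)
    (h : Ctl p W (X ⧸ K)) : CtlAt W X (S : Subgroup X) := by
  classical
  intro A g hA hAg
  set π := QuotientGroup.mk' K with hπ
  have hsurj : Function.Surjective π := QuotientGroup.mk'_surjective K
  set Sb : Sylow p (X ⧸ K) := S.mapSurjective hsurj with hSb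
  have hSbcoe : (Sb : Subgroup (X ⧸ K)) = (S : Subgroup X).map π := Sylow.coe_mapSurjective _ _
  have hinj := inj_on_of_coprime K hK (S : Subgroup X) S.isPGroup'
  have hinj' : ∀ a ∈ (S : Subgroup X), ∀ b ∈ (S : Subgroup X), π a = π b → a = b := by
    intro a ha b hb hab
    have h1 : π (a * b⁻¹) = 1 := by rw [map_mul, map_inv, hab, mul_inv_cancel]
    have := hinj (a * b⁻¹) (mul_mem ha (inv_mem hb)) h1
    exact mul_inv_eq_one.mp this
  set Wd : Subgroup X := Cfsg.inducedFunctor W (S : Subgroup X) with hWd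
  have hWb : Cfsg.inducedFunctor W (Sb : Subgroup (X ⧸ K)) = Wd.map π :=
    induced_map_eq hW π (S : Subgroup X) S.isPGroup' hinj hSbcoe.symm
  have hWdp : IsPGroup p Wd := S.isPGroup'.to_le (induced_le _)
  set N : Subgroup X := Subgroup.normalizer (Wd : Set X) with hN
  have hSN : (S : Subgroup X) ≤ N := sylow_le_normalizer_induced hW _ S.isPGroup'
  -- apply control in the quotient
  have hAb : π '' A ⊆ ((Sb : Subgroup (X ⧸ K)) : Set (X ⧸ K)) := by
    rintro _ ⟨a, ha, rfl⟩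
    rw [hSbcoe]
    exact ⟨a, hA ha, rfl⟩
  have hAbg : ∀ a ∈ π '' A, π g * a * (π g)⁻¹ ∈ (Sb : Subgroup (X ⧸ K)) := by
    rintro _ ⟨a, ha, rfl⟩
    rw [hSbcoe]
    exact ⟨g * a * g⁻¹, hAg a ha, by simp⟩
  obtain ⟨xb, hxb, hxba⟩ := h Sb (π '' A) (π g) hAb hAbg
  rw [hWb, normalizer_map_mk Wd K hWdp hK] at hxb
  obtain ⟨n, hn, rfl⟩ := hxb
  have hn' : n ∈ N := hn
  -- extend to the subgroup generated by A
  set B : Subgroup X := Subgroup.closure A with hB
  have hBS : B ≤ (S : Subgroup X) := (Subgroup.closure_le _).mpr hA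
  have hBp : IsPGroup p B := S.isPGroup'.to_le hBS
  set f₁ : X →* (X ⧸ K) := π.comp (MulAut.conj g).toMonoidHom with hf₁
  set f₂ : X →* (X ⧸ K) := π.comp (MulAut.conj n).toMonoidHom with hf₂
  have hBeq : B ≤ f₁.eqLocus f₂ := by
    rw [hB, Subgroup.closure_le]
    intro a ha
    have := hxba (π a) ⟨a, ha, rfl⟩
    show f₁ a = f₂ a
    simp only [hf₁, hf₂, MonoidHom.comp_apply, MulEquiv.coe_toMonoidHom, MulAut.conj_apply, map_mul,
      map_inv]
    exact this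
  have hBeq' : ∀ b ∈ B, π (g * b * g⁻¹) = π (n * b * n⁻¹) := by
    intro b hb
    have := hBeq hb
    exact this
  set Bg : Subgroup X := cj g B with hBg
  set Bn : Subgroup X := cj n B with hBn
  have hBgS : Bg ≤ (S : Subgroup X) := by
    rw [hBg, hB]
    show (Subgroup.closure A).map (MulAut.conj g).toMonoidHom ≤ _
    rw [MonoidHom.map_closure, Subgroup.closure_le]
    rintro _ ⟨a, ha, rfl⟩
    exact hAg a ha
  have hBgp : IsPGroup p Bg := S.isPGroup'.to_le hBgS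
  have hBnp : IsPGroup p Bn := isPGroup_cj hBp
  have hBnN : Bn ≤ N := by
    rintro _ ⟨b, hb, rfl⟩
    exact N.mul_mem (N.mul_mem hn' (hSN (hBS hb))) (N.inv_mem hn')
  have hBnsup : Bn ≤ Bg ⊔ K := by
    rintro _ ⟨b, hb, rfl⟩
    show n * b * n⁻¹ ∈ Bg ⊔ K
    have h1 : g * b * g⁻¹ ∈ Bg := conj_mem_cj hb
    have h2 : (g * b * g⁻¹)⁻¹ * (n * b * n⁻¹) ∈ K := by
      rw [← QuotientGroup.ker_mk' K, MonoidHom.mem_ker]
      show π ((g * b * g⁻¹)⁻¹ * (n * b * n⁻¹)) = 1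
      rw [map_mul, map_inv, hBeq' b hb, inv_mul_cancel]
    have : n * b * n⁻¹ = (g * b * g⁻¹) * ((g * b * g⁻¹)⁻¹ * (n * b * n⁻¹)) := by group
    rw [this]
    exact Subgroup.mul_mem_sup h1 h2
  set L₀ : Subgroup X := (Bg ⊔ K) ⊓ N with hL₀
  have hBgL₀ : Bg ≤ L₀ := le_inf le_sup_left (hBgS.trans hSN)
  have hBnL₀ : Bn ≤ L₀ := le_inf hBnsup hBnN
  have hidx : ¬ p ∣ Bg.relIndex L₀ := by
    have h1 := not_dvd_relIndex_sup (p := p) Bg K hK
    have h2 : Bg.relIndex L₀ * L₀.relIndex (Bg ⊔ K) = Bg.relIndex (Bg ⊔ K) :=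
      Subgroup.relIndex_mul_relIndex _ _ _ hBgL₀ inf_le_left
    intro hd
    apply h1
    rw [← h2]
    exact Dvd.dvd.mul_right hd _
  have hsyl : IsSylowSub p Bg L₀ := isSylowSub_of_not_dvd_relIndex hBgL₀ hBgp hidx
  obtain ⟨y, hyL₀, hy⟩ := exists_cj_le_of_isSylowSub hsyl hBnL₀ hBnp
  have hyN : y ∈ N := hyL₀.2
  have hysup : y ∈ Bg ⊔ K := hyL₀.1
  rw [Subgroup.mem_sup_of_normal_right] at hysup
  obtain ⟨b', hb', k', hk', rfl⟩ := hysup
  have hk'N : k' ∈ N := by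
    have : k' = b'⁻¹ * (b' * k') := by group
    rw [this]
    exact N.mul_mem (N.inv_mem (hSN (hBgS hb'))) hyN
  have hk'Bn : cj k' Bn ≤ Bg := by
    have h1 : cj (b' * k') Bn = cj b' (cj k' Bn) := (cj_cj b' k' Bn).symm
    rw [h1] at hy
    intro z hz
    have h2 : b' * z * b'⁻¹ ∈ Bg := hy (conj_mem_cj hz)
    have : z = b'⁻¹ * (b' * z * b'⁻¹) * b' := by group
    rw [this]
    exact Bg.mul_mem (Bg.mul_mem (Bg.inv_mem hb') h2) hb'
  refine ⟨k' * n, N.mul_mem hk'N hn', ?_⟩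
  intro a ha
  have haB : a ∈ B := Subgroup.subset_closure ha
  have h1 : k' * (n * a * n⁻¹) * k'⁻¹ ∈ Bg := hk'Bn (conj_mem_cj (conj_mem_cj haB))
  have h2 : (k' * n) * a * (k' * n)⁻¹ = k' * (n * a * n⁻¹) * k'⁻¹ := by group
  rw [h2]
  apply hinj' _ (hAg a ha) _ (hBgS h1)
  have hk1 : π k' = 1 := by
    rw [← MonoidHom.mem_ker, QuotientGroup.ker_mk']; exact hk'
  rw [hBeq' a haB]
  simp only [map_mul, map_inv, hk1, one_mul, inv_one, mul_one]

/-- control of strong fusion in a quotient, read in the group -/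
theorem quot_ctl {X : Type u} [Group X] [Finite X]
    (Q : Subgroup X) [Q.Normal] (S : Sylow p X)
    (h : Ctl p W (X ⧸ Q)) :
    ∀ (A : Set X) (g : X), A ⊆ ((S : Subgroup X) : Set X) → (∀ a ∈ A, g * a * g⁻¹ ∈ (S : Subgroup X)) →
      ∃ n : X, (QuotientGroup.mk' Q) n ∈ Subgroup.normalizer
        ((Cfsg.inducedFunctor W ((S : Subgroup X).map (QuotientGroup.mk' Q)) : Subgroup (X ⧸ Q)) :
          Set (X ⧸ Q)) ∧
        ∀ a ∈ A, (QuotientGroup.mk' Q) (g * a * g⁻¹) = (QuotientGroup.mk' Q) (n * a * n⁻¹) := by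
  intro A g hA hAg
  set π := QuotientGroup.mk' Q with hπ
  have hsurj : Function.Surjective π := QuotientGroup.mk'_surjective Q
  set Sb : Sylow p (X ⧸ Q) := S.mapSurjective hsurj with hSb
  have hSbcoe : (Sb : Subgroup (X ⧸ Q)) = (S : Subgroup X).map π := Sylow.coe_mapSurjective _ _
  have hAb : π '' A ⊆ ((Sb : Subgroup (X ⧸ Q)) : Set (X ⧸ Q)) := by
    rintro _ ⟨a, ha, rfl⟩
    rw [hSbcoe]
    exact ⟨a, hA ha, rfl⟩
  have hAbg : ∀ a ∈ π '' A, π g * a * (π g)⁻¹ ∈ (Sb : Subgroup (X ⧸ Q)) := by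
    rintro _ ⟨a, ha, rfl⟩
    rw [hSbcoe]
    exact ⟨g * a * g⁻¹, hAg a ha, by simp⟩
  obtain ⟨xb, hxb, hxba⟩ := h Sb (π '' A) (π g) hAb hAbg
  obtain ⟨n, rfl⟩ := hsurj xb
  rw [hSbcoe] at hxb
  refine ⟨n, hxb, ?_⟩
  intro a ha
  have := hxba (π a) ⟨a, ha, rfl⟩
  simp only [map_mul, map_inv]
  exact this

end Cfsg.Agent.Lib.Helper11.SFS
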