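import Mathlib
import Cfsg.Agent.Lib.Helper11.SFS2

/-!
Control of strong fusion in sections: the stability lemma for `X = C_X(Q) S` (helper11).
-/

set_option autoImplicit false
set_option linter.unusedSectionVars false
open Cfsg

universe u

namespace Cfsg.Agent.Lib.Helper11.SFS

open Cfsg.Agent.Lib.Helper29 Cfsg.Agent.Lib.Helper1 Cfsg.Agent.Lib.Helper16

variable {p : ℕ} [Fact p.Prime]

/-- a `p'`-element lies in any normal subgroup `C` with `C ⊔ S = ⊤`, `S` a `p`-group -/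
theorem mem_of_coprime_of_sup_eq_top {X : Type u} [Group X] [Finite X] (C S : Subgroup X) [C.Normal]
    (hS : IsPGroup p S) (hCS : C ⊔ S = ⊤) (z : X) (hz : (orderOf z).Coprime p) : z ∈ C := by
  have hzsup : z ∈ C ⊔ S := by rw [hCS]; exact Subgroup.mem_top z
  rw [Subgroup.mem_sup_of_normal_left] at hzsup
  obtain ⟨c, hc, s, hs, rfl⟩ := hzsup
  obtain ⟨k, hk⟩ := hS ⟨s, hs⟩
  have hk' : s ^ p ^ k = 1 := by
    have := congrArg Subtype.val hk
    simpa using this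
  -- (c s)^(p^k) ∈ C
  have h1 : ((QuotientGroup.mk (c * s) : X ⧸ C)) ^ p ^ k = 1 := by
    rw [QuotientGroup.mk_mul, (QuotientGroup.eq_one_iff c).mpr hc, one_mul, ← QuotientGroup.mk_pow, hk']
    rfl
  have h2 : (c * s) ^ p ^ k ∈ C := by
    rw [← QuotientGroup.mk_pow] at h1
    exact (QuotientGroup.eq_one_iff _).mp h1
  have hcop : (p ^ k).Coprime (orderOf (c * s)) := (Nat.Coprime.pow_left k hz.symm)
  obtain ⟨m, hm⟩ := exists_pow_eq_self_of_coprime hcop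
  rw [← hm]
  exact C.pow_mem h2 m

/-- the stability lemma -/
theorem stab_claim {X : Type u} [Group X] [Finite X] (S : Sylow p X) (Q : Subgroup X) [Q.Normal]
    (hQp : IsPGroup p Q)
    (hCS : Subgroup.centralizer (Q : Set X) ⊔ (S : Subgroup X) = ⊤)
    (B : Subgroup X) (hBS : B ≤ (S : Subgroup X))
    (htame : ¬ p ∣ ((S : Subgroup X) ⊓ Subgroup.normalizer (B : Set X)).relIndex
      (Subgroup.normalizer (B : Set X)))
    (h : X) (hh : h ∈ Subgroup.normalizer (B : Set X))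
    (hstab : ∀ b ∈ B, h * b * h⁻¹ * b⁻¹ ∈ Q) :
    ∃ s ∈ (S : Subgroup X), ∀ b ∈ B, h * b * h⁻¹ = s * b * s⁻¹ := by
  classical
  set N : Subgroup X := Subgroup.normalizer (B : Set X) with hN
  set Cb : Subgroup X := Subgroup.centralizer (B : Set X) with hCb
  set C : Subgroup X := Subgroup.centralizer (Q : Set X) with hC
  haveI : C.Normal := Subgroup.normal_centralizer
  have hp : p.Prime := Fact.out
  -- the subgroup Y of elements of N acting trivially on B modulo Q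
  let Y : Subgroup X :=
    { carrier := {y | y ∈ N ∧ ∀ b ∈ B, y * b * y⁻¹ * b⁻¹ ∈ Q}
      one_mem' := ⟨N.one_mem, fun b _ => by simp [Q.one_mem]⟩
      mul_mem' := by
        rintro y₁ y₂ ⟨h1, h1'⟩ ⟨h2, h2'⟩
        refine ⟨N.mul_mem h1 h2, fun b hb => ?_⟩
        have e : y₁ * y₂ * b * (y₁ * y₂)⁻¹ * b⁻¹ =
            (y₁ * (y₂ * b * y₂⁻¹ * b⁻¹) * y₁⁻¹) * (y₁ * b * y₁⁻¹ * b⁻¹) := by group
        rw [e]
        exact Q.mul_mem ((inferInstance : Q.Normal).conj_mem _ (h2' b hb) y₁) (h1' b hb)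
      inv_mem' := by
        rintro y ⟨h1, h1'⟩
        refine ⟨N.inv_mem h1, fun b hb => ?_⟩
        have hb₁ : y⁻¹ * b * y ∈ B := by
          have := (Subgroup.mem_normalizer_iff.mp (N.inv_mem h1) b).mp hb
          simpa using this
        have h3 := h1' _ hb₁
        have e : y⁻¹ * b * y⁻¹⁻¹ * b⁻¹ = (y * (y⁻¹ * b * y) * y⁻¹ * (y⁻¹ * b * y)⁻¹)⁻¹ := by group
        rw [e]
        exact Q.inv_mem h3 }
  have hY_mem : ∀ y, y ∈ Y ↔ (y ∈ N ∧ ∀ b ∈ B, y * b * y⁻¹ * b⁻¹ ∈ Q) := fun y => Iff.rfl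
  have hhY : h ∈ Y := ⟨hh, hstab⟩
  -- p'-elements of Y centralize B
  have hcent : ∀ z ∈ Y, (orderOf z).Coprime p → z ∈ Cb := by
    intro z hz hzo
    have hzC : z ∈ C := mem_of_coprime_of_sup_eq_top C (S : Subgroup X) S.isPGroup' hCS z hzo
    have h1 := pow_mem_centralizer_of_stable (T := B) (T₀ := Q) hzC hz.2
    obtain ⟨j, hj⟩ := IsPGroup.iff_card.mp hQp
    rw [hj] at h1
    have hcop : (p ^ j).Coprime (orderOf z) := Nat.Coprime.pow_left j hzo.symm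
    obtain ⟨m, hm⟩ := exists_pow_eq_self_of_coprime hcop
    rw [← hm]
    exact Cb.pow_mem h1 m
  -- every element of Y has a p-power lying in Cb
  have hpow : ∀ y ∈ Y, ∃ a : ℕ, y ^ p ^ a ∈ Cb := by
    intro y hy
    have ho : orderOf y ≠ 0 := (orderOf_pos y).ne'
    obtain ⟨a, m, hm, hom⟩ := Nat.exists_eq_pow_mul_and_not_dvd ho p hp.ne_one
    refine ⟨a, hcent _ (Y.pow_mem hy _) ?_⟩
    have h1 : orderOf (y ^ p ^ a) = m := by
      rw [orderOf_pow' y (pow_ne_zero a hp.ne_zero), hom,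
        Nat.gcd_eq_right (Dvd.intro _ rfl), Nat.mul_div_cancel_left m (pow_pos hp.pos a)]
    rw [h1]
    exact ((Nat.Prime.coprime_iff_not_dvd hp).mpr hm).symm
  -- the quotient N / Cb
  set Cn : Subgroup ↥N := Cb.subgroupOf N with hCn
  haveI : Cn.Normal := by
    rw [hCn, hCb, hN]
    infer_instance
  set Yn : Subgroup ↥N := Y.subgroupOf N with hYn
  have hYnn : Yn.Normal := by
    constructor
    intro y hy n
    rw [hYn, Subgroup.mem_subgroupOf] at hy ⊢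
    obtain ⟨hy1, hy2⟩ := hy
    refine ⟨(n * y * n⁻¹).2, fun b hb => ?_⟩
    have hnb : (n : X)⁻¹ * b * (n : X) ∈ B := by
      have := (Subgroup.mem_normalizer_iff.mp (N.inv_mem n.2) b).mp hb
      simpa using this
    have h3 := hy2 _ hnb
    have e : ((n * y * n⁻¹ : ↥N) : X) * b * ((n * y * n⁻¹ : ↥N) : X)⁻¹ * b⁻¹ =
        (n : X) * ((y : X) * ((n : X)⁻¹ * b * (n : X)) * (y : X)⁻¹ * ((n : X)⁻¹ * b * (n : X))⁻¹) * (n : X)⁻¹ := by
      simp only [Subgroup.coe_mul, Subgroup.coe_inv]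
      group
    rw [e]
    exact (inferInstance : Q.Normal).conj_mem _ h3 _
  set Yq : Subgroup (↥N ⧸ Cn) := Yn.map (QuotientGroup.mk' Cn) with hYq
  have hYqn : Yq.Normal := Subgroup.Normal.map hYnn _ (QuotientGroup.mk'_surjective Cn)
  have hYqp : IsPGroup p Yq := by
    rintro ⟨_, ⟨y, hy, rfl⟩⟩
    have hy' : (y : X) ∈ Y := hy
    obtain ⟨a, ha⟩ := hpow _ hy'
    refine ⟨a, ?_⟩
    apply Subtype.ext
    simp only [Subgroup.coe_pow, Subgroup.coe_one]
    rw [← map_pow]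
    show (QuotientGroup.mk (y ^ p ^ a) : ↥N ⧸ Cn) = 1
    rw [QuotientGroup.eq_one_iff, hCn, Subgroup.mem_subgroupOf]
    simpa using ha
  -- the Sylow subgroup of N
  have hTp : IsPGroup p (((S : Subgroup X) ⊓ N).subgroupOf N) :=
    (S.isPGroup'.to_le inf_le_left).comap_subtype
  let T : Sylow p ↥N := hTp.toSylow htame
  have hTcoe : (T : Subgroup ↥N) = ((S : Subgroup X) ⊓ N).subgroupOf N := rfl
  have hsurj : Function.Surjective (QuotientGroup.mk' Cn) := QuotientGroup.mk'_surjective Cn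
  have hle := normal_pgroup_le_sylow hYqn hYqp (T.mapSurjective hsurj)
  rw [Sylow.coe_mapSurjective] at hle
  have hhq : (QuotientGroup.mk' Cn) ⟨h, hh⟩ ∈ Yq :=
    ⟨⟨h, hh⟩, Subgroup.mem_subgroupOf.mpr hhY, rfl⟩
  obtain ⟨s, hs, hsh⟩ := hle hhq
  have hs' : (s : X) ∈ (S : Subgroup X) ⊓ N := hs
  refine ⟨(s : X), hs'.1, ?_⟩
  -- s⁻¹ h centralizes B
  have h1 : (QuotientGroup.mk (s⁻¹ * ⟨h, hh⟩) : ↥N ⧸ Cn) = 1 := by
    have : (QuotientGroup.mk s : ↥N ⧸ Cn) = QuotientGroup.mk ⟨h, hh⟩ := hsh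
    rw [QuotientGroup.mk_mul, QuotientGroup.mk_inv, this, inv_mul_cancel]
  rw [QuotientGroup.eq_one_iff, hCn, Subgroup.mem_subgroupOf] at h1
  have h2 : (s : X)⁻¹ * h ∈ Cb := by simpa using h1
  intro b hb
  have h3 := (Subgroup.mem_centralizer_iff.mp h2) b hb
  -- b * (s⁻¹ h) = (s⁻¹ h) * b
  calc h * b * h⁻¹ = (s : X) * (((s : X)⁻¹ * h) * b) * h⁻¹ := by group
    _ = (s : X) * (b * ((s : X)⁻¹ * h)) * h⁻¹ := by rw [h3]
    _ = (s : X) * b * (s : X)⁻¹ := by group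

end Cfsg.Agent.Lib.Helper11.SFS
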