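import Mathlib
import Cfsg.Agent.Lib.Helper11.SFS5

/-!
Control of strong fusion in sections: the main induction (Glauberman) (helper11).
If `W(S*)` is normal in every section `G*` with `C(O_p(G*)) ≤ O_p(G*)`, then `W` controls strong
fusion in every section.
-/

set_option autoImplicit false
set_option linter.unusedSectionVars false
open Cfsg

universe u

namespace Cfsg.Agent.Lib.Helper11.SFS

open Cfsg.Agent.Lib.Helper29 Cfsg.Agent.Lib.Helper1 Cfsg.Agent.Lib.Helper16
open Cfsg.Agent.S2005 (induced_map induced_map_eq induced_le induced_ne_bot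
  normalizer_le_normalizer_induced IsSec map_pCore_equiv)

section Defs

variable (p : ℕ) [Fact p.Prime] (W : ∀ (Q : Type u) [Group Q], Subgroup Q)

/-- the local hypothesis on a single group -/
def LocN (Y : Type u) [Group Y] : Prop :=
  Subgroup.centralizer ((Cfsg.pCore p Y : Subgroup Y) : Set Y) ≤ Cfsg.pCore p Y →
  ∀ T : Sylow p Y, (Cfsg.inducedFunctor (G := Y) W (T : Subgroup Y)).Normal

/-- every section satisfies the local hypothesis -/
def SecLocN (X : Type u) [Group X] : Prop :=
  ∀ (Y : Type u) [Group Y] [Finite Y], IsSec Y X → LocN p W Y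

end Defs

variable {p : ℕ} [Fact p.Prime] {W : ∀ (Q : Type u) [Group Q], Subgroup Q}

theorem SecLocN.subgroup {X : Type u} [Group X] (h : SecLocN p W X) (H : Subgroup X) :
    SecLocN p W H := fun Y _ _ hY => h Y (IsSec.of_subgroup H hY)

theorem SecLocN.quotient {X : Type u} [Group X] (h : SecLocN p W X) (N : Subgroup X) [N.Normal] :
    SecLocN p W (X ⧸ N) := fun Y _ _ hY => h Y (IsSec.of_quotient N hY)

theorem LocN.of_equiv (hW : Cfsg.IsCharPFunctor.{u} p W) {Y₁ Y₂ : Type u} [Group Y₁] [Group Y₂]
    [Finite Y₁] (e : Y₁ ≃* Y₂) (h : LocN p W Y₁) : LocN p W Y₂ := by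
  haveI : Finite Y₂ := Finite.of_equiv _ e.toEquiv
  intro hC T
  have hO : (Cfsg.pCore p Y₁).map e.toMonoidHom = Cfsg.pCore p Y₂ := map_pCore_equiv e
  have hmemO : ∀ y : Y₁, y ∈ Cfsg.pCore p Y₁ ↔ e y ∈ Cfsg.pCore p Y₂ := by
    intro y
    rw [← hO]
    constructor
    · intro hy
      exact ⟨y, hy, rfl⟩
    · rintro ⟨y', hy', hyy'⟩
      have : y' = y := e.injective hyy'
      rwa [← this]
  have hC₁ : Subgroup.centralizer ((Cfsg.pCore p Y₁ : Subgroup Y₁) : Set Y₁) ≤ Cfsg.pCore p Y₁ := by
    intro x hx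
    rw [hmemO]
    apply hC
    rw [Subgroup.mem_centralizer_iff]
    intro y₂ hy₂
    obtain ⟨y₁, rfl⟩ := e.surjective y₂
    have h1 : y₁ ∈ Cfsg.pCore p Y₁ := (hmemO y₁).2 hy₂
    have h2 := Subgroup.mem_centralizer_iff.1 hx y₁ h1
    rw [← map_mul, ← map_mul, h2]
  let T₁ : Sylow p Y₁ := T.comapOfInjective e.toMonoidHom e.injective
    (by rw [MonoidHom.range_eq_top.2 e.surjective]; exact le_top)
  have hT₁ : (T₁ : Subgroup Y₁) = (T : Subgroup Y₂).comap e.toMonoidHom := rfl
  have hmap : (T₁ : Subgroup Y₁).map e.toMonoidHom = (T : Subgroup Y₂) := by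
    rw [hT₁, Subgroup.map_comap_eq_self_of_surjective e.surjective]
  have hn := h hC₁ T₁
  have heq := induced_map_eq hW e.toMonoidHom (T₁ : Subgroup Y₁) T₁.2
    (fun a _ ha => e.injective (by simpa using ha)) hmap
  rw [heq]
  exact hn.map e.toMonoidHom e.surjective

theorem secLocN_of_hloc (hW : Cfsg.IsCharPFunctor.{u} p W) {G : Type u} [Group G] [Finite G]
    (hloc : ∀ (K R : Subgroup G) [hR : (R.subgroupOf K).Normal], LocN p W (↥K ⧸ R.subgroupOf K)) :
    SecLocN p W G := by
  rintro Y _ _ ⟨K, f, hf⟩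
  have hRK : (f.ker.map K.subtype).subgroupOf K = f.ker :=
    Subgroup.comap_map_eq_self_of_injective K.subtype_injective _
  haveI : ((f.ker.map K.subtype).subgroupOf K).Normal := by rw [hRK]; infer_instance
  have e : ↥K ⧸ (f.ker.map K.subtype).subgroupOf K ≃* Y :=
    (QuotientGroup.quotientMulEquivOfEq hRK).trans (QuotientGroup.quotientKerEquivOfSurjective f hf)
  exact LocN.of_equiv hW e (hloc K (f.ker.map K.subtype))

theorem card_quotient_lt {X : Type u} [Group X] [Finite X] (N : Subgroup X) [N.Normal]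
    (hN : N ≠ ⊥) : Nat.card (X ⧸ N) < Nat.card X := by
  have h1 : Nat.card (X ⧸ N) = N.index := rfl
  have h2 := Subgroup.card_mul_index N
  have h3 : 1 < Nat.card N := N.one_lt_card_iff_ne_bot.mpr hN
  have h4 : 0 < N.index := Nat.pos_of_ne_zero Subgroup.index_ne_zero_of_finite
  rw [h1]
  nlinarith

/-- the main theorem -/
theorem main (hW : Cfsg.IsCharPFunctor.{u} p W) : ∀ (n : ℕ) (X : Type u) [Group X] [Finite X],
    Nat.card X ≤ n → SecLocN p W X → Ctl p W X := by
  intro n
  induction n with
  | zero =>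
    intro X _ _ hcard
    have : 0 < Nat.card X := Nat.card_pos
    omega
  | succ n ih =>
    intro X _ _ hcard hsec
    classical
    have IHsub : ∀ H : Subgroup X, H ≠ ⊤ → Ctl p W ↥H := by
      intro H hH
      apply ih ↥H _ (hsec.subgroup H)
      have := Cfsg.Agent.Lib.Helper20.card_lt_of_lt_top (lt_top_iff_ne_top.mpr hH)
      omega
    have IHquot : ∀ (N : Subgroup X) [N.Normal], N ≠ ⊥ → Ctl p W (X ⧸ N) := by
      intro N _ hN
      apply ih (X ⧸ N) _ (hsec.quotient N)
      have := card_quotient_lt N hN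
      omega
    intro S
    set Q : Subgroup X := Cfsg.pCore p X with hQ
    haveI hQn : Q.Normal := pCore_normal p X
    have hQp : IsPGroup p Q := pCore_isPGroup p X
    have hconj := conjFunctor hW X
    by_cases hQbot : Q = ⊥
    · -- O_p(X) = 1 : local-to-global through well-placed subgroups
      have hloc : ∀ T : Subgroup X, T ≠ ⊥ →
          Cfsg.IsWellPlaced p (Cfsg.inducedFunctor (G := X) W) (S : Subgroup X) T →
          Cfsg.ControlsStrongFusionIn p (Cfsg.inducedFunctor (G := X) W)
            (Subgroup.normalizer ((T : Subgroup X) : Set X)) := by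
        intro T hTne hT
        have hne : Subgroup.normalizer ((T : Subgroup X) : Set X) ≠ ⊤ := by
          intro htop
          have hTn : T.Normal := Subgroup.normalizer_eq_top_iff.mp htop
          have hTp : IsPGroup p T := S.isPGroup'.to_le hT.1
          have := le_pCore hTn hTp
          rw [← hQ, hQbot] at this
          exact hTne (le_bot_iff.mp this)
        exact ctlIn_of_ctl_sub hW _ (IHsub _ hne)
      have htop := controls_strong_fusion_of_local S _ hconj hloc
      intro A g hA hAg
      obtain ⟨x, hx, hxa⟩ := ctlAt_of_ctlIn hW htop (le_top : (S : Subgroup X) ≤ ⊤) S.isPGroup'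
        (by rw [Subgroup.relIndex_top_right]; exact S.not_dvd_index) A g (Subgroup.mem_top _) hA hAg
      exact ⟨x, hx.2, hxa⟩
    · by_cases hcon : Subgroup.centralizer ((Q : Subgroup X) : Set X) ≤ Q
      · -- constrained case
        have hn := hsec X (IsSec.refl X) hcon S
        intro A g hA hAg
        refine ⟨g, ?_, fun a _ => rfl⟩
        rw [Subgroup.normalizer_eq_top_iff.mpr hn]
        exact Subgroup.mem_top g
      · by_cases hK : Cfsg.pPrimeCore p X = ⊥
        · have hSC : ¬ (S : Subgroup X) ⊓ Subgroup.centralizer ((Q : Subgroup X) : Set X) ≤ Q :=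
            fun hle => hcon (centralizer_le_of_inf_le S hK hle)
          by_cases hCS : Subgroup.centralizer ((Q : Subgroup X) : Set X) ⊔ (S : Subgroup X) = ⊤
          · exact case_full hW S IHsub (IHquot Q hQbot) hSC hCS
          · exact case_proper hW S IHsub hSC hCS
        · haveI : (Cfsg.pPrimeCore p X).Normal := Cfsg.Agent.Lib.Helper2.pPrimeCore_normal p
          exact lift_pprime hW (Cfsg.pPrimeCore p X) (Cfsg.Agent.Lib.Helper2.pPrimeCore_coprime p) S
            (IHquot _ hK)

end Cfsg.Agent.Lib.Helper11.SFS
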