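import Mathlib
import Cfsg.Agent.Lib.Helper11.NPSIso
import Cfsg.Agent.Lib.Helper11.SFS6
import Cfsg.Agent.Lib.Helper1.KInfControl

/-!
Glue: from "K-infinity not normal in a constrained group ⇒ some quotient is not p-stable"
to "every section p-stable ⇒ K-infinity controls strong fusion" (helper11).
-/

set_option autoImplicit false
open Cfsg

universe u

namespace Cfsg.Agent.Lib.Helper11.KInfGlue

open Cfsg.Agent.S2005 (IsSec induced_le)
open Cfsg.Agent.Lib.Helper11.SFS
open Cfsg.Agent.Lib.Helper11.NPSIso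

variable {p : ℕ} [Fact p.Prime]

/-- the (abstract) non-normality hypothesis -/
def HNonNormal (p : ℕ) [Fact p.Prime] (W : ∀ (Q : Type u) [Group Q], Subgroup Q) : Prop :=
  ∀ (Y : Type u) [Group Y] [Finite Y] (T : Sylow p Y),
    ¬ (Cfsg.inducedFunctor (G := Y) W (T : Subgroup Y)).Normal →
    Subgroup.centralizer ((Cfsg.pCore p Y : Subgroup Y) : Set Y) ≤ Cfsg.pCore p Y →
    ∃ (N : Subgroup Y) (_ : N.Normal), ¬ Cfsg.IsNormalizerPStable p (Y ⧸ N)

theorem isSec_quotient_of_isSec {G Y : Type u} [Group G] [Group Y] (hY : IsSec Y G)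
    (N : Subgroup Y) [N.Normal] : IsSec (Y ⧸ N) G := by
  obtain ⟨K, f, hf⟩ := hY
  exact ⟨K, (QuotientGroup.mk' N).comp f, (QuotientGroup.mk'_surjective N).comp hf⟩

theorem secLocN_of_nps {W : ∀ (Q : Type u) [Group Q], Subgroup Q} (h : HNonNormal p W)
    {G : Type u} [Group G] [Finite G]
    (hst : ∀ (K R : Subgroup G) [_hR : (R.subgroupOf K).Normal],
      Cfsg.IsNormalizerPStable p (↥K ⧸ R.subgroupOf K)) : SecLocN p W G := by
  intro Y _ _ hY hcon T
  by_contra hn
  obtain ⟨N, hN, hnps⟩ := h Y T hn hcon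
  exact hnps (nps_of_isSec hst (Y ⧸ N) (isSec_quotient_of_isSec hY N))

theorem controls_of_nps {W : ∀ (Q : Type u) [Group Q], Subgroup Q}
    (hW : Cfsg.IsCharPFunctor.{u} p W) (h : HNonNormal p W)
    {G : Type u} [Group G] [Finite G]
    (hst : ∀ (K R : Subgroup G) [_hR : (R.subgroupOf K).Normal],
      Cfsg.IsNormalizerPStable p (↥K ⧸ R.subgroupOf K)) (S : Sylow p G) :
    Cfsg.ControlsStrongFusion p (Cfsg.inducedFunctor (G := G) W (S : Subgroup G)) := by
  have hsec := secLocN_of_nps h hst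
  have hctl := main hW _ G le_rfl hsec S
  refine ⟨S, induced_le _, fun A hA => ⟨hA, fun g hg => ?_⟩⟩
  exact hctl A g hA (fun a ha => hg ⟨a, ha, rfl⟩)

end Cfsg.Agent.Lib.Helper11.KInfGlue
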