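import Mathlib

/-!
Finite groups whose centre has index `p²` (helper11), for S5265.
-/
set_option autoImplicit false

namespace Cfsg.Agent.Lib.Helper11.ESd

open Subgroup
open scoped commutatorElement

variable {G : Type*} [Group G]

theorem exists_not_mem_two {H₁ H₂ : Subgroup G} (h₁ : H₁ ≠ ⊤) (h₂ : H₂ ≠ ⊤) :
    ∃ t : G, t ∉ H₁ ∧ t ∉ H₂ := by
  obtain ⟨a, -, ha⟩ := SetLike.exists_of_lt (lt_top_iff_ne_top.2 h₁)
  obtain ⟨b, -, hb⟩ := SetLike.exists_of_lt (lt_top_iff_ne_top.2 h₂)
  by_cases ha2 : a ∈ H₂
  · by_cases hb1 : b ∈ H₁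
    · refine ⟨a * b, fun h => ha ?_, fun h => hb ?_⟩
      · have := H₁.mul_mem h (H₁.inv_mem hb1)
        simpa using this
      · have := H₂.mul_mem (H₂.inv_mem ha2) h
        simpa using this
    · exact ⟨b, hb1, hb⟩
  · exact ⟨a, ha, ha2⟩

variable [Finite G] {p : ℕ} [Fact p.Prime]

theorem comm_mem_center (hidx : (center G).index = p ^ 2) (g h : G) : ⁅g, h⁆ ∈ center G := by
  have hcard : Nat.card (G ⧸ center G) = p ^ 2 := by rw [← hidx]; rfl
  have hc := IsPGroup.commutative_of_card_eq_prime_sq hcard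
  rw [← QuotientGroup.eq_one_iff, commutatorElement_def]
  simp only [QuotientGroup.mk_mul, QuotientGroup.mk_inv]
  rw [hc (g : G ⧸ center G) h]
  group

/-- `g ↦ ⁅g, x⁆` as a homomorphism -/
def kap (hidx : (center G).index = p ^ 2) (x : G) : G →* G where
  toFun g := ⁅g, x⁆
  map_one' := by simp [commutatorElement_def]
  map_mul' g h := by
    have hz := comm_mem_center hidx h x
    have e : ⁅g * h, x⁆ = g * ⁅h, x⁆ * g⁻¹ * ⁅g, x⁆ := by
      simp only [commutatorElement_def]; group
    rw [e, mul_assoc g, (mem_center_iff.1 hz g⁻¹).symm, ← mul_assoc, mul_inv_cancel, one_mul]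
    exact (mem_center_iff.1 hz _).symm

theorem kap_apply (hidx : (center G).index = p ^ 2) (x g : G) : kap hidx x g = ⁅g, x⁆ := rfl

theorem kap_ker (hidx : (center G).index = p ^ 2) (x : G) :
    (kap hidx x).ker = centralizer {x} := by
  ext g
  rw [MonoidHom.mem_ker, kap_apply, commutatorElement_eq_one_iff_commute, mem_centralizer_iff]
  constructor
  · intro h y hy
    rw [Set.mem_singleton_iff.1 hy]
    exact h.eq.symm
  · intro h
    exact (h x rfl).symm

theorem index_centralizer (hidx : (center G).index = p ^ 2) {x : G} (hx : x ∉ center G) :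
    (centralizer ({x} : Set G)).index = p := by
  have hp : p.Prime := Fact.out
  have hle : center G ≤ centralizer {x} := center_le_centralizer _
  have hdvd : (centralizer ({x} : Set G)).index ∣ p ^ 2 := hidx ▸ index_dvd_of_le hle
  obtain ⟨k, hk, hk2⟩ := (Nat.dvd_prime_pow hp).1 hdvd
  have hx' : x ∈ centralizer ({x} : Set G) := by
    rw [mem_centralizer_iff]
    intro y hy
    rw [Set.mem_singleton_iff.1 hy]
  interval_cases k
  · exfalso
    rw [pow_zero, index_eq_one] at hk2
    apply hx
    rw [mem_center_iff]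
    intro g
    have hg : g ∈ centralizer ({x} : Set G) := hk2 ▸ mem_top g
    rw [mem_centralizer_iff] at hg
    exact (hg x rfl).symm
  · rw [hk2, pow_one]
  · exfalso
    have hcard : Nat.card (centralizer ({x} : Set G)) = Nat.card (center G) := by
      have h1 := (centralizer ({x} : Set G)).index_mul_card
      have h2 := (center G).index_mul_card
      rw [hk2] at h1
      rw [hidx] at h2
      have hpos : 0 < p ^ 2 := pow_pos hp.pos 2
      exact Nat.eq_of_mul_eq_mul_left hpos (h1.trans h2.symm)
    have heq : center G = centralizer ({x} : Set G) :=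
      eq_of_le_of_card_ge hle hcard.le
    exact hx (heq ▸ hx')

theorem card_range_kap (hidx : (center G).index = p ^ 2) {x : G} (hx : x ∉ center G) :
    Nat.card (kap hidx x).range = p := by
  rw [← Nat.card_congr (QuotientGroup.quotientKerEquivRange (kap hidx x)).toEquiv, kap_ker,
    ← index_centralizer hidx hx]
  rfl

theorem eq_of_prime_card_of_mem {H₁ H₂ : Subgroup G} (h₁ : Nat.card H₁ = p) (h₂ : Nat.card H₂ = p)
    {c : G} (hc : c ≠ 1) (hc₁ : c ∈ H₁) (hc₂ : c ∈ H₂) : H₁ = H₂ := by
  have key : ∀ {H : Subgroup G}, Nat.card H = p → c ∈ H → H = zpowers c := by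
    intro H hH hcH
    apply le_antisymm
    · intro d hd
      have h1 : zpowers (⟨c, hcH⟩ : H) = ⊤ :=
        zpowers_eq_top_of_prime_card hH (fun h => hc (congrArg Subtype.val h))
      have h2 : (⟨d, hd⟩ : H) ∈ zpowers (⟨c, hcH⟩ : H) := h1 ▸ mem_top _
      obtain ⟨k, hk⟩ := mem_zpowers_iff.1 h2
      exact mem_zpowers_iff.2 ⟨k, by simpa using congrArg Subtype.val hk⟩
    · exact zpowers_le.2 hcH
  rw [key h₁ hc₁, key h₂ hc₂]

theorem range_kap_eq (hidx : (center G).index = p ^ 2) {x y : G} (hx : x ∉ center G)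
    (hy : y ∉ center G) : (kap hidx x).range = (kap hidx y).range := by
  have noncomm : ∀ {x y : G}, x ∉ center G → y ∉ center G → ⁅x, y⁆ ≠ 1 →
      (kap hidx x).range = (kap hidx y).range := by
    intro x y hx hy hxy
    apply eq_of_prime_card_of_mem (card_range_kap hidx hx) (card_range_kap hidx hy) hxy
    · have : ⁅x, y⁆ = (kap hidx x y)⁻¹ := by
        rw [kap_apply, commutatorElement_inv]
      rw [this]
      exact inv_mem ⟨y, rfl⟩
    · exact ⟨x, rfl⟩
  by_cases hxy : ⁅x, y⁆ = 1
  · have h1 : centralizer ({x} : Set G) ≠ ⊤ := by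
      intro h
      have := index_centralizer hidx hx
      rw [h, index_top] at this
      exact (Fact.out : p.Prime).one_lt.ne this
    have h2 : centralizer ({y} : Set G) ≠ ⊤ := by
      intro h
      have := index_centralizer hidx hy
      rw [h, index_top] at this
      exact (Fact.out : p.Prime).one_lt.ne this
    obtain ⟨t, ht1, ht2⟩ := exists_not_mem_two h1 h2
    have htx : ⁅t, x⁆ ≠ 1 := by
      intro h
      apply ht1
      rw [← kap_ker hidx, MonoidHom.mem_ker, kap_apply, h]
    have hty : ⁅t, y⁆ ≠ 1 := by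
      intro h
      apply ht2
      rw [← kap_ker hidx, MonoidHom.mem_ker, kap_apply, h]
    have htZ : t ∉ center G := by
      intro h
      apply htx
      rw [commutatorElement_eq_one_iff_commute]
      exact (mem_center_iff.1 h x).symm
    exact (noncomm htZ hx htx).symm.trans (noncomm htZ hy hty)
  · exact noncomm hx hy hxy

/-- the derived group has order `p` (as a subgroup `K` containing all commutators) -/
theorem exists_comm_subgroup (hidx : (center G).index = p ^ 2) :
    ∃ K : Subgroup G, Nat.card K = p ∧ K ≤ center G ∧ ∀ g h : G, ⁅g, h⁆ ∈ K := by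
  have hne : center G ≠ ⊤ := by
    intro h
    rw [h, index_top] at hidx
    have := (Fact.out : p.Prime).one_lt
    have : 1 < p ^ 2 := Nat.one_lt_pow (by norm_num) this
    omega
  obtain ⟨x₀, -, hx₀⟩ := SetLike.exists_of_lt (lt_top_iff_ne_top.2 hne)
  refine ⟨(kap hidx x₀).range, card_range_kap hidx hx₀, ?_, ?_⟩
  · rintro _ ⟨g, rfl⟩
    exact comm_mem_center hidx g x₀
  · intro g h
    by_cases hh : h ∈ center G
    · have : ⁅g, h⁆ = 1 := by
        rw [commutatorElement_eq_one_iff_commute]
        exact (mem_center_iff.1 hh g)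
      rw [this]
      exact one_mem _
    · rw [range_kap_eq hidx hx₀ hh]
      exact ⟨g, rfl⟩

end Cfsg.Agent.Lib.Helper11.ESd
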