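import Mathlib
import Cfsg.Agent.Lib.Helper11.AG5

/-!
Alperin–Goldschmidt theorem relative to a selector of fully normalized subgroups (helper11):
the conjugation family can be taken inside any class `Sel` of fully normalized subgroups of `P`
containing a conjugate of every subgroup of `P` (for instance the well-placed subgroups).
-/

set_option autoImplicit false

namespace Cfsg.Agent.Lib.Helper11.AG

open Cfsg Cfsg.Agent.Lib.Helper29 Cfsg.Agent.Lib.Helper1 Cfsg.Agent.Lib.Helper2

variable {G : Type*} [Group G] [Finite G] {p : ℕ} [Fact p.Prime]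

/-- A selector: a class of fully normalized subgroups of `P` containing a conjugate of every
subgroup of `P`. -/
structure IsSelector (P : Sylow p G) (Sel : Set (Subgroup G)) : Prop where
  le : ∀ U ∈ Sel, U ≤ (P : Subgroup G)
  syl : ∀ U ∈ Sel, ¬ p ∣ ((P : Subgroup G) ⊓ Subgroup.normalizer (U : Set G)).relIndex
    (Subgroup.normalizer (U : Set G))
  ex : ∀ T : Subgroup G, T ≤ (P : Subgroup G) → ∃ g : G, cj g T ∈ Sel

theorem IsSelector.sylow_mem {P : Sylow p G} {Sel : Set (Subgroup G)} (h : IsSelector P Sel) :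
    (P : Subgroup G) ∈ Sel := by
  obtain ⟨g, hg⟩ := h.ex P le_rfl
  have : cj g (P : Subgroup G) = P :=
    Subgroup.eq_of_le_of_card_ge (h.le _ hg) (by rw [card_cj])
  rwa [this] at hg

/-- The local step relative to a family containing the relevant Alperin–Goldschmidt members. -/
theorem local_step_gen (P : Sylow p G) (𝓕 : Set (Subgroup G)) {U : Subgroup G}
    (hUP : U ≤ (P : Subgroup G))
    (hUsyl : ¬ p ∣ ((P : Subgroup G) ⊓ Subgroup.normalizer (U : Set G)).relIndex
      (Subgroup.normalizer (U : Set G)))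
    (hU𝓕 : U ∈ AGFam p (P : Subgroup G) → U ∈ 𝓕)
    (ih : ∀ T : Subgroup G, T ≤ (P : Subgroup G) → Nat.card U < Nat.card T →
      ∀ g : G, cj g⁻¹ T ≤ (P : Subgroup G) → WChain 𝓕 (T : Set G) g)
    (m : G) (hm : m ∈ Subgroup.normalizer (U : Set G)) :
    WChain 𝓕 (U : Set G) m := by
  have hR := isSylowSub_nP P hUsyl
  have hUp : IsPGroup p U := P.isPGroup'.to_le hUP
  have hUN : U ≤ Subgroup.normalizer (U : Set G) := Subgroup.le_normalizer
  have hUL : U ≤ oppp p (Subgroup.normalizer (U : Set G)) := le_oppp hUN le_rfl hUp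
  have hKcent := opp_le_centralizer hUp
  have hcover := oppp_le_sup hR inf_le_right
  by_cases h1 : ((P : Subgroup G) ⊓ Subgroup.normalizer (U : Set G)) ⊓
      Subgroup.centralizer (U : Set G) ≤ U
  · by_cases h2 : ((P : Subgroup G) ⊓ Subgroup.normalizer (U : Set G)) ⊓
        oppp p (Subgroup.normalizer (U : Set G)) ≤ U
    · exact WChain.of_fchain (FChain.single (hU𝓕 (mem_AGFam P hUP hUsyl h1 h2)) hm
        (subset_refl _))
    · obtain ⟨l, hl, n, hn, rfl⟩ := frattini_sub hR inf_le_right (oppp_le p _)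
        (le_normalizer_oppp p _) m hm
      have hnn : ((P : Subgroup G) ⊓ Subgroup.normalizer (U : Set G)) ⊓
          oppp p (Subgroup.normalizer (U : Set G)) ≤
          Subgroup.normalizer ((opp p (Subgroup.normalizer (U : Set G)) : Subgroup G) : Set G) :=
        (inf_le_right.trans (oppp_le p _)).trans (le_normalizer_opp p _)
      obtain ⟨q, hq, k, hk, rfl⟩ := mem_sup_of_le_normalizer hnn (hcover hl)
      have hqN : q ∈ Subgroup.normalizer (U : Set G) := (oppp_le p _) hq.2
      have hk' : q * k * q⁻¹ ∈ Subgroup.centralizer (U : Set G) := by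
        apply hKcent
        exact (Subgroup.mem_normalizer_iff.mp ((le_normalizer_opp p _) hqN) k).mp hk
      have hUQ : U ≤ ((P : Subgroup G) ⊓ Subgroup.normalizer (U : Set G)) ⊓
          oppp p (Subgroup.normalizer (U : Set G)) := le_inf (le_inf hUP hUN) hUL
      have hcard := card_lt_of_le_of_not_le hUQ h2
      have hqn : q * n ∈ Subgroup.normalizer ((((P : Subgroup G) ⊓
          Subgroup.normalizer (U : Set G)) ⊓ oppp p (Subgroup.normalizer (U : Set G)) :
          Subgroup G) : Set G) := mul_mem (Subgroup.le_normalizer hq) hn.2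
      have hch := ih _ (inf_le_left.trans inf_le_left) hcard (q * n)
        (by rw [cj_inv_eq_of_mem_normalizer hqn]; exact inf_le_left.trans inf_le_left)
      have := WChain.centralizer_mul hk' (hch.mono (SetLike.coe_subset_coe.mpr hUQ))
      have e : q * k * n = q * k * q⁻¹ * (q * n) := by group
      rw [e]
      exact this
  · obtain ⟨c, hc, n, hn, rfl⟩ := frattini_sub hR inf_le_right
      (Subgroup.centralizer_le_normalizer _) (normalizer_le_normalizer_centralizer U) m hm
    have hnD : n ∈ Subgroup.normalizer ((U ⊔ (((P : Subgroup G) ⊓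
        Subgroup.normalizer (U : Set G)) ⊓ Subgroup.centralizer (U : Set G)) : Subgroup G) :
        Set G) :=
      le_normalizer_sup (L := Subgroup.normalizer (U : Set G) ⊓ Subgroup.normalizer
        (((((P : Subgroup G) ⊓ Subgroup.normalizer (U : Set G)) ⊓
          Subgroup.centralizer (U : Set G)) : Subgroup G) : Set G)) inf_le_left inf_le_right hn
    have hcard := card_lt_of_le_of_not_le (le_sup_left : U ≤ U ⊔ (((P : Subgroup G) ⊓
        Subgroup.normalizer (U : Set G)) ⊓ Subgroup.centralizer (U : Set G)))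
      (fun h => h1 (le_sup_right.trans h))
    have hDP : U ⊔ (((P : Subgroup G) ⊓ Subgroup.normalizer (U : Set G)) ⊓
        Subgroup.centralizer (U : Set G)) ≤ (P : Subgroup G) :=
      sup_le hUP (inf_le_left.trans inf_le_left)
    have hch := ih _ hDP hcard n (by rw [cj_inv_eq_of_mem_normalizer hnD]; exact hDP)
    exact WChain.centralizer_mul hc (hch.mono (SetLike.coe_subset_coe.mpr le_sup_left))

theorem main_sel (P : Sylow p G) (Sel : Set (Subgroup G)) (hSel : IsSelector P Sel) :
    ∀ (k : ℕ) (T : Subgroup G), T ≤ (P : Subgroup G) →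
    Nat.card P - Nat.card T = k → ∀ g : G, cj g⁻¹ T ≤ (P : Subgroup G) →
    WChain (AGFam p (P : Subgroup G) ∩ Sel) (T : Set G) g := by
  intro k
  induction k using Nat.strong_induction_on with
  | _ k ih =>
    intro T hTP hk g hg
    have hcardT : Nat.card T ≤ Nat.card P := Subgroup.card_le_of_le hTP
    have ih' : ∀ U : Subgroup G, Nat.card U = Nat.card T → ∀ T' : Subgroup G,
        T' ≤ (P : Subgroup G) → Nat.card U < Nat.card T' →
        ∀ g' : G, cj g'⁻¹ T' ≤ (P : Subgroup G) →
          WChain (AGFam p (P : Subgroup G) ∩ Sel) (T' : Set G) g' := by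
      intro U hU T' hT'P hlt g' hg'
      have hle : Nat.card T' ≤ Nat.card P := Subgroup.card_le_of_le hT'P
      exact ih (Nat.card P - Nat.card T') (by omega) T' hT'P rfl g' hg'
    by_cases hTeq : T = (P : Subgroup G)
    · have hgN : g ∈ Subgroup.normalizer (((P : Subgroup G) : Subgroup G) : Set G) := by
        have heq : cj g⁻¹ (P : Subgroup G) = P := by
          apply Subgroup.eq_of_le_of_card_ge (hTeq ▸ hg)
          rw [card_cj]
        have := mem_normalizer_of_cj_eq heq
        simpa using inv_mem this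
      rw [hTeq]
      exact local_step_gen P (AGFam p (P : Subgroup G) ∩ Sel) le_rfl
        (not_dvd_relIndex_sylow_normalizer P) (fun h => ⟨h, hSel.sylow_mem⟩)
        (fun T' hT'P hlt => absurd (Subgroup.card_le_of_le hT'P) (not_le.mpr hlt)) g hgN
    · have hlt : T < (P : Subgroup G) := lt_of_le_of_ne hTP hTeq
      have hTp : IsPGroup p T := P.isPGroup'.to_le hTP
      obtain ⟨g₀, hg₀sel⟩ := hSel.ex T hTP
      have hg₀P := hSel.le _ hg₀sel
      have hg₀syl := hSel.syl _ hg₀sel
      set U := cj g₀ T with hU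
      have hUcard : Nat.card U = Nat.card T := card_cj g₀ T
      obtain ⟨c₁, hc₁U, hc₁N⟩ := exists_cj_normalizer_le P T U g₀ rfl hg₀syl
      set Tg := cj g⁻¹ T with hTg
      have hg₀g : cj (g₀ * g) Tg = U := by
        rw [hTg, cj_cj, mul_assoc, mul_inv_cancel, mul_one]
      obtain ⟨c₂, hc₂U, hc₂N⟩ := exists_cj_normalizer_le P Tg U (g₀ * g) hg₀g hg₀syl
      have hTglt : Tg < (P : Subgroup G) := by
        refine lt_of_le_of_ne hg ?_
        intro heq
        have : Nat.card T = Nat.card P := by rw [← card_cj g⁻¹ T, ← hTg, heq]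
        exact hTeq (Subgroup.eq_of_le_of_card_ge hTP this.ge)
      have hN1 := lt_inf_normalizer_of_lt P.isPGroup' hlt
      have hN2 := lt_inf_normalizer_of_lt P.isPGroup' hTglt
      have hcard1 : Nat.card T < Nat.card ((P : Subgroup G) ⊓
          Subgroup.normalizer (T : Set G) : Subgroup G) := by
        by_contra hcon
        exact hN1.ne (Subgroup.eq_of_le_of_card_ge hN1.le (not_lt.mp hcon))
      have hcard2 : Nat.card T < Nat.card ((P : Subgroup G) ⊓
          Subgroup.normalizer (Tg : Set G) : Subgroup G) := by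
        have e : Nat.card Tg = Nat.card T := card_cj g⁻¹ T
        rw [← e]
        by_contra hcon
        exact hN2.ne (Subgroup.eq_of_le_of_card_ge hN2.le (not_lt.mp hcon))
      have ch1 : WChain (AGFam p (P : Subgroup G) ∩ Sel) (T : Set G) c₁⁻¹ := by
        have := ih' T rfl _ inf_le_left hcard1 c₁⁻¹
          (by rw [inv_inv]; exact hc₁N.trans inf_le_left)
        exact this.mono (SetLike.coe_subset_coe.mpr hN1.le)
      have ch2 : WChain (AGFam p (P : Subgroup G) ∩ Sel) (Tg : Set G) c₂⁻¹ := by
        have := ih' T rfl _ inf_le_left hcard2 c₂⁻¹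
          (by rw [inv_inv]; exact hc₂N.trans inf_le_left)
        exact this.mono (SetLike.coe_subset_coe.mpr hN2.le)
      have ch2' : WChain (AGFam p (P : Subgroup G) ∩ Sel) (U : Set G) c₂ := by
        have := ch2.symm
        rw [rcs_coe, inv_inv, hc₂U] at this
        exact this
      set m := c₁ * g * c₂⁻¹ with hm
      have hmU : cj m⁻¹ U = U := by
        have : m⁻¹ = c₂ * (g⁻¹ * c₁⁻¹) := by rw [hm]; group
        rw [this, ← cj_cj, ← cj_cj, ← hc₁U, cj_inv_cj, ← hTg, hc₂U, hc₁U]
      have hmN : m ∈ Subgroup.normalizer (U : Set G) := by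
        have := mem_normalizer_of_cj_eq hmU
        simpa using inv_mem this
      have hUP : U ≤ (P : Subgroup G) := hg₀P
      have chm : WChain (AGFam p (P : Subgroup G) ∩ Sel) (U : Set G) m :=
        local_step_gen P (AGFam p (P : Subgroup G) ∩ Sel) hUP hg₀syl (fun h => ⟨h, hg₀sel⟩)
          (ih' U hUcard) m hmN
      have e1 : rcs c₁⁻¹ (T : Set G) = (U : Set G) := by rw [rcs_coe, inv_inv, hc₁U]
      have e2 : rcs m (U : Set G) = (U : Set G) := by rw [rcs_coe, hmU]
      have ch12 : WChain (AGFam p (P : Subgroup G) ∩ Sel) (T : Set G) (c₁⁻¹ * m) :=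
        ch1.trans (e1 ▸ chm)
      have e3 : rcs (c₁⁻¹ * m) (T : Set G) = (U : Set G) := by rw [rcs_mul, e1, e2]
      have ch123 : WChain (AGFam p (P : Subgroup G) ∩ Sel) (T : Set G) (c₁⁻¹ * m * c₂) :=
        ch12.trans (e3 ▸ ch2')
      have : c₁⁻¹ * m * c₂ = g := by rw [hm]; group
      rwa [this] at ch123

/-- The Alperin–Goldschmidt theorem relative to a selector, chain form for subsets. -/
theorem main_set_sel (P : Sylow p G) (Sel : Set (Subgroup G)) (hSel : IsSelector P Sel)
    (A : Set G) (hA : A ⊆ ((P : Subgroup G) : Set G)) (g : G)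
    (hAg : rcs g A ⊆ ((P : Subgroup G) : Set G)) :
    WChain (AGFam p (P : Subgroup G) ∩ Sel) A g := by
  have hT : Subgroup.closure A ≤ (P : Subgroup G) := (Subgroup.closure_le _).mpr hA
  have hTg : cj g⁻¹ (Subgroup.closure A) ≤ (P : Subgroup G) := by
    rw [cj, MonoidHom.map_closure, Subgroup.closure_le]
    rintro _ ⟨a, ha, rfl⟩
    apply hAg
    exact ⟨a, ha, by simp⟩
  exact (main_sel P Sel hSel _ _ hT rfl g hTg).mono Subgroup.subset_closure

/-- Members of the Alperin–Goldschmidt family contain `Z(P)`. -/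
theorem center_le_of_mem_AGFam (P : Sylow p G) {D : Subgroup G}
    (hD : D ∈ AGFam p (P : Subgroup G)) :
    (P : Subgroup G) ⊓ Subgroup.centralizer (((P : Subgroup G) : Subgroup G) : Set G) ≤ D := by
  obtain ⟨hDP, hC, ⟨hKL, hDL, hcomm, hdisj, hsup⟩, -⟩ := hD
  intro x hx
  have hxC : x ∈ Subgroup.centralizer (D : Set G) :=
    Subgroup.centralizer_le (SetLike.coe_subset_coe.mpr hDP) hx.2
  have hxL := hC hxC
  rw [← hsup] at hxL
  have hnorm : opp p (Subgroup.normalizer (D : Set G)) ≤ Subgroup.normalizer (D : Set G) :=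
    opp_le p _
  obtain ⟨k, hk, d, hd, hxkd⟩ := mem_sup_of_le_normalizer hnorm hxL
  -- `x = k * d` with `k` in a `p'`-group commuting with `d`
  have hxp : IsPGroup p (P : Subgroup G) := P.isPGroup'
  obtain ⟨a, ha⟩ := hxp ⟨x, hx.1⟩
  have hxa : x ^ (p ^ a) = 1 := by
    have := congrArg Subtype.val ha
    simpa using this
  have hkd : Commute k d := hcomm k hk d hd
  have h1 : k ^ (p ^ a) * d ^ (p ^ a) = 1 := by rw [← hkd.mul_pow, ← hxkd, hxa]
  have h2 : k ^ (p ^ a) ∈ opp p (Subgroup.normalizer (D : Set G)) ⊓ D := by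
    refine ⟨Subgroup.pow_mem _ hk _, ?_⟩
    have : k ^ (p ^ a) = (d ^ (p ^ a))⁻¹ := eq_inv_of_mul_eq_one_left h1
    rw [this]
    exact Subgroup.inv_mem _ (Subgroup.pow_mem _ hd _)
  rw [hdisj, Subgroup.mem_bot] at h2
  have hk1 : k = 1 := by
    have hord : orderOf k ∣ p ^ a := orderOf_dvd_of_pow_eq_one h2
    have hcop : (orderOf k).Coprime (p ^ a) := by
      apply Nat.Coprime.pow_right
      have hd : orderOf k ∣ Nat.card (opp p (Subgroup.normalizer (D : Set G))) := by
        have := orderOf_dvd_natCard (⟨k, hk⟩ : ↥(opp p (Subgroup.normalizer (D : Set G))))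
        rwa [Subgroup.orderOf_mk] at this
      exact Nat.Coprime.coprime_dvd_left hd (opp_coprime p _)
    have : orderOf k = 1 := Nat.Coprime.eq_one_of_dvd hcop hord
    exact orderOf_eq_one_iff.mp this
  rw [hxkd, hk1, one_mul]
  exact hd

end Cfsg.Agent.Lib.Helper11.AG
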