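import Mathlib

/-!
A baby Hall–Higman lemma (helper11): in a ring of characteristic `p`, a unit `γ` with
`(γ - 1)^(p-1) = 0` centralizes every finite commutative `p'`-group of units that it normalizes.
-/

set_option autoImplicit false

namespace Cfsg.Agent.Lib.Helper11.BHH

open Finset Polynomial

theorem poly_identity (p : ℕ) :
    (∑ i ∈ range p, ((X : ℤ[X]) + 1) ^ i)
      = ∑ k ∈ range p, (C ((p.choose (k + 1) : ℕ) : ℤ)) * X ^ k := by
  apply mul_left_cancel₀ (X_ne_zero : (X : ℤ[X]) ≠ 0)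
  have h1 : (X : ℤ[X]) * ∑ i ∈ range p, (X + 1) ^ i = (X + 1) ^ p - 1 := by
    have := mul_geom_sum ((X : ℤ[X]) + 1) p
    simpa using this
  rw [h1, add_pow, Finset.sum_range_succ', Finset.mul_sum]
  simp only [pow_zero, one_pow, mul_one, Nat.choose_zero_right, Nat.cast_one, one_mul,
    add_sub_cancel_right]
  apply Finset.sum_congr rfl
  intro k _
  simp only [map_natCast]
  ring

variable {R : Type*} [Ring R]

theorem geom_sum_eq_zero {p : ℕ} (hp : p.Prime) (hpR : (p : R) = 0) {x : R}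
    (hx : (x - 1) ^ (p - 1) = 0) : ∑ i ∈ range p, x ^ i = 0 := by
  have h := congrArg (Polynomial.aeval (x - 1)) (poly_identity p)
  simp only [map_sum, map_pow, map_add, aeval_X, map_one, sub_add_cancel, map_mul, aeval_C] at h
  rw [h]
  apply Finset.sum_eq_zero
  intro k hk
  rw [Finset.mem_range] at hk
  by_cases hk1 : k = p - 1
  · rw [hk1, hx, mul_zero]
  · have hlt : k + 1 < p := by omega
    have hdvd : p ∣ p.choose (k + 1) := hp.dvd_choose_self (Nat.succ_ne_zero k) hlt
    obtain ⟨c, hc⟩ := hdvd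
    have : ((algebraMap ℤ R) ((p.choose (k + 1) : ℕ) : ℤ)) = 0 := by
      rw [hc]
      push_cast
      rw [hpR, zero_mul]
    rw [this, zero_mul]

theorem coprime_unit {p : ℕ} (hp : p.Prime) (hpR : (p : R) = 0) {n : ℕ} (hn : n.Coprime p) :
    ∃ a : R, a * (n : R) = 1 := by
  obtain ⟨m, -, hm⟩ := Nat.exists_mul_mod_eq_one_of_coprime hn hp.one_lt
  refine ⟨(m : R), ?_⟩
  have h1 : n * m = p * (n * m / p) + 1 := by
    rw [← hm]; exact (Nat.div_add_mod _ _).symm
  have h2 : ((n * m : ℕ) : R) = 1 := by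
    rw [h1]; push_cast; rw [hpR, zero_mul, zero_add]
  rw [← h2]
  push_cast
  exact (Nat.cast_commute m (n : R)).eq

theorem pow_eq_one_of_nilp {p : ℕ} (hp : p.Prime) (hpR : (p : R) = 0) {x : R}
    (hx : (x - 1) ^ (p - 1) = 0) : x ^ p = 1 := by
  have h1 := mul_geom_sum x p
  rw [geom_sum_eq_zero hp hpR hx, mul_zero] at h1
  exact (sub_eq_zero.1 h1.symm)

section Main

variable {B : Type*} [CommGroup B]

/-- the partial norms `N_i(c) = σ^{i-1}(c) ⋯ σ(c) c` -/
def partialNorm (σ : B →* B) : ℕ → (B →* B)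
  | 0 => 1
  | i + 1 => (σ.comp (partialNorm σ i)) * MonoidHom.id B

theorem partialNorm_succ (σ : B →* B) (i : ℕ) (c : B) :
    partialNorm σ (i + 1) c = σ (partialNorm σ i c) * c := rfl

theorem partialNorm_comm (σ : B →* B) (i : ℕ) (c : B) :
    σ (partialNorm σ i c) = partialNorm σ i (σ c) := by
  induction i with
  | zero => simp [partialNorm]
  | succ i ih => rw [partialNorm_succ, partialNorm_succ, map_mul, ih]

theorem partialNorm_succ' (σ : B →* B) (i : ℕ) (c : B) :
    partialNorm σ (i + 1) c = (σ^[i] c) * partialNorm σ i c := by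
  induction i with
  | zero => simp [partialNorm]
  | succ i ih =>
    rw [partialNorm_succ, ih, map_mul, Function.iterate_succ_apply', mul_assoc,
      ← partialNorm_succ]
    rw [ih]

theorem partialNorm_of_fixed (σ : B →* B) {c : B} (hc : σ c = c) (i : ℕ) :
    partialNorm σ i c = c ^ i := by
  induction i with
  | zero => simp [partialNorm]
  | succ i ih => rw [partialNorm_succ, ih, map_pow, hc, pow_succ]

theorem fixed_of_iterate {σ : B → B} {d : B} {i p : ℕ} (hp : p.Prime) (hi0 : 0 < i) (hip : i < p)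
    (h1 : σ^[i] d = d) (h2 : σ^[p] d = d) : σ d = d := by
  have hcop : i.Coprime p := by
    rw [Nat.coprime_comm, hp.coprime_iff_not_dvd]
    intro hd
    exact absurd (Nat.le_of_dvd hi0 hd) (not_le.2 hip)
  obtain ⟨m, -, hm⟩ := Nat.exists_mul_mod_eq_one_of_coprime hcop hp.one_lt
  have h3 : i * m = p * (i * m / p) + 1 := by
    rw [← hm]; exact (Nat.div_add_mod _ _).symm
  have h4 : σ^[i * m] d = d := by
    rw [Function.iterate_mul]
    exact Function.iterate_fixed h1 m
  have h5 : σ^[p * (i * m / p)] d = d := by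
    rw [Function.iterate_mul]
    exact Function.iterate_fixed h2 _
  rw [h3, Function.iterate_succ_apply', h5] at h4
  exact h4

theorem centralizes_aux {p : ℕ} (hp : p.Prime) (hpR : (p : R) = 0) (γ : Rˣ)
    (hγ : ((γ : R) - 1) ^ (p - 1) = 0) [Finite B]
    (hcop : (Nat.card B).Coprime p) (ι : B →* Rˣ) (hι : Function.Injective ι) (σ : B →* B)
    (hσ : ∀ b, ι (σ b) = γ⁻¹ * ι b * γ) : ∀ b, γ * ι b = ι b * γ := by
  obtain ⟨q, rfl⟩ : ∃ q, p = q + 1 := ⟨p - 1, by have := hp.one_lt; omega⟩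
  rw [Nat.add_sub_cancel] at hγ
  -- γ^p = 1
  have hγp : γ ^ (q + 1) = 1 := by
    apply Units.ext
    rw [Units.val_pow_eq_pow_val, Units.val_one]
    exact pow_eq_one_of_nilp hp hpR (by rwa [Nat.add_sub_cancel])
  have hiter : ∀ (k : ℕ) (c : B), ι (σ^[k] c) = (γ⁻¹) ^ k * ι c * γ ^ k := by
    intro k
    induction k with
    | zero => intro c; simp
    | succ k ih =>
      intro c
      rw [Function.iterate_succ_apply', hσ, ih, pow_succ, pow_succ]
      group
  have hσp : ∀ c : B, σ^[q + 1] c = c := by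
    intro c
    apply hι
    rw [hiter, inv_pow, hγp]
    simp
  have hpow : ∀ (i : ℕ) (c : B), (γ * ι c) ^ i = γ ^ i * ι (partialNorm σ i c) := by
    intro i
    induction i with
    | zero => intro c; simp [partialNorm]
    | succ i ih =>
      intro c
      rw [pow_succ, ih, partialNorm_succ, map_mul, hσ, pow_succ]
      group
  -- the hom `δ b = (σ b)⁻¹ b`
  let δ : B →* B := σ⁻¹ * MonoidHom.id B
  have hδ : ∀ b, δ b = (σ b)⁻¹ * b := fun b => rfl
  have hconj : ∀ b : B, ∑ i ∈ range (q + 1), (((γ * ι (δ b) : Rˣ)) : R) ^ i = 0 := by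
    intro b
    apply geom_sum_eq_zero hp hpR
    rw [Nat.add_sub_cancel]
    have h1 : γ * ι (δ b) = (ι b)⁻¹ * γ * ι b := by
      rw [hδ, map_mul, map_inv, hσ]
      group
    rw [h1]
    have h2 : (((ι b)⁻¹ * γ * ι b : Rˣ) : R) - 1
        = ((ι b)⁻¹ : Rˣ) * ((γ : R) - 1) * ((ι b : Rˣ) : R) := by
      push_cast
      rw [mul_sub, sub_mul, mul_one, Units.inv_mul]
    rw [h2]
    have h3 := Units.conj_pow (ι b)⁻¹ ((γ : R) - 1) q
    rw [inv_inv] at h3
    rw [h3, hγ, mul_zero, zero_mul]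
  have hNδ : ∀ (i : ℕ) (b : B), partialNorm σ i (δ b) = δ (partialNorm σ i b) := by
    intro i b
    rw [hδ, hδ, map_mul, map_inv, partialNorm_comm]
  have hker : ∀ (i : ℕ), 0 < i → i < q + 1 → ∀ d ∈ δ.range, partialNorm σ i d = 1 → d = 1 := by
    intro i hi0 hip d hd hN
    have h1 : σ^[i] d = d := by
      have e1 := partialNorm_succ σ i d
      rw [partialNorm_succ', hN, map_one, one_mul, mul_one] at e1
      exact e1
    have h2 : σ d = d := fixed_of_iterate hp hi0 hip h1 (hσp d)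
    have h3 : partialNorm σ (q + 1) d = d ^ (q + 1) := partialNorm_of_fixed σ h2 _
    obtain ⟨b, rfl⟩ := hd
    have h4 : σ (partialNorm σ (q + 1) b) = partialNorm σ (q + 1) b := by
      have e1 := partialNorm_succ σ (q + 1) b
      rw [partialNorm_succ', hσp, mul_comm] at e1
      exact (mul_right_cancel e1).symm
    have h5 : partialNorm σ (q + 1) (δ b) = 1 := by
      rw [hNδ, hδ, h4, inv_mul_cancel]
    rw [h5] at h3
    -- `d ^ p = 1` and `|B|` prime to `p`
    have h6 : orderOf (δ b) ∣ q + 1 := orderOf_dvd_of_pow_eq_one h3.symm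
    have h7 : orderOf (δ b) ∣ Nat.card B := orderOf_dvd_natCard _
    have h8 : orderOf (δ b) ∣ 1 := by
      have := Nat.dvd_gcd h7 h6
      rwa [hcop] at this
    exact orderOf_eq_one_iff.1 (Nat.dvd_one.1 h8)
  haveI : Fintype δ.range := Fintype.ofFinite _
  -- the partial norms permute `D = δ.range`
  have hmaps : ∀ (i : ℕ) (d : δ.range), partialNorm σ i (d : B) ∈ δ.range := by
    rintro i ⟨_, b, rfl⟩
    exact ⟨partialNorm σ i b, (hNδ i b).symm⟩
  have hbij : ∀ i, 0 < i → i < q + 1 → Function.Bijective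
      (fun d : δ.range => (⟨partialNorm σ i (d : B), hmaps i d⟩ : δ.range)) := by
    intro i hi0 hip
    apply Finite.injective_iff_bijective.1
    intro d d' hdd'
    have h1 : partialNorm σ i (d : B) = partialNorm σ i (d' : B) := congrArg Subtype.val hdd'
    have h2 : partialNorm σ i ((d : B) * (d' : B)⁻¹) = 1 := by
      rw [map_mul, map_inv, h1, mul_inv_cancel]
    have h3 := hker i hi0 hip _ (mul_mem d.2 (inv_mem d'.2)) h2
    exact Subtype.ext (mul_inv_eq_one.1 h3)
  -- the averaging identity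
  set e' : R := ∑ d : δ.range, ((ι (d : B) : Rˣ) : R) with he'
  have hsum : (Fintype.card δ.range : R) + (∑ i ∈ range q, (γ : R) ^ (i + 1)) * e' = 0 := by
    have h0 : ∑ d : δ.range, ∑ i ∈ range (q + 1), (((γ * ι (d : B) : Rˣ)) : R) ^ i = 0 := by
      apply Finset.sum_eq_zero
      rintro ⟨_, b, rfl⟩ -
      exact hconj b
    rw [Finset.sum_comm, Finset.sum_range_succ'] at h0
    have h1 : ∑ d : δ.range, (((γ * ι (d : B) : Rˣ)) : R) ^ 0 = (Fintype.card δ.range : R) := by
      simp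
    have h2 : ∀ i ∈ range q, ∑ d : δ.range, (((γ * ι (d : B) : Rˣ)) : R) ^ (i + 1)
        = (γ : R) ^ (i + 1) * e' := by
      intro i hi
      rw [Finset.mem_range] at hi
      rw [he', Finset.mul_sum]
      rw [← (hbij (i + 1) (Nat.succ_pos i) (by omega)).sum_comp
        (fun d : δ.range => (γ : R) ^ (i + 1) * ((ι (d : B) : Rˣ) : R))]
      apply Finset.sum_congr rfl
      intro d _
      have := congrArg (fun u : Rˣ => (u : R)) (hpow (i + 1) (d : B))
      simp only [Units.val_pow_eq_pow_val, Units.val_mul] at this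
      rw [Units.val_mul]
      exact this
    rw [h1, Finset.sum_congr rfl h2, ← Finset.sum_mul, add_comm] at h0
    exact h0
  -- every element of `D` is trivial
  have hD : ∀ c₀ : δ.range, (c₀ : B) = 1 := by
    intro c₀
    have h1 : e' * ((ι (c₀ : B) : Rˣ) : R) = e' := by
      rw [he', Finset.sum_mul]
      apply Fintype.sum_equiv (Equiv.mulRight c₀)
      intro d
      simp
    have h2 : (Fintype.card δ.range : R) * (((ι (c₀ : B) : Rˣ) : R) - 1) = 0 := by
      have h3 : ((Fintype.card δ.range : R) + (∑ i ∈ range q, (γ : R) ^ (i + 1)) * e')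
          * (((ι (c₀ : B) : Rˣ) : R) - 1) = 0 := by rw [hsum, zero_mul]
      rw [add_mul, mul_assoc, mul_sub e', h1, mul_one, sub_self, mul_zero, add_zero] at h3
      exact h3
    have hcopD : (Fintype.card δ.range).Coprime (q + 1) := by
      rw [← Nat.card_eq_fintype_card]
      exact Nat.Coprime.coprime_dvd_left (Subgroup.card_subgroup_dvd_card _) hcop
    obtain ⟨a, ha⟩ := coprime_unit hp hpR hcopD
    have h3 : ((ι (c₀ : B) : Rˣ) : R) - 1 = 0 := by
      have := congrArg (fun x => a * x) h2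
      simp only [mul_zero] at this
      rwa [← mul_assoc, ha, one_mul] at this
    have h4 : ι (c₀ : B) = 1 := Units.ext (by rw [Units.val_one]; exact sub_eq_zero.1 h3)
    exact hι (by rw [h4, map_one])
  intro b
  have h1 : δ b = 1 := hD ⟨δ b, ⟨b, rfl⟩⟩
  rw [hδ, inv_mul_eq_one] at h1
  have h2 := hσ b
  rw [h1] at h2
  calc γ * ι b = γ * (γ⁻¹ * ι b * γ) := by rw [← h2]
    _ = ι b * γ := by group

end Main

/-- **Baby Hall–Higman**: in a ring with `p = 0`, a unit `γ` with `(γ - 1)^(p-1) = 0` centralizes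
every finite commutative subgroup of units of order prime to `p` that it normalizes. -/
theorem centralizes {p : ℕ} (hp : p.Prime) (hpR : (p : R) = 0) (γ : Rˣ)
    (hγ : ((γ : R) - 1) ^ (p - 1) = 0) (𝔅 : Subgroup Rˣ) [Finite 𝔅]
    (hcomm : ∀ a ∈ 𝔅, ∀ b ∈ 𝔅, a * b = b * a) (hcop : (Nat.card 𝔅).Coprime p)
    (hnorm : ∀ b ∈ 𝔅, γ⁻¹ * b * γ ∈ 𝔅) : ∀ b ∈ 𝔅, γ * b = b * γ := by
  letI : CommGroup 𝔅 :=
    { (inferInstance : Group 𝔅) with
      mul_comm := fun a b => Subtype.ext (hcomm a a.2 b b.2) }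
  let σ : 𝔅 →* 𝔅 :=
    { toFun := fun b => ⟨γ⁻¹ * b * γ, hnorm b b.2⟩
      map_one' := by apply Subtype.ext; simp
      map_mul' := by
        intro a b
        apply Subtype.ext
        show γ⁻¹ * ((a : Rˣ) * (b : Rˣ)) * γ = (γ⁻¹ * a * γ) * (γ⁻¹ * b * γ)
        group }
  intro b hb
  exact centralizes_aux hp hpR γ hγ hcop 𝔅.subtype Subtype.val_injective σ (fun b => rfl) ⟨b, hb⟩

end Cfsg.Agent.Lib.Helper11.BHH
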