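import Mathlib

/-!
The endomorphism ring of an abelian normal subgroup and the conjugation representation (helper11).
-/

set_option autoImplicit false

namespace Cfsg.Agent.Lib.Helper11.ChiefModule

variable {Y : Type*} [Group Y]

/-- the additive group carried by an abelian subgroup -/
def Mod (U : Subgroup Y) (_hU : ∀ a ∈ U, ∀ b ∈ U, a * b = b * a) : Type _ := Additive ↥U

variable {U : Subgroup Y} {hU : ∀ a ∈ U, ∀ b ∈ U, a * b = b * a}

instance : AddCommGroup (Mod U hU) :=
  { (inferInstance : AddGroup (Additive ↥U)) with
    add_comm := fun a b => by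
      show Additive.ofMul (Additive.toMul a * Additive.toMul b)
        = Additive.ofMul (Additive.toMul b * Additive.toMul a)
      congr 1
      exact Subtype.ext (hU _ (Additive.toMul a).2 _ (Additive.toMul b).2) }

/-- the element of the module attached to an element of the subgroup -/
def mk (u : ↥U) : Mod U hU := Additive.ofMul u

/-- the underlying group element -/
def val (a : Mod U hU) : Y := ((Additive.toMul a : ↥U) : Y)

theorem val_mem (a : Mod U hU) : val a ∈ U := (Additive.toMul a : ↥U).2

@[simp] theorem val_mk (u : ↥U) : val (mk u : Mod U hU) = (u : Y) := rfl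

theorem mk_val (a : Mod U hU) : (mk ⟨val a, val_mem a⟩ : Mod U hU) = a := rfl

theorem val_injective : Function.Injective (val : Mod U hU → Y) := by
  intro a b h
  have : (Additive.toMul a : ↥U) = Additive.toMul b := Subtype.ext h
  exact Additive.toMul.injective this

@[simp] theorem val_add (a b : Mod U hU) : val (a + b) = val a * val b := rfl
@[simp] theorem val_zero : val (0 : Mod U hU) = 1 := rfl
@[simp] theorem val_neg (a : Mod U hU) : val (-a) = (val a)⁻¹ := rfl
@[simp] theorem val_sub (a b : Mod U hU) : val (a - b) = val a * (val b)⁻¹ := by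
  rw [sub_eq_add_neg, val_add, val_neg]

theorem val_nsmul (n : ℕ) (a : Mod U hU) : val (n • a) = val a ^ n := by
  induction n with
  | zero => simp
  | succ n ih => rw [succ_nsmul, val_add, ih, pow_succ]

/-- conjugation by `y` as an endomorphism of the module -/
def conjEnd (hn : U.Normal) (y : Y) : AddMonoid.End (Mod U hU) :=
  AddMonoidHom.mk' (fun a => mk ⟨y * val a * y⁻¹, hn.conj_mem _ (val_mem a) y⟩) (by
    intro a b
    apply val_injective
    simp [mul_assoc])

@[simp] theorem val_conjEnd (hn : U.Normal) (y : Y) (a : Mod U hU) :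
    val (conjEnd hn y a) = y * val a * y⁻¹ := rfl

/-- the conjugation representation into the multiplicative monoid of the endomorphism ring -/
def rho₀ (hn : U.Normal) : Y →* AddMonoid.End (Mod U hU) where
  toFun := conjEnd hn
  map_one' := by
    ext a
    apply val_injective
    simp
  map_mul' := by
    intro x y
    ext a
    apply val_injective
    simp [mul_assoc]

/-- the conjugation representation -/
def rho (hn : U.Normal) : Y →* (AddMonoid.End (Mod U hU))ˣ := (rho₀ hn).toHomUnits

@[simp] theorem val_rho (hn : U.Normal) (y : Y) (a : Mod U hU) :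
    val (((rho hn y : (AddMonoid.End (Mod U hU))ˣ) : AddMonoid.End (Mod U hU)) a)
      = y * val a * y⁻¹ := rfl

theorem rho_eq_one_iff (hn : U.Normal) (y : Y) :
    (rho hn y : (AddMonoid.End (Mod U hU))ˣ) = 1 ↔ ∀ u ∈ U, y * u * y⁻¹ = u := by
  constructor
  · intro h u hu
    have h1 := congrArg (fun f : (AddMonoid.End (Mod U hU))ˣ =>
      val ((f : AddMonoid.End (Mod U hU)) (mk ⟨u, hu⟩))) h
    simpa using h1
  · intro h
    apply Units.ext
    ext a
    apply val_injective
    rw [val_rho]
    exact h _ (val_mem a)

theorem val_rho_sub_one (hn : U.Normal) (y : Y) (a : Mod U hU) :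
    val ((((rho hn y : (AddMonoid.End (Mod U hU))ˣ) : AddMonoid.End (Mod U hU)) - 1) a)
      = y * val a * y⁻¹ * (val a)⁻¹ := by
  show val ((((rho hn y : (AddMonoid.End (Mod U hU))ˣ) : AddMonoid.End (Mod U hU)) a) - a) = _
  rw [val_sub, val_rho]

theorem natCast_eq_zero (n : ℕ) (h : ∀ u ∈ U, u ^ n = 1) :
    ((n : ℕ) : AddMonoid.End (Mod U hU)) = 0 := by
  ext a
  apply val_injective
  rw [AddMonoid.End.natCast_apply, val_nsmul]
  exact h _ (val_mem a)

end Cfsg.Agent.Lib.Helper11.ChiefModule
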