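import Mathlib
import Cfsg.Agent.S2005

/-!
A normal `p'`-subgroup with no proper nontrivial subgroups invariant under a given `p`-subgroup is
abelian (helper11).
-/

set_option autoImplicit false

universe u

namespace Cfsg.Agent.Lib.Helper11.CoprimeMinimal

open Subgroup
open Cfsg.Agent.S0520 (cj mem_cj conj_mem_cj cj_one cj_mul cj_inv_cj cj_cj_inv cj_mono card_cj)

variable {H : Type u} [Group H] [Finite H] {p : ℕ} [Fact p.Prime]

/-- some conjugate of a `p`-subgroup `T` lies in a subgroup `A` of index prime to `p` -/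
theorem exists_cj_le_of_index (A T : Subgroup H) (hA : ¬ p ∣ A.relIndex ⊤) (hT : IsPGroup p T) :
    ∃ y : H, cj y T ≤ A := by
  have hp : p.Prime := Fact.out
  obtain ⟨S, -, hSA, hSp, hSidx⟩ :=
    Cfsg.Agent.S1910.exists_rel_sylow_ge (p := p) (U := (⊥ : Subgroup H)) (K := A) bot_le
      IsPGroup.of_bot
  have h1 : S.relIndex A * A.relIndex ⊤ = S.relIndex ⊤ :=
    Subgroup.relIndex_mul_relIndex _ _ _ hSA le_top
  have h2 : ¬ p ∣ S.relIndex ⊤ := by
    rw [← h1]
    intro h
    rcases hp.dvd_mul.1 h with h | h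
    · exact hSidx h
    · exact hA h
  obtain ⟨y, -, hy⟩ := Cfsg.Agent.S1910.exists_cj_le_rel hSp h2 (le_top : T ≤ ⊤) hT
  exact ⟨y, hy.trans hSA⟩

theorem comm_of_invariant_min (N T : Subgroup H) [hNn : N.Normal] (hN : (Nat.card N).Coprime p)
    (hT : IsPGroup p T)
    (hmin : ∀ X : Subgroup H, X ≤ N → T ≤ normalizer (X : Set H) → X = ⊥ ∨ X = N) :
    ∀ a ∈ N, ∀ b ∈ N, a * b = b * a := by
  classical
  by_cases hNbot : N = ⊥
  · subst hNbot
    intro a ha b hb
    have h1 : a = 1 := ha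
    have h2 : b = 1 := hb
    rw [h1, h2]
  have hcard1 : Nat.card N ≠ 1 := fun h => hNbot ((Subgroup.card_eq_one).1 h)
  obtain ⟨r, hr, hrdvd⟩ := Nat.exists_prime_and_dvd hcard1
  haveI : Fact r.Prime := ⟨hr⟩
  -- Step 1: `N` is an `r`-group
  have hNr : IsPGroup r N := by
    let P : Sylow r ↥N := default
    obtain ⟨R, hR⟩ : ∃ R : Subgroup H, R = (P : Subgroup N).map N.subtype := ⟨_, rfl⟩
    have hRN : R ≤ N := by rw [hR]; exact map_subtype_le _
    have hRr : IsPGroup r R := by rw [hR]; exact P.2.map _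
    have hRne : R ≠ ⊥ := by
      rw [hR]
      intro h
      rw [Subgroup.map_eq_bot_iff_of_injective _ N.subtype_injective] at h
      exact P.ne_bot_of_dvd_card hrdvd h
    have hA : normalizer (R : Set H) ⊔ N = ⊤ := by
      rw [hR]; exact Sylow.normalizer_sup_eq_top P
    have hidx : ¬ p ∣ (normalizer (R : Set H)).relIndex ⊤ := by
      have := Cfsg.Agent.S2005.not_dvd_relIndex_sup (p := p) (normalizer (R : Set H)) N hN
      rwa [hA] at this
    obtain ⟨y, hy⟩ := exists_cj_le_of_index _ T hidx hT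
    have hXN : cj y⁻¹ R ≤ N := by
      intro x hx
      rw [mem_cj] at hx
      have h1 := hNn.conj_mem _ (hRN hx) y⁻¹
      have : y⁻¹ * (y⁻¹⁻¹ * x * y⁻¹) * y⁻¹⁻¹ = x := by group
      rwa [this] at h1
    have hTX : T ≤ normalizer ((cj y⁻¹ R : Subgroup H) : Set H) := by
      intro t ht
      have hn : y * t * y⁻¹ ∈ normalizer (R : Set H) := hy (conj_mem_cj ht)
      rw [mem_normalizer_iff]
      intro x
      rw [mem_cj, mem_cj]
      have h1 := mem_normalizer_iff.1 hn (y⁻¹⁻¹ * x * y⁻¹)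
      have h2 : y * t * y⁻¹ * (y⁻¹⁻¹ * x * y⁻¹) * (y * t * y⁻¹)⁻¹ = y⁻¹⁻¹ * (t * x * t⁻¹) * y⁻¹ := by
        group
      rw [h2] at h1
      exact h1
    rcases hmin _ hXN hTX with h | h
    · exfalso
      have h1 : Nat.card (cj y⁻¹ R) = 1 := by rw [h]; exact Subgroup.card_bot
      rw [card_cj] at h1
      exact hRne ((Subgroup.card_eq_one).1 h1)
    · have h1 : Nat.card (cj y⁻¹ R) = Nat.card N := by rw [h]
      rw [card_cj] at h1
      have : R = N := Subgroup.eq_of_le_of_card_ge hRN h1.ge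
      rw [← this]; exact hRr
  -- Step 2: the center
  haveI : Nontrivial ↥N := by
    rw [Subgroup.nontrivial_iff_ne_bot]; exact hNbot
  haveI := hNr.center_nontrivial
  obtain ⟨z, hz1⟩ := exists_ne (1 : ↥(center ↥N))
  have hzc : ∀ n : ↥N, n * z.1 = z.1 * n := fun n => (mem_center_iff.1 z.2) n
  have hZn : (N ⊓ centralizer (N : Set H)).Normal := inferInstance
  have hzZ : ((z.1 : ↥N) : H) ∈ N ⊓ centralizer (N : Set H) := by
    refine mem_inf.2 ⟨(z.1).2, ?_⟩
    rw [mem_centralizer_iff]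
    intro n hn
    have := hzc ⟨n, hn⟩
    exact congrArg Subtype.val this
  have hTZ : T ≤ normalizer ((N ⊓ centralizer (N : Set H) : Subgroup H) : Set H) := by
    rw [Subgroup.normalizer_eq_top]; exact le_top
  rcases hmin _ inf_le_left hTZ with h | h
  · exfalso
    rw [h] at hzZ
    apply hz1
    apply Subtype.ext
    apply Subtype.ext
    simpa using hzZ
  · intro a ha b hb
    rw [← h] at ha
    exact ((mem_centralizer_iff.1 (mem_inf.1 ha).2) b hb).symm

end Cfsg.Agent.Lib.Helper11.CoprimeMinimal
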