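import Mathlib
import Cfsg.Agent.S0093
import Cfsg.Agent.S0121
import Cfsg.Agent.Lib.Helper11.PGroupFrattini
import Cfsg.Agent.Lib.Helper16.PCore

/-!
Existence of a critical subgroup of `O_p(G)`, in the internal form used by the K-infinity
statements (helper11).
-/

set_option autoImplicit false
open Cfsg

universe u

namespace Cfsg.Agent.Lib.Helper11.CriticalCore

open Cfsg.Agent.Lib.Helper16

variable {p : ℕ} [Fact p.Prime]

theorem exists_critical (G : Type u) [Group G] [Finite G] :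
    ∃ A : Subgroup G, A ≤ Cfsg.pCore p G ∧ (A.subgroupOf (Cfsg.pCore p G)).Characteristic ∧
      (∀ a ∈ A, a ^ p ∈ A ⊓ Subgroup.centralizer ((A : Subgroup G) : Set G)) ∧
      ⁅A, A⁆ ≤ Subgroup.centralizer ((A : Subgroup G) : Set G) ∧
      ⁅(Cfsg.pCore p G), A⁆ ≤ A ⊓ Subgroup.centralizer ((A : Subgroup G) : Set G) ∧
      (Cfsg.pCore p G) ⊓ Subgroup.centralizer ((A : Subgroup G) : Set G) =
        A ⊓ Subgroup.centralizer ((A : Subgroup G) : Set G) ∧
      (∀ φ : MulAut ↥(Cfsg.pCore p G), (orderOf φ).Coprime p →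
        (∀ a : ↥(Cfsg.pCore p G), (a : G) ∈ A → φ a = a) → φ = 1) := by
  classical
  set T : Subgroup G := Cfsg.pCore p G with hT
  have hTp : IsPGroup p T := pCore_isPGroup p G
  obtain ⟨H, hHchar, h1, h2, h3⟩ := Cfsg.Agent.S0093.result (P := ↥T) (p := p) hTp
  set A : Subgroup G := H.map T.subtype with hA
  have hAT : A ≤ T := Subgroup.map_subtype_le _
  have hAsub : A.subgroupOf T = H :=
    Subgroup.comap_map_eq_self_of_injective (Subgroup.subtype_injective T) _
  have hmemA : ∀ x : ↥T, (x : G) ∈ A ↔ x ∈ H := by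
    intro x
    constructor
    · rintro ⟨y, hy, hyx⟩
      have : y = x := Subtype.ext hyx
      rwa [← this]
    · intro hx
      exact ⟨x, hx, rfl⟩
  -- centralizers
  have hcent : ∀ x : ↥T, x ∈ Subgroup.centralizer (H : Set ↥T) →
      (x : G) ∈ Subgroup.centralizer ((A : Subgroup G) : Set G) := by
    intro x hx
    rw [Subgroup.mem_centralizer_iff] at hx ⊢
    rintro _ ⟨y, hy, rfl⟩
    have := congrArg Subtype.val (hx y hy)
    simpa using this
  have hcent' : ∀ x : ↥T, (x : G) ∈ Subgroup.centralizer ((A : Subgroup G) : Set G) →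
      x ∈ Subgroup.centralizer (H : Set ↥T) := by
    intro x hx
    rw [Subgroup.mem_centralizer_iff] at hx ⊢
    intro y hy
    apply Subtype.ext
    have := hx (y : G) ⟨y, hy, rfl⟩
    simpa using this
  have hmapcent : (H ⊓ Subgroup.centralizer (H : Set ↥T)).map T.subtype ≤
      A ⊓ Subgroup.centralizer ((A : Subgroup G) : Set G) := by
    rintro _ ⟨x, hx, rfl⟩
    exact ⟨⟨x, hx.1, rfl⟩, hcent x hx.2⟩
  have hHp : IsPGroup p ↥H := hTp.to_subgroup H
  refine ⟨A, hAT, ?_, ?_, ?_, ?_, ?_, ?_⟩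
  · rw [hAsub]; exact hHchar
  · rintro _ ⟨x, hx, rfl⟩
    have hpow : (⟨x, hx⟩ : ↥H) ^ p ∈ frattini ↥H :=
      Cfsg.Agent.Lib.Helper11.pow_mem_frattini_of_isPGroup hHp _
    have h4 : (x ^ p : ↥T) ∈ (frattini ↥H).map H.subtype := ⟨_, hpow, by simp⟩
    have h5 := h1 h4
    refine ⟨⟨x ^ p, H.pow_mem hx p, by simp⟩, ?_⟩
    have := hcent (x ^ p) h5
    simpa using this
  · have h4 : ⁅H, H⁆ ≤ Subgroup.centralizer (H : Set ↥T) :=
      (Subgroup.commutator_mono le_rfl le_top).trans (h2.trans inf_le_right)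
    rw [hA, ← Subgroup.map_commutator]
    rintro _ ⟨x, hx, rfl⟩
    exact hcent x (h4 hx)
  · have h4 : T = (⊤ : Subgroup ↥T).map T.subtype := by
      rw [← MonoidHom.range_eq_map, Subgroup.range_subtype]
    rw [h4, hA, ← Subgroup.map_commutator, Subgroup.commutator_comm]
    exact (Subgroup.map_mono h2).trans hmapcent
  · apply le_antisymm
    · rintro x ⟨hxT, hxC⟩
      refine ⟨?_, hxC⟩
      have h4 := hcent' ⟨x, hxT⟩ hxC
      exact ⟨⟨x, hxT⟩, h3 h4, rfl⟩
    · exact inf_le_inf_right _ hAT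
  · intro φ hφ hfix
    exact Cfsg.Agent.S0121.result hTp H hHchar h1 h2 h3 φ hφ
      (fun x hx => hfix x ((hmemA x).2 hx))

end Cfsg.Agent.Lib.Helper11.CriticalCore
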