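import Mathlib
import Cfsg.Agent.Lib.Helper11.Dickson3

/-!
Dickson's lemma, conjugate form (helper11): the copy of `SL₂(𝔽_p)` found in `L` is a
`GL₂(F)`-conjugate of the standard copy `emb p F`.
-/

set_option autoImplicit false

namespace Cfsg.Agent.Lib.Helper11.Dickson

open Matrix

variable {F : Type*} [Field F]

local notation "M2" => Matrix (Fin 2) (Fin 2) F
local notation "G2" => (Matrix (Fin 2) (Fin 2) F)ˣ

variable {p : ℕ} [hp : Fact p.Prime] [CharP F p]

open Cfsg.Agent.Lib.Helper9.SL2Upper Cfsg.Agent.Lib.Helper9.SL2Gen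

theorem exists_conj_of_pair (L : Subgroup G2) (lam : F) (hlam : lam ≠ 0)
    (hx : xx lam⁻¹ ∈ L) (hy : yy lam ∈ L) :
    ∃ g : G2, ∀ s : Matrix.SpecialLinearGroup (Fin 2) (ZMod p), g * emb p F s * g⁻¹ ∈ L := by
  refine ⟨(dd lam hlam)⁻¹, ?_⟩
  set ψ : Matrix.SpecialLinearGroup (Fin 2) (ZMod p) →* G2 :=
    (MulAut.conj (dd lam hlam)⁻¹).toMonoidHom.comp (emb p F) with hψ
  have h1 : ψ (upper 1) = xx lam⁻¹ := by
    show (MulAut.conj (dd lam hlam)⁻¹) (emb p F (upper 1)) = _
    rw [emb_upper, MulAut.conj_apply, dd_inv, dd_xx, mul_one]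
  have h2 : ψ (lower 1) = yy lam := by
    show (MulAut.conj (dd lam hlam)⁻¹) (emb p F (lower 1)) = _
    rw [emb_lower, MulAut.conj_apply, dd_inv, dd_yy, one_div, inv_inv]
  have htop : L.comap ψ = ⊤ := by
    rw [eq_top_iff, ← closure_upper_lower (1 : ZMod p) 1 one_ne_zero one_ne_zero,
      Subgroup.closure_le]
    intro z hz
    rcases hz with rfl | rfl
    · show ψ (upper 1) ∈ L
      rw [h1]; exact hx
    · show ψ (lower 1) ∈ L
      rw [h2]; exact hy
  intro s
  have : s ∈ L.comap ψ := by rw [htop]; trivial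
  exact this

/-- **Dickson's lemma, conjugate form.** -/
theorem exists_conj_SL2p (hp2 : p ≠ 2) : ∀ (n : ℕ) (L : Subgroup G2) [Finite L],
    Nat.card L = n → ∀ u ∈ L, ∀ w ∈ L, u ^ p = 1 → w ^ p = 1 → u * w ≠ w * u →
    ∃ g : G2, ∀ s : Matrix.SpecialLinearGroup (Fin 2) (ZMod p), g * emb p F s * g⁻¹ ∈ L := by
  intro n
  induction n using Nat.strong_induction_on with
  | _ n ih =>
  intro L _ hn u hu w hw hup hwp hnc
  by_cases hmin : MinPair p L
  · obtain ⟨c, lam, hlam, hcu, hcw⟩ := exists_normal_form u w hup hwp hnc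
    set e : G2 ≃* G2 := MulAut.conj c with he
    set L' := L.map e.toMonoidHom with hL'
    have hmin' : MinPair p L' := minPair_map e L hmin
    have hxL' : xx (1 : F) ∈ L' := ⟨u, hu, by simpa [he] using hcu⟩
    have hyL' : yy lam ∈ L' := ⟨w, hw, by simpa [he] using hcw⟩
    have hx := xx_inv_lam_mem hp2 hlam hxL' hyL' hmin'
    obtain ⟨g, hg⟩ := exists_conj_of_pair (p := p) L' lam hlam hx hyL'
    refine ⟨c⁻¹ * g, fun s => ?_⟩
    obtain ⟨l, hl, hlk⟩ := hg s
    have h1 : c * l * c⁻¹ = g * emb p F s * g⁻¹ := by simpa [he] using hlk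
    have h2 : c⁻¹ * g * emb p F s * (c⁻¹ * g)⁻¹ = l := by
      have : c⁻¹ * g * emb p F s * (c⁻¹ * g)⁻¹ = c⁻¹ * (g * emb p F s * g⁻¹) * c := by group
      rw [this, ← h1]; group
    rw [h2]; exact hl
  · unfold MinPair at hmin
    push_neg at hmin
    obtain ⟨u', hu', w', hw', hup', hwp', hnc', hne⟩ := hmin
    set L₁ := Subgroup.closure {u', w'} with hL₁
    have hle : L₁ ≤ L := by
      rw [hL₁, Subgroup.closure_le]
      intro z hz
      rcases hz with rfl | rfl
      · exact hu'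
      · exact hw'
    haveI : Finite L₁ := Finite.of_injective (Subgroup.inclusion hle) (Subgroup.inclusion_injective hle)
    have hlt : Nat.card L₁ < n := by
      rw [← hn]
      by_contra hcon
      exact hne (Subgroup.eq_of_le_of_card_ge hle (not_lt.mp hcon))
    obtain ⟨g, hg⟩ := ih (Nat.card L₁) hlt L₁ rfl u' (Subgroup.subset_closure (by simp))
      w' (Subgroup.subset_closure (by simp)) hup' hwp' hnc'
    exact ⟨g, fun s => hle (hg s)⟩

end Cfsg.Agent.Lib.Helper11.Dickson
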