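import Mathlib

/-!
# Local analysis in groups with dihedral Sylow 2-subgroups

`DihData S C0`: `C0` is a cyclic subgroup of `S` outside of which all elements of `S` are
involutions whose pairwise products lie in `C0`.  For such `S` (a 2-group), an element of odd order
normalising a subgroup `D ≤ S` centralises it unless `D` is a four-group.
-/

namespace Cfsg.Agent.Lib.Helper11

open Subgroup

section

variable {X : Type*} [Group X]

/-- Abstract dihedral-type data. -/
structure DihData (S C0 : Subgroup X) : Prop where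
  le : C0 ≤ S
  cyc : ∃ c0, C0 = zpowers c0
  sq : ∀ x ∈ S, x ∉ C0 → x * x = 1
  mul : ∀ x ∈ S, ∀ y ∈ S, x ∉ C0 → y ∉ C0 → x * y ∈ C0

/-- A group isomorphic to a dihedral group carries dihedral data. -/
theorem dihData_of_equiv (S : Subgroup X) (m : ℕ) (e : S ≃* DihedralGroup m) :
    ∃ C0, DihData S C0 := by
  set c0 : S := e.symm (DihedralGroup.r 1) with hc0
  have hrot : ∀ x : S, ∀ i : ZMod m, e x = DihedralGroup.r i → x ∈ zpowers c0 := by
    intro x i hi
    rw [mem_zpowers_iff]
    refine ⟨(ZMod.cast i : ℤ), ?_⟩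
    apply e.injective
    rw [map_zpow, hc0, MulEquiv.apply_symm_apply, DihedralGroup.r_one_zpow, hi,
      ZMod.intCast_cast, ZMod.cast_id', id]
  have hcase : ∀ x : S, x ∈ zpowers c0 ∨ ∃ i, e x = DihedralGroup.sr i := by
    intro x
    rcases hx : e x with i | i
    · exact Or.inl (hrot x i hx)
    · exact Or.inr ⟨i, rfl⟩
  refine ⟨(zpowers c0).map S.subtype, ?_, ?_, ?_, ?_⟩
  · exact map_subtype_le _
  · refine ⟨(c0 : X), ?_⟩
    rw [MonoidHom.map_zpowers]
    rfl
  · intro x hx hxC
    rcases hcase ⟨x, hx⟩ with h | ⟨i, hi⟩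
    · exact absurd ⟨⟨x, hx⟩, h, rfl⟩ hxC
    · have : (⟨x, hx⟩ : S) * ⟨x, hx⟩ = 1 := by
        apply e.injective
        rw [map_mul, hi, DihedralGroup.sr_mul_self, map_one]
      exact congrArg Subtype.val this
  · intro x hx y hy hxC hyC
    rcases hcase ⟨x, hx⟩ with h | ⟨i, hi⟩
    · exact absurd ⟨⟨x, hx⟩, h, rfl⟩ hxC
    rcases hcase ⟨y, hy⟩ with h | ⟨j, hj⟩
    · exact absurd ⟨⟨y, hy⟩, h, rfl⟩ hyC
    refine ⟨⟨x, hx⟩ * ⟨y, hy⟩, ?_, rfl⟩
    apply hrot _ (j - i)
    rw [map_mul, hi, hj, DihedralGroup.sr_mul_sr]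

/-- iterated conjugation acts by iterated powers -/
theorem conj_pow_eq_zpow (n x : X) (k : ℤ) (h : n * x * n⁻¹ = x ^ k) (j : ℕ) :
    n ^ j * x * (n ^ j)⁻¹ = x ^ (k ^ j) := by
  induction j with
  | zero => simp
  | succ j ih =>
    have e1 : n ^ (j + 1) * x * (n ^ (j + 1))⁻¹ = n * (n ^ j * x * (n ^ j)⁻¹) * n⁻¹ := by
      rw [pow_succ']; group
    rw [e1, ih]
    have e2 : n * x ^ (k ^ j) * n⁻¹ = (n * x * n⁻¹) ^ (k ^ j) := by
      rw [← MulAut.conj_apply, ← MulAut.conj_apply, map_zpow]
    rw [e2, h, ← zpow_mul, pow_succ']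

/-- An element of odd order normalising a cyclic 2-group centralises it. -/
theorem conj_eq_self_of_odd (d g : X) (a : ℕ) (hd : d ^ 2 ^ a = 1)
    (hg : g * d * g⁻¹ ∈ zpowers d) (hodd : (orderOf g).Coprime 2) : g * d * g⁻¹ = d := by
  obtain ⟨k, hk⟩ := mem_zpowers_iff.1 hg
  by_cases hd1 : d = 1
  · rw [hd1]; group
  -- k is odd
  have hkodd : (2 : ℤ) ∣ k - 1 := by
    by_contra hcon
    have hkeven : (2 : ℤ) ∣ k := by omega
    obtain ⟨c, hc⟩ := hkeven
    obtain ⟨b, hb, hbo⟩ := (Nat.dvd_prime_pow Nat.prime_two).1 (orderOf_dvd_of_pow_eq_one hd)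
    have hb1 : b ≠ 0 := by
      intro h0
      rw [h0, pow_zero, orderOf_eq_one_iff] at hbo
      exact hd1 hbo
    obtain ⟨b', rfl⟩ := Nat.exists_eq_succ_of_ne_zero hb1
    have hord : orderOf (g * d * g⁻¹) = orderOf d := by
      rw [← MulAut.conj_apply, MulEquiv.orderOf_eq]
    have h1 : (g * d * g⁻¹) ^ 2 ^ b' = 1 := by
      rw [← hk, hc, ← zpow_natCast, ← zpow_mul]
      have : 2 * c * ((2 ^ b' : ℕ) : ℤ) = ((2 ^ (b' + 1) : ℕ) : ℤ) * c := by
        push_cast; ring
      rw [this, zpow_mul, zpow_natCast, ← hbo, pow_orderOf_eq_one, one_zpow]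
    have h2 : orderOf d ∣ 2 ^ b' := hord ▸ orderOf_dvd_of_pow_eq_one h1
    rw [hbo] at h2
    have := Nat.le_of_dvd (pow_pos (by norm_num) _) h2
    have h3 : 2 ^ b' < 2 ^ (b' + 1) := Nat.pow_lt_pow_right (by norm_num) (Nat.lt_succ_self _)
    omega
  have h1 : ((2 : ℤ) ^ (a + 1)) ∣ k ^ 2 ^ a - 1 ^ 2 ^ a := by
    exact_mod_cast dvd_sub_pow_of_dvd_sub (R := ℤ) (p := 2) (a := k) (b := 1)
      (by exact_mod_cast hkodd) a
  rw [one_pow] at h1
  have h3 : d ^ (k ^ 2 ^ a) = d := by
    obtain ⟨c, hc⟩ := h1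
    have : k ^ 2 ^ a = 1 + ((2 ^ a : ℕ) : ℤ) * (2 * c) := by
      push_cast
      rw [pow_succ] at hc
      linarith
    rw [this, zpow_add, zpow_one, zpow_mul, zpow_natCast, hd, one_zpow, mul_one]
  have h4 : g ^ (2 ^ a) * d * (g ^ (2 ^ a))⁻¹ = d := by
    rw [conj_pow_eq_zpow g d k hk.symm, h3]
  have h5 : Commute (g ^ (2 ^ a)) d := by
    have : g ^ (2 ^ a) * d = g ^ (2 ^ a) * d * (g ^ (2 ^ a))⁻¹ * g ^ (2 ^ a) := by group
    rw [Commute, SemiconjBy, this, h4]
  obtain ⟨u, hu⟩ := exists_pow_eq_self_of_coprime (Nat.Coprime.pow_left a hodd.symm)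
  have h6 : Commute g d := by
    rw [← hu]
    exact h5.pow_left u
  rw [h6.eq]; group

/-- Iterating `g x g⁻¹ = x c` with `g` centralising `c`. -/
theorem conj_pow_mul (g x c : X) (h : g * x * g⁻¹ = x * c) (hc : g * c * g⁻¹ = c) (n : ℕ) :
    g ^ n * x * (g ^ n)⁻¹ = x * c ^ n := by
  induction n with
  | zero => simp
  | succ n ih =>
    have e1 : g ^ (n + 1) * x * (g ^ (n + 1))⁻¹ = g * (g ^ n * x * (g ^ n)⁻¹) * g⁻¹ := by
      rw [pow_succ']; group
    have hcn : g * c ^ n * g⁻¹ = c ^ n := by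
      rw [← MulAut.conj_apply, map_pow, MulAut.conj_apply, hc]
    have e2 : g * (x * c ^ n) * g⁻¹ = (g * x * g⁻¹) * (g * c ^ n * g⁻¹) := by group
    rw [e1, ih, e2, h, hcn, pow_succ', mul_assoc]

/-- The intersection of a subgroup with a cyclic subgroup is cyclic. -/
theorem exists_inf_zpowers_eq (D : Subgroup X) (c0 : X) : ∃ d, D ⊓ zpowers c0 = zpowers d := by
  haveI : IsCyclic ((D ⊓ zpowers c0).subgroupOf (zpowers c0)) := inferInstance
  obtain ⟨⟨⟨d, hd0⟩, hd⟩, hgen⟩ := IsCyclic.exists_generator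
    (α := (D ⊓ zpowers c0).subgroupOf (zpowers c0))
  refine ⟨d, le_antisymm ?_ ?_⟩
  · intro x hx
    have hx0 : x ∈ zpowers c0 := hx.2
    have hmem : (⟨x, hx0⟩ : zpowers c0) ∈ (D ⊓ zpowers c0).subgroupOf (zpowers c0) := hx
    obtain ⟨k, hk⟩ := mem_zpowers_iff.1 (hgen ⟨⟨x, hx0⟩, hmem⟩)
    rw [mem_zpowers_iff]
    refine ⟨k, ?_⟩
    have h1 := congrArg Subtype.val hk
    have h2 := congrArg Subtype.val h1
    simpa using h2
  · rw [zpowers_le]
    exact hd

/-- Subgroups of exponent two in a dihedral-type group: at most `{1, d, s, s d}`. -/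
theorem subset_of_dihData_of_sq {S C0 : Subgroup X} (h : DihData S C0) (D : Subgroup X)
    (hD : D ≤ S) (d s : X) (hd : D ⊓ C0 = zpowers d) (hdd : d * d = 1) (hs : s ∈ D)
    (hsC : s ∉ C0) : ∀ x ∈ D, x = 1 ∨ x = d ∨ x = s ∨ x = s * d := by
  have hzd : ∀ y ∈ zpowers d, y = 1 ∨ y = d := by
    intro y hy
    obtain ⟨k, rfl⟩ := mem_zpowers_iff.1 hy
    rcases Int.even_or_odd' k with ⟨j, hj | hj⟩
    · left
      rw [hj, zpow_mul, zpow_two, hdd, one_zpow]
    · right
      rw [hj, zpow_add, zpow_mul, zpow_two, hdd, one_zpow, one_mul, zpow_one]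
  intro x hx
  by_cases hxC : x ∈ C0
  · rcases hzd x (hd ▸ ⟨hx, hxC⟩) with h1 | h1
    · exact Or.inl h1
    · exact Or.inr (Or.inl h1)
  · have h1 : s * x ∈ D ⊓ C0 := ⟨D.mul_mem hs hx, h.mul s (hD hs) x (hD hx) hsC hxC⟩
    have hss : s * s = 1 := h.sq s (hD hs) hsC
    have hx' : x = s * (s * x) := by rw [← mul_assoc, hss, one_mul]
    rcases hzd _ (hd ▸ h1) with h2 | h2
    · right; right; left
      rw [hx', h2, mul_one]
    · right; right; right
      rw [hx', h2]

/-- **Local lemma**: odd-order elements normalising a subgroup of a dihedral-type 2-group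
centralise it, unless it is a four-group. -/
theorem centralizes_of_dihData [Finite X] {S C0 : Subgroup X} (h : DihData S C0)
    (hS : IsPGroup 2 S) (D : Subgroup X) (hD : D ≤ S) (g : X)
    (hg : g ∈ normalizer (D : Set X)) (hodd : (orderOf g).Coprime 2) :
    g ∈ centralizer (D : Set X) ∨ (Nat.card D = 4 ∧ ∀ d ∈ D, d * d = 1) := by
  classical
  obtain ⟨c0, hc0⟩ := h.cyc
  obtain ⟨d, hd⟩ := exists_inf_zpowers_eq D c0
  rw [← hc0] at hd
  have hdD : d ∈ D := (hd ▸ mem_zpowers d : d ∈ D ⊓ C0).1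
  have hdC : d ∈ C0 := (hd ▸ mem_zpowers d : d ∈ D ⊓ C0).2
  have hpow : ∀ x ∈ S, ∃ a : ℕ, x ^ 2 ^ a = 1 := by
    intro x hx
    obtain ⟨a, ha⟩ := hS ⟨x, hx⟩
    exact ⟨a, by simpa using congrArg Subtype.val ha⟩
  have hconjD : ∀ x ∈ D, g * x * g⁻¹ ∈ D := fun x hx => ((mem_normalizer_iff.1 hg) x).1 hx
  have hcent_of : (∀ x ∈ D, g * x * g⁻¹ = x) → g ∈ centralizer (D : Set X) := by
    intro hall
    rw [mem_centralizer_iff]
    intro x hx
    have := hall x hx
    have e1 : g * x = g * x * g⁻¹ * g := by group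
    rw [e1, this]
  by_cases hDC : D ≤ C0
  · -- cyclic case
    left
    apply hcent_of
    have hDz : D = zpowers d := by rw [← hd, inf_of_le_left hDC]
    obtain ⟨a, ha⟩ := hpow d (hD hdD)
    have hgd : g * d * g⁻¹ = d := by
      apply conj_eq_self_of_odd d g a ha _ hodd
      rw [← hDz]; exact hconjD d hdD
    intro x hx
    rw [hDz] at hx
    obtain ⟨k, rfl⟩ := mem_zpowers_iff.1 hx
    rw [← MulAut.conj_apply, map_zpow, MulAut.conj_apply, hgd]
  · obtain ⟨s, hsD, hsC⟩ := Set.not_subset.1 hDC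
    by_cases hdd : d * d = 1
    · -- small case
      have hsub := subset_of_dihData_of_sq h D hD d s hd hdd hsD hsC
      have hss : s * s = 1 := h.sq s (hD hsD) hsC
      have hsq : ∀ x ∈ D, x * x = 1 := by
        intro x hx
        by_cases hxC : x ∈ C0
        · have : x ∈ zpowers d := hd ▸ ⟨hx, hxC⟩
          obtain ⟨k, rfl⟩ := mem_zpowers_iff.1 this
          rw [← zpow_add, ← two_mul, zpow_mul, zpow_two, hdd, one_zpow]
        · exact h.sq x (hD hx) hxC
      by_cases hd1 : d = 1
      · left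
        apply hcent_of
        have hs1 : s ≠ 1 := fun h1 => hsC (h1 ▸ one_mem C0)
        have hD2 : ∀ x ∈ D, x = 1 ∨ x = s := by
          intro x hx
          rcases hsub x hx with h1 | h1 | h1 | h1
          · exact Or.inl h1
          · exact Or.inl (h1.trans hd1)
          · exact Or.inr h1
          · exact Or.inr (by rw [h1, hd1, mul_one])
        intro x hx
        rcases hD2 x hx with rfl | rfl
        · group
        · rcases hD2 _ (hconjD x hx) with h1 | h1
          · exfalso
            apply hs1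
            have : x = g⁻¹ * (g * x * g⁻¹) * g := by group
            rw [this, h1]; group
          · exact h1
      · right
        refine ⟨?_, hsq⟩
        have hs1 : s ≠ 1 := fun h1 => hsC (h1 ▸ one_mem C0)
        have hsd : s ≠ d := fun h1 => hsC (h1 ▸ hdC)
        have hsd1 : s * d ≠ 1 := by
          intro h1
          apply hsC
          have : s = (s * d) * d := by rw [mul_assoc, hdd, mul_one]
          rw [this, h1, one_mul]; exact hdC
        have hsdd : s * d ≠ d := by
          intro h1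
          apply hs1
          have : s = (s * d) * d := by rw [mul_assoc, hdd, mul_one]
          rw [this, h1, hdd]
        have hsds : s * d ≠ s := by
          intro h1
          apply hd1
          have : d = s * (s * d) := by rw [← mul_assoc, hss, one_mul]
          rw [this, h1, hss]
        have hset : (D : Set X) = {1, d, s, s * d} := by
          ext x
          constructor
          · intro hx
            rcases hsub x hx with h1 | h1 | h1 | h1 <;> simp [h1]
          · intro hx
            simp only [Set.mem_insert_iff, Set.mem_singleton_iff] at hx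
            rcases hx with rfl | rfl | rfl | rfl
            · exact D.one_mem
            · exact hdD
            · exact hsD
            · exact D.mul_mem hsD hdD
        have hcD : Nat.card D = Set.ncard (D : Set X) := (Nat.card_coe_set_eq (D : Set X))
        rw [hcD, hset]
        rw [Set.ncard_eq_toFinset_card']
        have : ({1, d, s, s * d} : Set X).toFinset = {1, d, s, s * d} := by
          ext; simp
        rw [this]
        rw [Finset.card_insert_of_notMem, Finset.card_insert_of_notMem,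
          Finset.card_insert_of_notMem, Finset.card_singleton]
        · simp only [Finset.mem_singleton]; exact hsds.symm
        · simp only [Finset.mem_insert, Finset.mem_singleton, not_or]
          exact ⟨fun h1 => hsd h1.symm, fun h1 => hsdd h1.symm⟩
        · simp only [Finset.mem_insert, Finset.mem_singleton, not_or]
          exact ⟨fun h1 => hd1 h1.symm, fun h1 => hs1 h1.symm, fun h1 => hsd1 h1.symm⟩
    · -- big case
      left
      apply hcent_of
      obtain ⟨a, ha⟩ := hpow d (hD hdD)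
      have hgd : g * d * g⁻¹ = d := by
        apply conj_eq_self_of_odd d g a ha _ hodd
        rw [← hd]
        refine ⟨hconjD d hdD, ?_⟩
        by_contra hnC
        apply hdd
        have h1 := h.sq _ (hD (hconjD d hdD)) hnC
        have h2 : g * (d * d) * g⁻¹ = 1 := by
          have : g * (d * d) * g⁻¹ = (g * d * g⁻¹) * (g * d * g⁻¹) := by group
          rw [this, h1]
        have : d * d = g⁻¹ * (g * (d * d) * g⁻¹) * g := by group
        rw [this, h2]; group
      have hgD0 : ∀ y ∈ zpowers d, g * y * g⁻¹ = y := by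
        intro y hy
        obtain ⟨k, rfl⟩ := mem_zpowers_iff.1 hy
        rw [← MulAut.conj_apply, map_zpow, MulAut.conj_apply, hgd]
      intro x hx
      by_cases hxC : x ∈ C0
      · exact hgD0 x (hd ▸ ⟨hx, hxC⟩)
      · have hyD := hconjD x hx
        have hyC : g * x * g⁻¹ ∉ C0 := by
          intro hyC
          have hy0 : g * x * g⁻¹ ∈ zpowers d := hd ▸ ⟨hyD, hyC⟩
          have h1 := hgD0 _ hy0
          apply hxC
          have : x = g * x * g⁻¹ := by
            have e1 : x = g⁻¹ * (g * (g * x * g⁻¹) * g⁻¹) * g := by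
              rw [h1]; group
            have e2 : g⁻¹ * (g * (g * x * g⁻¹) * g⁻¹) * g = g * x * g⁻¹ := by group
            rw [← e2]; exact e1
          rw [this]; exact hyC
        have hxx : x * x = 1 := h.sq x (hD hx) hxC
        set c := x * (g * x * g⁻¹) with hcdef
        have hcD0 : c ∈ zpowers d := hd ▸ ⟨D.mul_mem hx hyD, h.mul x (hD hx) _ (hD hyD) hxC hyC⟩
        have hgx : g * x * g⁻¹ = x * c := by
          rw [hcdef, ← mul_assoc, hxx, one_mul]
        have hgc : g * c * g⁻¹ = c := hgD0 c hcD0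
        have h1 := conj_pow_mul g x c hgx hgc (orderOf g)
        rw [pow_orderOf_eq_one] at h1
        have h2 : c ^ orderOf g = 1 := by
          have : x = x * c ^ orderOf g := by simpa using h1
          exact (mul_eq_left.1 this.symm)
        obtain ⟨b, hb⟩ := hpow c (hD ((hd ▸ hcD0 : c ∈ D ⊓ C0).1))
        have h3 : orderOf c ∣ orderOf g := orderOf_dvd_of_pow_eq_one h2
        have h4 : orderOf c ∣ 2 ^ b := orderOf_dvd_of_pow_eq_one hb
        have h5 : orderOf c = 1 :=
          Nat.eq_one_of_dvd_coprimes (Nat.Coprime.pow_right b hodd) h3 h4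
        rw [orderOf_eq_one_iff] at h5
        rw [hgx, h5, mul_one]

end

end Cfsg.Agent.Lib.Helper11
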