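import Mathlib
import Cfsg.Agent.Lib.Helper11.DihLocal

/-!
# Explicit generators of dihedral subgroups (helper11)

`DihGen P r s m`: the subgroup `P` is dihedral, generated by a rotation `r` of order `m` and a
reflection `s`.  Basic consequences: classification of involutions of `P` up to `P`-conjugacy,
the central involution `z = r ^ (m / 2)`, index of the rotation subgroup, and so on.
-/

namespace Cfsg.Agent.Lib.Helper11

open Subgroup

section

variable {G : Type*} [Group G]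

/-- Explicit dihedral generators of a subgroup `P`. -/
structure DihGen (P : Subgroup G) (r s : G) (m : ℕ) : Prop where
  hr : r ∈ P
  hs : s ∈ P
  ord : orderOf r = m
  ss : s * s = 1
  srs : s * r * s⁻¹ = r⁻¹
  hsr : s ∉ zpowers r
  cases : ∀ x ∈ P, x ∈ zpowers r ∨ ∃ y ∈ zpowers r, x = s * y

theorem dihGen_of_equiv (P : Subgroup G) (m : ℕ) (e : P ≃* DihedralGroup m) :
    DihGen P ((e.symm (DihedralGroup.r 1) : P) : G) ((e.symm (DihedralGroup.sr 0) : P) : G) m := by
  set c0 : P := e.symm (DihedralGroup.r 1) with hc0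
  set s0 : P := e.symm (DihedralGroup.sr 0) with hs0
  have hrot : ∀ x : P, ∀ i : ZMod m, e x = DihedralGroup.r i → (x : G) ∈ zpowers (c0 : G) := by
    intro x i hi
    rw [mem_zpowers_iff]
    refine ⟨(ZMod.cast i : ℤ), ?_⟩
    have : c0 ^ (ZMod.cast i : ℤ) = x := by
      apply e.injective
      rw [map_zpow, hc0, MulEquiv.apply_symm_apply, DihedralGroup.r_one_zpow, hi,
        ZMod.intCast_cast, ZMod.cast_id', id]
    rw [← this]; simp
  refine ⟨c0.2, s0.2, ?_, ?_, ?_, ?_, ?_⟩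
  · rw [Subgroup.orderOf_coe, hc0, MulEquiv.orderOf_eq, DihedralGroup.orderOf_r_one]
  · have : s0 * s0 = 1 := by
      apply e.injective
      rw [map_mul, hs0, MulEquiv.apply_symm_apply, DihedralGroup.sr_mul_self, map_one]
    exact congrArg Subtype.val this
  · have : s0 * c0 * s0⁻¹ = c0⁻¹ := by
      apply e.injective
      rw [map_mul, map_mul, map_inv, map_inv, hs0, hc0, MulEquiv.apply_symm_apply,
        MulEquiv.apply_symm_apply]
      simp
    exact congrArg Subtype.val this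
  · intro hmem
    obtain ⟨k, hk⟩ := mem_zpowers_iff.1 hmem
    have : c0 ^ k = s0 := by
      apply Subtype.ext
      rw [← hk]; simp
    have h2 := congrArg e this
    rw [map_zpow, hc0, hs0, MulEquiv.apply_symm_apply, MulEquiv.apply_symm_apply,
      DihedralGroup.r_one_zpow] at h2
    cases h2
  · intro x hx
    rcases hxe : e ⟨x, hx⟩ with i | i
    · exact Or.inl (hrot ⟨x, hx⟩ i hxe)
    · right
      refine ⟨((e.symm (DihedralGroup.r i) : P) : G), ?_, ?_⟩
      · apply hrot _ i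
        rw [MulEquiv.apply_symm_apply]
      · have : (⟨x, hx⟩ : P) = s0 * e.symm (DihedralGroup.r i) := by
          apply e.injective
          rw [map_mul, hs0, MulEquiv.apply_symm_apply, MulEquiv.apply_symm_apply, hxe]
          simp
        exact congrArg Subtype.val this

variable {P : Subgroup G} {r s : G} {m : ℕ}

theorem DihGen.s_inv (h : DihGen P r s m) : s⁻¹ = s := inv_eq_of_mul_eq_one_right h.ss

theorem DihGen.conj_zpow (h : DihGen P r s m) (k : ℤ) : s * r ^ k * s⁻¹ = r ^ (-k) := by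
  have := map_zpow (MulAut.conj s) r k
  rw [MulAut.conj_apply, MulAut.conj_apply, h.srs] at this
  rw [this, inv_zpow, zpow_neg]

theorem DihGen.conj_mem (h : DihGen P r s m) {y : G} (hy : y ∈ zpowers r) :
    s * y * s⁻¹ = y⁻¹ := by
  obtain ⟨k, rfl⟩ := mem_zpowers_iff.1 hy
  rw [h.conj_zpow, zpow_neg]

/-- `r ^ k * s = s * r ^ (-k)` -/
theorem DihGen.zpow_mul_s (h : DihGen P r s m) (k : ℤ) : r ^ k * s = s * r ^ (-k) := by
  have := h.conj_zpow (-k)
  rw [neg_neg] at this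
  rw [← this]; group

theorem DihGen.refl_sq (h : DihGen P r s m) {y : G} (hy : y ∈ zpowers r) :
    (s * y) * (s * y) = 1 := by
  have h1 : s * y * s = y⁻¹ := by
    have := h.conj_mem hy
    rwa [h.s_inv] at this
  calc (s * y) * (s * y) = (s * y * s) * y := by group
    _ = 1 := by rw [h1]; group

theorem DihGen.zpowers_le (h : DihGen P r s m) : zpowers r ≤ P := (Subgroup.zpowers_le).2 h.hr

theorem DihGen.toDihData (h : DihGen P r s m) : DihData P (zpowers r) := by
  refine ⟨h.zpowers_le, ⟨r, rfl⟩, ?_, ?_⟩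
  · intro x hx hxC
    rcases h.cases x hx with h1 | ⟨y, hy, rfl⟩
    · exact absurd h1 hxC
    · exact h.refl_sq hy
  · intro x hx y hy hxC hyC
    rcases h.cases x hx with h1 | ⟨y1, hy1, rfl⟩
    · exact absurd h1 hxC
    rcases h.cases y hy with h2 | ⟨y2, hy2, rfl⟩
    · exact absurd h2 hyC
    have h3 : s * y1 * s = y1⁻¹ := by
      have := h.conj_mem hy1
      rwa [h.s_inv] at this
    have : s * y1 * (s * y2) = (s * y1 * s) * y2 := by group
    rw [this, h3]
    exact mul_mem (inv_mem hy1) hy2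

/-- The rotation subgroup has index two. -/
theorem DihGen.relIndex (h : DihGen P r s m) : (zpowers r).relIndex P = 2 := by
  show ((zpowers r).subgroupOf P).index = 2
  rw [Subgroup.index_eq_two_iff]
  refine ⟨⟨s, h.hs⟩, ?_⟩
  rintro ⟨b, hb⟩
  simp only [mem_subgroupOf, Subgroup.coe_mul]
  by_cases hbC : b ∈ zpowers r
  · right
    refine ⟨hbC, ?_⟩
    intro hc
    apply h.hsr
    have : s = b⁻¹ * (b * s) := by group
    rw [this]
    exact mul_mem (inv_mem hbC) hc
  · left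
    refine ⟨?_, hbC⟩
    rcases h.cases b hb with h1 | ⟨y, hy, rfl⟩
    · exact absurd h1 hbC
    · have h3 : s * y * s = y⁻¹ := by
        have := h.conj_mem hy
        rwa [h.s_inv] at this
      rw [h3]
      exact inv_mem hy

/-- Conjugation by elements of `P` preserves the rotation subgroup. -/
theorem DihGen.conj_rot (h : DihGen P r s m) {p y : G} (hp : p ∈ P) (hy : y ∈ zpowers r) :
    p * y * p⁻¹ ∈ zpowers r := by
  obtain ⟨k, rfl⟩ := mem_zpowers_iff.1 hy
  rcases h.cases p hp with h1 | ⟨y1, hy1, rfl⟩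
  · obtain ⟨j, rfl⟩ := mem_zpowers_iff.1 h1
    have : r ^ j * r ^ k * (r ^ j)⁻¹ = r ^ k := by
      rw [← zpow_add, ← zpow_neg, ← zpow_add]; congr 1; ring
    rw [this]; exact zpow_mem (mem_zpowers r) k
  · obtain ⟨j, rfl⟩ := mem_zpowers_iff.1 hy1
    have e1 : s * r ^ j * r ^ k * (s * r ^ j)⁻¹ = s * (r ^ j * r ^ k * (r ^ j)⁻¹) * s⁻¹ := by group
    have e2 : r ^ j * r ^ k * (r ^ j)⁻¹ = r ^ k := by
      rw [← zpow_add, ← zpow_neg, ← zpow_add]; congr 1; ring
    rw [e1, e2, h.conj_zpow]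
    exact zpow_mem (mem_zpowers r) _

/-- Every reflection is `P`-conjugate to `s` or to `s * r`. -/
theorem DihGen.refl_conj (h : DihGen P r s m) {x : G} (hx : x ∈ P) (hxC : x ∉ zpowers r) :
    ∃ p ∈ P, p * x * p⁻¹ = s ∨ p * x * p⁻¹ = s * r := by
  rcases h.cases x hx with h1 | ⟨y, hy, rfl⟩
  · exact absurd h1 hxC
  obtain ⟨k, rfl⟩ := mem_zpowers_iff.1 hy
  obtain ⟨j, hj⟩ := Int.even_or_odd' k
  refine ⟨r ^ j, zpow_mem h.hr j, ?_⟩
  have key : r ^ j * (s * r ^ k) * (r ^ j)⁻¹ = s * r ^ (k - 2 * j) := by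
    have e1 : r ^ j * (s * r ^ k) * (r ^ j)⁻¹ = (r ^ j * s) * r ^ k * (r ^ j)⁻¹ := by group
    rw [e1, h.zpow_mul_s, ← zpow_neg, mul_assoc, mul_assoc, ← zpow_add, ← zpow_add]
    congr 2; ring
  rcases hj with hj | hj
  · left
    rw [key, hj]
    simp
  · right
    rw [key, hj]
    have : 2 * j + 1 - 2 * j = 1 := by ring
    rw [this, zpow_one]

/-- Conjugates of `s` under `P` are of the form `s * r ^ (2 * j)`. -/
theorem DihGen.conj_s (h : DihGen P r s m) {p : G} (hp : p ∈ P) :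
    ∃ j : ℤ, p * s * p⁻¹ = s * r ^ (2 * j) := by
  rcases h.cases p hp with h1 | ⟨y1, hy1, rfl⟩
  · obtain ⟨k, rfl⟩ := mem_zpowers_iff.1 h1
    refine ⟨-k, ?_⟩
    rw [h.zpow_mul_s, ← zpow_neg, mul_assoc, ← zpow_add]
    congr 2; ring
  · obtain ⟨k, rfl⟩ := mem_zpowers_iff.1 hy1
    refine ⟨k, ?_⟩
    have e1 : s * r ^ k * s * (s * r ^ k)⁻¹ = s * (r ^ k * s) * (r ^ k)⁻¹ * s⁻¹ := by group
    rw [e1, h.zpow_mul_s, h.s_inv]
    have e2 : s * (s * r ^ (-k)) * (r ^ k)⁻¹ * s = (s * s) * (r ^ (-k) * (r ^ k)⁻¹ * s) := by group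
    rw [e2, h.ss, one_mul, ← zpow_neg, ← zpow_add, h.zpow_mul_s]
    congr 2; ring

/-- `z = r ^ (m / 2)` squares to one. -/
theorem DihGen.z_mul_self (h : DihGen P r s m) (hm : 2 ∣ m) :
    r ^ (m / 2) * r ^ (m / 2) = 1 := by
  rw [← pow_add]
  have : m / 2 + m / 2 = m := by omega
  rw [this, ← h.ord, pow_orderOf_eq_one]

theorem DihGen.z_ne_one (h : DihGen P r s m) (hm : 2 ∣ m) (hm0 : 0 < m) :
    r ^ (m / 2) ≠ 1 := by
  apply pow_ne_one_of_lt_orderOf
  · omega
  · rw [h.ord]; omega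

theorem DihGen.z_mem (h : DihGen P r s m) : r ^ (m / 2) ∈ P := pow_mem h.hr _

theorem DihGen.orderOf_z (h : DihGen P r s m) (hm : 2 ∣ m) (hm0 : 0 < m) :
    orderOf (r ^ (m / 2)) = 2 := by
  apply orderOf_eq_prime
  · rw [pow_two]; exact h.z_mul_self hm
  · exact h.z_ne_one hm hm0

/-- The unique involution among the rotations. -/
theorem DihGen.eq_z_of_rot (h : DihGen P r s m) (hm : 2 ∣ m) {x : G} (hx : x ∈ zpowers r)
    (hxx : x * x = 1) (hx1 : x ≠ 1) : x = r ^ (m / 2) := by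
  obtain ⟨k, rfl⟩ := mem_zpowers_iff.1 hx
  rw [← zpow_add] at hxx
  have h1 : (orderOf r : ℤ) ∣ k + k := orderOf_dvd_iff_zpow_eq_one.2 hxx
  rw [h.ord] at h1
  obtain ⟨q, hq⟩ := hm
  have hq2 : m / 2 = q := by omega
  obtain ⟨c, hc⟩ := h1
  have hk : k = (q : ℤ) * c := by
    have : (m : ℤ) = 2 * q := by exact_mod_cast hq
    rw [this] at hc
    linarith
  have hz2 : r ^ q * r ^ q = 1 := by
    rw [← hq2]; exact h.z_mul_self ⟨q, hq⟩
  rw [hq2]
  rw [hk, zpow_mul, zpow_natCast] at hx1 ⊢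
  obtain ⟨j, hj | hj⟩ := Int.even_or_odd' c
  · exfalso
    apply hx1
    rw [hj, zpow_mul, zpow_two, hz2, one_zpow]
  · rw [hj, zpow_add, zpow_mul, zpow_two, hz2, one_zpow, one_mul, zpow_one]

/-- Classification of the involutions of `P` up to `P`-conjugacy. -/
theorem DihGen.inv_cases (h : DihGen P r s m) (hm : 2 ∣ m) {x : G} (hx : x ∈ P)
    (hxx : x * x = 1) (hx1 : x ≠ 1) :
    x = r ^ (m / 2) ∨ ∃ p ∈ P, p * x * p⁻¹ = s ∨ p * x * p⁻¹ = s * r := by
  by_cases hxC : x ∈ zpowers r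
  · exact Or.inl (h.eq_z_of_rot hm hxC hxx hx1)
  · exact Or.inr (h.refl_conj hx hxC)

/-- `z` is a square in `P`. -/
theorem DihGen.z_eq_sq (h : DihGen P r s m) (hm : 4 ∣ m) :
    ∃ w ∈ P, r ^ (m / 2) = w * w := by
  refine ⟨r ^ (m / 4), pow_mem h.hr _, ?_⟩
  rw [← pow_add]
  congr 1
  omega

/-- `P` is generated by `s` and `s * r`. -/
theorem DihGen.le_of_mem (h : DihGen P r s m) {N : Subgroup G} (hs : s ∈ N) (hsr : s * r ∈ N) :
    P ≤ N := by
  have hr : r ∈ N := by
    have : r = s⁻¹ * (s * r) := by group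
    rw [this]; exact mul_mem (inv_mem hs) hsr
  intro x hx
  rcases h.cases x hx with h1 | ⟨y, hy, rfl⟩
  · exact (Subgroup.zpowers_le.2 hr) h1
  · exact mul_mem hs ((Subgroup.zpowers_le.2 hr) hy)

/-- `s` and `s * r` are not conjugate in `P`. -/
theorem DihGen.not_conj_s_sr (h : DihGen P r s m) (hm : 2 ∣ m) {p : G} (hp : p ∈ P) :
    p * s * p⁻¹ ≠ s * r := by
  intro hc
  obtain ⟨j, hj⟩ := h.conj_s hp
  rw [hj] at hc
  have h1 : r ^ (2 * j) = r := mul_left_cancel hc
  have h2 : r ^ (2 * j - 1) = 1 := by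
    rw [zpow_sub, h1, zpow_one, mul_inv_cancel]
  have h3 : (orderOf r : ℤ) ∣ 2 * j - 1 := orderOf_dvd_iff_zpow_eq_one.2 h2
  rw [h.ord] at h3
  obtain ⟨q, hq⟩ := hm
  have : (2 : ℤ) ∣ 2 * j - 1 := by
    refine dvd_trans ?_ h3
    exact ⟨q, by exact_mod_cast hq⟩
  omega

/-- `z` is not a reflection. -/
theorem DihGen.z_ne_refl (h : DihGen P r s m) {y : G} (hy : y ∈ zpowers r) :
    r ^ (m / 2) ≠ s * y := by
  intro hc
  apply h.hsr
  have : s = r ^ (m / 2) * y⁻¹ := by rw [hc]; group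
  rw [this]
  exact mul_mem (pow_mem (mem_zpowers r) _) (inv_mem hy)

/-- The other choice of reflection. -/
theorem DihGen.swap (h : DihGen P r s m) : DihGen P r (s * r) m := by
  refine ⟨h.hr, mul_mem h.hs h.hr, h.ord, h.refl_sq (mem_zpowers r), ?_, ?_, ?_⟩
  · have : s * r * r * (s * r)⁻¹ = s * r * s⁻¹ := by group
    rw [this, h.srs]
  · intro hc
    apply h.hsr
    have : s = (s * r) * r⁻¹ := by group
    rw [this]
    exact mul_mem hc (inv_mem (mem_zpowers r))
  · intro x hx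
    rcases h.cases x hx with h1 | ⟨y, hy, rfl⟩
    · exact Or.inl h1
    · exact Or.inr ⟨r⁻¹ * y, mul_mem (inv_mem (mem_zpowers r)) hy, by group⟩

/-- `s * r * r` is `P`-conjugate to `s`. -/
theorem DihGen.conj_srr (h : DihGen P r s m) : r * (s * r * r) * r⁻¹ = s := by
  have h1 := h.zpow_mul_s 1
  rw [zpow_one] at h1
  have : r * (s * r * r) * r⁻¹ = (r * s) * r := by group
  rw [this, h1]; group

end

end Cfsg.Agent.Lib.Helper11
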