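import Mathlib

/-!
Generic Sylow-conjugation tools for showing that a subgroup is not maximal (helper11, for the
Dickson hub): pattern S (a Sylow subgroup inside a conjugate of a bigger proper subgroup) and
pattern N (the normalizer of a Sylow subgroup of prime order inside a conjugate of a bigger
proper subgroup).
-/

set_option autoImplicit false

namespace Cfsg.Agent.Lib.Helper11.DkSmallDih

open Subgroup

variable {G : Type*} [Group G]

/-- conjugate of a subgroup -/
abbrev cjg (g : G) (P : Subgroup G) : Subgroup G := P.map (MulAut.conj g).toMonoidHom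

theorem card_cjg (g : G) (P : Subgroup G) : Nat.card (cjg g P) = Nat.card P :=
  Subgroup.card_map_of_injective (MulAut.conj g).injective

theorem cjg_mono (g : G) {P Q : Subgroup G} (h : P ≤ Q) : cjg g P ≤ cjg g Q := Subgroup.map_mono h

theorem mem_cjg {g x : G} {P : Subgroup G} : x ∈ cjg g P ↔ g⁻¹ * x * g ∈ P := by
  constructor
  · rintro ⟨y, hy, rfl⟩
    simpa [MulAut.conj_apply, mul_assoc] using hy
  · intro h
    exact ⟨g⁻¹ * x * g, h, by simp [MulAut.conj_apply, mul_assoc]⟩

theorem cjg_normalizer_le (g : G) (P : Subgroup G) :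
    cjg g (normalizer (P : Set G)) ≤ normalizer (cjg g P : Set G) := by
  intro x hx
  rw [mem_cjg] at hx
  rw [mem_normalizer_iff]
  intro y
  rw [mem_cjg, mem_cjg]
  have h1 := (mem_normalizer_iff.mp hx) (g⁻¹ * y * g)
  have e : g⁻¹ * (x * y * x⁻¹) * g = g⁻¹ * x * g * (g⁻¹ * y * g) * (g⁻¹ * x * g)⁻¹ := by group
  rw [e]
  exact h1

theorem not_coatom_of_lt_lt {M L : Subgroup G} (h1 : M < L) (h2 : L ≠ ⊤) : ¬ IsCoatom M :=
  fun h => h2 (h.2 L h1)

variable [Finite G]

/-- a `p`-subgroup of the largest possible order is a Sylow subgroup -/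
theorem exists_sylow_eq {p : ℕ} [Fact p.Prime] (P : Subgroup G) (a : ℕ) (hP : Nat.card P = p ^ a)
    (hG : ¬ p ^ (a + 1) ∣ Nat.card G) : ∃ S : Sylow p G, (S : Subgroup G) = P := by
  have hPp : IsPGroup p P := IsPGroup.of_card hP
  obtain ⟨S, hS⟩ := hPp.exists_le_sylow
  refine ⟨S, ?_⟩
  obtain ⟨n, hn⟩ := S.2.exists_card_eq
  have hdvd : p ^ n ∣ Nat.card G := hn ▸ Subgroup.card_subgroup_dvd_card (S : Subgroup G)
  have hna : n ≤ a := by
    by_contra hlt
    push_neg at hlt
    exact hG ((pow_dvd_pow p hlt).trans hdvd)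
  have hle : Nat.card (S : Subgroup G) ≤ Nat.card P := by
    rw [hn, hP]
    exact Nat.pow_le_pow_right (Fact.out : p.Prime).pos hna
  exact (Subgroup.eq_of_le_of_card_ge hS hle).symm

/-- two subgroups of the same largest possible `p`-power order are conjugate -/
theorem exists_cjg_eq {p : ℕ} [Fact p.Prime] (P Q : Subgroup G) (a : ℕ) (hP : Nat.card P = p ^ a)
    (hQ : Nat.card Q = p ^ a) (hG : ¬ p ^ (a + 1) ∣ Nat.card G) : ∃ g : G, Q = cjg g P := by
  obtain ⟨S, hS⟩ := exists_sylow_eq P a hP hG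
  obtain ⟨T, hT⟩ := exists_sylow_eq Q a hQ hG
  obtain ⟨g, hg⟩ := MulAction.exists_smul_eq G S T
  refine ⟨g, ?_⟩
  have h1 : ((g • S : Sylow p G) : Subgroup G) = cjg g (S : Subgroup G) := by
    rw [Sylow.coe_subgroup_smul]
    rfl
  rw [← hT, ← hg, h1, hS]

/-- Pattern S: `M` is a Sylow `p`-subgroup of `G`, and `L` is a proper subgroup of order divisible
by `|M|` but different from it: `M` is not maximal. -/
theorem patternS {p : ℕ} [Fact p.Prime] (M L : Subgroup G) (a : ℕ) (hM : Nat.card M = p ^ a)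
    (hG : ¬ p ^ (a + 1) ∣ Nat.card G) (hL : p ^ a ∣ Nat.card L) (hLM : Nat.card L ≠ p ^ a)
    (hLG : Nat.card L ≠ Nat.card G) : ¬ IsCoatom M := by
  obtain ⟨K, hK⟩ := Sylow.exists_subgroup_card_pow_prime p hL
  set P : Subgroup G := K.map L.subtype with hPdef
  have hP : Nat.card P = p ^ a := by
    rw [hPdef, Subgroup.card_map_of_injective L.subtype_injective, hK]
  have hPL : P ≤ L := Subgroup.map_subtype_le K
  obtain ⟨g, hg⟩ := exists_cjg_eq P M a hP hM hG
  have hML : M ≤ cjg g L := hg ▸ cjg_mono g hPL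
  have hne : M ≠ cjg g L := by
    intro h
    apply hLM
    rw [← card_cjg g L, ← h, hM]
  have htop : cjg g L ≠ ⊤ := by
    intro h
    apply hLG
    rw [← card_cjg g L, h, Subgroup.card_top]
  exact not_coatom_of_lt_lt (lt_of_le_of_ne hML hne) htop

/-- Pattern N: `R ⊴ M` of prime order `r` with `r² ∤ |G|`, `|M| = m`; `L` proper with a subgroup
`R'` of order `r` whose normalizer in `L` has order at least `m`, and a second subgroup of order
`r`; `|L| ≠ m`. Then `M` is not maximal. -/
theorem patternN {r : ℕ} [Fact r.Prime] (M L R R' R'' : Subgroup G) (m : ℕ)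
    (hR : Nat.card R = r) (hMN : M ≤ normalizer (R : Set G)) (hM : Nat.card M = m)
    (hG : ¬ r ^ 2 ∣ Nat.card G)
    (hR' : Nat.card R' = r) (hN : m ≤ Nat.card (normalizer (R' : Set G) ⊓ L : Subgroup G))
    (hR'' : Nat.card R'' = r) (hne : R'' ≠ R')
    (hLM : Nat.card L ≠ m) (hLG : Nat.card L ≠ Nat.card G) : ¬ IsCoatom M := by
  intro hco
  have hr1 : ∀ X : Subgroup G, Nat.card X = r → Nat.card X = r ^ 1 := fun X h => by rw [h, pow_one]
  have hG' : ¬ r ^ (1 + 1) ∣ Nat.card G := hG
  -- the normalizer of `R` is not everything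
  have hNtop : normalizer (R : Set G) ≠ ⊤ := by
    intro htop
    have hRn : R.Normal := normalizer_eq_top_iff.mp htop
    have hconj : ∀ X : Subgroup G, Nat.card X = r → X = R := by
      intro X hX
      obtain ⟨g, hg⟩ := exists_cjg_eq R X 1 (hr1 R hR) (hr1 X hX) hG'
      rw [hg]
      apply le_antisymm
      · rintro _ ⟨y, hy, rfl⟩
        exact hRn.conj_mem y hy g
      · intro y hy
        rw [mem_cjg]
        have := hRn.conj_mem y hy g⁻¹
        simpa using this
    exact hne ((hconj R'' hR'').trans (hconj R' hR').symm)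
  have hNM : normalizer (R : Set G) = M := by
    by_contra h
    exact hNtop (hco.2 _ (lt_of_le_of_ne hMN (fun h' => h h'.symm)))
  obtain ⟨g, hg⟩ := exists_cjg_eq R' R 1 (hr1 R' hR') (hr1 R hR) hG'
  have h1 : cjg g (normalizer (R' : Set G) ⊓ L) ≤ M := by
    rw [← hNM, hg]
    exact (cjg_mono g inf_le_left).trans (cjg_normalizer_le g R')
  have h2 : cjg g (normalizer (R' : Set G) ⊓ L) = M := by
    apply Subgroup.eq_of_le_of_card_ge h1
    rw [card_cjg, hM]
    exact hN
  have hML : M ≤ cjg g L := h2 ▸ cjg_mono g inf_le_right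
  have hne' : M ≠ cjg g L := by
    intro h
    apply hLM
    rw [← card_cjg g L, ← h, hM]
  have htop : cjg g L ≠ ⊤ := by
    intro h
    apply hLG
    rw [← card_cjg g L, h, Subgroup.card_top]
  exact not_coatom_of_lt_lt (lt_of_le_of_ne hML hne') htop hco

end Cfsg.Agent.Lib.Helper11.DkSmallDih
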