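import Mathlib
import Cfsg.Agent.Lib.Helper11.DkSmallDihA
import Cfsg.Agent.Lib.Helper1.DkOrders
import Cfsg.Agent.S0802
import Cfsg.Agent.S0803
import Cfsg.Agent.S0804

/-!
Small dihedral subgroups of `PSL₂(q)`, `q ∈ {5, 7, 9, 11}`, that are not maximal (piece (E) of
helper12's plan for the odd-`q` maximal subgroups of `PSL₂(q)`).
-/

set_option autoImplicit false

namespace Cfsg.Agent.Lib.Helper11.DkSmallDih

open Subgroup

local notation "PSL2" => Matrix.ProjectiveSpecialLinearGroup (Fin 2)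

section generic

variable {G : Type*} [Group G]

theorem mem_normalizer_zpowers {g x : G} (h : g * x * g⁻¹ = x⁻¹) :
    g ∈ normalizer ((zpowers x : Subgroup G) : Set G) := by
  have h' : g⁻¹ * x * g = x⁻¹ := by
    have e1 : x = g⁻¹ * x⁻¹ * g := by rw [← h]; group
    calc g⁻¹ * x * g = (g⁻¹ * x⁻¹ * g)⁻¹ := by group
      _ = x⁻¹ := by rw [← e1]
  rw [mem_normalizer_iff]
  intro z
  constructor
  · intro hz
    obtain ⟨k, rfl⟩ := mem_zpowers_iff.mp hz
    have e : g * x ^ k * g⁻¹ = (g * x * g⁻¹) ^ k := by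
      simpa using (map_zpow (MulAut.conj g) x k)
    rw [e, h]
    exact zpow_mem (inv_mem (mem_zpowers x)) k
  · intro hz
    obtain ⟨k, hk⟩ := mem_zpowers_iff.mp hz
    have e : z = (g⁻¹ * x * g) ^ k := by
      have e2 : (g⁻¹ * x * g) ^ k = g⁻¹ * x ^ k * g := by
        simpa using (map_zpow (MulAut.conj g⁻¹) x k).symm
      rw [e2, hk]; group
    rw [e, h']
    exact zpow_mem (inv_mem (mem_zpowers x)) k

/-- Pattern N with explicit elements of an abstract copy `H` of `L`. -/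
theorem patternN' [Finite G] {r : ℕ} [Fact r.Prime] (hr2 : r ≠ 2) (M L R : Subgroup G)
    (hR : Nat.card R = r) (hMN : M ≤ normalizer (R : Set G)) (hM : Nat.card M = 2 * r)
    (hG : ¬ r ^ 2 ∣ Nat.card G)
    {H : Type*} [Group H] (f : H →* G) (hf : Function.Injective f) (hfL : ∀ h, f h ∈ L)
    (x y t : H) (hx : orderOf x = r) (hy : orderOf y = r) (hxy : ¬ Commute x y)
    (ht : orderOf t = 2) (htx : t * x * t⁻¹ = x⁻¹)
    (hLM : Nat.card L ≠ 2 * r) (hLG : Nat.card L ≠ Nat.card G) : ¬ IsCoatom M := by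
  have hr : r.Prime := Fact.out
  refine patternN M L R (zpowers (f x)) (zpowers (f y)) (2 * r) hR hMN hM hG ?_ ?_ ?_ ?_ hLM hLG
  · rw [Nat.card_zpowers, orderOf_injective f hf, hx]
  · -- the normalizer of `⟨f x⟩` in `L` has order divisible by `2 r`
    set N : Subgroup G := normalizer ((zpowers (f x) : Subgroup G) : Set G) ⊓ L with hN
    have h1 : zpowers (f x) ≤ N := by
      rw [zpowers_le]
      exact Subgroup.mem_inf.mpr ⟨le_normalizer (mem_zpowers _), hfL x⟩
    have h2 : zpowers (f t) ≤ N := by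
      rw [zpowers_le]
      refine Subgroup.mem_inf.mpr ⟨?_, hfL t⟩
      apply mem_normalizer_zpowers
      rw [← map_inv, ← map_mul, ← map_mul, htx, map_inv]
    have d1 : r ∣ Nat.card N := by
      have := Subgroup.card_dvd_of_le h1
      rwa [Nat.card_zpowers, orderOf_injective f hf, hx] at this
    have d2 : 2 ∣ Nat.card N := by
      have := Subgroup.card_dvd_of_le h2
      rwa [Nat.card_zpowers, orderOf_injective f hf, ht] at this
    have hcop : Nat.Coprime 2 r := by
      rw [Nat.coprime_primes Nat.prime_two hr]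
      exact fun h => hr2 h.symm
    exact Nat.le_of_dvd Nat.card_pos (hcop.mul_dvd_of_dvd_of_dvd d2 d1)
  · rw [Nat.card_zpowers, orderOf_injective f hf, hy]
  · intro h
    have hmem : f y ∈ zpowers (f x) := h ▸ mem_zpowers (f y)
    obtain ⟨k, hk⟩ := mem_zpowers_iff.mp hmem
    apply hxy
    have hc : Commute (f x) (f y) := hk ▸ (Commute.refl (f x)).zpow_right k
    unfold Commute SemiconjBy at hc ⊢
    apply hf
    rw [map_mul, map_mul]
    exact hc

/-- the rotation subgroup of a dihedral subgroup -/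
theorem exists_rot (M : Subgroup G) (k : ℕ) (hk : k ≠ 0) (e : M ≃* DihedralGroup k) :
    ∃ R : Subgroup G, Nat.card R = k ∧ M ≤ normalizer (R : Set G) := by
  set R₀ : Subgroup (DihedralGroup k) := zpowers (DihedralGroup.r 1) with hR₀
  have hR₀card : Nat.card R₀ = k := by
    rw [hR₀, Nat.card_zpowers, DihedralGroup.orderOf_r_one]
  have hidx : R₀.index = 2 := by
    have h1 := R₀.index_mul_card
    rw [hR₀card, DihedralGroup.nat_card] at h1
    have hk' : 0 < k := Nat.pos_of_ne_zero hk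
    nlinarith
  have hR₀n : R₀.Normal := normal_of_index_eq_two hidx
  set R₁ : Subgroup M := R₀.map e.symm.toMonoidHom with hR₁
  have hR₁n : R₁.Normal := hR₀n.map _ e.symm.surjective
  have hR₁card : Nat.card R₁ = k := by
    rw [hR₁, Subgroup.card_map_of_injective e.symm.injective, hR₀card]
  refine ⟨R₁.map M.subtype, ?_, ?_⟩
  · rw [Subgroup.card_map_of_injective M.subtype_injective, hR₁card]
  · intro m hm
    rw [mem_normalizer_iff]
    intro z
    constructor
    · rintro ⟨w, hw, rfl⟩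
      exact ⟨⟨m, hm⟩ * w * ⟨m, hm⟩⁻¹, hR₁n.conj_mem w hw ⟨m, hm⟩, by simp⟩
    · rintro ⟨w, hw, hwz⟩
      refine ⟨⟨m, hm⟩⁻¹ * w * ⟨m, hm⟩, ?_, ?_⟩
      · have := hR₁n.conj_mem w hw ⟨m, hm⟩⁻¹
        simpa using this
      · simp only [Subgroup.coe_subtype, Subgroup.coe_mul, Subgroup.coe_inv] at hwz ⊢
        rw [hwz]; group

end generic

section perm

theorem card_perm4 : Nat.card (Equiv.Perm (Fin 4)) = 24 := by
  rw [Nat.card_eq_fintype_card, Fintype.card_perm, Fintype.card_fin]; rfl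

theorem card_alt4 : Nat.card (alternatingGroup (Fin 4)) = 12 := by
  have h := two_mul_card_alternatingGroup (α := Fin 4)
  rw [Fintype.card_perm, Fintype.card_fin] at h
  rw [Nat.card_eq_fintype_card]
  have : Nat.factorial 4 = 24 := rfl
  omega

theorem card_alt5 : Nat.card (alternatingGroup (Fin 5)) = 60 := by
  have h := two_mul_card_alternatingGroup (α := Fin 5)
  rw [Fintype.card_perm, Fintype.card_fin] at h
  rw [Nat.card_eq_fintype_card]
  have : Nat.factorial 5 = 120 := rfl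
  omega

/-- elements of `S₄` for pattern N with `r = 3` -/
theorem s4_data : ∃ x y t : Equiv.Perm (Fin 4), orderOf x = 3 ∧ orderOf y = 3 ∧ ¬ Commute x y ∧
    orderOf t = 2 ∧ t * x * t⁻¹ = x⁻¹ := by
  have : Fact (Nat.Prime 3) := ⟨by norm_num⟩
  have : Fact (Nat.Prime 2) := ⟨by norm_num⟩
  refine ⟨c[(0 : Fin 4), 1, 2], c[(0 : Fin 4), 1, 3], Equiv.swap (0 : Fin 4) 1, ?_, ?_, ?_, ?_, ?_⟩
  · exact orderOf_eq_prime (by decide) (by decide)
  · exact orderOf_eq_prime (by decide) (by decide)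
  · unfold Commute SemiconjBy; decide
  · exact orderOf_eq_prime (by decide) (by decide)
  · decide

set_option maxRecDepth 8000 in
/-- elements of `A₅` for pattern N with `r = 5` -/
theorem a5_data : ∃ x y t : alternatingGroup (Fin 5), orderOf x = 5 ∧ orderOf y = 5 ∧
    ¬ Commute x y ∧ orderOf t = 2 ∧ t * x * t⁻¹ = x⁻¹ := by
  have : Fact (Nat.Prime 5) := ⟨by norm_num⟩
  have : Fact (Nat.Prime 2) := ⟨by norm_num⟩
  refine ⟨⟨c[(0 : Fin 5), 1, 2, 3, 4], Equiv.Perm.mem_alternatingGroup.mpr (by decide)⟩,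
    ⟨c[(0 : Fin 5), 1, 2, 4, 3], Equiv.Perm.mem_alternatingGroup.mpr (by decide)⟩,
    ⟨Equiv.swap (1 : Fin 5) 4 * Equiv.swap (2 : Fin 5) 3,
      Equiv.Perm.mem_alternatingGroup.mpr (by decide)⟩, ?_, ?_, ?_, ?_, ?_⟩
  · refine orderOf_eq_prime (Subtype.ext ?_) (fun h => ?_)
    · rw [Subgroup.coe_pow, Subgroup.coe_one]; decide
    · have := congrArg Subtype.val h
      revert this; rw [Subgroup.coe_one]; decide
  · refine orderOf_eq_prime (Subtype.ext ?_) (fun h => ?_)
    · rw [Subgroup.coe_pow, Subgroup.coe_one]; decide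
    · have := congrArg Subtype.val h
      revert this; rw [Subgroup.coe_one]; decide
  · intro h
    have := congrArg Subtype.val h.eq
    revert this; rw [Subgroup.coe_mul, Subgroup.coe_mul]; decide
  · refine orderOf_eq_prime (Subtype.ext ?_) (fun h => ?_)
    · rw [Subgroup.coe_pow, Subgroup.coe_one]; decide
    · have := congrArg Subtype.val h
      revert this; rw [Subgroup.coe_one]; decide
  · apply Subtype.ext
    rw [Subgroup.coe_mul, Subgroup.coe_mul, Subgroup.coe_inv, Subgroup.coe_inv]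
    decide

end perm

section main

variable {F : Type*} [Field F] [Fintype F]

theorem card_PSL2_of (q c : ℕ) (hq : Fintype.card F = q) (hc : c * Nat.gcd 2 (q - 1) = q * (q - 1) * (q + 1))
    (hg : Nat.gcd 2 (q - 1) ≠ 0) : Nat.card (PSL2 F) = c := by
  have h := Cfsg.Agent.Lib.Helper1.DkOrders.card_PSL2_mul (F := F)
  rw [hq] at h
  have : Nat.card (PSL2 F) * Nat.gcd 2 (q - 1) = c * Nat.gcd 2 (q - 1) := by rw [h, hc]
  exact Nat.eq_of_mul_eq_mul_right (Nat.pos_of_ne_zero hg) this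

theorem charP_five (hq : Fintype.card F = 5) : CharP F 5 := by
  obtain ⟨p, hp⟩ := CharP.exists F
  obtain ⟨n, hpp, hn⟩ := FiniteField.card F p
  rw [hq] at hn
  have hdvd : p ∣ 5 := by
    rw [hn]
    exact dvd_pow_self p n.ne_zero
  have : p = 5 := (Nat.prime_dvd_prime_iff_eq hpp (by norm_num)).mp hdvd
  subst this
  exact hp

theorem card_dih (M : Subgroup (PSL2 F)) (k : ℕ) (e : M ≃* DihedralGroup k) :
    Nat.card M = 2 * k := by
  rw [Nat.card_congr e.toEquiv, DihedralGroup.nat_card]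

/-- pattern S with `L ≅ S₄` -/
theorem caseS_S4 (q c : ℕ) (hq : Fintype.card F = q) (hc : Nat.card (PSL2 F) = c)
    (hq16 : q ^ 2 % 16 = 1) (h16 : ¬ 2 ^ (3 + 1) ∣ c) (hc24 : 24 ≠ c)
    (M : Subgroup (PSL2 F)) (e : M ≃* DihedralGroup 4) : ¬ IsCoatom M := by
  haveI : Finite (PSL2 F) := Nat.finite_of_card_ne_zero (by rw [hc]; intro h; subst h; simp at h16)
  haveI : Fact (Nat.Prime 2) := ⟨Nat.prime_two⟩
  obtain ⟨L, ⟨eL⟩⟩ := (Cfsg.Agent.S0803.result hq).mpr hq16
  have hL : Nat.card L = 24 := by rw [Nat.card_congr eL.toEquiv, card_perm4]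
  have hM : Nat.card M = 2 ^ 3 := by rw [card_dih M 4 e]; norm_num
  refine patternS (p := 2) M L 3 hM (by rw [hc]; exact h16) (by rw [hL]; norm_num)
    (by rw [hL]; norm_num) (by rw [hL, hc]; exact hc24)

/-- pattern N with `L ≅ A₅`, `r = 5` -/
theorem caseN_A5 (q c : ℕ) (hq : Fintype.card F = q) (hc : Nat.card (PSL2 F) = c)
    (hq5 : 5 ∣ q * (q ^ 2 - 1)) (h25 : ¬ 5 ^ 2 ∣ c) (hc60 : 60 ≠ c)
    (M : Subgroup (PSL2 F)) (e : M ≃* DihedralGroup 5) : ¬ IsCoatom M := by
  haveI : Finite (PSL2 F) := Nat.finite_of_card_ne_zero (by rw [hc]; intro h; subst h; simp at h25)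
  haveI : Fact (Nat.Prime 5) := ⟨by norm_num⟩
  obtain ⟨L, ⟨eL⟩⟩ := (Cfsg.Agent.S0804.result hq).mpr hq5
  have hL : Nat.card L = 60 := by rw [Nat.card_congr eL.toEquiv, card_alt5]
  have hM : Nat.card M = 2 * 5 := card_dih M 5 e
  obtain ⟨R, hR, hMN⟩ := exists_rot M 5 (by norm_num) e
  obtain ⟨x, y, t, hx, hy, hxy, ht, htx⟩ := a5_data
  refine patternN' (r := 5) (by norm_num) M L R hR hMN hM (by rw [hc]; exact h25)
    (L.subtype.comp eL.symm.toMonoidHom)
    (L.subtype_injective.comp eL.symm.injective) (fun h => (eL.symm h).2)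
    x y t hx hy hxy ht htx (by rw [hL]; norm_num) (by rw [hL, hc]; exact hc60)

theorem not_coatom_small (M : Subgroup (PSL2 F)) (k : ℕ) (e : Nonempty (M ≃* DihedralGroup k))
    (h : (Fintype.card F = 5 ∧ k = 2) ∨ (Fintype.card F = 7 ∧ k = 3) ∨
      (Fintype.card F = 7 ∧ k = 4) ∨ (Fintype.card F = 9 ∧ k = 4) ∨
      (Fintype.card F = 9 ∧ k = 5) ∨ (Fintype.card F = 11 ∧ k = 5)) : ¬ IsCoatom M := by
  obtain ⟨e⟩ := e
  rcases h with ⟨hq, rfl⟩ | ⟨hq, rfl⟩ | ⟨hq, rfl⟩ | ⟨hq, rfl⟩ | ⟨hq, rfl⟩ | ⟨hq, rfl⟩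
  · -- q = 5, k = 2 : Sylow 2-subgroup inside A₄
    have hc : Nat.card (PSL2 F) = 60 := card_PSL2_of 5 60 hq (by norm_num) (by norm_num)
    haveI : Finite (PSL2 F) := Nat.finite_of_card_ne_zero (by rw [hc]; norm_num)
    haveI : Fact (Nat.Prime 2) := ⟨Nat.prime_two⟩
    haveI : Fact (Nat.Prime 5) := ⟨by norm_num⟩
    haveI : CharP F 5 := charP_five hq
    have hA4 := (Cfsg.Agent.S0802.result (F := F) 5 1 (by rw [hq]; norm_num)).mpr
      (by rintro ⟨h, -⟩; norm_num at h)
    obtain ⟨L, ⟨eL⟩⟩ := hA4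
    have hL : Nat.card L = 12 := by rw [Nat.card_congr eL.toEquiv, card_alt4]
    have hM : Nat.card M = 2 ^ 2 := by rw [card_dih M 2 e]; norm_num
    exact patternS (p := 2) M L 2 hM (by rw [hc]; norm_num) (by rw [hL]; norm_num)
      (by rw [hL]; norm_num) (by rw [hL, hc]; norm_num)
  · -- q = 7, k = 3 : normalizer of a Sylow 3-subgroup inside S₄
    have hc : Nat.card (PSL2 F) = 168 := card_PSL2_of 7 168 hq (by norm_num) (by norm_num)
    haveI : Finite (PSL2 F) := Nat.finite_of_card_ne_zero (by rw [hc]; norm_num)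
    haveI : Fact (Nat.Prime 3) := ⟨by norm_num⟩
    obtain ⟨L, ⟨eL⟩⟩ := (Cfsg.Agent.S0803.result hq).mpr (by norm_num)
    have hL : Nat.card L = 24 := by rw [Nat.card_congr eL.toEquiv, card_perm4]
    have hM : Nat.card M = 2 * 3 := card_dih M 3 e
    obtain ⟨R, hR, hMN⟩ := exists_rot M 3 (by norm_num) e
    obtain ⟨x, y, t, hx, hy, hxy, ht, htx⟩ := s4_data
    exact patternN' (r := 3) (by norm_num) M L R hR hMN hM (by rw [hc]; norm_num)
      (L.subtype.comp eL.symm.toMonoidHom)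
      (L.subtype_injective.comp eL.symm.injective) (fun h => (eL.symm h).2)
      x y t hx hy hxy ht htx (by rw [hL]; norm_num) (by rw [hL, hc]; norm_num)
  · exact caseS_S4 7 168 hq (card_PSL2_of 7 168 hq (by norm_num) (by norm_num)) (by norm_num)
      (by norm_num) (by norm_num) M e
  · exact caseS_S4 9 360 hq (card_PSL2_of 9 360 hq (by norm_num) (by norm_num)) (by norm_num)
      (by norm_num) (by norm_num) M e
  · exact caseN_A5 9 360 hq (card_PSL2_of 9 360 hq (by norm_num) (by norm_num)) (by norm_num)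
      (by norm_num) (by norm_num) M e
  · exact caseN_A5 11 660 hq (card_PSL2_of 11 660 hq (by norm_num) (by norm_num)) (by norm_num)
      (by norm_num) (by norm_num) M e

end main

end Cfsg.Agent.Lib.Helper11.DkSmallDih
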