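import Mathlib

/-!
Abstract "transvection calculus" on a finite abelian `p`-group (helper11), for S5265.
-/
set_option autoImplicit false

namespace Cfsg.Agent.Lib.Helper11.ESa

open Subgroup

section chain
variable {A : Type*} [Group A]

theorem pow_fix_step' {M₀ : Subgroup A} (β : MulAut A) (x : A)
    (hz : x⁻¹ * β x ∈ M₀) (hk : ∀ z ∈ M₀, β z = z) (m : ℕ) : (β ^ m) x = x * (x⁻¹ * β x) ^ m := by
  induction m with
  | zero => simp
  | succ m ih =>
    rw [pow_succ', MulAut.mul_apply, ih, map_mul, map_pow, hk _ hz, pow_succ', ← mul_assoc,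
      mul_inv_cancel_left]

variable [Finite A]

/-- a group of automorphisms stabilizing a chain of subgroups of a finite `p`-group is a `p`-group -/
theorem isPGroup_of_chain {p : ℕ} [Fact p.Prime] (hA : IsPGroup p A) (H : Subgroup (MulAut A))
    (n : ℕ) (B : ℕ → Subgroup A) (hB0 : B 0 = ⊥) (hBn : B n = ⊤)
    (hstab : ∀ i < n, ∀ α ∈ H, ∀ x ∈ B (i + 1), x⁻¹ * α x ∈ B i) : IsPGroup p H := by
  obtain ⟨e, he⟩ := IsPGroup.iff_card.1 hA
  have claim : ∀ i, i ≤ n → ∀ α ∈ H, ∀ x ∈ B i, (α ^ (p ^ (e * i))) x = x := by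
    intro i
    induction i with
    | zero =>
      intro _ α _ x hx
      rw [hB0, mem_bot] at hx
      rw [hx, map_one]
    | succ i ih =>
      intro hi α hα x hx
      have hβ : α ^ (p ^ (e * i)) ∈ H := pow_mem hα _
      have hz := hstab i (by omega) _ hβ x hx
      have hk : ∀ z ∈ B i, (α ^ (p ^ (e * i))) z = z := fun z hz => ih (by omega) α hα z hz
      have h1 := pow_fix_step' (α ^ (p ^ (e * i))) x hz hk (Nat.card A)
      rw [pow_card_eq_one', mul_one, he] at h1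
      rw [mul_add, mul_one, pow_add, pow_mul]
      exact h1
  rintro ⟨α, hα⟩
  refine ⟨e * n, Subtype.ext ?_⟩
  show α ^ (p ^ (e * n)) = 1
  ext x
  exact claim n le_rfl α hα x (hBn ▸ mem_top x)

/-- closure version -/
theorem isPGroup_closure_of_chain {p : ℕ} [Fact p.Prime] (hA : IsPGroup p A)
    (s : Set (MulAut A)) (n : ℕ) (B : ℕ → Subgroup A) (hB0 : B 0 = ⊥) (hBn : B n = ⊤)
    (hmono : ∀ i < n, B i ≤ B (i + 1))
    (hs : ∀ α ∈ s, ∀ i < n, ∀ x ∈ B (i + 1), x⁻¹ * α x ∈ B i) : IsPGroup p (closure s) := by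
  haveI : Finite (MulAut A) := inferInstance
  have key : ∀ α ∈ Submonoid.closure s, ∀ i < n, ∀ x ∈ B (i + 1), x⁻¹ * α x ∈ B i := by
    intro α hα
    induction hα using Submonoid.closure_induction with
    | mem α hα => exact fun i hi => hs α hα i hi
    | one =>
      intro i hi x hx
      simp
    | mul α β _ _ iha ihb =>
      intro i hi x hx
      have h1 : β x ∈ B (i + 1) := by
        have : β x = x * (x⁻¹ * β x) := by group
        rw [this]
        exact mul_mem hx (hmono i hi (ihb i hi x hx))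
      have e : x⁻¹ * (α * β) x = (x⁻¹ * β x) * ((β x)⁻¹ * α (β x)) := by
        rw [MulAut.mul_apply]; group
      rw [e]
      exact mul_mem (ihb i hi x hx) (iha i hi _ h1)
  apply isPGroup_of_chain hA (closure s) n B hB0 hBn
  intro i hi α hα
  have hα' : α ∈ (closure s).toSubmonoid := hα
  rw [Subgroup.closure_toSubmonoid_of_finite] at hα'
  exact key α hα' i hi

end chain

section tv
variable {A : Type*} [CommGroup A]

/-- `a ↦ a⁻¹ τ(a)` -/
def dlt (τ : MulAut A) : A →* A where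
  toFun a := a⁻¹ * τ a
  map_one' := by simp
  map_mul' a b := by rw [map_mul, mul_inv_rev, mul_comm b⁻¹ a⁻¹, mul_mul_mul_comm]

theorem dlt_apply (τ : MulAut A) (a : A) : dlt τ a = a⁻¹ * τ a := rfl

theorem apply_eq (τ : MulAut A) (a : A) : τ a = a * dlt τ a := by
  rw [dlt_apply, mul_inv_cancel_left]

/-- fixed points -/
def fixg (τ : MulAut A) : Subgroup A := (dlt τ).ker

theorem mem_fixg {τ : MulAut A} {a : A} : a ∈ fixg τ ↔ τ a = a := by
  unfold fixg
  rw [MonoidHom.mem_ker, dlt_apply, inv_mul_eq_one]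
  exact eq_comm

theorem dlt_eq_one {τ : MulAut A} {a : A} : dlt τ a = 1 ↔ τ a = a := by
  rw [← mem_fixg]; rfl

/-- a "transvection": `[A, τ]` has order `p` and is centralized by `τ` -/
def IsTv (p : ℕ) (τ : MulAut A) : Prop :=
  Nat.card (dlt τ).range = p ∧ (dlt τ).range ≤ fixg τ

variable {p : ℕ} {τ σ : MulAut A}

theorem IsTv.fix (h : IsTv p τ) (a : A) : τ (dlt τ a) = dlt τ a :=
  mem_fixg.1 (h.2 ⟨a, rfl⟩)

theorem IsTv.fix' (h : IsTv p τ) {d : A} (hd : d ∈ (dlt τ).range) : τ d = d :=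
  mem_fixg.1 (h.2 hd)

theorem IsTv.pow_apply (h : IsTv p τ) (k : ℕ) (a : A) : (τ ^ k) a = a * (dlt τ a) ^ k := by
  induction k with
  | zero => simp
  | succ k ih =>
    rw [pow_succ', MulAut.mul_apply, ih, map_mul, map_pow, h.fix, apply_eq τ a, pow_succ', mul_assoc]

theorem IsTv.pow_fixg (h : IsTv p τ) (k : ℕ) {a : A} (ha : a ∈ fixg τ) : (τ ^ k) a = a := by
  rw [h.pow_apply, dlt_eq_one.2 (mem_fixg.1 ha), one_pow, mul_one]

theorem IsTv.inv_apply (h : IsTv p τ) (a : A) : τ⁻¹ a = a * (dlt τ a)⁻¹ := by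
  rw [MulAut.inv_apply, MulEquiv.symm_apply_eq, map_mul, map_inv, h.fix, apply_eq τ a, mul_assoc,
    mul_inv_cancel, mul_one]

theorem pow_card_range [Finite A] (h : IsTv p τ) {d : A} (hd : d ∈ (dlt τ).range) : d ^ p = 1 := by
  have := pow_card_eq_one' (G := (dlt τ).range) (x := ⟨d, hd⟩)
  rw [h.1] at this
  exact congrArg Subtype.val this

theorem IsTv.pow_p_eq_one [Finite A] (h : IsTv p τ) : τ ^ p = 1 := by
  ext a
  rw [h.pow_apply, pow_card_range h ⟨a, rfl⟩, mul_one]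
  rfl

/-- conjugation formula -/
theorem dlt_conj (α τ : MulAut A) (a : A) : dlt (α * τ * α⁻¹) a = α (dlt τ (α⁻¹ a)) := by
  rw [dlt_apply, dlt_apply, map_mul, map_inv, MulAut.mul_apply, MulAut.mul_apply,
    MulAut.apply_inv_self]

theorem mem_range_conj {α τ : MulAut A} {d : A} :
    d ∈ (dlt (α * τ * α⁻¹)).range ↔ α⁻¹ d ∈ (dlt τ).range := by
  constructor
  · rintro ⟨a, rfl⟩
    rw [dlt_conj, MulAut.inv_apply_self]
    exact ⟨_, rfl⟩
  · rintro ⟨b, hb⟩
    refine ⟨α b, ?_⟩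
    rw [dlt_conj, MulAut.inv_apply_self, hb, MulAut.apply_inv_self]

theorem mem_fixg_conj {α τ : MulAut A} {a : A} :
    a ∈ fixg (α * τ * α⁻¹) ↔ α⁻¹ a ∈ fixg τ := by
  rw [mem_fixg, mem_fixg, MulAut.mul_apply, MulAut.mul_apply]
  constructor
  · intro h
    have := congrArg (⇑(α⁻¹ : MulAut A)) h
    rwa [MulAut.inv_apply_self] at this
  · intro h
    rw [h, MulAut.apply_inv_self]

theorem IsTv.conj (h : IsTv p τ) (α : MulAut A) : IsTv p (α * τ * α⁻¹) := by
  constructor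
  · rw [← h.1]
    refine Nat.card_congr ⟨fun d => ⟨α⁻¹ d.1, mem_range_conj.1 d.2⟩,
      fun d => ⟨α d.1, mem_range_conj.2 (by rw [MulAut.inv_apply_self]; exact d.2)⟩, ?_, ?_⟩
    · intro d; apply Subtype.ext; simp
    · intro d; apply Subtype.ext; simp
  · intro d hd
    rw [mem_fixg_conj]
    exact h.2 (mem_range_conj.1 hd)

end tv

end Cfsg.Agent.Lib.Helper11.ESa
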