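import Cfsg.Agent.Lib.Helper11.ESa

/-!
Pairs of transvections on a finite abelian `p`-group (helper11), for S5265.
-/
set_option autoImplicit false

namespace Cfsg.Agent.Lib.Helper11.ESa

open Subgroup

variable {A : Type*} [CommGroup A] {p : ℕ} {τ σ : MulAut A}

theorem mem_zpowers_of_prime_card [Fact p.Prime] {H : Subgroup A} (hH : Nat.card H = p) {x d : A}
    (hx : x ∈ H) (hx1 : x ≠ 1) (hd : d ∈ H) : d ∈ zpowers x := by
  have h1 : zpowers (⟨x, hx⟩ : H) = ⊤ :=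
    zpowers_eq_top_of_prime_card hH (fun h => hx1 (congrArg Subtype.val h))
  have h2 : (⟨d, hd⟩ : H) ∈ zpowers (⟨x, hx⟩ : H) := h1 ▸ mem_top _
  obtain ⟨k, hk⟩ := mem_zpowers_iff.1 h2
  exact mem_zpowers_iff.2 ⟨k, by simpa using congrArg Subtype.val hk⟩

/-- degenerate pairs generate a `p`-group -/
theorem isPGroup_closure_of_degenerate [Finite A] [Fact p.Prime] (hA : IsPGroup p A)
    (hτ : IsTv p τ) (hσ : IsTv p σ) (hdeg : (dlt τ).range ≤ fixg σ) :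
    IsPGroup p (closure {τ, σ}) := by
  let B : ℕ → Subgroup A := fun i =>
    if i = 0 then ⊥ else if i = 1 then (dlt τ).range else if i = 2 then fixg σ else ⊤
  have hB0 : B 0 = ⊥ := rfl
  have hB1 : B 1 = (dlt τ).range := rfl
  have hB2 : B 2 = fixg σ := rfl
  have hB3 : B 3 = ⊤ := rfl
  apply isPGroup_closure_of_chain hA {τ, σ} 3 B hB0 hB3
  · intro i hi
    interval_cases i
    · rw [hB0]; exact bot_le
    · rw [hB1, hB2]; exact hdeg
    · rw [hB3]; exact le_top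
  · intro α hα i hi x hx
    rcases hα with rfl | hα
    · interval_cases i
      · rw [hB0, mem_bot, ← dlt_apply, dlt_eq_one]
        exact mem_fixg.1 (hτ.2 hx)
      · rw [hB1]; exact ⟨x, rfl⟩
      · rw [hB2]; exact hdeg ⟨x, rfl⟩
    · have hα' : σ = α := (Set.mem_singleton_iff.1 hα).symm
      subst hα'
      interval_cases i
      · rw [hB0, mem_bot, ← dlt_apply, dlt_eq_one]
        exact mem_fixg.1 (hdeg hx)
      · rw [hB1, ← dlt_apply, dlt_eq_one.2 (mem_fixg.1 hx)]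
        exact one_mem _
      · rw [hB2]; exact hσ.2 ⟨x, rfl⟩

/-- a non-degenerate pair of transvections -/
structure NDPair (p : ℕ) (τ σ : MulAut A) : Prop where
  hτ : IsTv p τ
  hσ : IsTv p σ
  h1 : ¬ (dlt τ).range ≤ fixg σ
  h2 : ¬ (dlt σ).range ≤ fixg τ

theorem ndPair_of_not_isPGroup [Finite A] [Fact p.Prime] (hA : IsPGroup p A)
    (hτ : IsTv p τ) (hσ : IsTv p σ) (h : ¬ IsPGroup p (closure {τ, σ})) : NDPair p τ σ := by
  refine ⟨hτ, hσ, fun hd => h (isPGroup_closure_of_degenerate hA hτ hσ hd), fun hd => h ?_⟩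
  rw [Set.pair_comm]
  exact isPGroup_closure_of_degenerate hA hσ hτ hd

theorem NDPair.symm (h : NDPair p τ σ) : NDPair p σ τ := ⟨h.hσ, h.hτ, h.h2, h.h1⟩

/-- normalized generators for a non-degenerate pair -/
structure Frame (p : ℕ) (τ σ : MulAut A) (z z' w : A) : Prop where
  hτ : IsTv p τ
  hσ : IsTv p σ
  hz : z ∈ (dlt τ).range
  hz1 : z ≠ 1
  hz' : z' = dlt σ z
  hw : w = dlt τ z'
  hw1 : w ≠ 1

theorem NDPair.exists_frame [Fact p.Prime] (h : NDPair p τ σ) : ∃ z z' w : A, Frame p τ σ z z' w := by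
  obtain ⟨z, hz, hzσ⟩ := SetLike.not_le_iff_exists.1 h.h1
  have hz1 : z ≠ 1 := fun h1 => hzσ (h1 ▸ one_mem _)
  have hz'1 : dlt σ z ≠ 1 := fun h1 => hzσ (mem_fixg.2 (dlt_eq_one.1 h1))
  have hz'τ : dlt σ z ∉ fixg τ := by
    intro hmem
    apply h.h2
    intro d hd
    have := mem_zpowers_of_prime_card h.hσ.1 ⟨z, rfl⟩ hz'1 hd
    exact (zpowers_le.2 hmem) this
  refine ⟨z, dlt σ z, dlt τ (dlt σ z), h.hτ, h.hσ, hz, hz1, rfl, rfl, ?_⟩
  intro h1
  exact hz'τ (mem_fixg.2 (dlt_eq_one.1 h1))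

namespace Frame

variable {z z' w : A}

section
variable (h : Frame p τ σ z z' w)
include h

theorem hz'mem : z' ∈ (dlt σ).range := h.hz' ▸ ⟨z, rfl⟩
theorem hwmem : w ∈ (dlt τ).range := h.hw ▸ ⟨z', rfl⟩
theorem τz : τ z = z := h.hτ.fix' h.hz
theorem σz' : σ z' = z' := h.hσ.fix' h.hz'mem
theorem τw : τ w = w := h.hτ.fix' h.hwmem
theorem σz : σ z = z * z' := by rw [apply_eq σ z, ← h.hz']
theorem τz' : τ z' = z' * w := by rw [apply_eq τ z', ← h.hw]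
theorem hz'1 : z' ≠ 1 := by
  intro h1
  apply h.hw1
  rw [h.hw, h1, map_one]

theorem mem_zpowers_z [Fact p.Prime] {d : A} (hd : d ∈ (dlt τ).range) : d ∈ zpowers z :=
  mem_zpowers_of_prime_card h.hτ.1 h.hz h.hz1 hd
theorem mem_zpowers_w [Fact p.Prime] {d : A} (hd : d ∈ (dlt τ).range) : d ∈ zpowers w :=
  mem_zpowers_of_prime_card h.hτ.1 h.hwmem h.hw1 hd
theorem mem_zpowers_z' [Fact p.Prime] {d : A} (hd : d ∈ (dlt σ).range) : d ∈ zpowers z' :=
  mem_zpowers_of_prime_card h.hσ.1 h.hz'mem h.hz'1 hd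

/-- decomposition of fixed points of `τ` -/
theorem decomp_fix [Fact p.Prime] {a : A} (ha : a ∈ fixg τ) :
    ∃ v ∈ fixg τ ⊓ fixg σ, ∃ i : ℤ, a = v * z ^ i := by
  obtain ⟨i, hi⟩ := mem_zpowers_iff.1 (h.mem_zpowers_z' ⟨a, rfl⟩)
  refine ⟨a * (z ^ i)⁻¹, Subgroup.mem_inf.2 ⟨?_, ?_⟩, i, by group⟩
  · exact mul_mem ha (inv_mem (zpow_mem (h.hτ.2 h.hz) i))
  · rw [mem_fixg, ← dlt_eq_one, map_mul, map_inv, map_zpow, ← h.hz', ← hi, mul_inv_cancel]

/-- decomposition of arbitrary elements -/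
theorem decomp [Fact p.Prime] (a : A) :
    ∃ v ∈ fixg τ ⊓ fixg σ, ∃ i j : ℤ, a = v * z ^ i * z' ^ j := by
  obtain ⟨j, hj⟩ := mem_zpowers_iff.1 (h.mem_zpowers_w ⟨a, rfl⟩)
  have h1 : a * (z' ^ j)⁻¹ ∈ fixg τ := by
    rw [mem_fixg, ← dlt_eq_one, map_mul, map_inv, map_zpow, ← h.hw, ← hj, mul_inv_cancel]
  obtain ⟨v, hv, i, hi⟩ := h.decomp_fix h1
  refine ⟨v, hv, i, j, ?_⟩
  rw [← hi]
  group

theorem hom_ext [Fact p.Prime] {f g : A →* A} (hV : ∀ v ∈ fixg τ ⊓ fixg σ, f v = g v)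
    (hz : f z = g z) (hz' : f z' = g z') : f = g := by
  ext a
  obtain ⟨v, hv, i, j, rfl⟩ := h.decomp a
  rw [map_mul, map_mul, map_zpow, map_zpow, map_mul, map_mul, map_zpow, map_zpow, hV v hv, hz, hz']

theorem zpow_z_mem_fixg_σ [Fact p.Prime] [Finite A] {i : ℤ} (hi : z ^ i ∈ fixg σ) : z ^ i = 1 := by
  have h1 : z' ^ i = 1 := by
    have := dlt_eq_one.2 (mem_fixg.1 hi)
    rwa [map_zpow, ← h.hz'] at this
  have hoz : orderOf z = p := orderOf_eq_prime (pow_card_range h.hτ h.hz) h.hz1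
  have hoz' : orderOf z' = p := orderOf_eq_prime (pow_card_range h.hσ h.hz'mem) h.hz'1
  have h2 : (orderOf z' : ℤ) ∣ i := orderOf_dvd_iff_zpow_eq_one.2 h1
  rw [hoz', ← hoz] at h2
  exact orderOf_dvd_iff_zpow_eq_one.1 h2

theorem range_inf_fixg [Fact p.Prime] [Finite A] : (dlt τ).range ⊓ fixg σ = ⊥ := by
  rw [eq_bot_iff]
  rintro d ⟨hd, hdσ⟩
  obtain ⟨i, rfl⟩ := mem_zpowers_iff.1 (h.mem_zpowers_z hd)
  rw [mem_bot]
  exact h.zpow_z_mem_fixg_σ hdσ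

end

end Frame

end Cfsg.Agent.Lib.Helper11.ESa
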