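import Cfsg.Agent.Lib.Helper11.ESb

/-!
The torus involution (all `p`) and the case `p = 2` for pairs of transvections (helper11), for S5265.
-/
set_option autoImplicit false

namespace Cfsg.Agent.Lib.Helper11.ESa

open Subgroup

variable {A : Type*} [CommGroup A] {p : ℕ} {τ σ : MulAut A}

theorem fix_of_mem_closure {ν : MulAut A} (hν : ν ∈ closure {τ, σ}) {v : A}
    (hv : v ∈ fixg τ ⊓ fixg σ) : ν v = v := by
  induction hν using Subgroup.closure_induction with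
  | mem x hx =>
    rcases hx with rfl | hx
    · exact mem_fixg.1 hv.1
    · rw [Set.mem_singleton_iff.1 hx]; exact mem_fixg.1 hv.2
  | one => rfl
  | mul x y _ _ hx hy => rw [MulAut.mul_apply, hy, hx]
  | inv x _ hx =>
    rw [MulAut.inv_apply, MulEquiv.symm_apply_eq, hx]

namespace Frame

variable {z z' w : A}

/-- the central involution of `⟨τ, σ⟩ ≅ SL₂(p)` -/
theorem exists_torus [Fact p.Prime] [Finite A] (h : Frame p τ σ z z' w) :
    ∃ ι ∈ closure {τ, σ}, ι * τ = τ * ι ∧ (∀ v ∈ fixg τ ⊓ fixg σ, ι v = v) ∧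
      (∀ d ∈ (dlt τ).range, ι d = d⁻¹) := by
  obtain ⟨e, he⟩ : ∃ e : ℕ, w ^ e = z⁻¹ := by
    have h1 : z⁻¹ ∈ zpowers w := h.mem_zpowers_w (inv_mem h.hz)
    rw [← (isOfFinOrder_of_finite w).mem_powers_iff_mem_zpowers] at h1
    exact Submonoid.mem_powers_iff _ _ |>.1 h1
  have hzτ : z ∈ fixg τ := h.hτ.2 h.hz
  have ht_z : (τ ^ e) z = z := h.hτ.pow_fixg e hzτ
  have ht_z' : (τ ^ e) z' = z' * z⁻¹ := by rw [h.hτ.pow_apply, ← h.hw, he]
  have ht_v : ∀ v ∈ fixg τ, (τ ^ e) v = v := fun v hv => h.hτ.pow_fixg e hv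
  set u : MulAut A := τ ^ e * σ * τ ^ e with hu
  have hu_v : ∀ v ∈ fixg τ ⊓ fixg σ, u v = v := by
    intro v hv
    rw [hu, MulAut.mul_apply, MulAut.mul_apply, ht_v v hv.1, mem_fixg.1 hv.2, ht_v v hv.1]
  have hu_z : u z = z' := by
    rw [hu, MulAut.mul_apply, MulAut.mul_apply, ht_z, h.σz, map_mul, ht_z, ht_z']
    rw [mul_comm z' z⁻¹, mul_inv_cancel_left]
  have hu_z' : u z' = z⁻¹ := by
    rw [hu, MulAut.mul_apply, MulAut.mul_apply, ht_z', map_mul, map_inv, h.σz', h.σz, mul_inv,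
      mul_comm z⁻¹ z'⁻¹, mul_inv_cancel_left, map_inv, ht_z]
  have hι_z : (u * u) z = z⁻¹ := by rw [MulAut.mul_apply, hu_z, hu_z']
  have hι_z' : (u * u) z' = z'⁻¹ := by rw [MulAut.mul_apply, hu_z', map_inv, hu_z]
  have hι_v : ∀ v ∈ fixg τ ⊓ fixg σ, (u * u) v = v := by
    intro v hv
    rw [MulAut.mul_apply, hu_v v hv, hu_v v hv]
  have hι_d : ∀ d ∈ (dlt τ).range, (u * u) d = d⁻¹ := by
    intro d hd
    obtain ⟨k, rfl⟩ := mem_zpowers_iff.1 (h.mem_zpowers_z hd)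
    rw [map_zpow, hι_z, inv_zpow]
  have hτmem : τ ∈ closure {τ, σ} := subset_closure (Set.mem_insert _ _)
  have hσmem : σ ∈ closure {τ, σ} := subset_closure (Set.mem_insert_of_mem _ rfl)
  have humem : u ∈ closure {τ, σ} := mul_mem (mul_mem (pow_mem hτmem e) hσmem) (pow_mem hτmem e)
  refine ⟨u * u, mul_mem humem humem, ?_, hι_v, hι_d⟩
  have key : ((u * u) * τ).toMonoidHom = (τ * (u * u)).toMonoidHom := by
    apply h.hom_ext
    · intro v hv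
      show (u * u) (τ v) = τ ((u * u) v)
      rw [mem_fixg.1 hv.1, hι_v v hv, mem_fixg.1 hv.1]
    · show (u * u) (τ z) = τ ((u * u) z)
      rw [h.τz, hι_z, map_inv, h.τz]
    · show (u * u) (τ z') = τ ((u * u) z')
      rw [h.τz', map_mul, hι_z', hι_d w h.hwmem, map_inv, h.τz', mul_inv]
  ext a
  exact DFunLike.congr_fun key a

end Frame

section two

variable {z z' w : A}

theorem eq_one_or_eq_of_card_two {H : Subgroup A} (hH : Nat.card H = 2) {x d : A} (hx : x ∈ H)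
    (hx1 : x ≠ 1) (hd : d ∈ H) : d = 1 ∨ d = x := by
  haveI : Fact (Nat.Prime 2) := ⟨Nat.prime_two⟩
  obtain ⟨k, rfl⟩ := mem_zpowers_iff.1 (mem_zpowers_of_prime_card hH hx hx1 hd)
  have hx2 : x ^ 2 = 1 := by
    have := pow_card_eq_one' (G := H) (x := ⟨x, hx⟩)
    rw [hH] at this
    exact congrArg Subtype.val this
  rcases Int.emod_two_eq_zero_or_one k with hk | hk
  · left
    obtain ⟨m, rfl⟩ : (2 : ℤ) ∣ k := Int.dvd_of_emod_eq_zero hk
    rw [zpow_mul, zpow_ofNat, hx2, one_zpow]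
  · right
    have : k = 2 * (k / 2) + 1 := by omega
    rw [this, zpow_add, zpow_mul, zpow_ofNat, hx2, one_zpow, one_mul, zpow_one]

theorem zpow_two_cases {x : A} (hx2 : x ^ 2 = 1) (k : ℤ) :
    (x ^ k = 1 ∧ ∀ y : A, y ^ 2 = 1 → y ^ k = 1) ∨ (x ^ k = x ∧ ∀ y : A, y ^ 2 = 1 → y ^ k = y) := by
  rcases Int.emod_two_eq_zero_or_one k with hk | hk
  · left
    obtain ⟨m, rfl⟩ : (2 : ℤ) ∣ k := Int.dvd_of_emod_eq_zero hk
    refine ⟨by rw [zpow_mul, zpow_ofNat, hx2, one_zpow], fun y hy => ?_⟩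
    rw [zpow_mul, zpow_ofNat, hy, one_zpow]
  · right
    have : k = 2 * (k / 2) + 1 := by omega
    refine ⟨?_, fun y hy => ?_⟩
    · rw [this, zpow_add, zpow_mul, zpow_ofNat, hx2, one_zpow, one_mul, zpow_one]
    · rw [this, zpow_add, zpow_mul, zpow_ofNat, hy, one_zpow, one_mul, zpow_one]

theorem Frame.w_eq_z (h : Frame 2 τ σ z z' w) : w = z := by
  rcases eq_one_or_eq_of_card_two h.hτ.1 h.hz h.hz1 h.hwmem with h1 | h1
  · exact absurd h1 h.hw1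
  · exact h1

theorem Frame.z_sq [Finite A] (h : Frame 2 τ σ z z' w) : z ^ 2 = 1 := pow_card_range h.hτ h.hz
theorem Frame.z'_sq [Finite A] (h : Frame 2 τ σ z z' w) : z' ^ 2 = 1 := pow_card_range h.hσ h.hz'mem

/-- for `p = 2`: a third transvection is `σ` or `τ σ τ⁻¹` -/
theorem Frame.two_cases [Finite A] (h : Frame 2 τ σ z z' w) {ρ : MulAut A} (hτρ : NDPair 2 τ ρ)
    (hσρ : σ = ρ ∨ NDPair 2 σ ρ) (hσ'ρ : τ * σ * τ⁻¹ = ρ ∨ NDPair 2 (τ * σ * τ⁻¹) ρ) :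
    ρ = σ ∨ ρ = τ * σ * τ⁻¹ := by
  haveI : Fact (Nat.Prime 2) := ⟨Nat.prime_two⟩
  rcases hσρ with hσρ | hσρ
  · exact Or.inl hσρ.symm
  rcases hσ'ρ with hσ'ρ | hσ'ρ
  · exact Or.inr hσ'ρ.symm
  exfalso
  have hρ := hτρ.hσ
  -- z'' := dlt ρ z
  have hzρ : z ∉ fixg ρ := by
    intro hz
    apply hτρ.h1
    intro d hd
    rcases eq_one_or_eq_of_card_two h.hτ.1 h.hz h.hz1 hd with rfl | rfl
    · exact one_mem _
    · exact hz
  have hz''1 : dlt ρ z ≠ 1 := fun h1 => hzρ (mem_fixg.2 (dlt_eq_one.1 h1))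
  have hz''mem : dlt ρ z ∈ (dlt ρ).range := ⟨z, rfl⟩
  have hnot : ∀ {μ : MulAut A}, ¬ (dlt ρ).range ≤ fixg μ → dlt ρ z ∉ fixg μ := by
    intro μ hμ hmem
    apply hμ
    intro d hd
    rcases eq_one_or_eq_of_card_two hρ.1 hz''mem hz''1 hd with rfl | rfl
    · exact one_mem _
    · exact hmem
  have h1 : dlt ρ z ∉ fixg τ := hnot hτρ.h2
  have h2 : dlt ρ z ∉ fixg σ := hnot hσρ.h2
  have h3 : dlt ρ z ∉ fixg (τ * σ * τ⁻¹) := hnot hσ'ρ.h2
  obtain ⟨v, hv, i, j, hdec⟩ := h.decomp (dlt ρ z)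
  have hvτ : dlt τ v = 1 := dlt_eq_one.2 (mem_fixg.1 hv.1)
  have hvσ : dlt σ v = 1 := dlt_eq_one.2 (mem_fixg.1 hv.2)
  have hzτ : dlt τ z = 1 := dlt_eq_one.2 h.τz
  have hz'σ : dlt σ z' = 1 := dlt_eq_one.2 h.σz'
  have e1 : dlt τ (dlt ρ z) = z ^ j := by
    rw [hdec, map_mul, map_mul, map_zpow, map_zpow, hvτ, hzτ, ← h.hw, h.w_eq_z, one_zpow, one_mul,
      one_mul]
  have e2 : dlt σ (dlt ρ z) = z' ^ i := by
    rw [hdec, map_mul, map_mul, map_zpow, map_zpow, hvσ, hz'σ, ← h.hz', one_zpow, mul_one, one_mul]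
  have hj : z ^ j ≠ 1 := fun hh => h1 (mem_fixg.2 (dlt_eq_one.1 (e1.trans hh)))
  have hi : z' ^ i ≠ 1 := fun hh => h2 (mem_fixg.2 (dlt_eq_one.1 (e2.trans hh)))
  have hzj : z ^ j = z ∧ z' ^ j = z' := by
    rcases zpow_two_cases h.z_sq j with ⟨h1', _⟩ | ⟨h1', h2'⟩
    · exact absurd h1' hj
    · exact ⟨h1', h2' z' h.z'_sq⟩
  have hzi : z ^ i = z := by
    rcases zpow_two_cases h.z'_sq i with ⟨h1', _⟩ | ⟨_, h2'⟩
    · exact absurd h1' hi
    · exact h2' z h.z_sq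
  rw [hzi, hzj.2] at hdec
  have hz2 : z * z = 1 := by rw [← pow_two, h.z_sq]
  have hzinv : z⁻¹ = z := inv_eq_of_mul_eq_one_left hz2
  have e3 : τ⁻¹ (dlt ρ z) = v * z' := by
    rw [h.hτ.inv_apply, e1, hzj.1, hdec, hzinv]
    calc v * z * z' * z = v * z' * (z * z) := by ac_rfl
      _ = v * z' := by rw [hz2, mul_one]
  apply h3
  rw [mem_fixg_conj, e3, mem_fixg, map_mul, mem_fixg.1 hv.2, h.σz']

theorem Frame.fix_of_cases (h : Frame 2 τ σ z z' w) {ρ : MulAut A}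
    (hρ : ρ = σ ∨ ρ = τ * σ * τ⁻¹) {v : A} (hv : v ∈ fixg τ ⊓ fixg σ) : ρ v = v := by
  have hτmem : τ ∈ closure {τ, σ} := subset_closure (Set.mem_insert _ _)
  have hσmem : σ ∈ closure {τ, σ} := subset_closure (Set.mem_insert_of_mem _ rfl)
  rcases hρ with rfl | rfl
  · exact fix_of_mem_closure hσmem hv
  · exact fix_of_mem_closure (mul_mem (mul_mem hτmem hσmem) (inv_mem hτmem)) hv

theorem Frame.range_of_cases (h : Frame 2 τ σ z z' w) {ρ : MulAut A}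
    (hρ : ρ = σ ∨ ρ = τ * σ * τ⁻¹) : (dlt ρ).range ≤ (dlt τ).range ⊔ (dlt σ).range := by
  rcases hρ with rfl | rfl
  · exact le_sup_right
  · rintro _ ⟨a, rfl⟩
    rw [dlt_conj, apply_eq τ, mul_comm]
    exact mul_mem (mem_sup_left ⟨_, rfl⟩) (mem_sup_right ⟨_, rfl⟩)

/-- `(τσ)³ = 1` for `p = 2` -/
theorem Frame.three_cycle [Finite A] (h : Frame 2 τ σ z z' w) : (τ * σ) ^ 3 = 1 := by
  haveI : Fact (Nat.Prime 2) := ⟨Nat.prime_two⟩
  have hz2 : z * z = 1 := by rw [← pow_two, h.z_sq]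
  have hz'2 : z' * z' = 1 := by rw [← pow_two, h.z'_sq]
  have a1 : (τ * σ) z = z' := by
    rw [MulAut.mul_apply, h.σz, map_mul, h.τz, h.τz', h.w_eq_z, mul_comm z' z, ← mul_assoc, hz2,
      one_mul]
  have a2 : (τ * σ) z' = z' * z := by
    rw [MulAut.mul_apply, h.σz', h.τz', h.w_eq_z]
  have a3 : (τ * σ) (z' * z) = z := by
    rw [map_mul, a1, a2]
    calc z' * z * z' = z * (z' * z') := by ac_rfl
      _ = z := by rw [hz'2, mul_one]
  have key : ((τ * σ) ^ 3).toMonoidHom = (1 : MulAut A).toMonoidHom := by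
    apply h.hom_ext
    · intro v hv
      have hτmem : τ ∈ closure {τ, σ} := subset_closure (Set.mem_insert _ _)
      have hσmem : σ ∈ closure {τ, σ} := subset_closure (Set.mem_insert_of_mem _ rfl)
      exact fix_of_mem_closure (pow_mem (mul_mem hτmem hσmem) 3) hv
    · show ((τ * σ) ^ 3) z = z
      rw [pow_succ, pow_two, MulAut.mul_apply, MulAut.mul_apply, a1, a2, a3]
    · show ((τ * σ) ^ 3) z' = z'
      rw [pow_succ, pow_two, MulAut.mul_apply, MulAut.mul_apply, a2, a3, a1]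
  ext a
  exact DFunLike.congr_fun key a

/-- some element of `⟨τ, σ⟩` conjugates `ρ` to `τ` -/
theorem Frame.exists_conj [Finite A] (h : Frame 2 τ σ z z' w) {ρ : MulAut A}
    (hρ : ρ = σ ∨ ρ = τ * σ * τ⁻¹) : ∃ ν ∈ closure {τ, σ}, ν * ρ * ν⁻¹ = τ := by
  haveI : Fact (Nat.Prime 2) := ⟨Nat.prime_two⟩
  have hτmem : τ ∈ closure {τ, σ} := subset_closure (Set.mem_insert _ _)
  have hσmem : σ ∈ closure {τ, σ} := subset_closure (Set.mem_insert_of_mem _ rfl)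
  have h3 := h.three_cycle
  have hτ2 : τ * τ = 1 := by
    have := h.hτ.pow_p_eq_one
    rwa [pow_two] at this
  have hσ2 : σ * σ = 1 := by
    have := h.hσ.pow_p_eq_one
    rwa [pow_two] at this
  have hτinv : τ⁻¹ = τ := inv_eq_of_mul_eq_one_left hτ2
  have hσinv : σ⁻¹ = σ := inv_eq_of_mul_eq_one_left hσ2
  have h3' : τ * σ * (τ * σ) * (τ * σ) = 1 := by
    rw [pow_succ, pow_two] at h3
    exact h3
  rcases hρ with rfl | rfl
  · refine ⟨τ * ρ * τ, mul_mem (mul_mem hτmem hσmem) hτmem, ?_⟩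
    rw [mul_inv_rev, mul_inv_rev, hτinv, hσinv]
    calc τ * ρ * τ * ρ * (τ * (ρ * τ)) = (τ * ρ * (τ * ρ) * (τ * ρ)) * τ := by group
      _ = τ := by rw [h3', one_mul]
  · refine ⟨σ, hσmem, ?_⟩
    rw [hτinv, hσinv]
    have e : σ * (τ * σ * τ) * σ = τ * (τ * σ * (τ * σ) * (τ * σ)) := by
      rw [h3', mul_one]
      have : σ * (τ * σ * τ) * σ * τ = 1 := by
        calc σ * (τ * σ * τ) * σ * τ = τ⁻¹ * (τ * σ * (τ * σ) * (τ * σ)) * τ := by group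
          _ = 1 := by rw [h3', mul_one, inv_mul_cancel]
      calc σ * (τ * σ * τ) * σ = σ * (τ * σ * τ) * σ * τ * τ⁻¹ := by group
        _ = τ := by rw [this, one_mul, hτinv]
    rw [e, h3', mul_one]

end two

end Cfsg.Agent.Lib.Helper11.ESa
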