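import Cfsg.Agent.Lib.Helper11.ESc
import Cfsg.Agent.Lib.Helper11.ESd
import Cfsg.Prelude.Def_FusionSystem

/-!
`p`-groups with centre of index `p²`, in the ambient-group language of fusion systems (helper11), for S5265.
-/
set_option autoImplicit false

namespace Cfsg.Agent.Lib.Helper11.ESe

open Subgroup Cfsg Cfsg.Agent.Lib.Helper11.ESa
open scoped commutatorElement

variable {Ω : Type*} [Group Ω]

/-- commutative group structure on an abelian subgroup -/
@[reducible] def abInst (A : Subgroup Ω) (hc : ∀ a ∈ A, ∀ b ∈ A, a * b = b * a) : CommGroup ↥A :=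
  { (inferInstance : Group ↥A) with
    mul_comm := fun a b => Subtype.ext (hc a a.2 b b.2) }

/-- `Z(S)` inside the ambient group -/
abbrev Zc (S : Subgroup Ω) : Subgroup Ω := FusionSystem.centralizerIn S S

theorem mem_Zc {S : Subgroup Ω} {z : Ω} : z ∈ Zc S ↔ z ∈ S ∧ ∀ h ∈ S, h * z = z * h := by
  unfold Zc FusionSystem.centralizerIn
  rw [mem_inf, mem_centralizer_iff]
  rfl

/-- the context: `K` plays the role of `[S,S]`, of order `p` -/
structure Ctx (S : Subgroup Ω) (p : ℕ) (K : Subgroup Ω) : Prop where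
  hK : Nat.card K = p
  hKZ : K ≤ Zc S
  hcomm : ∀ g ∈ S, ∀ h ∈ S, g * h * g⁻¹ * h⁻¹ ∈ K
  hcard : Nat.card S = p ^ 2 * Nat.card (Zc S)

theorem Zc_eq_map (S : Subgroup Ω) : Zc S = (center ↥S).map S.subtype := by
  ext z
  rw [mem_Zc]
  constructor
  · rintro ⟨hz, hc⟩
    refine ⟨⟨z, hz⟩, ?_, rfl⟩
    rw [SetLike.mem_coe, mem_center_iff]
    intro g
    exact Subtype.ext (hc g g.2)
  · rintro ⟨z, hz, rfl⟩
    rw [SetLike.mem_coe, mem_center_iff] at hz
    exact ⟨z.2, fun h hh => congrArg Subtype.val (hz ⟨h, hh⟩)⟩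

theorem exists_ctx {S : Subgroup Ω} [Finite S] {p : ℕ} [Fact p.Prime]
    (hidx : (center ↥S).index = p ^ 2) : ∃ K : Subgroup Ω, Ctx S p K := by
  obtain ⟨K', hK', hK'Z, hK'c⟩ := ESd.exists_comm_subgroup hidx
  refine ⟨K'.map S.subtype, ?_, ?_, ?_, ?_⟩
  · rw [Nat.card_congr (K'.equivMapOfInjective S.subtype S.subtype_injective).toEquiv.symm, hK']
  · rw [Zc_eq_map]
    exact map_mono hK'Z
  · intro g hg h hh
    refine ⟨⁅(⟨g, hg⟩ : S), ⟨h, hh⟩⁆, hK'c _ _, ?_⟩
    rw [commutatorElement_def]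
    rfl
  · rw [Zc_eq_map, Nat.card_congr
      ((center ↥S).equivMapOfInjective S.subtype S.subtype_injective).toEquiv.symm, ← hidx]
    exact ((center ↥S).index_mul_card).symm

/-- an abelian subgroup of index `p` containing the centre -/
structure AbMax (S : Subgroup Ω) (p : ℕ) (A : Subgroup Ω) : Prop where
  le : A ≤ S
  zle : Zc S ≤ A
  comm : ∀ a ∈ A, ∀ b ∈ A, a * b = b * a
  card : Nat.card S = p * Nat.card A

variable {S : Subgroup Ω} {p : ℕ} {K A : Subgroup Ω}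

theorem AbMax.eq_of_le_of_ne [Finite S] [Fact p.Prime] (hA : AbMax S p A) {H : Subgroup Ω}
    (hAH : A ≤ H) (hHS : H ≤ S) (hne : ∃ s ∈ H, s ∉ A) : H = S := by
  have hp : p.Prime := Fact.out
  haveI : Finite H := Finite.of_injective (Subgroup.inclusion hHS) (Subgroup.inclusion_injective hHS)
  haveI : Finite A := Finite.of_injective (Subgroup.inclusion hA.le) (Subgroup.inclusion_injective hA.le)
  have h1 : Nat.card A ∣ Nat.card H := Subgroup.card_dvd_of_le hAH
  have h2 : Nat.card H ∣ Nat.card S := Subgroup.card_dvd_of_le hHS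
  obtain ⟨m, hm⟩ := h1
  have hApos : 0 < Nat.card A := Nat.card_pos
  rw [hA.card, hm, mul_comm p] at h2
  have h3 : m ∣ p := Nat.dvd_of_mul_dvd_mul_left hApos h2
  rcases (Nat.dvd_prime hp).1 h3 with rfl | rfl
  · exfalso
    obtain ⟨s, hsH, hsA⟩ := hne
    have : A = H := eq_of_le_of_card_ge hAH (by rw [hm, mul_one])
    exact hsA (this ▸ hsH)
  · exact eq_of_le_of_card_ge hHS (by rw [hA.card, hm, mul_comm])

theorem AbMax.card_eq (c : Ctx S p K) [Finite S] [Fact p.Prime] (hA : AbMax S p A) :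
    Nat.card A = p * Nat.card (Zc S) := by
  have hp : p.Prime := Fact.out
  have h1 := c.hcard
  rw [hA.card, pow_two, mul_assoc] at h1
  exact Nat.eq_of_mul_eq_mul_left hp.pos h1

theorem Ctx.conj_mem (c : Ctx S p K) (hA : AbMax S p A) {s : Ω} (hs : s ∈ S) {h : Ω} (hh : h ∈ A) :
    s * h * s⁻¹ ∈ A := by
  have : s * h * s⁻¹ = (s * h * s⁻¹ * h⁻¹) * h := by group
  rw [this]
  exact A.mul_mem (hA.zle (c.hKZ (c.hcomm s hs h (hA.le hh)))) hh

theorem Ctx.mem_normalizer (c : Ctx S p K) (hA : AbMax S p A) {s : Ω} (hs : s ∈ S) :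
    s ∈ normalizer (A : Set Ω) := by
  rw [mem_normalizer_iff]
  intro h
  constructor
  · exact fun hh => c.conj_mem hA hs hh
  · intro hh
    have := c.conj_mem hA (S.inv_mem hs) hh
    have e : s⁻¹ * (s * h * s⁻¹) * s⁻¹⁻¹ = h := by group
    rwa [e] at this

/-- conjugation by `s ∈ S` on `A` -/
noncomputable def Ctx.tau (c : Ctx S p K) (hA : AbMax S p A) (s : Ω) (hs : s ∈ S) : MulAut ↥A :=
  A.normalizerMonoidHom ⟨s, c.mem_normalizer hA hs⟩

theorem Ctx.tau_coe (c : Ctx S p K) (hA : AbMax S p A) (s : Ω) (hs : s ∈ S) (a : A) :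
    ((c.tau hA s hs a : A) : Ω) = s * a * s⁻¹ := rfl

theorem Ctx.tau_mem (c : Ctx S p K) (hA : AbMax S p A) (s : Ω) (hs : s ∈ S) :
    c.tau hA s hs ∈ autInducedBy S A :=
  subset_closure ⟨s, hs, fun _ => rfl⟩

theorem Ctx.tau_eq_one (c : Ctx S p K) (hA : AbMax S p A) {s : Ω} (hs : s ∈ S) (hsA : s ∈ A) :
    c.tau hA s hs = 1 := by
  ext a
  show s * a * s⁻¹ = a
  rw [hA.comm s hsA a a.2, mul_inv_cancel_right]

theorem Ctx.tau_mul (c : Ctx S p K) (hA : AbMax S p A) {s t : Ω} (hs : s ∈ S) (ht : t ∈ S) :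
    c.tau hA (s * t) (S.mul_mem hs ht) = c.tau hA s hs * c.tau hA t ht := by
  ext a
  show s * t * a * (s * t)⁻¹ = s * (t * a * t⁻¹) * s⁻¹
  group

theorem Ctx.tau_fix_Zc (c : Ctx S p K) (hA : AbMax S p A) {s : Ω} (hs : s ∈ S) {a : A}
    (ha : (a : Ω) ∈ Zc S) : c.tau hA s hs a = a := by
  apply Subtype.ext
  show s * a * s⁻¹ = a
  rw [(mem_Zc.1 ha).2 s hs, mul_inv_cancel_right]

section
variable [Finite S] [Fact p.Prime]

theorem Ctx.fixg_tau (c : Ctx S p K) (hA : AbMax S p A) {s : Ω} (hs : s ∈ S) (hsA : s ∉ A) :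
    @fixg _ (abInst A hA.comm) (c.tau hA s hs) = (Zc S).subgroupOf A := by
  letI := abInst A hA.comm
  ext a
  rw [mem_fixg, mem_subgroupOf]
  constructor
  · intro h
    have h' : s * a * s⁻¹ = a := congrArg Subtype.val h
    have hH : S ⊓ centralizer {(a : Ω)} = S := by
      apply hA.eq_of_le_of_ne
      · intro b hb
        refine Subgroup.mem_inf.2 ⟨hA.le hb, ?_⟩
        rw [mem_centralizer_iff]
        intro x hx
        rw [Set.mem_singleton_iff.1 hx]
        exact hA.comm a a.2 b hb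
      · exact inf_le_left
      · refine ⟨s, Subgroup.mem_inf.2 ⟨hs, ?_⟩, hsA⟩
        rw [mem_centralizer_iff]
        intro x hx
        rw [Set.mem_singleton_iff.1 hx]
        calc (a : Ω) * s = (s * a * s⁻¹) * s := by rw [h']
          _ = s * a := by group
    rw [mem_Zc]
    refine ⟨hA.le a.2, fun g hg => ?_⟩
    have hg' : g ∈ S ⊓ centralizer {(a : Ω)} := by rw [hH]; exact hg
    exact ((mem_centralizer_iff.1 (Subgroup.mem_inf.1 hg').2) a rfl).symm
  · exact fun h => c.tau_fix_Zc hA hs h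

theorem Ctx.range_tau (c : Ctx S p K) (hA : AbMax S p A) {s : Ω} (hs : s ∈ S) (hsA : s ∉ A) :
    (@dlt _ (abInst A hA.comm) (c.tau hA s hs)).range = K.subgroupOf A := by
  letI := abInst A hA.comm
  have hp : p.Prime := Fact.out
  haveI : Finite A := Finite.of_injective (Subgroup.inclusion hA.le) (Subgroup.inclusion_injective hA.le)
  have hKA : K ≤ A := c.hKZ.trans hA.zle
  have hle : (dlt (c.tau hA s hs)).range ≤ K.subgroupOf A := by
    rintro _ ⟨a, rfl⟩
    rw [mem_subgroupOf]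
    have e : ((dlt (c.tau hA s hs) a : A) : Ω) = (a : Ω)⁻¹ * s * ((a : Ω)⁻¹)⁻¹ * s⁻¹ := by
      show (a : Ω)⁻¹ * (s * a * s⁻¹) = _
      group
    rw [e]
    exact c.hcomm _ (S.inv_mem (hA.le a.2)) s hs
  apply eq_of_le_of_card_ge hle
  rw [Nat.card_congr (subgroupOfEquivOfLe hKA).toEquiv, c.hK,
    ← Nat.card_congr (QuotientGroup.quotientKerEquivRange (dlt (c.tau hA s hs))).toEquiv]
  have hker : (dlt (c.tau hA s hs)).ker = (Zc S).subgroupOf A := c.fixg_tau hA hs hsA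
  have h1 := ((dlt (c.tau hA s hs)).ker).index_mul_card
  rw [hker, Nat.card_congr (subgroupOfEquivOfLe hA.zle).toEquiv, hA.card_eq c] at h1
  have hZpos : 0 < Nat.card (Zc S) := by
    haveI : Finite (Zc S) := Finite.of_injective (Subgroup.inclusion (inf_le_left : Zc S ≤ S))
      (Subgroup.inclusion_injective _)
    exact Nat.card_pos
  have h2 : ((Zc S).subgroupOf A).index = p := Nat.eq_of_mul_eq_mul_right hZpos h1
  have h3 : Nat.card (↥A ⧸ (dlt (c.tau hA s hs)).ker) = ((dlt (c.tau hA s hs)).ker).index := rfl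
  rw [h3, hker, h2]

theorem Ctx.isTv_tau (c : Ctx S p K) (hA : AbMax S p A) {s : Ω} (hs : s ∈ S) (hsA : s ∉ A) :
    @IsTv _ (abInst A hA.comm) p (c.tau hA s hs) := by
  letI := abInst A hA.comm
  have hKA : K ≤ A := c.hKZ.trans hA.zle
  refine ⟨?_, ?_⟩
  · rw [c.range_tau hA hs hsA, Nat.card_congr (subgroupOfEquivOfLe hKA).toEquiv, c.hK]
  · rw [c.range_tau hA hs hsA, c.fixg_tau hA hs hsA]
    intro a ha
    rw [mem_subgroupOf] at ha ⊢
    exact c.hKZ ha

end

theorem Ctx.exists_tau (c : Ctx S p K) (hA : AbMax S p A) {β : MulAut ↥A}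
    (hβ : β ∈ autInducedBy S A) : ∃ (s : Ω) (hs : s ∈ S), β = c.tau hA s hs := by
  unfold autInducedBy at hβ
  have key : ∀ β ∈ closure {α : MulAut ↥A | ∃ g ∈ S, ∀ x : A, ((α x : A) : Ω) = g * (x : Ω) * g⁻¹},
      ∃ (s : Ω) (hs : s ∈ S), β = c.tau hA s hs := by
    intro β hβ
    induction hβ using Subgroup.closure_induction with
    | mem x hx =>
      obtain ⟨g, hg, hx⟩ := hx
      refine ⟨g, hg, ?_⟩
      ext a
      exact hx a
    | one =>
      refine ⟨1, S.one_mem, ?_⟩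
      rw [c.tau_eq_one hA S.one_mem A.one_mem]
    | mul x y _ _ hx hy =>
      obtain ⟨s, hs, rfl⟩ := hx
      obtain ⟨t, ht, rfl⟩ := hy
      exact ⟨s * t, S.mul_mem hs ht, (c.tau_mul hA hs ht).symm⟩
    | inv x _ hx =>
      obtain ⟨s, hs, rfl⟩ := hx
      refine ⟨s⁻¹, S.inv_mem hs, ?_⟩
      rw [inv_eq_iff_mul_eq_one, ← c.tau_mul hA hs (S.inv_mem hs)]
      have : c.tau hA (s * s⁻¹) (S.mul_mem hs (S.inv_mem hs)) = c.tau hA 1 S.one_mem := by
        congr 1
        exact mul_inv_cancel s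
      rw [this, c.tau_eq_one hA S.one_mem A.one_mem]
  exact key β hβ

end Cfsg.Agent.Lib.Helper11.ESe
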