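import Cfsg.Agent.Lib.Helper11.ESe
import Cfsg.Agent.Lib.Helper9.EssentialPSq
import Cfsg.Agent.Lib.Helper29.ExtendableAut
import Cfsg.Agent.Lib.Helper29.FusionHyp
import Cfsg.Agent.Lib.Helper29.FusionRS
import Cfsg.Agent.Lib.Helper29.YoshidaMain
import Cfsg.Agent.S5077
import Cfsg.Agent.S5087

/-!
Essential subgroups of a saturated fusion system on a `p`-group with centre of index `p²`
(helper11), for S5265.
-/
set_option autoImplicit false

namespace Cfsg.Agent.Lib.Helper11.ESe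

open Subgroup Cfsg Cfsg.Agent.Lib.Helper11.ESa Cfsg.Agent.Lib.Helper29

variable {Ω : Type*} [Group Ω] {S : Subgroup Ω} [Finite S] {p : ℕ} [Fact p.Prime]
  {K : Subgroup Ω}

theorem autInducedBy_self (S : Subgroup Ω) : autInducedBy S S = Inn ↥S := by
  apply le_antisymm
  · unfold autInducedBy
    rw [closure_le]
    rintro α ⟨g, hg, hα⟩
    refine ⟨⟨g, hg⟩, ?_⟩
    ext x
    rw [hα x]
    rfl
  · exact inn_le_autInducedBy le_rfl

/-- an essential subgroup is proper -/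
theorem ne_of_isEssential (hS : IsPGroup p S) (F : FusionSystem S) (hF : F.IsSaturated p)
    {P : Subgroup Ω} (hP : F.IsEssential p P) : P ≠ S := by
  intro h
  subst h
  obtain ⟨-, -, hN, E, hE⟩ := hP
  obtain ⟨-, R, hR⟩ := (((Cfsg.Agent.S5077.result p hS F).1 hF).1 P (fullyNormalized_top F)).2
  rw [autInducedBy_self] at hR
  have h1 : p ∣ Nat.card (↥(F.autGroup P) ⧸ (Inn ↥P).subgroupOf (F.autGroup P)) := hE.1
  have h2 : Nat.card (↥(F.autGroup P) ⧸ (Inn ↥P).subgroupOf (F.autGroup P)) =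
      ((Inn ↥P).subgroupOf (F.autGroup P)).index := rfl
  rw [h2, ← hR] at h1
  exact R.not_dvd_index h1

theorem Ctx.zc_ne (c : Ctx S p K) : Zc S ≠ S := by
  intro h
  have h1 := c.hcard
  rw [h] at h1
  have hp : p.Prime := Fact.out
  have hpos : 0 < Nat.card S := Nat.card_pos
  have : 1 < p ^ 2 := Nat.one_lt_pow (by norm_num) hp.one_lt
  nlinarith

/-- essential subgroups are abelian of index `p` -/
theorem Ctx.abMax_of_isEssential (c : Ctx S p K) (hS : IsPGroup p S) (F : FusionSystem S)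
    (hF : F.IsSaturated p) {P : Subgroup Ω} (hP : F.IsEssential p P) : AbMax S p P := by
  have hp : p.Prime := Fact.out
  have hPS : P ≤ S := hP.1.1
  have hcen : FusionSystem.centralizerIn S P ≤ P := hP.1.2 P (isConj_refl F hPS)
  have hZP : Zc S ≤ P := by
    refine le_trans ?_ hcen
    intro z hz
    exact Subgroup.mem_inf.2 ⟨hz.1, centralizer_le (SetLike.coe_subset_coe.2 hPS) hz.2⟩
  have hPne : P ≠ S := ne_of_isEssential hS F hF hP
  haveI : Finite P := finite_of_le hPS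
  haveI : Finite (Zc S) := finite_of_le (inf_le_left : Zc S ≤ S)
  have hPZ : P ≠ Zc S := by
    intro h
    apply c.zc_ne
    apply le_antisymm inf_le_left
    intro s hs
    have hsP : s ∈ P := by
      apply hcen
      refine Subgroup.mem_inf.2 ⟨hs, ?_⟩
      rw [mem_centralizer_iff]
      intro z hz
      have hz' : z ∈ Zc S := h ▸ hz
      exact ((mem_Zc.1 hz').2 s hs).symm
    have hsZ : s ∈ Zc S := h ▸ hsP
    exact hsZ
  -- cardinalities
  obtain ⟨m, hm⟩ := Subgroup.card_dvd_of_le hZP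
  have h2 : Nat.card P ∣ Nat.card S := Subgroup.card_dvd_of_le hPS
  have hZpos : 0 < Nat.card (Zc S) := Nat.card_pos
  rw [c.hcard, hm, mul_comm (p ^ 2)] at h2
  have h3 : m ∣ p ^ 2 := Nat.dvd_of_mul_dvd_mul_left hZpos h2
  obtain ⟨k, hk, hk2⟩ := (Nat.dvd_prime_pow hp).1 h3
  have hcardP : Nat.card P = p * Nat.card (Zc S) := by
    interval_cases k
    · exfalso
      apply hPZ
      exact (eq_of_le_of_card_ge hZP (by rw [hm, hk2, pow_zero, mul_one])).symm
    · rw [hm, hk2, pow_one, mul_comm]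
    · exfalso
      apply hPne
      exact eq_of_le_of_card_ge hPS (by rw [c.hcard, hm, hk2, mul_comm])
  refine ⟨hPS, hZP, ?_, ?_⟩
  · -- abelian
    set N : Subgroup ↥P := (Zc S).subgroupOf P with hN
    have hNc : N ≤ center ↥P := by
      intro n hn
      rw [mem_center_iff]
      intro g
      apply Subtype.ext
      exact (mem_Zc.1 (mem_subgroupOf.1 hn)).2 g (hPS g.2)
    haveI : N.Normal := ⟨fun n hn g => by
      have := mem_center_iff.1 (hNc hn) g
      rw [this, mul_inv_cancel_right]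
      exact hn⟩
    have hidx : N.index = p := by
      have h1 := N.index_mul_card
      rw [hN, Nat.card_congr (subgroupOfEquivOfLe hZP).toEquiv, hcardP] at h1
      exact Nat.eq_of_mul_eq_mul_right hZpos h1
    have hcq : Nat.card (↥P ⧸ N) = p := hidx
    haveI : IsCyclic (↥P ⧸ N) := isCyclic_of_prime_card hcq
    intro a ha b hb
    have := commutative_of_cyclic_center_quotient (QuotientGroup.mk' N)
      (by rw [QuotientGroup.ker_mk']; exact hNc) (⟨a, ha⟩ : P) ⟨b, hb⟩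
    exact congrArg Subtype.val this
  · rw [c.hcard, hcardP, pow_two, mul_assoc]

/-- Sylow's theorem in `Aut_F(A)` in a convenient form -/
theorem Ctx.sylow_conj (c : Ctx S p K) (hS : IsPGroup p S) (F : FusionSystem S)
    (hF : F.IsSaturated p) {A : Subgroup Ω} (hA : AbMax S p A)
    (hAfn : F.IsFullyNormalized A) (P : Subgroup (MulAut ↥A)) (hP : P ≤ F.autGroup A)
    (hPp : IsPGroup p P) :
    ∃ g ∈ F.autGroup A, ∀ b ∈ P, ∃ (s : Ω) (hs : s ∈ S), b = g * c.tau hA s hs * g⁻¹ := by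
  haveI : Finite A := finite_of_le hA.le
  obtain ⟨-, R, hR⟩ := (((Cfsg.Agent.S5077.result p hS F).1 hF).1 A hAfn).2
  have hP' : IsPGroup p (P.subgroupOf (F.autGroup A)) :=
    hPp.of_equiv (subgroupOfEquivOfLe hP).symm
  obtain ⟨Q, hQ⟩ := hP'.exists_le_sylow
  obtain ⟨g, hg⟩ := MulAction.exists_smul_eq (↥(F.autGroup A)) R Q
  refine ⟨g.1, g.2, fun b hb => ?_⟩
  have hbQ : (⟨b, hP hb⟩ : F.autGroup A) ∈ (Q : Subgroup (F.autGroup A)) := hQ (mem_subgroupOf.2 hb)
  rw [← hg, Sylow.coe_subgroup_smul, mem_smul_pointwise_iff_exists] at hbQ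
  obtain ⟨r, hr, hrb⟩ := hbQ
  rw [hR, mem_subgroupOf] at hr
  obtain ⟨s, hs, hrs⟩ := c.exists_tau hA hr
  refine ⟨s, hs, ?_⟩
  rw [← hrs]
  have := congrArg Subtype.val hrb
  rw [MulAut.smul_def, MulAut.conj_apply] at this
  exact this.symm

theorem Ctx.tau_ne_one (c : Ctx S p K) {A : Subgroup Ω} (hA : AbMax S p A) {s : Ω} (hs : s ∈ S)
    (hsA : s ∉ A) : c.tau hA s hs ≠ 1 := by
  letI := abInst A hA.comm
  intro h
  have h1 := (c.isTv_tau hA hs hsA).1
  rw [h] at h1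
  have h2 : (dlt (1 : MulAut ↥A)).range = ⊥ := by
    rw [eq_bot_iff]
    rintro _ ⟨a, rfl⟩
    rw [mem_bot, dlt_eq_one]
    rfl
  rw [h2, Subgroup.card_bot] at h1
  exact (Fact.out : p.Prime).one_lt.ne h1

/-- a nontrivial `p`-element of `Aut_F(A)` is a transvection -/
theorem Ctx.isTv_of_pel (c : Ctx S p K) (hS : IsPGroup p S) (F : FusionSystem S)
    (hF : F.IsSaturated p) {A : Subgroup Ω} (hA : AbMax S p A)
    (hAfn : F.IsFullyNormalized A) {ρ : MulAut ↥A} (hρ : ρ ∈ F.autGroup A) {k : ℕ}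
    (hk : ρ ^ (p ^ k) = 1) (hρ1 : ρ ≠ 1) : @IsTv _ (abInst A hA.comm) p ρ := by
  letI := abInst A hA.comm
  have hPp : IsPGroup p (zpowers ρ) := by
    rintro ⟨x, hx⟩
    obtain ⟨i, rfl⟩ := mem_zpowers_iff.1 hx
    refine ⟨k, Subtype.ext ?_⟩
    show (ρ ^ i) ^ (p ^ k) = 1
    rw [← zpow_natCast, ← zpow_mul, mul_comm, zpow_mul, zpow_natCast, hk, one_zpow]
  obtain ⟨g, hg, hb⟩ := c.sylow_conj hS F hF hA hAfn (zpowers ρ) (zpowers_le.2 hρ) hPp
  obtain ⟨s, hs, hρs⟩ := hb ρ (mem_zpowers ρ)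
  have hsA : s ∉ A := by
    intro hsA
    apply hρ1
    rw [hρs, c.tau_eq_one hA hs hsA, mul_one, mul_inv_cancel]
  rw [hρs]
  exact (c.isTv_tau hA hs hsA).conj g

/-- a `p`-element of `Aut_F(A)` either forms a non-degenerate pair with `τ_y` or fixes `Z(S)` pointwise -/
theorem Ctx.pel_cases (c : Ctx S p K) (hS : IsPGroup p S) (F : FusionSystem S)
    (hF : F.IsSaturated p) {A : Subgroup Ω} (hA : AbMax S p A)
    (hAfn : F.IsFullyNormalized A) {y : Ω} (hy : y ∈ S) (hyA : y ∉ A)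
    {ρ : MulAut ↥A} (hρ : ρ ∈ F.autGroup A) {k : ℕ} (hk : ρ ^ (p ^ k) = 1) :
    @NDPair _ (abInst A hA.comm) p (c.tau hA y hy) ρ ∨
      ∀ a : A, (a : Ω) ∈ Zc S → ρ a = a := by
  letI := abInst A hA.comm
  haveI : Finite A := finite_of_le hA.le
  have hAp : IsPGroup p A := hS.to_le hA.le
  by_cases hρ1 : ρ = 1
  · right
    intro a _
    rw [hρ1]
    rfl
  by_cases hpg : IsPGroup p (closure {c.tau hA y hy, ρ})
  · right
    have hle : closure {c.tau hA y hy, ρ} ≤ F.autGroup A := by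
      rw [closure_le]
      rintro x (rfl | hx)
      · exact autInducedBy_le_autGroup F hA.le (c.tau_mem hA y hy)
      · rw [Set.mem_singleton_iff.1 hx]; exact hρ
    obtain ⟨g, hg, hb⟩ := c.sylow_conj hS F hF hA hAfn _ hle hpg
    obtain ⟨s₁, hs₁, e₁⟩ := hb _ (subset_closure (Set.mem_insert _ _))
    obtain ⟨s₂, hs₂, e₂⟩ := hb ρ (subset_closure (Set.mem_insert_of_mem _ rfl))
    have hs₁A : s₁ ∉ A := by
      intro h
      apply c.tau_ne_one hA hy hyA
      rw [e₁, c.tau_eq_one hA hs₁ h, mul_one, mul_inv_cancel]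
    intro a ha
    have h1 : a ∈ fixg (c.tau hA y hy) := by
      rw [c.fixg_tau hA hy hyA, mem_subgroupOf]; exact ha
    rw [e₁, mem_fixg_conj, c.fixg_tau hA hs₁ hs₁A, mem_subgroupOf] at h1
    rw [e₂, MulAut.mul_apply, MulAut.mul_apply, c.tau_fix_Zc hA hs₂ h1, MulAut.apply_inv_self]
  · left
    exact ndPair_of_not_isPGroup hAp (c.isTv_tau hA hy hyA)
      (c.isTv_of_pel hS F hF hA hAfn hρ hk hρ1) hpg

end Cfsg.Agent.Lib.Helper11.ESe
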