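import Cfsg.Agent.Lib.Helper11.ESf

/-!
Partners, extensions and the normality criterion (helper11), for S5265.
-/
set_option autoImplicit false

namespace Cfsg.Agent.Lib.Helper11.ESe

open Subgroup Cfsg Cfsg.Agent.Lib.Helper11.ESa Cfsg.Agent.Lib.Helper29

variable {Ω : Type*} [Group Ω] {S : Subgroup Ω} [Finite S] {p : ℕ} [Fact p.Prime]
  {K : Subgroup Ω}

theorem isPGroup_zpowers {X : Type*} [Group X] {x : X} {k : ℕ} (hk : x ^ (p ^ k) = 1) :
    IsPGroup p (zpowers x) := by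
  rintro ⟨y, hy⟩
  obtain ⟨i, rfl⟩ := mem_zpowers_iff.1 hy
  refine ⟨k, Subtype.ext ?_⟩
  show (x ^ i) ^ (p ^ k) = 1
  rw [← zpow_natCast, ← zpow_mul, mul_comm, zpow_mul, zpow_natCast, hk, one_zpow]

theorem isPGroup_closure_one_right {X : Type*} [Group X] {x : X} {k : ℕ} (hk : x ^ (p ^ k) = 1) :
    IsPGroup p (closure {x, (1 : X)}) := by
  have : closure {x, (1 : X)} = zpowers x := by
    rw [Set.pair_comm, closure_insert_one, zpowers_eq_closure]
  rw [this]
  exact isPGroup_zpowers hk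

theorem isPGroup_closure_one_left {X : Type*} [Group X] {x : X} {k : ℕ} (hk : x ^ (p ^ k) = 1) :
    IsPGroup p (closure {(1 : X), x}) := by
  rw [Set.pair_comm]
  exact isPGroup_closure_one_right hk

/-- an essential `A` has a non-degenerate pair `(τ_y, σ)` in `Aut_F(A)` -/
theorem Ctx.exists_partner (c : Ctx S p K) (hS : IsPGroup p S) (F : FusionSystem S)
    (hF : F.IsSaturated p) {A : Subgroup Ω} (hAe : F.IsEssential p A) (hA : AbMax S p A) :
    ∃ (y : Ω) (hy : y ∈ S), y ∉ A ∧ ∃ σ ∈ F.autGroup A,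
      @NDPair _ (abInst A hA.comm) p (c.tau hA y hy) σ := by
  classical
  letI := abInst A hA.comm
  haveI : Finite A := finite_of_le hA.le
  have hAp : IsPGroup p A := hS.to_le hA.le
  have hAfn : F.IsFullyNormalized A := hAe.2.1
  obtain ⟨-, -, hNn, E, hE⟩ := hAe
  have hN : (Inn A).subgroupOf (F.autGroup A) = ⊥ := by
    rw [eq_bot_iff]
    rintro ⟨α, hα⟩ hmem
    rw [mem_subgroupOf] at hmem
    obtain ⟨h, hh⟩ := hmem
    rw [mem_bot]
    apply Subtype.ext
    show α = 1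
    have hh' : MulAut.conj h = α := hh
    rw [← hh']
    ext x
    show ((h * x * h⁻¹ : A) : Ω) = x
    rw [mul_comm h x, mul_inv_cancel_right]
  obtain ⟨a', b', ha', hb', hnp'⟩ :=
    Cfsg.Agent.Lib.Helper9.EssentialPSq.exists_pair_of_stronglyPEmbedded p E hE
  obtain ⟨a, rfl⟩ := QuotientGroup.mk'_surjective _ a'
  obtain ⟨b, rfl⟩ := QuotientGroup.mk'_surjective _ b'
  have hinj : ∀ x : F.autGroup A,
      QuotientGroup.mk' ((Inn A).subgroupOf (F.autGroup A)) x = 1 → x = 1 := by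
    intro x hx
    have : x ∈ (QuotientGroup.mk' ((Inn A).subgroupOf (F.autGroup A))).ker := hx
    rw [QuotientGroup.ker_mk', hN, mem_bot] at this
    exact this
  obtain ⟨ka, hka⟩ : ∃ k : ℕ, a ^ (p ^ k) = 1 := by
    obtain ⟨k, hk⟩ := ha'
    exact ⟨k, hinj _ (by rw [map_pow]; exact hk)⟩
  obtain ⟨kb, hkb⟩ : ∃ k : ℕ, b ^ (p ^ k) = 1 := by
    obtain ⟨k, hk⟩ := hb'
    exact ⟨k, hinj _ (by rw [map_pow]; exact hk)⟩
  have hnp : ¬ IsPGroup p (closure {a, b}) := by
    intro h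
    apply hnp'
    have h1 := h.map (QuotientGroup.mk' ((Inn A).subgroupOf (F.autGroup A)))
    rw [MonoidHom.map_closure, Set.image_pair] at h1
    exact h1
  -- pass to `MulAut A`
  have hka' : (a : MulAut ↥A) ^ (p ^ ka) = 1 := by
    have := congrArg Subtype.val hka
    simpa using this
  have hkb' : (b : MulAut ↥A) ^ (p ^ kb) = 1 := by
    have := congrArg Subtype.val hkb
    simpa using this
  have hnp2 : ¬ IsPGroup p (closure {(a : MulAut ↥A), (b : MulAut ↥A)}) := by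
    intro h
    apply hnp
    have e : (closure {a, b}).map (F.autGroup A).subtype = closure {(a : MulAut ↥A), (b : MulAut ↥A)} := by
      rw [MonoidHom.map_closure, Set.image_pair]
      rfl
    rw [← e] at h
    exact h.of_equiv ((closure {a, b}).equivMapOfInjective _ (F.autGroup A).subtype_injective).symm
  obtain ⟨g, hg, hgb⟩ := c.sylow_conj hS F hF hA hAfn (zpowers (a : MulAut ↥A))
    (zpowers_le.2 a.2) (isPGroup_zpowers hka')
  obtain ⟨s, hs, has⟩ := hgb _ (mem_zpowers _)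
  set σ : MulAut ↥A := g⁻¹ * b * g with hσ
  have hσmem : σ ∈ F.autGroup A := mul_mem (mul_mem (inv_mem hg) b.2) hg
  have hnp3 : ¬ IsPGroup p (closure {c.tau hA s hs, σ}) := by
    intro h
    apply hnp2
    have h1 := h.map (MulAut.conj g).toMonoidHom
    rw [MonoidHom.map_closure, Set.image_pair] at h1
    have e1 : (MulAut.conj g).toMonoidHom (c.tau hA s hs) = a := by
      show g * c.tau hA s hs * g⁻¹ = a
      exact has.symm
    have e2 : (MulAut.conj g).toMonoidHom σ = b := by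
      show g * σ * g⁻¹ = b
      rw [hσ]; group
    rw [e1, e2] at h1
    exact h1
  have hσk : σ ^ (p ^ kb) = 1 := by
    have : σ = g⁻¹ * b * g⁻¹⁻¹ := by rw [hσ, inv_inv]
    rw [this, conj_pow, hkb', mul_one, mul_inv_cancel]
  have hsA : s ∉ A := by
    intro hsA
    apply hnp3
    rw [c.tau_eq_one hA hs hsA]
    exact isPGroup_closure_one_left hσk
  have hσ1 : σ ≠ 1 := by
    intro h1
    apply hnp3
    rw [h1]
    apply isPGroup_closure_one_right (k := 1)
    rw [pow_one]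
    exact (c.isTv_tau hA hs hsA).pow_p_eq_one
  exact ⟨s, hs, hsA, σ, hσmem, ndPair_of_not_isPGroup hAp (c.isTv_tau hA hs hsA)
    (c.isTv_of_pel hS F hF hA hAfn hσmem hσk hσ1) hnp3⟩

/-- an `F`-automorphism of `A` normalizing `Aut_S(A)` extends to `S` -/
theorem Ctx.exists_extension (c : Ctx S p K) (hS : IsPGroup p S) (F : FusionSystem S)
    (hF : F.IsSaturated p) {A : Subgroup Ω} (hA : AbMax S p A) (hAfn : F.IsFullyNormalized A)
    {y : Ω} (hy : y ∈ S) (hyA : y ∉ A) {α : MulAut ↥A} (hα : α ∈ F.autGroup A)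
    (hc : α * c.tau hA y hy * α⁻¹ ∈ autInducedBy S A) :
    ∃ γ ∈ F.autGroup S, ∀ (a : Ω) (ha : a ∈ A), ((γ ⟨a, hA.le ha⟩ : S) : Ω) = α ⟨a, ha⟩ := by
  have hsat := (Cfsg.Agent.S5077.result p hS F).1 hF
  have hrec : F.IsReceptive A := hsat.2 A (hsat.1 A hAfn).1
  have hbI : c.tau hA y hy ∉ Inn ↥A := by
    rintro ⟨h, hh⟩
    apply c.tau_ne_one hA hy hyA
    rw [← hh]
    ext x
    show ((h * x * h⁻¹ : A) : Ω) = x
    have : h * x = x * h := Subtype.ext (hA.comm h h.2 x x.2)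
    rw [this, mul_inv_cancel_right]
  obtain ⟨Q, hAQ, φ, hφ, hφα⟩ := mem_extGen_of_conj F hrec hα (c.tau_mem hA y hy) hbI hc
  have hQS : Q ≤ S := (F.le_of_mem hφ).1
  have hQ : S = Q := by
    obtain ⟨s, hsQ, hsA⟩ := SetLike.exists_of_lt hAQ
    exact (hA.eq_of_le_of_ne hAQ.le hQS ⟨s, hsQ, hsA⟩).symm
  subst hQ
  obtain ⟨γ, hγ, hγφ⟩ := exists_aut_of_hom_top F hφ
  refine ⟨γ, hγ, fun a ha => ?_⟩
  rw [hγφ]
  exact hφα ⟨a, ha⟩

/-- the normality criterion (S5087) in elementwise form -/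
theorem isNormal_of_invariant (hS : IsPGroup p S) (F : FusionSystem S) (hF : F.IsSaturated p)
    (Q : Subgroup Ω) (hQS : Q ≤ S) (hle : ∀ P, F.IsEssential p P → Q ≤ P)
    (hinv : ∀ P, (P = S ∨ F.IsEssential p P) → ∀ α ∈ F.autGroup P, ∀ x : P,
      (x : Ω) ∈ Q → ((α x : P) : Ω) ∈ Q) : F.IsNormal Q := by
  rw [Cfsg.Agent.S5087.result p hS F hF Q]
  intro P hP
  refine ⟨?_, fun α hα => ?_⟩
  · rcases hP with rfl | hP
    · exact hQS
    · exact hle P hP
  · apply le_antisymm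
    · rintro _ ⟨x, hx, rfl⟩
      exact mem_subgroupOf.2 (hinv P hP α hα x (mem_subgroupOf.1 hx))
    · intro x hx
      refine ⟨α⁻¹ x, ?_, ?_⟩
      · exact mem_subgroupOf.2 (hinv P hP α⁻¹ (inv_mem hα) x (mem_subgroupOf.1 hx))
      · show α (α⁻¹ x) = x
        rw [MulAut.apply_inv_self]

theorem eq_bot_of_isNormal (F : FusionSystem S) (hcore : F.core = ⊥) {Q : Subgroup Ω}
    (hQ : F.IsNormal Q) : Q = ⊥ := by
  rw [eq_bot_iff, ← hcore]
  exact le_sSup hQ

end Cfsg.Agent.Lib.Helper11.ESe
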