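import Cfsg.Agent.Lib.Helper11.ESg

/-!
The automorphisms of `S` inverting `[S,S]` and centralizing `Z(S)/[S,S]` (helper11), for S5265, `p` odd.
-/
set_option autoImplicit false

namespace Cfsg.Agent.Lib.Helper11.ESe

open Subgroup Cfsg Cfsg.Agent.Lib.Helper11.ESa Cfsg.Agent.Lib.Helper29

variable {Ω : Type*} [Group Ω] {S : Subgroup Ω} {p : ℕ} {K : Subgroup Ω}

theorem char_Zc (γ : MulAut ↥S) {x : S} (hx : (x : Ω) ∈ Zc S) : ((γ x : S) : Ω) ∈ Zc S := by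
  rw [mem_Zc] at hx ⊢
  refine ⟨(γ x).2, fun h hh => ?_⟩
  obtain ⟨g, hg⟩ := γ.surjective ⟨h, hh⟩
  have h1 : g * x = x * g := Subtype.ext (hx.2 g g.2)
  have h2 := congrArg γ h1
  rw [map_mul, map_mul, hg] at h2
  exact congrArg Subtype.val h2

theorem zpow_fix {G : Type*} [Group G] {β : MulAut G} {x : G} (h : β x = x) (u : ℤ) :
    (β ^ u) x = x := by
  have hm : β ∈ MulAction.stabilizer (MulAut G) x := by
    rw [MulAction.mem_stabilizer_iff]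
    exact h
  have := zpow_mem hm u
  rw [MulAction.mem_stabilizer_iff] at this
  exact this

section
variable [Finite S] [Fact p.Prime]

theorem Ctx.exists_comm_ne_one (c : Ctx S p K) :
    ∃ g ∈ S, ∃ h ∈ S, g * h * g⁻¹ * h⁻¹ ≠ 1 := by
  by_contra hcon
  push_neg at hcon
  apply c.zc_ne
  apply le_antisymm inf_le_left
  intro s hs
  refine mem_Zc.2 ⟨hs, fun h hh => ?_⟩
  have := hcon h hh s hs
  calc h * s = (h * s * h⁻¹ * s⁻¹) * s * h := by group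
    _ = s * h := by rw [this, one_mul]

theorem Ctx.K_inv (c : Ctx S p K) (γ : MulAut ↥S) {k : S} (hk : (k : Ω) ∈ K) :
    ((γ k : S) : Ω) ∈ K := by
  obtain ⟨g, hg, h, hh, hne⟩ := c.exists_comm_ne_one
  have hc0 : g * h * g⁻¹ * h⁻¹ ∈ K := c.hcomm g hg h hh
  have h1 : zpowers (⟨g * h * g⁻¹ * h⁻¹, hc0⟩ : K) = ⊤ :=
    zpowers_eq_top_of_prime_card c.hK (fun h => hne (congrArg Subtype.val h))
  have h2 : (⟨k, hk⟩ : K) ∈ zpowers (⟨g * h * g⁻¹ * h⁻¹, hc0⟩ : K) := h1 ▸ mem_top _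
  obtain ⟨i, hi⟩ := mem_zpowers_iff.1 h2
  have hi' : (g * h * g⁻¹ * h⁻¹) ^ i = (k : Ω) := by simpa using congrArg Subtype.val hi
  have hk' : k = (⟨g, hg⟩ * ⟨h, hh⟩ * ⟨g, hg⟩⁻¹ * ⟨h, hh⟩⁻¹ : S) ^ i := by
    apply Subtype.ext
    rw [← hi']
    simp
  rw [hk', map_zpow, map_mul, map_mul, map_mul, map_inv, map_inv]
  have := c.hcomm _ (γ ⟨g, hg⟩).2 _ (γ ⟨h, hh⟩).2
  have h3 := K.zpow_mem this i
  simpa using h3

end

/-- automorphisms of `S` inverting `K` and centralizing `Z(S)/K` -/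
structure IsInv (K : Subgroup Ω) (γ : MulAut ↥S) : Prop where
  inv : ∀ (k : Ω) (_ : k ∈ K) (hkS : k ∈ S), ((γ ⟨k, hkS⟩ : S) : Ω) = k⁻¹
  mod : ∀ (x : Ω) (hx : x ∈ Zc S), x⁻¹ * ((γ ⟨x, hx.1⟩ : S) : Ω) ∈ K

section
variable [Finite S] [Fact p.Prime]

/-- some power prime to `p` of an `F`-automorphism of `S` is inner -/
theorem exists_pow_mem_inn (hS : IsPGroup p S) (F : FusionSystem S) (hF : F.IsSaturated p)
    {δ : MulAut ↥S} (hδ : δ ∈ F.autGroup S) : ∃ m : ℕ, ¬ p ∣ m ∧ δ ^ m ∈ Inn ↥S := by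
  obtain ⟨-, R, hR⟩ := (((Cfsg.Agent.S5077.result p hS F).1 hF).1 S (fullyNormalized_top F)).2
  rw [autInducedBy_self] at hR
  haveI : ((Inn ↥S).subgroupOf (F.autGroup S)).Normal := inferInstance
  refine ⟨((Inn ↥S).subgroupOf (F.autGroup S)).index, ?_, ?_⟩
  · rw [← hR]
    exact R.not_dvd_index
  · have := Subgroup.pow_index_mem ((Inn ↥S).subgroupOf (F.autGroup S)) (⟨δ, hδ⟩ : F.autGroup S)
    rw [mem_subgroupOf] at this
    simpa using this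

theorem Ctx.fix_of_chain (c : Ctx S p K) (hS : IsPGroup p S) (F : FusionSystem S)
    (hF : F.IsSaturated p) {δ : MulAut ↥S} (hδ : δ ∈ F.autGroup S)
    (hK : ∀ k : S, (k : Ω) ∈ K → δ k = k)
    (hZ : ∀ x : S, (x : Ω) ∈ Zc S → ((x⁻¹ * δ x : S) : Ω) ∈ K)
    {x : S} (hx : (x : Ω) ∈ Zc S) : δ x = x := by
  have hp : p.Prime := Fact.out
  -- `δ ^ p` fixes `x`
  have h1 : (δ ^ p) x = x := by
    have := pow_fix_step' (M₀ := K.subgroupOf S) δ x (mem_subgroupOf.2 (hZ x hx))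
      (fun z hz => hK z (mem_subgroupOf.1 hz)) p
    rw [this]
    have h2 : ((x⁻¹ * δ x : S)) ^ p = 1 := by
      apply Subtype.ext
      have h3 := pow_card_eq_one' (G := K) (x := ⟨_, hZ x hx⟩)
      rw [c.hK] at h3
      have h4 := congrArg Subtype.val h3
      simpa using h4
    rw [h2, mul_one]
  obtain ⟨m, hm, hinn⟩ := exists_pow_mem_inn hS F hF hδ
  have h2 : (δ ^ m) x = x := by
    obtain ⟨h, hh⟩ := hinn
    rw [← hh]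
    apply Subtype.ext
    show (h : Ω) * x * (h : Ω)⁻¹ = x
    rw [(mem_Zc.1 hx).2 h h.2, mul_inv_cancel_right]
  have hcop : IsCoprime (p : ℤ) (m : ℤ) :=
    Nat.isCoprime_iff_coprime.2 ((Nat.Prime.coprime_iff_not_dvd hp).2 hm)
  obtain ⟨a, b, hab⟩ := hcop
  have e : δ = (δ ^ p) ^ a * (δ ^ m) ^ b := by
    rw [← zpow_natCast, ← zpow_natCast, ← zpow_mul, ← zpow_mul, ← zpow_add, mul_comm (p : ℤ),
      mul_comm (m : ℤ), hab, zpow_one]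
  rw [e, MulAut.mul_apply, zpow_fix h2, zpow_fix h1]

/-- two inverting `F`-automorphisms of `S` agree on `Z(S)` -/
theorem Ctx.isInv_agree (c : Ctx S p K) (hS : IsPGroup p S) (F : FusionSystem S)
    (hF : F.IsSaturated p) {γ₁ γ₂ : MulAut ↥S} (h₁ : γ₁ ∈ F.autGroup S) (h₂ : γ₂ ∈ F.autGroup S)
    (i₁ : IsInv K γ₁) (i₂ : IsInv K γ₂) {x : S} (hx : (x : Ω) ∈ Zc S) : γ₁ x = γ₂ x := by
  have hKS : K ≤ S := c.hKZ.trans inf_le_left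
  -- γ₂⁻¹ on K and on Z
  have inv2 : ∀ k : S, (k : Ω) ∈ K → γ₂⁻¹ k = k⁻¹ := by
    intro k hk
    rw [MulAut.inv_apply, MulEquiv.symm_apply_eq, map_inv]
    have := i₂.inv k hk k.2
    have e : γ₂ k = k⁻¹ := Subtype.ext this
    rw [e, inv_inv]
  have hδ : γ₂⁻¹ * γ₁ ∈ F.autGroup S := mul_mem (inv_mem h₂) h₁
  have key := c.fix_of_chain hS F hF hδ (x := x) ?_ ?_ hx
  · rw [MulAut.mul_apply, MulAut.inv_apply, MulEquiv.symm_apply_eq] at key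
    exact key
  · intro k hk
    rw [MulAut.mul_apply]
    have e : γ₁ k = k⁻¹ := Subtype.ext (i₁.inv k hk k.2)
    rw [e, map_inv, inv2 k hk, inv_inv]
  · intro u hu
    -- γ₁ u = u k₁, γ₂⁻¹ u = u k⁻¹
    have hk₁ : ((u⁻¹ * γ₁ u : S) : Ω) ∈ K := i₁.mod u hu
    have hu' : ((γ₂⁻¹ u : S) : Ω) ∈ Zc S := char_Zc _ hu
    have hk₂ : (((γ₂⁻¹ u)⁻¹ * γ₂ (γ₂⁻¹ u) : S) : Ω) ∈ K := i₂.mod _ hu'
    rw [MulAut.apply_inv_self] at hk₂
    have e : u⁻¹ * (γ₂⁻¹ * γ₁) u = (u⁻¹ * γ₂⁻¹ u) * γ₂⁻¹ (u⁻¹ * γ₁ u) := by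
      rw [MulAut.mul_apply, map_mul, map_inv]
      group
    rw [e, inv2 _ hk₁]
    have h5 : ((u⁻¹ * γ₂⁻¹ u : S) : Ω) ∈ K := by
      have : (u⁻¹ * γ₂⁻¹ u : S) = ((γ₂⁻¹ u)⁻¹ * u)⁻¹ := by group
      rw [this]
      exact K.inv_mem hk₂
    exact K.mul_mem h5 (K.inv_mem hk₁)

theorem Ctx.isInv_conj (c : Ctx S p K) {γ β : MulAut ↥S} (i : IsInv K γ) :
    IsInv K (β⁻¹ * γ * β) := by
  constructor
  · intro k hk hkS
    have h1 : ((β ⟨k, hkS⟩ : S) : Ω) ∈ K := c.K_inv β hk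
    have h2 : γ (β ⟨k, hkS⟩) = (β ⟨k, hkS⟩)⁻¹ := Subtype.ext (i.inv _ h1 (β ⟨k, hkS⟩).2)
    have : (β⁻¹ * γ * β) ⟨k, hkS⟩ = (⟨k, hkS⟩ : S)⁻¹ := by
      rw [MulAut.mul_apply, MulAut.mul_apply, h2, map_inv, MulAut.inv_apply_self]
    exact congrArg Subtype.val this
  · intro x hx
    have h1 : ((β ⟨x, hx.1⟩ : S) : Ω) ∈ Zc S := char_Zc β hx
    have h2 := i.mod _ h1
    have h3 := c.K_inv β⁻¹ (k := (β ⟨x, hx.1⟩)⁻¹ * γ (β ⟨x, hx.1⟩)) h2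
    have e : β⁻¹ ((β ⟨x, hx.1⟩)⁻¹ * γ (β ⟨x, hx.1⟩)) = (⟨x, hx.1⟩ : S)⁻¹ * (β⁻¹ * γ * β) ⟨x, hx.1⟩ := by
      rw [map_mul, map_inv, MulAut.inv_apply_self, MulAut.mul_apply, MulAut.mul_apply]
    rw [e] at h3
    exact h3

end

end Cfsg.Agent.Lib.Helper11.ESe
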