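import Cfsg.Agent.Lib.Helper11.ESh

/-!
The torus involution as an automorphism of `S`, and the case `p` odd (helper11), for S5265.
-/
set_option autoImplicit false

namespace Cfsg.Agent.Lib.Helper11.ESe

open Subgroup Cfsg Cfsg.Agent.Lib.Helper11.ESa Cfsg.Agent.Lib.Helper29

variable {Ω : Type*} [Group Ω] {S : Subgroup Ω} {p : ℕ} {K : Subgroup Ω}
variable [Finite S] [Fact p.Prime]

theorem closure_pair_le {X : Type*} [Group X] {H : Subgroup X} {a b : X} (ha : a ∈ H) (hb : b ∈ H) :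
    closure {a, b} ≤ H := by
  rw [closure_le]
  rintro x (rfl | hx)
  · exact ha
  · rw [Set.mem_singleton_iff.1 hx]; exact hb

/-- the torus involution of a non-degenerate pair extends to an inverting automorphism of `S` -/
theorem Ctx.exists_inv_aut (c : Ctx S p K) (hS : IsPGroup p S) (F : FusionSystem S)
    (hF : F.IsSaturated p) {P : Subgroup Ω} (hP : AbMax S p P) (hPfn : F.IsFullyNormalized P)
    {y : Ω} (hy : y ∈ S) (hyP : y ∉ P) {ρ : MulAut ↥P} (hρ : ρ ∈ F.autGroup P)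
    (nd : @NDPair _ (abInst P hP.comm) p (c.tau hP y hy) ρ) :
    ∃ γ ∈ F.autGroup S, IsInv K γ ∧
      (∀ v : P, v ∈ @fixg _ (abInst P hP.comm) (c.tau hP y hy) ⊓ @fixg _ (abInst P hP.comm) ρ →
        ((γ ⟨v, hP.le v.2⟩ : S) : Ω) = v) ∧
      (p ≠ 2 → ∀ v : P, (v : Ω) ∈ Zc S → ((γ ⟨v, hP.le v.2⟩ : S) : Ω) = v →
        v ∈ @fixg _ (abInst P hP.comm) (c.tau hP y hy) ⊓ @fixg _ (abInst P hP.comm) ρ) := by
  letI := abInst P hP.comm
  haveI : Finite P := finite_of_le hP.le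
  have hp : p.Prime := Fact.out
  obtain ⟨z, z', w, fr⟩ := nd.exists_frame
  obtain ⟨ι, hιmem, hιτ, hιv, hιd⟩ := fr.exists_torus
  have hτmem : c.tau hP y hy ∈ F.autGroup P := autInducedBy_le_autGroup F hP.le (c.tau_mem hP y hy)
  have hιG : ι ∈ F.autGroup P := closure_pair_le hτmem hρ hιmem
  have hc : ι * c.tau hP y hy * ι⁻¹ ∈ autInducedBy S P := by
    rw [hιτ, mul_inv_cancel_right]
    exact c.tau_mem hP y hy
  obtain ⟨γ, hγ, hγι⟩ := c.exists_extension hS F hF hP hPfn hy hyP hιG hc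
  have hrange := c.range_tau hP hy hyP
  have hfixg := c.fixg_tau hP hy hyP
  have hγι' : ∀ v : P, ((γ ⟨v, hP.le v.2⟩ : S) : Ω) = ι v := fun v => hγι v v.2
  -- decomposition of elements of Z
  have hdec : ∀ x : P, (x : Ω) ∈ Zc S → ∃ v ∈ fixg (c.tau hP y hy) ⊓ fixg ρ,
      ∃ d ∈ (dlt (c.tau hP y hy)).range, x = v * d ∧ ι x = v * d⁻¹ := by
    intro x hx
    have hx' : x ∈ fixg (c.tau hP y hy) := by rw [hfixg, mem_subgroupOf]; exact hx
    obtain ⟨v, hv, i, hi⟩ := fr.decomp_fix hx'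
    have hd : z ^ i ∈ (dlt (c.tau hP y hy)).range := zpow_mem fr.hz i
    refine ⟨v, hv, z ^ i, hd, hi, ?_⟩
    rw [hi, map_mul, hιv v hv, hιd _ hd]
  refine ⟨γ, hγ, ⟨?_, ?_⟩, ?_, ?_⟩
  · intro k hk hkS
    have hkP : k ∈ P := hP.zle (c.hKZ hk)
    have h1 : (⟨k, hkP⟩ : P) ∈ (dlt (c.tau hP y hy)).range := by
      rw [hrange, mem_subgroupOf]; exact hk
    have h2 := hιd _ h1
    have h3 := hγι' ⟨k, hkP⟩
    rw [h2] at h3
    exact h3
  · intro x hx
    have hxP : x ∈ P := hP.zle hx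
    obtain ⟨v, hv, d, hd, hxd, hιx⟩ := hdec ⟨x, hxP⟩ hx
    have h3 := hγι' ⟨x, hxP⟩
    have h4 : (⟨x, hxP⟩ : P)⁻¹ * ι ⟨x, hxP⟩ ∈ (dlt (c.tau hP y hy)).range := by
      rw [hιx]
      have e : (⟨x, hxP⟩ : P)⁻¹ * (v * d⁻¹) = d⁻¹ * d⁻¹ := by
        rw [hxd, mul_inv, mul_mul_mul_comm, inv_mul_cancel, one_mul]
      rw [e]
      exact mul_mem (inv_mem hd) (inv_mem hd)
    rw [hrange, mem_subgroupOf] at h4
    have e2 : x⁻¹ * ((γ ⟨x, hx.1⟩ : S) : Ω) = (((⟨x, hxP⟩ : P)⁻¹ * ι ⟨x, hxP⟩ : P) : Ω) := by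
      rw [Subgroup.coe_mul, ← h3]
      rfl
    rw [e2]
    exact h4
  · intro v hv
    rw [hγι' v, hιv v hv]
  · intro hp2 v hvZ hγv
    obtain ⟨u, hu, d, hd, hvd, hιv'⟩ := hdec v hvZ
    have h1 : ι v = v := by
      apply Subtype.ext
      rw [← hγι' v]
      exact hγv
    rw [hιv', hvd] at h1
    have h2 : d⁻¹ = d := mul_left_cancel h1
    have hd2 : d ^ 2 = 1 := by
      rw [pow_two]
      nth_rewrite 1 [← h2]
      exact inv_mul_cancel d
    have hdp : d ^ p = 1 := pow_card_range fr.hτ hd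
    have h3 : orderOf d ∣ Nat.gcd p 2 := Nat.dvd_gcd (orderOf_dvd_of_pow_eq_one hdp)
      (orderOf_dvd_of_pow_eq_one hd2)
    have h4 : Nat.gcd p 2 = 1 := (Nat.coprime_primes hp Nat.prime_two).2 hp2
    rw [h4, Nat.dvd_one, orderOf_eq_one_iff] at h3
    rw [hvd, h3, mul_one]
    exact hu

/-- consequences of `V_P = 1` -/
theorem Ctx.of_fix_eq_bot (c : Ctx S p K) {P : Subgroup Ω} (hP : AbMax S p P)
    {y : Ω} (hy : y ∈ S) (hyP : y ∉ P) {ρ : MulAut ↥P}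
    (nd : @NDPair _ (abInst P hP.comm) p (c.tau hP y hy) ρ)
    (hV : @fixg _ (abInst P hP.comm) (c.tau hP y hy) ⊓ @fixg _ (abInst P hP.comm) ρ = ⊥) :
    Zc S = K ∧ ∀ x ∈ P, x ^ p = 1 := by
  letI := abInst P hP.comm
  haveI : Finite P := finite_of_le hP.le
  obtain ⟨z, z', w, fr⟩ := nd.exists_frame
  have hrange := c.range_tau hP hy hyP
  have hfixg := c.fixg_tau hP hy hyP
  have hzp : z ^ p = 1 := pow_card_range fr.hτ fr.hz
  have hz'p : z' ^ p = 1 := pow_card_range fr.hσ fr.hz'mem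
  constructor
  · apply le_antisymm _ c.hKZ
    intro x hx
    have hxP : x ∈ P := hP.zle hx
    have hx' : (⟨x, hxP⟩ : P) ∈ fixg (c.tau hP y hy) := by rw [hfixg, mem_subgroupOf]; exact hx
    obtain ⟨v, hv, i, hi⟩ := fr.decomp_fix hx'
    rw [hV, mem_bot] at hv
    rw [hv, one_mul] at hi
    have : (⟨x, hxP⟩ : P) ∈ (dlt (c.tau hP y hy)).range := hi ▸ zpow_mem fr.hz i
    rw [hrange, mem_subgroupOf] at this
    exact this
  · intro x hx
    obtain ⟨v, hv, i, j, hij⟩ := fr.decomp ⟨x, hx⟩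
    rw [hV, mem_bot] at hv
    rw [hv, one_mul] at hij
    have h1 : (⟨x, hx⟩ : P) ^ p = 1 := by
      rw [hij, mul_pow, ← zpow_natCast, ← zpow_natCast, ← zpow_mul, ← zpow_mul, mul_comm i,
        mul_comm j, zpow_mul, zpow_mul, zpow_natCast, zpow_natCast, hzp, hz'p, one_zpow, one_zpow,
        one_mul]
    have := congrArg Subtype.val h1
    simpa using this

end Cfsg.Agent.Lib.Helper11.ESe
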