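import Cfsg.Agent.Lib.Helper11.ESi

/-!
The case `p` odd: `Z(S)` has order `p` and essential subgroups have exponent `p` (helper11), for S5265.
-/
set_option autoImplicit false

namespace Cfsg.Agent.Lib.Helper11.ESe

open Subgroup Cfsg Cfsg.Agent.Lib.Helper11.ESa Cfsg.Agent.Lib.Helper29

variable {Ω : Type*} [Group Ω] {S : Subgroup Ω} {p : ℕ} {K : Subgroup Ω}

/-- the subgroup of `Z(S)` fixed by `γ` -/
def fixZ (γ : MulAut ↥S) : Subgroup Ω :=
  ((MonoidHom.eqLocus γ.toMonoidHom (MonoidHom.id S)) ⊓ (Zc S).subgroupOf S).map S.subtype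

theorem mem_fixZ {γ : MulAut ↥S} {v : Ω} :
    v ∈ fixZ γ ↔ ∃ hv : v ∈ Zc S, γ ⟨v, hv.1⟩ = ⟨v, hv.1⟩ := by
  unfold fixZ
  constructor
  · rintro ⟨x, ⟨h1, h2⟩, rfl⟩
    exact ⟨mem_subgroupOf.1 h2, h1⟩
  · rintro ⟨hv, h⟩
    exact ⟨⟨v, hv.1⟩, ⟨h, mem_subgroupOf.2 hv⟩, rfl⟩

theorem fixZ_le (γ : MulAut ↥S) : fixZ γ ≤ Zc S := fun _ hv => (mem_fixZ.1 hv).1

variable [Finite S] [Fact p.Prime]

theorem exists_essential (hS : IsPGroup p S) (F : FusionSystem S) (hF : F.IsSaturated p)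
    (hcore : F.core = ⊥) (hS1 : S ≠ ⊥) : ∃ P, F.IsEssential p P := by
  by_contra hcon
  push_neg at hcon
  apply hS1
  apply eq_bot_of_isNormal F hcore
  apply isNormal_of_invariant hS F hF S le_rfl
  · intro P hP
    exact absurd hP (hcon P)
  · intro P hP α _ x _
    rcases hP with hP | hP
    · subst hP
      exact (α x).2
    · exact absurd hP (hcon P)

theorem odd_main (c : Ctx S p K) (hS : IsPGroup p S) (F : FusionSystem S) (hF : F.IsSaturated p)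
    (hp2 : p ≠ 2) (hcore : F.core = ⊥) (hS1 : S ≠ ⊥) :
    Zc S = K ∧ ∀ P, F.IsEssential p P → ∀ x ∈ P, x ^ p = 1 := by
  obtain ⟨P₀, hP₀e⟩ := exists_essential hS F hF hcore hS1
  have hP₀ := c.abMax_of_isEssential hS F hF hP₀e
  obtain ⟨y₀, hy₀, hy₀P, σ₀, hσ₀, nd₀⟩ := c.exists_partner hS F hF hP₀e hP₀
  obtain ⟨γ₀, hγ₀, i₀, -, -⟩ := c.exists_inv_aut hS F hF hP₀ hP₀e.2.1 hy₀ hy₀P hσ₀ nd₀
  -- the key agreement claim
  have agree : ∀ (P : Subgroup Ω) (hP : AbMax S p P) (_ : F.IsFullyNormalized P) (y : Ω)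
      (hy : y ∈ S) (_ : y ∉ P) (ρ : MulAut ↥P) (_ : ρ ∈ F.autGroup P)
      (_ : @NDPair _ (abInst P hP.comm) p (c.tau hP y hy) ρ) (v : P),
      (v : Ω) ∈ fixZ γ₀ ↔
        v ∈ @fixg _ (abInst P hP.comm) (c.tau hP y hy) ⊓ @fixg _ (abInst P hP.comm) ρ := by
    intro P hP hPfn y hy hyP ρ hρ nd v
    letI := abInst P hP.comm
    obtain ⟨γ, hγ, i, hfix, hconv⟩ := c.exists_inv_aut hS F hF hP hPfn hy hyP hρ nd
    constructor
    · intro hv
      obtain ⟨hvZ, hv0⟩ := mem_fixZ.1 hv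
      apply hconv hp2 v hvZ
      have h1 : γ ⟨v, hP.le v.2⟩ = γ₀ ⟨v, hP.le v.2⟩ :=
        c.isInv_agree hS F hF hγ hγ₀ i i₀ (x := ⟨v, hP.le v.2⟩) hvZ
      rw [h1]
      exact congrArg Subtype.val hv0
    · intro hv
      have hvZ : (v : Ω) ∈ Zc S := by
        have h0 : v ∈ fixg (c.tau hP y hy) := (Subgroup.mem_inf.1 hv).1
        rw [c.fixg_tau hP hy hyP] at h0
        exact mem_subgroupOf.1 h0
      refine mem_fixZ.2 ⟨hvZ, ?_⟩
      have h1 : γ₀ ⟨v, hP.le v.2⟩ = γ ⟨v, hP.le v.2⟩ :=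
        c.isInv_agree hS F hF hγ₀ hγ i₀ i (x := ⟨v, hP.le v.2⟩) hvZ
      rw [h1]
      exact Subtype.ext (hfix v hv)
  -- normality of `V`
  have hnormal : F.IsNormal (fixZ γ₀) := by
    apply isNormal_of_invariant hS F hF
    · exact (fixZ_le γ₀).trans inf_le_left
    · intro P hPe
      exact (fixZ_le γ₀).trans (c.abMax_of_isEssential hS F hF hPe).zle
    · intro P hP α hα x hx
      rcases hP with hP | hPe
      · subst hP
        obtain ⟨hxZ, hx0⟩ := mem_fixZ.1 hx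
        have hαx : ((α x : P) : Ω) ∈ Zc P := char_Zc α hxZ
        refine mem_fixZ.2 ⟨hαx, ?_⟩
        have hconj : IsInv K (α⁻¹ * γ₀ * α) := c.isInv_conj i₀
        have hmem : α⁻¹ * γ₀ * α ∈ F.autGroup P := mul_mem (mul_mem (inv_mem hα) hγ₀) hα
        have h1 := c.isInv_agree hS F hF hmem hγ₀ hconj i₀ (x := x) hxZ
        have hx0' : γ₀ x = x := hx0
        rw [hx0', MulAut.mul_apply, MulAut.mul_apply, MulAut.inv_apply,
          MulEquiv.symm_apply_eq] at h1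
        exact h1
      · have hP := c.abMax_of_isEssential hS F hF hPe
        have hPfn := hPe.2.1
        letI := abInst P hP.comm
        haveI : Finite P := finite_of_le hP.le
        obtain ⟨y, hy, hyP, σ, hσ, nd⟩ := c.exists_partner hS F hF hPe hP
        have hxV := (agree P hP hPfn y hy hyP σ hσ nd x).1 hx
        have hxZ : (x : Ω) ∈ Zc S := (mem_fixZ.1 hx).1
        have hτmem : c.tau hP y hy ∈ F.autGroup P :=
          autInducedBy_le_autGroup F hP.le (c.tau_mem hP y hy)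
        -- every `p`-element of `Aut_F(P)` fixes `x`
        have fixall : ∀ ρ ∈ F.autGroup P, ρ ^ (p ^ 1) = 1 → ρ x = x := by
          intro ρ hρ hρp
          rcases c.pel_cases hS F hF hP hPfn hy hyP hρ hρp with nd' | hfix
          · exact mem_fixg.1 ((agree P hP hPfn y hy hyP ρ hρ nd' x).1 hx).2
          · exact hfix x hxZ
        have hconjfix : ∀ μ ∈ F.autGroup P, μ ^ p = 1 → μ (α x) = α x := by
          intro μ hμ hμp
          have h1 : (α⁻¹ * μ * α) ^ (p ^ 1) = 1 := by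
            have : α⁻¹ * μ * α = α⁻¹ * μ * α⁻¹⁻¹ := by rw [inv_inv]
            rw [pow_one, this, conj_pow, hμp, mul_one, mul_inv_cancel]
          have h2 := fixall _ (mul_mem (mul_mem (inv_mem hα) hμ) hα) h1
          rw [MulAut.mul_apply, MulAut.mul_apply, MulAut.inv_apply, MulEquiv.symm_apply_eq] at h2
          exact h2
        apply (agree P hP hPfn y hy hyP σ hσ nd (α x)).2
        refine Subgroup.mem_inf.2 ⟨mem_fixg.2 ?_, mem_fixg.2 ?_⟩
        · exact hconjfix _ hτmem (c.isTv_tau hP hy hyP).pow_p_eq_one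
        · exact hconjfix _ hσ nd.hσ.pow_p_eq_one
  have hVbot : fixZ γ₀ = ⊥ := eq_bot_of_isNormal F hcore hnormal
  have hbot : ∀ (P : Subgroup Ω) (hP : AbMax S p P) (_ : F.IsFullyNormalized P) (y : Ω)
      (hy : y ∈ S) (_ : y ∉ P) (ρ : MulAut ↥P) (_ : ρ ∈ F.autGroup P)
      (_ : @NDPair _ (abInst P hP.comm) p (c.tau hP y hy) ρ),
      @fixg _ (abInst P hP.comm) (c.tau hP y hy) ⊓ @fixg _ (abInst P hP.comm) ρ = ⊥ := by
    intro P hP hPfn y hy hyP ρ hρ nd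
    rw [eq_bot_iff]
    intro v hv
    have := (agree P hP hPfn y hy hyP ρ hρ nd v).2 hv
    rw [hVbot, mem_bot] at this
    rw [mem_bot]
    exact Subtype.ext this
  refine ⟨(c.of_fix_eq_bot hP₀ hy₀ hy₀P nd₀ (hbot P₀ hP₀ hP₀e.2.1 y₀ hy₀ hy₀P σ₀ hσ₀ nd₀)).1, ?_⟩
  intro P hPe
  have hP := c.abMax_of_isEssential hS F hF hPe
  obtain ⟨y, hy, hyP, σ, hσ, nd⟩ := c.exists_partner hS F hF hPe hP
  exact (c.of_fix_eq_bot hP hy hyP nd (hbot P hP hPe.2.1 y hy hyP σ hσ nd)).2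

end Cfsg.Agent.Lib.Helper11.ESe
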