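import Cfsg.Agent.Lib.Helper11.ESj

/-!
The case `p` odd: `S` has exponent `p` (helper11), for S5265.
-/
set_option autoImplicit false

namespace Cfsg.Agent.Lib.Helper11.ESe

open Subgroup Cfsg Cfsg.Agent.Lib.Helper11.ESa Cfsg.Agent.Lib.Helper29

theorem pow_mul_aux {G : Type*} [Group G] {a b k : G} (hkb : Commute k b)
    (hba : b * a = k * a * b) (n : ℕ) : b ^ n * a = k ^ n * a * b ^ n := by
  induction n with
  | zero => simp
  | succ n ih =>
    calc b ^ (n + 1) * a = b * (b ^ n * a) := by rw [pow_succ', mul_assoc]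
      _ = b * (k ^ n * a * b ^ n) := by rw [ih]
      _ = (b * k ^ n) * a * b ^ n := by simp only [mul_assoc]
      _ = (k ^ n * b) * a * b ^ n := by rw [(hkb.pow_left n).eq]
      _ = k ^ n * (b * a) * b ^ n := by simp only [mul_assoc]
      _ = k ^ n * (k * a * b) * b ^ n := by rw [hba]
      _ = k ^ (n + 1) * a * b ^ (n + 1) := by rw [pow_succ, pow_succ']; simp only [mul_assoc]

theorem pow_mul_of_central {G : Type*} [Group G] {a b k : G} (hka : Commute k a) (hkb : Commute k b)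
    (hba : b * a = k * a * b) (n : ℕ) :
    (a * b) ^ n = k ^ (∑ i ∈ Finset.range n, i) * a ^ n * b ^ n := by
  induction n with
  | zero => simp
  | succ n ih =>
    have hc : a ^ n * k ^ n = k ^ n * a ^ n := ((hka.pow_left n).pow_right n).eq.symm
    rw [Finset.sum_range_succ]
    calc (a * b) ^ (n + 1) = (a * b) ^ n * (a * b) := pow_succ _ _
      _ = k ^ (∑ i ∈ Finset.range n, i) * a ^ n * b ^ n * (a * b) := by rw [ih]
      _ = k ^ (∑ i ∈ Finset.range n, i) * a ^ n * (b ^ n * a) * b := by simp only [mul_assoc]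
      _ = k ^ (∑ i ∈ Finset.range n, i) * a ^ n * (k ^ n * a * b ^ n) * b := by
          rw [pow_mul_aux hkb hba]
      _ = k ^ (∑ i ∈ Finset.range n, i) * (a ^ n * k ^ n) * a * b ^ n * b := by
          simp only [mul_assoc]
      _ = k ^ (∑ i ∈ Finset.range n, i) * (k ^ n * a ^ n) * a * b ^ n * b := by rw [hc]
      _ = (k ^ (∑ i ∈ Finset.range n, i) * k ^ n) * (a ^ n * a) * (b ^ n * b) := by
          simp only [mul_assoc]
      _ = k ^ (∑ i ∈ Finset.range n, i + n) * a ^ (n + 1) * b ^ (n + 1) := by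
          rw [← pow_add, ← pow_succ, ← pow_succ]

variable {Ω : Type*} [Group Ω] {S : Subgroup Ω} {p : ℕ} {K : Subgroup Ω}
variable [Finite S] [Fact p.Prime]

theorem Ctx.mul_pow_eq_one (c : Ctx S p K) (hp2 : p ≠ 2) {a b : Ω} (ha : a ∈ S) (hb : b ∈ S)
    (hap : a ^ p = 1) (hbp : b ^ p = 1) : (a * b) ^ p = 1 := by
  have hp : p.Prime := Fact.out
  set k := b * a * b⁻¹ * a⁻¹ with hk
  have hkK : k ∈ K := c.hcomm b hb a ha
  have hkZ := mem_Zc.1 (c.hKZ hkK)
  have hka : Commute k a := (hkZ.2 a ha).symm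
  have hkb : Commute k b := (hkZ.2 b hb).symm
  have hba : b * a = k * a * b := by rw [hk]; group
  have hkp : k ^ p = 1 := by
    have := pow_card_eq_one' (G := K) (x := ⟨k, hkK⟩)
    rw [c.hK] at this
    exact congrArg Subtype.val this
  have hdvd : p ∣ ∑ i ∈ Finset.range p, i := by
    have h1 : p ∣ (∑ i ∈ Finset.range p, i) * 2 := by
      rw [Finset.sum_range_id_mul_two]
      exact dvd_mul_right p _
    exact (Nat.Coprime.dvd_of_dvd_mul_right ((Nat.coprime_primes hp Nat.prime_two).2 hp2) h1)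
  obtain ⟨m, hm⟩ := hdvd
  rw [pow_mul_of_central hka hkb hba, hap, hbp, hm, pow_mul, hkp, one_pow, one_mul, one_mul]

/-- the elements of order dividing `p` -/
def Ctx.Epow (c : Ctx S p K) (hp2 : p ≠ 2) : Subgroup Ω where
  carrier := {s | s ∈ S ∧ s ^ p = 1}
  mul_mem' := fun ⟨ha, hap⟩ ⟨hb, hbp⟩ => ⟨S.mul_mem ha hb, c.mul_pow_eq_one hp2 ha hb hap hbp⟩
  one_mem' := ⟨S.one_mem, one_pow _⟩
  inv_mem' := fun ⟨ha, hap⟩ => ⟨S.inv_mem ha, by rw [inv_pow, hap, inv_one]⟩

theorem Ctx.mem_Epow (c : Ctx S p K) (hp2 : p ≠ 2) {s : Ω} :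
    s ∈ c.Epow hp2 ↔ s ∈ S ∧ s ^ p = 1 := Iff.rfl

/-- for `p` odd, `S` has exponent `p` -/
theorem odd_exponent (c : Ctx S p K) (hS : IsPGroup p S) (F : FusionSystem S)
    (hF : F.IsSaturated p) (hp2 : p ≠ 2) (hcore : F.core = ⊥) (hS1 : S ≠ ⊥) :
    ∀ s ∈ S, s ^ p = 1 := by
  obtain ⟨-, hess⟩ := odd_main c hS F hF hp2 hcore hS1
  obtain ⟨P₀, hP₀e⟩ := exists_essential hS F hF hcore hS1
  have hP₀ := c.abMax_of_isEssential hS F hF hP₀e
  have hES : c.Epow hp2 ≤ S := fun s hs => hs.1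
  by_contra hcon
  push_neg at hcon
  obtain ⟨s₀, hs₀, hs₀p⟩ := hcon
  have hEne : c.Epow hp2 ≠ S := by
    intro h
    have : s₀ ∈ c.Epow hp2 := by rw [h]; exact hs₀
    exact hs₀p this.2
  -- every essential subgroup equals `E`
  have hle : ∀ P, F.IsEssential p P → c.Epow hp2 ≤ P := by
    intro P hPe
    have hP := c.abMax_of_isEssential hS F hF hPe
    have hPE : P ≤ c.Epow hp2 := fun x hx => ⟨hP.le hx, hess P hPe x hx⟩
    by_contra hnot
    obtain ⟨s, hsE, hsP⟩ := SetLike.not_le_iff_exists.1 hnot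
    exact hEne (hP.eq_of_le_of_ne hPE hES ⟨s, hsE, hsP⟩)
  have hnormal : F.IsNormal (c.Epow hp2) := by
    apply isNormal_of_invariant hS F hF _ hES hle
    intro P hP α hα x hx
    have hPS : P ≤ S := by
      rcases hP with rfl | hP
      · exact le_rfl
      · exact hP.1.1
    refine ⟨hPS (α x).2, ?_⟩
    have h1 : x ^ p = 1 := Subtype.ext (by simpa using hx.2)
    have h2 : (α x) ^ p = 1 := by rw [← map_pow, h1, map_one]
    have := congrArg Subtype.val h2
    simpa using this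
  have hbot := eq_bot_of_isNormal F hcore hnormal
  have hP₀E : P₀ ≤ c.Epow hp2 := fun x hx => ⟨hP₀.le hx, hess P₀ hP₀e x hx⟩
  rw [hbot] at hP₀E
  -- `P₀` is nontrivial
  have hKP : K ≤ P₀ := c.hKZ.trans hP₀.zle
  have hKbot : K = ⊥ := eq_bot_iff.2 (hKP.trans hP₀E)
  have := c.hK
  rw [hKbot, Subgroup.card_bot] at this
  exact (Fact.out : p.Prime).one_lt.ne this

end Cfsg.Agent.Lib.Helper11.ESe
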