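import Cfsg.Agent.Lib.Helper11.ESg

/-!
The case `p = 2`: structure of `Aut_F(P)` for an essential `P` (helper11), for S5265.
-/
set_option autoImplicit false

namespace Cfsg.Agent.Lib.Helper11.ESe

open Subgroup Cfsg Cfsg.Agent.Lib.Helper11.ESa Cfsg.Agent.Lib.Helper29

variable {Ω : Type*} [Group Ω] {S : Subgroup Ω} {K : Subgroup Ω} [Finite S]

theorem closure_pair_le' {X : Type*} [Group X] {H : Subgroup X} {a b : X} (ha : a ∈ H)
    (hb : b ∈ H) : closure {a, b} ≤ H := by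
  rw [closure_le]
  rintro x (rfl | hx)
  · exact ha
  · rw [Set.mem_singleton_iff.1 hx]; exact hb

section general
variable {p : ℕ} [Fact p.Prime]

/-- an element of `S` commuting with a non-central element of `P` lies in `P` -/
theorem AbMax.mem_of_commute {P : Subgroup Ω} (hP : AbMax S p P) {u s : Ω} (hu : u ∈ P)
    (huZ : u ∉ Zc S) (hs : s ∈ S) (hsu : s * u = u * s) : s ∈ P := by
  by_contra hsP
  apply huZ
  have hH : S ⊓ centralizer {u} = S := by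
    apply hP.eq_of_le_of_ne
    · intro b hb
      refine Subgroup.mem_inf.2 ⟨hP.le hb, ?_⟩
      rw [mem_centralizer_iff]
      intro x hx
      rw [Set.mem_singleton_iff.1 hx]
      exact hP.comm u hu b hb
    · exact inf_le_left
    · refine ⟨s, Subgroup.mem_inf.2 ⟨hs, ?_⟩, hsP⟩
      rw [mem_centralizer_iff]
      intro x hx
      rw [Set.mem_singleton_iff.1 hx]
      exact hsu.symm
  refine mem_Zc.2 ⟨hP.le hu, fun g hg => ?_⟩
  have hg' : g ∈ S ⊓ centralizer {u} := by rw [hH]; exact hg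
  exact ((mem_centralizer_iff.1 (Subgroup.mem_inf.1 hg').2) u rfl).symm

theorem AbMax.eq_of_mem {P P' : Subgroup Ω} (hP : AbMax S p P) (hP' : AbMax S p P') {u : Ω}
    (hu : u ∈ P) (hu' : u ∈ P') (huZ : u ∉ Zc S) : P = P' := by
  apply le_antisymm
  · intro x hx
    exact hP'.mem_of_commute hu' huZ (hP.le hx) (hP.comm x hx u hu)
  · intro x hx
    exact hP.mem_of_commute hu huZ (hP'.le hx) (hP'.comm x hx u hu')

theorem isTv_ne_one {A : Type*} [CommGroup A] {μ : MulAut A} (h : IsTv p μ) : μ ≠ 1 := by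
  intro h1
  have h2 : (dlt μ).range = ⊥ := by
    rw [eq_bot_iff, h1]
    rintro _ ⟨a, rfl⟩
    rw [mem_bot, dlt_eq_one]
    rfl
  have := h.1
  rw [h2, Subgroup.card_bot] at this
  exact (Fact.out : p.Prime).one_lt.ne this

end general

variable [Fact (Nat.Prime 2)]

theorem AbMax.index_two {P : Subgroup Ω} (hP : AbMax S 2 P) : (P.subgroupOf S).index = 2 := by
  haveI : Finite P := finite_of_le hP.le
  have h1 := (P.subgroupOf S).index_mul_card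
  rw [Nat.card_congr (subgroupOfEquivOfLe hP.le).toEquiv, hP.card] at h1
  exact Nat.eq_of_mul_eq_mul_right Nat.card_pos h1

theorem AbMax.mul_mem_of_not_mem {P : Subgroup Ω} (hP : AbMax S 2 P) {s₁ s₂ : Ω} (h₁ : s₁ ∈ S)
    (h₂ : s₂ ∈ S) (h₁P : s₁ ∉ P) (h₂P : s₂ ∉ P) : s₁ * s₂ ∈ P := by
  have := (mul_mem_iff_of_index_two hP.index_two (a := (⟨s₁, h₁⟩ : S)) (b := ⟨s₂, h₂⟩)).2
    ⟨fun h => absurd (mem_subgroupOf.1 h) h₁P, fun h => absurd (mem_subgroupOf.1 h) h₂P⟩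
  exact mem_subgroupOf.1 this

theorem Ctx.zc_index_two (c : Ctx S 2 K) {P : Subgroup Ω} (hP : AbMax S 2 P) :
    ((Zc S).subgroupOf P).index = 2 := by
  haveI : Finite (Zc S) := finite_of_le (inf_le_left : Zc S ≤ S)
  have h1 := ((Zc S).subgroupOf P).index_mul_card
  rw [Nat.card_congr (subgroupOfEquivOfLe hP.zle).toEquiv, hP.card_eq c] at h1
  exact Nat.eq_of_mul_eq_mul_right Nat.card_pos h1

theorem Ctx.mul_mem_zc_of_not_mem (c : Ctx S 2 K) {P : Subgroup Ω} (hP : AbMax S 2 P) {x y : Ω}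
    (hx : x ∈ P) (hy : y ∈ P) (hxZ : x ∉ Zc S) (hyZ : y ∉ Zc S) : x * y ∈ Zc S := by
  have := (mul_mem_iff_of_index_two (c.zc_index_two hP) (a := (⟨x, hx⟩ : P)) (b := ⟨y, hy⟩)).2
    ⟨fun h => absurd (mem_subgroupOf.1 h) hxZ, fun h => absurd (mem_subgroupOf.1 h) hyZ⟩
  exact mem_subgroupOf.1 this

theorem Ctx.tau_eq_of_not_mem (c : Ctx S 2 K) {P : Subgroup Ω} (hP : AbMax S 2 P) {s₁ s₂ : Ω}
    (h₁ : s₁ ∈ S) (h₂ : s₂ ∈ S) (h₁P : s₁ ∉ P) (h₂P : s₂ ∉ P) :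
    c.tau hP s₁ h₁ = c.tau hP s₂ h₂ := by
  have h3 : s₁⁻¹ * s₂ ∈ P :=
    hP.mul_mem_of_not_mem (S.inv_mem h₁) h₂ (fun h => h₁P (by simpa using P.inv_mem h)) h₂P
  have e : c.tau hP s₂ h₂ = c.tau hP (s₁ * (s₁⁻¹ * s₂)) (S.mul_mem h₁ (hP.le h3)) := by
    congr 1
    group
  rw [e, c.tau_mul hP h₁ (hP.le h3), c.tau_eq_one hP (hP.le h3) h3, mul_one]

/-- two nontrivial `2`-elements of `Aut_F(P)` are equal or form a non-degenerate pair -/
theorem Ctx.pel_cases2 (c : Ctx S 2 K) (hS : IsPGroup 2 S) (F : FusionSystem S)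
    (hF : F.IsSaturated 2) {P : Subgroup Ω} (hP : AbMax S 2 P) (hPfn : F.IsFullyNormalized P)
    {μ ρ : MulAut ↥P} (hμ : μ ∈ F.autGroup P) (hρ : ρ ∈ F.autGroup P) {k l : ℕ}
    (hμk : μ ^ (2 ^ k) = 1) (hρl : ρ ^ (2 ^ l) = 1) (hμ1 : μ ≠ 1) (hρ1 : ρ ≠ 1) :
    μ = ρ ∨ @NDPair _ (abInst P hP.comm) 2 μ ρ := by
  letI := abInst P hP.comm
  haveI : Finite P := finite_of_le hP.le
  have hAp : IsPGroup 2 P := hS.to_le hP.le
  by_cases hpg : IsPGroup 2 (closure {μ, ρ})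
  · left
    obtain ⟨g, hg, hb⟩ := c.sylow_conj hS F hF hP hPfn _ (closure_pair_le' hμ hρ) hpg
    obtain ⟨s₁, hs₁, e₁⟩ := hb μ (subset_closure (Set.mem_insert _ _))
    obtain ⟨s₂, hs₂, e₂⟩ := hb ρ (subset_closure (Set.mem_insert_of_mem _ rfl))
    have hs₁P : s₁ ∉ P := by
      intro h
      apply hμ1
      rw [e₁, c.tau_eq_one hP hs₁ h, mul_one, mul_inv_cancel]
    have hs₂P : s₂ ∉ P := by
      intro h
      apply hρ1
      rw [e₂, c.tau_eq_one hP hs₂ h, mul_one, mul_inv_cancel]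
    rw [e₁, e₂, c.tau_eq_of_not_mem hP hs₁ hs₂ hs₁P hs₂P]
  · right
    exact ndPair_of_not_isPGroup hAp (c.isTv_of_pel hS F hF hP hPfn hμ hμk hμ1)
      (c.isTv_of_pel hS F hF hP hPfn hρ hρl hρ1) hpg

/-- the four `2`-elements of `Aut_F(P)` -/
theorem Ctx.tri (c : Ctx S 2 K) (hS : IsPGroup 2 S) (F : FusionSystem S)
    (hF : F.IsSaturated 2) {P : Subgroup Ω} (hP : AbMax S 2 P) (hPfn : F.IsFullyNormalized P)
    {y : Ω} (hy : y ∈ S) (hyP : y ∉ P) {σ : MulAut ↥P} (hσ : σ ∈ F.autGroup P)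
    (nd : @NDPair _ (abInst P hP.comm) 2 (c.tau hP y hy) σ)
    {ρ : MulAut ↥P} (hρ : ρ ∈ F.autGroup P) {l : ℕ} (hρl : ρ ^ (2 ^ l) = 1) :
    ρ = 1 ∨ ρ = c.tau hP y hy ∨ ρ = σ ∨ ρ = c.tau hP y hy * σ * (c.tau hP y hy)⁻¹ := by
  letI := abInst P hP.comm
  haveI : Finite P := finite_of_le hP.le
  by_cases hρ1 : ρ = 1
  · exact Or.inl hρ1
  right
  have hτmem : c.tau hP y hy ∈ F.autGroup P := autInducedBy_le_autGroup F hP.le (c.tau_mem hP y hy)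
  have hτ2 : (c.tau hP y hy) ^ (2 ^ 1) = 1 := by rw [pow_one]; exact nd.hτ.pow_p_eq_one
  have hσ2 : σ ^ (2 ^ 1) = 1 := by rw [pow_one]; exact nd.hσ.pow_p_eq_one
  have hτ1 : c.tau hP y hy ≠ 1 := isTv_ne_one nd.hτ
  have hσ1 : σ ≠ 1 := isTv_ne_one nd.hσ
  rcases c.pel_cases2 hS F hF hP hPfn hτmem hρ hτ2 hρl hτ1 hρ1 with h | hτρ
  · exact Or.inl h.symm
  right
  obtain ⟨z, z', w, fr⟩ := nd.exists_frame
  have hσ'mem : c.tau hP y hy * σ * (c.tau hP y hy)⁻¹ ∈ F.autGroup P :=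
    mul_mem (mul_mem hτmem hσ) (inv_mem hτmem)
  have hσ'2 : (c.tau hP y hy * σ * (c.tau hP y hy)⁻¹) ^ (2 ^ 1) = 1 := by
    rw [conj_pow, hσ2, mul_one, mul_inv_cancel]
  have hσ'1 : c.tau hP y hy * σ * (c.tau hP y hy)⁻¹ ≠ 1 := isTv_ne_one (nd.hσ.conj _)
  exact fr.two_cases hτρ (c.pel_cases2 hS F hF hP hPfn hσ hρ hσ2 hρl hσ1 hρ1)
    (c.pel_cases2 hS F hF hP hPfn hσ'mem hρ hσ'2 hρl hσ'1 hρ1)

/-- consequences: every `2`-element fixes `V_P` pointwise and has `[P, ρ] ≤ W_P` -/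
theorem Ctx.tri_fix (c : Ctx S 2 K) (hS : IsPGroup 2 S) (F : FusionSystem S)
    (hF : F.IsSaturated 2) {P : Subgroup Ω} (hP : AbMax S 2 P) (hPfn : F.IsFullyNormalized P)
    {y : Ω} (hy : y ∈ S) (hyP : y ∉ P) {σ : MulAut ↥P} (hσ : σ ∈ F.autGroup P)
    (nd : @NDPair _ (abInst P hP.comm) 2 (c.tau hP y hy) σ)
    {ρ : MulAut ↥P} (hρ : ρ ∈ F.autGroup P) {l : ℕ} (hρl : ρ ^ (2 ^ l) = 1) :
    (∀ v ∈ @fixg _ (abInst P hP.comm) (c.tau hP y hy) ⊓ @fixg _ (abInst P hP.comm) σ, ρ v = v) ∧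
      (@dlt _ (abInst P hP.comm) ρ).range ≤
        (@dlt _ (abInst P hP.comm) (c.tau hP y hy)).range ⊔ (@dlt _ (abInst P hP.comm) σ).range := by
  letI := abInst P hP.comm
  obtain ⟨z, z', w, fr⟩ := nd.exists_frame
  rcases c.tri hS F hF hP hPfn hy hyP hσ nd hρ hρl with rfl | rfl | h | h
  · refine ⟨fun v _ => rfl, ?_⟩
    rintro _ ⟨a, rfl⟩
    have : dlt (1 : MulAut ↥P) a = 1 := dlt_eq_one.2 rfl
    rw [this]
    exact one_mem _
  · exact ⟨fun v hv => mem_fixg.1 hv.1, le_sup_left⟩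
  · exact ⟨fun v hv => fr.fix_of_cases (Or.inl h) hv, fr.range_of_cases (Or.inl h)⟩
  · exact ⟨fun v hv => fr.fix_of_cases (Or.inr h) hv, fr.range_of_cases (Or.inr h)⟩

/-- `V_P` and `W_P` are invariant under `Aut_F(P)` -/
theorem Ctx.tri_invariant (c : Ctx S 2 K) (hS : IsPGroup 2 S) (F : FusionSystem S)
    (hF : F.IsSaturated 2) {P : Subgroup Ω} (hP : AbMax S 2 P) (hPfn : F.IsFullyNormalized P)
    {y : Ω} (hy : y ∈ S) (hyP : y ∉ P) {σ : MulAut ↥P} (hσ : σ ∈ F.autGroup P)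
    (nd : @NDPair _ (abInst P hP.comm) 2 (c.tau hP y hy) σ)
    {α : MulAut ↥P} (hα : α ∈ F.autGroup P) :
    (∀ v ∈ @fixg _ (abInst P hP.comm) (c.tau hP y hy) ⊓ @fixg _ (abInst P hP.comm) σ,
      α v ∈ @fixg _ (abInst P hP.comm) (c.tau hP y hy) ⊓ @fixg _ (abInst P hP.comm) σ) ∧
    (∀ w ∈ (@dlt _ (abInst P hP.comm) (c.tau hP y hy)).range ⊔ (@dlt _ (abInst P hP.comm) σ).range,
      α w ∈ (@dlt _ (abInst P hP.comm) (c.tau hP y hy)).range ⊔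
        (@dlt _ (abInst P hP.comm) σ).range) := by
  letI := abInst P hP.comm
  haveI : Finite P := finite_of_le hP.le
  have hτmem : c.tau hP y hy ∈ F.autGroup P := autInducedBy_le_autGroup F hP.le (c.tau_mem hP y hy)
  have hτ2 : (c.tau hP y hy) ^ 2 = 1 := nd.hτ.pow_p_eq_one
  have hσ2 : σ ^ 2 = 1 := nd.hσ.pow_p_eq_one
  constructor
  · intro v hv
    have key : ∀ μ ∈ F.autGroup P, μ ^ 2 = 1 → μ (α v) = α v := by
      intro μ hμ hμ2
      have h1 : (α⁻¹ * μ * α) ^ (2 ^ 1) = 1 := by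
        have : α⁻¹ * μ * α = α⁻¹ * μ * α⁻¹⁻¹ := by rw [inv_inv]
        rw [pow_one, this, conj_pow, hμ2, mul_one, mul_inv_cancel]
      have h2 := (c.tri_fix hS F hF hP hPfn hy hyP hσ nd
        (mul_mem (mul_mem (inv_mem hα) hμ) hα) h1).1 v hv
      rw [MulAut.mul_apply, MulAut.mul_apply, MulAut.inv_apply, MulEquiv.symm_apply_eq] at h2
      exact h2
    exact Subgroup.mem_inf.2 ⟨mem_fixg.2 (key _ hτmem hτ2), mem_fixg.2 (key _ hσ hσ2)⟩
  · have key : ∀ μ ∈ F.autGroup P, μ ^ 2 = 1 → ∀ d ∈ (dlt μ).range,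
        α d ∈ (dlt (c.tau hP y hy)).range ⊔ (dlt σ).range := by
      intro μ hμ hμ2 d hd
      obtain ⟨a, rfl⟩ := hd
      have h1 : (α * μ * α⁻¹) ^ (2 ^ 1) = 1 := by
        rw [pow_one, conj_pow, hμ2, mul_one, mul_inv_cancel]
      have h2 := (c.tri_fix hS F hF hP hPfn hy hyP hσ nd
        (mul_mem (mul_mem hα hμ) (inv_mem hα)) h1).2
      apply h2
      refine ⟨α a, ?_⟩
      rw [dlt_conj, MulAut.inv_apply_self]
    intro w hw
    have hmap : ((dlt (c.tau hP y hy)).range ⊔ (dlt σ).range).map α.toMonoidHom ≤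
        (dlt (c.tau hP y hy)).range ⊔ (dlt σ).range := by
      rw [Subgroup.map_sup]
      apply sup_le
      · rintro _ ⟨d, hd, rfl⟩
        exact key _ hτmem hτ2 d hd
      · rintro _ ⟨d, hd, rfl⟩
        exact key _ hσ hσ2 d hd
    exact hmap ⟨w, hw, rfl⟩

end Cfsg.Agent.Lib.Helper11.ESe
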