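import Cfsg.Agent.Lib.Helper11.ESl
import Cfsg.Agent.Lib.Helper11.ESi

/-!
The case `p = 2`: the data attached to an essential subgroup, in the ambient group (helper11), for S5265.
-/
set_option autoImplicit false

namespace Cfsg.Agent.Lib.Helper11.ESe

open Subgroup Cfsg Cfsg.Agent.Lib.Helper11.ESa Cfsg.Agent.Lib.Helper29

variable {Ω : Type*} [Group Ω] {S : Subgroup Ω} {K : Subgroup Ω} [Finite S]
variable [Fact (Nat.Prime 2)]

/-- the data attached to an essential subgroup `P` for `p = 2` -/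
structure EData (c : Ctx S 2 K) (F : FusionSystem S) (P : Subgroup Ω) (hP : AbMax S 2 P)
    (V W : Subgroup Ω) (b y : Ω) (hy : y ∈ S) : Prop where
  hVZ : V ≤ Zc S
  hVK : V ⊓ K = ⊥
  hZdec : ∀ x ∈ Zc S, ∃ v ∈ V, ∃ k ∈ K, x = v * k
  hKW : K ≤ W
  hWP : W ≤ P
  hbW : b ∈ W
  hbZ : b ∉ Zc S
  hbb : b * b = 1
  hWdec : ∀ w ∈ W, w ∈ K ∨ ∃ k ∈ K, w = b * k
  hPdec : ∀ x ∈ P, ∃ v ∈ V, ∃ w ∈ W, x = v * w
  hinv : ∀ α ∈ F.autGroup P, ∀ x : P, ((x : Ω) ∈ V → ((α x : P) : Ω) ∈ V) ∧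
    ((x : Ω) ∈ W → ((α x : P) : Ω) ∈ W)
  hyP : y ∉ P
  hfrat : ∀ α ∈ F.autGroup P, ∃ ν ∈ F.autGroup P, (∀ x : P, (x : Ω) ∈ V → ν x = x) ∧
    (ν * α) * c.tau hP y hy * (ν * α)⁻¹ = c.tau hP y hy
  hbot : V = ⊥ → Zc S = K

theorem Ctx.exists_edata (c : Ctx S 2 K) (hS : IsPGroup 2 S) (F : FusionSystem S)
    (hF : F.IsSaturated 2) {P : Subgroup Ω} (hPe : F.IsEssential 2 P) (hP : AbMax S 2 P) :
    ∃ (V W : Subgroup Ω) (b y : Ω) (hy : y ∈ S), EData c F P hP V W b y hy := by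
  letI := abInst P hP.comm
  haveI : Finite P := finite_of_le hP.le
  have hPfn := hPe.2.1
  obtain ⟨y, hy, hyP, σ, hσ, nd⟩ := c.exists_partner hS F hF hPe hP
  obtain ⟨z, z', w, fr⟩ := nd.exists_frame
  have hrange := c.range_tau hP hy hyP
  have hfixg := c.fixg_tau hP hy hyP
  have hτmem : c.tau hP y hy ∈ F.autGroup P := autInducedBy_le_autGroup F hP.le (c.tau_mem hP y hy)
  set V' : Subgroup ↥P := fixg (c.tau hP y hy) ⊓ fixg σ with hV'
  set W' : Subgroup ↥P := (dlt (c.tau hP y hy)).range ⊔ (dlt σ).range with hW'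
  have memV : ∀ x : P, (x : Ω) ∈ V'.map P.subtype ↔ x ∈ V' := by
    intro x
    constructor
    · rintro ⟨x', hx', h⟩
      have : x' = x := Subtype.ext h
      exact this ▸ hx'
    · exact fun h => ⟨x, h, rfl⟩
  have memW : ∀ x : P, (x : Ω) ∈ W'.map P.subtype ↔ x ∈ W' := by
    intro x
    constructor
    · rintro ⟨x', hx', h⟩
      have : x' = x := Subtype.ext h
      exact this ▸ hx'
    · exact fun h => ⟨x, h, rfl⟩
  have memK : ∀ x : P, (x : Ω) ∈ K ↔ x ∈ (dlt (c.tau hP y hy)).range := by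
    intro x
    rw [hrange, mem_subgroupOf]
  have memZ : ∀ x : P, (x : Ω) ∈ Zc S ↔ x ∈ fixg (c.tau hP y hy) := by
    intro x
    rw [hfixg, mem_subgroupOf]
  refine ⟨V'.map P.subtype, W'.map P.subtype, (z' : Ω), y, hy, ?_⟩
  refine
    { hVZ := ?_, hVK := ?_, hZdec := ?_, hKW := ?_, hWP := ?_, hbW := ?_, hbZ := ?_, hbb := ?_,
      hWdec := ?_, hPdec := ?_, hinv := ?_, hyP := hyP, hfrat := ?_, hbot := ?_ }
  · rintro _ ⟨v, hv, rfl⟩
    exact (memZ v).2 hv.1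
  · rw [eq_bot_iff]
    rintro _ ⟨⟨v, hv, rfl⟩, hk⟩
    have h1 : v ∈ (dlt (c.tau hP y hy)).range ⊓ fixg σ :=
      Subgroup.mem_inf.2 ⟨(memK v).1 hk, hv.2⟩
    rw [fr.range_inf_fixg, mem_bot] at h1
    rw [mem_bot, h1]
    rfl
  · intro x hx
    have hxP : x ∈ P := hP.zle hx
    obtain ⟨v, hv, i, hi⟩ := fr.decomp_fix ((memZ ⟨x, hxP⟩).1 hx)
    refine ⟨v, (memV v).2 hv, ((z ^ i : P) : Ω), (memK _).2 (zpow_mem fr.hz i), ?_⟩
    have := congrArg Subtype.val hi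
    simpa using this
  · intro k hk
    have hkP : k ∈ P := hP.zle (c.hKZ hk)
    exact (memW ⟨k, hkP⟩).2 (mem_sup_left ((memK ⟨k, hkP⟩).1 hk))
  · rintro _ ⟨x, _, rfl⟩
    exact x.2
  · exact (memW z').2 (mem_sup_right fr.hz'mem)
  · intro h
    have := (memZ z').1 h
    apply fr.hw1
    rw [fr.hw]
    exact dlt_eq_one.2 (mem_fixg.1 this)
  · have := fr.z'_sq
    rw [pow_two] at this
    have h2 := congrArg Subtype.val this
    simpa using h2
  · rintro _ ⟨x, hx, rfl⟩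
    obtain ⟨d, hd, d', hd', rfl⟩ := Subgroup.mem_sup.1 hx
    rcases eq_one_or_eq_of_card_two fr.hσ.1 fr.hz'mem fr.hz'1 hd' with rfl | rfl
    · left
      rw [mul_one]
      exact (memK d).2 hd
    · right
      refine ⟨(d : Ω), (memK d).2 hd, ?_⟩
      have : d * d' = d' * d := mul_comm d d'
      have h2 := congrArg Subtype.val this
      simpa using h2
  · intro x hx
    obtain ⟨v, hv, i, j, hij⟩ := fr.decomp ⟨x, hx⟩
    refine ⟨v, (memV v).2 hv, ((z ^ i * z' ^ j : P) : Ω), (memW _).2 ?_, ?_⟩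
    · exact mul_mem (mem_sup_left (zpow_mem fr.hz i)) (mem_sup_right (zpow_mem fr.hz'mem j))
    · have := congrArg Subtype.val hij
      rw [mul_assoc] at this
      simpa using this
  · intro α hα x
    have h := c.tri_invariant hS F hF hP hPfn hy hyP hσ nd hα
    exact ⟨fun hx => (memV _).2 (h.1 x ((memV x).1 hx)), fun hx => (memW _).2 (h.2 x ((memW x).1 hx))⟩
  · intro α hα
    have hρmem : α * c.tau hP y hy * α⁻¹ ∈ F.autGroup P := mul_mem (mul_mem hα hτmem) (inv_mem hα)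
    have hρ2 : (α * c.tau hP y hy * α⁻¹) ^ (2 ^ 1) = 1 := by
      rw [pow_one, conj_pow, nd.hτ.pow_p_eq_one, mul_one, mul_inv_cancel]
    have hρ1 : α * c.tau hP y hy * α⁻¹ ≠ 1 := isTv_ne_one (nd.hτ.conj α)
    have hcl : closure {c.tau hP y hy, σ} ≤ F.autGroup P := closure_pair_le' hτmem hσ
    have hcases : α * c.tau hP y hy * α⁻¹ = c.tau hP y hy ∨
        ∃ ν ∈ closure {c.tau hP y hy, σ}, ν * (α * c.tau hP y hy * α⁻¹) * ν⁻¹ = c.tau hP y hy := by
      rcases c.tri hS F hF hP hPfn hy hyP hσ nd hρmem hρ2 with h | h | h | h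
      · exact absurd h hρ1
      · exact Or.inl h
      · exact Or.inr (fr.exists_conj (Or.inl h))
      · exact Or.inr (fr.exists_conj (Or.inr h))
    rcases hcases with h | ⟨ν, hν, h⟩
    · refine ⟨1, one_mem _, fun x _ => rfl, ?_⟩
      rw [one_mul]
      exact h
    · refine ⟨ν, hcl hν, fun x hx => fix_of_mem_closure hν ((memV x).1 hx), ?_⟩
      calc (ν * α) * c.tau hP y hy * (ν * α)⁻¹ = ν * (α * c.tau hP y hy * α⁻¹) * ν⁻¹ := by group
        _ = c.tau hP y hy := h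
  · intro hVbot
    have h1 : V' = ⊥ := (Subgroup.map_eq_bot_iff_of_injective V' P.subtype_injective).1 hVbot
    exact (c.of_fix_eq_bot hP hy hyP nd h1).1

end Cfsg.Agent.Lib.Helper11.ESe
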