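import Cfsg.Agent.Lib.Helper11.ESm
import Cfsg.Agent.Lib.Helper11.ESh

/-!
The case `p = 2`: three involutions, stabilizers, restriction (helper11), for S5265.
-/
set_option autoImplicit false

namespace Cfsg.Agent.Lib.Helper11.ESe

open Subgroup Cfsg Cfsg.Agent.Lib.Helper11.ESa Cfsg.Agent.Lib.Helper29

variable {Ω : Type*} [Group Ω] {S : Subgroup Ω} {K : Subgroup Ω}

theorem card_two_cases {G : Type*} [Group G] {H : Subgroup G} (hH : Nat.card H = 2) {x d : G}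
    (hx : x ∈ H) (hx1 : x ≠ 1) (hd : d ∈ H) : d = 1 ∨ d = x := by
  haveI : Fact (Nat.Prime 2) := ⟨Nat.prime_two⟩
  have h1 : zpowers (⟨x, hx⟩ : H) = ⊤ :=
    zpowers_eq_top_of_prime_card hH (fun h => hx1 (congrArg Subtype.val h))
  have h2 : (⟨d, hd⟩ : H) ∈ zpowers (⟨x, hx⟩ : H) := h1 ▸ mem_top _
  obtain ⟨k, hk⟩ := mem_zpowers_iff.1 h2
  have hk' : x ^ k = d := by simpa using congrArg Subtype.val hk
  have hx2 : x ^ 2 = 1 := by
    have := pow_card_eq_one' (G := H) (x := ⟨x, hx⟩)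
    rw [hH] at this
    exact congrArg Subtype.val this
  rcases Int.emod_two_eq_zero_or_one k with hk2 | hk2
  · left
    obtain ⟨m, rfl⟩ : (2 : ℤ) ∣ k := Int.dvd_of_emod_eq_zero hk2
    rw [← hk', zpow_mul, zpow_ofNat, hx2, one_zpow]
  · right
    have : k = 2 * (k / 2) + 1 := by omega
    rw [← hk', this, zpow_add, zpow_mul, zpow_ofNat, hx2, one_zpow, one_mul, zpow_one]

theorem card_two_sq {G : Type*} [Group G] {H : Subgroup G} (hH : Nat.card H = 2) {x : G}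
    (hx : x ∈ H) : x * x = 1 := by
  have := pow_card_eq_one' (G := H) (x := ⟨x, hx⟩)
  rw [hH, pow_two] at this
  exact congrArg Subtype.val this

variable [Finite S] [Fact (Nat.Prime 2)]

/-- the nontrivial element of `K` is not a square in `Z(S)` -/
theorem EData.not_square {c : Ctx S 2 K} {F : FusionSystem S} {P : Subgroup Ω} {hP : AbMax S 2 P}
    {V W : Subgroup Ω} {b y : Ω} {hy : y ∈ S} (d : EData c F P hP V W b y hy)
    {ζ : Ω} (hζ : ζ ∈ Zc S) (hζK : ζ * ζ ∈ K) : ζ * ζ = 1 := by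
  obtain ⟨v, hv, k, hk, rfl⟩ := d.hZdec ζ hζ
  have hkZ := mem_Zc.1 (c.hKZ hk)
  have hvS : v ∈ S := (d.hVZ hv).1
  have hkk : k * k = 1 := card_two_sq c.hK hk
  have e : v * k * (v * k) = v * v := by
    calc v * k * (v * k) = v * (k * v) * k := by simp only [mul_assoc]
      _ = v * (v * k) * k := by rw [← hkZ.2 v hvS]
      _ = v * v * (k * k) := by simp only [mul_assoc]
      _ = v * v := by rw [hkk, mul_one]
  rw [e] at hζK ⊢
  have : v * v ∈ V ⊓ K := Subgroup.mem_inf.2 ⟨V.mul_mem hv hv, hζK⟩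
  rw [d.hVK, mem_bot] at this
  exact this

/-- no three pairwise "independent" involutions -/
theorem Ctx.three (c : Ctx S 2 K) (hns : ∀ ζ ∈ Zc S, ζ * ζ ∈ K → ζ * ζ = 1)
    {P : Subgroup Ω} (hP : AbMax S 2 P) {b b₁ b₂ : Ω} (hb : b ∈ P) (hbZ : b ∉ Zc S)
    (hbb : b * b = 1) (h₁ : b₁ ∈ S) (h₂ : b₂ ∈ S) (h₁P : b₁ ∉ P) (h₂P : b₂ ∉ P)
    (h₁₁ : b₁ * b₁ = 1) (h₂₂ : b₂ * b₂ = 1) (hnc : b₁ * b₂ ≠ b₂ * b₁) : False := by
  have hβP : b₁ * b₂ ∈ P := hP.mul_mem_of_not_mem h₁ h₂ h₁P h₂P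
  have hβZ : b₁ * b₂ ∉ Zc S := by
    intro h
    apply hnc
    have h1 := (mem_Zc.1 h).2 b₁ h₁
    -- b₁ * (b₁ * b₂) = (b₁ * b₂) * b₁
    calc b₁ * b₂ = b₁ * (b₁ * (b₁ * b₂)) := by rw [← mul_assoc b₁ b₁, h₁₁, one_mul]
      _ = b₁ * (b₁ * b₂ * b₁) := by rw [h1]
      _ = (b₁ * b₁) * b₂ * b₁ := by simp only [mul_assoc]
      _ = b₂ * b₁ := by rw [h₁₁, one_mul]
  have hζ : b * (b₁ * b₂) ∈ Zc S := c.mul_mem_zc_of_not_mem hP hb hβP hbZ hβZ
  set ζ := b * (b₁ * b₂) with hζdef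
  have hb₂eq : b₂ = b₁ * (b * ζ) := by
    rw [hζdef, ← mul_assoc b b, hbb, one_mul, ← mul_assoc, h₁₁, one_mul]
  have hc1 : ζ * b₁ = b₁ * ζ := ((mem_Zc.1 hζ).2 b₁ h₁).symm
  have hc2 : ζ * b = b * ζ := ((mem_Zc.1 hζ).2 b (hP.le hb)).symm
  have e : b₂ * b₂ = (b₁ * b * b₁ * b) * (ζ * ζ) := by
    calc b₂ * b₂ = b₁ * (b * ζ) * (b₁ * (b * ζ)) := by rw [← hb₂eq]
      _ = b₁ * b * (ζ * b₁) * b * ζ := by simp only [mul_assoc]
      _ = b₁ * b * (b₁ * ζ) * b * ζ := by rw [hc1]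
      _ = b₁ * b * b₁ * (ζ * b) * ζ := by simp only [mul_assoc]
      _ = b₁ * b * b₁ * (b * ζ) * ζ := by rw [hc2]
      _ = (b₁ * b * b₁ * b) * (ζ * ζ) := by simp only [mul_assoc]
  rw [h₂₂] at e
  have hb₁inv : b₁⁻¹ = b₁ := inv_eq_of_mul_eq_one_left h₁₁
  have hbinv : b⁻¹ = b := inv_eq_of_mul_eq_one_left hbb
  have hkK : b₁ * b * b₁ * b ∈ K := by
    have := c.hcomm b₁ h₁ b (hP.le hb)
    rwa [hb₁inv, hbinv] at this
  have hk1 : b₁ * b * b₁ * b ≠ 1 := by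
    intro h
    apply h₁P
    apply hP.mem_of_commute hb hbZ h₁
    calc b₁ * b = (b₁ * b * b₁ * b) * b * b₁ := by
          rw [mul_assoc (b₁ * b * b₁), hbb, mul_one, mul_assoc (b₁ * b), h₁₁, mul_one]
      _ = b * b₁ := by rw [h, one_mul]
  have hζζ : ζ * ζ = (b₁ * b * b₁ * b)⁻¹ := eq_inv_of_mul_eq_one_right e.symm
  have h1 := hns ζ hζ (hζζ ▸ K.inv_mem hkK)
  rw [h1] at e
  exact hk1 (by rw [mul_one] at e; exact e.symm)

/-- the stabilizer of `P` in `Aut(S)` -/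
def stabSub (S P : Subgroup Ω) : Subgroup (MulAut ↥S) where
  carrier := {β | ∀ x : S, (x : Ω) ∈ P ↔ ((β x : S) : Ω) ∈ P}
  mul_mem' := by
    intro α β hα hβ x
    rw [MulAut.mul_apply, ← hα, ← hβ]
  one_mem' := fun x => Iff.rfl
  inv_mem' := by
    intro α hα x
    have := hα (α⁻¹ x)
    rw [MulAut.apply_inv_self] at this
    exact this.symm

omit [Finite S] [Fact (Nat.Prime 2)] in
theorem mem_stabSub {P : Subgroup Ω} {β : MulAut ↥S} :
    β ∈ stabSub S P ↔ ∀ x : S, (x : Ω) ∈ P ↔ ((β x : S) : Ω) ∈ P := Iff.rfl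

theorem mem_stabSub_of {p : ℕ} [Fact p.Prime] {P : Subgroup Ω} (hP : AbMax S p P) {b : S}
    (hb : (b : Ω) ∈ P) (hbZ : (b : Ω) ∉ Zc S) {β : MulAut ↥S} (hβb : ((β b : S) : Ω) ∈ P) :
    β ∈ stabSub S P := by
  have hβbZ : ((β b : S) : Ω) ∉ Zc S := by
    intro h
    have := char_Zc β⁻¹ h
    rw [MulAut.inv_apply_self] at this
    exact hbZ this
  intro x
  constructor
  · intro hx
    apply hP.mem_of_commute hβb hβbZ (β x).2
    have h1 : x * b = b * x := Subtype.ext (hP.comm x hx b hb)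
    have h2 := congrArg β h1
    rw [map_mul, map_mul] at h2
    exact congrArg Subtype.val h2
  · intro hx
    apply hP.mem_of_commute hb hbZ x.2
    have h1 : β x * β b = β b * β x := Subtype.ext (hP.comm _ hx _ hβb)
    rw [← map_mul, ← map_mul] at h1
    exact congrArg Subtype.val (β.injective h1)

/-- every `F`-automorphism of `S` preserves an essential subgroup (`p = 2`) -/
theorem Ctx.gamma_preserves (c : Ctx S 2 K) (hS : IsPGroup 2 S) (F : FusionSystem S)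
    (hF : F.IsSaturated 2) (hns : ∀ ζ ∈ Zc S, ζ * ζ ∈ K → ζ * ζ = 1)
    {P : Subgroup Ω} (hP : AbMax S 2 P) {b : Ω} (hb : b ∈ P) (hbZ : b ∉ Zc S) (hbb : b * b = 1)
    {γ : MulAut ↥S} (hγ : γ ∈ F.autGroup S) : γ ∈ stabSub S P := by
  set b₀ : S := ⟨b, hP.le hb⟩ with hb₀
  have hb₀b₀ : b₀ * b₀ = 1 := Subtype.ext hbb
  by_contra hcon
  have h₁P : ((γ b₀ : S) : Ω) ∉ P := fun h => hcon (mem_stabSub_of hP (b := b₀) hb hbZ h)
  have h₁₁ : ((γ b₀ : S) : Ω) * ((γ b₀ : S) : Ω) = 1 := by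
    have : γ b₀ * γ b₀ = 1 := by rw [← map_mul, hb₀b₀, map_one]
    exact congrArg Subtype.val this
  have h₂₂ : ((γ (γ b₀) : S) : Ω) * ((γ (γ b₀) : S) : Ω) = 1 := by
    have : γ (γ b₀) * γ (γ b₀) = 1 := by rw [← map_mul, ← map_mul, hb₀b₀, map_one, map_one]
    exact congrArg Subtype.val this
  by_cases h₂P : ((γ (γ b₀) : S) : Ω) ∈ P
  · -- γ² and an odd power of γ preserve P
    have hsq : γ ^ 2 ∈ stabSub S P := by
      apply mem_stabSub_of hP (b := b₀) hb hbZ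
      rw [pow_two, MulAut.mul_apply]
      exact h₂P
    obtain ⟨m, hm, hinn⟩ := exists_pow_mem_inn hS F hF hγ
    have hodd : γ ^ m ∈ stabSub S P := by
      apply mem_stabSub_of hP (b := b₀) hb hbZ
      obtain ⟨h, hh⟩ := hinn
      rw [← hh]
      show (h : Ω) * b * (h : Ω)⁻¹ ∈ P
      exact c.conj_mem hP h.2 hb
    have hcop : IsCoprime (2 : ℤ) (m : ℤ) := by
      have := Nat.isCoprime_iff_coprime.2 ((Nat.Prime.coprime_iff_not_dvd Nat.prime_two).2 hm)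
      simpa using this
    obtain ⟨a, b', hab⟩ := hcop
    have e : γ = (γ ^ 2) ^ a * (γ ^ m) ^ b' := by
      rw [← zpow_natCast, ← zpow_natCast, ← zpow_mul, ← zpow_mul, ← zpow_add]
      have : ((2 : ℕ) : ℤ) * a + (m : ℤ) * b' = 1 := by push_cast; linarith
      rw [this, zpow_one]
    apply hcon
    rw [e]
    exact mul_mem (zpow_mem hsq a) (zpow_mem hodd b')
  · apply c.three hns hP hb hbZ hbb (γ b₀).2 (γ (γ b₀)).2 h₁P h₂P h₁₁ h₂₂
    intro hcomm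
    apply h₁P
    apply hP.mem_of_commute hb hbZ (γ b₀).2
    have h1 : γ b₀ * γ (γ b₀) = γ (γ b₀) * γ b₀ := Subtype.ext hcomm
    rw [← map_mul, ← map_mul] at h1
    have h2 := γ.injective h1
    exact (congrArg Subtype.val h2).symm

/-- restriction of an automorphism of `S` preserving `P` -/
theorem exists_restrict (F : FusionSystem S) {P : Subgroup Ω} (hPS : P ≤ S) {γ : MulAut ↥S}
    (hγ : γ ∈ F.autGroup S) (hst : γ ∈ stabSub S P) :
    ∃ α ∈ F.autGroup P, ∀ x : P, ((α x : P) : Ω) = ((γ ⟨x, hPS x.2⟩ : S) : Ω) := by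
  haveI : Finite P := finite_of_le hPS
  have hφ := restrict_mem F hPS ((mem_autGroup_iff F le_rfl).1 hγ)
  have hP : ∀ x : P, ((S.subtype.comp γ.toMonoidHom).comp (Subgroup.inclusion hPS)) x ∈ P := by
    intro x
    exact (hst ⟨x, hPS x.2⟩).1 x.2
  obtain ⟨α, hα, hαφ⟩ := exists_aut_of_hom F hφ hP
  exact ⟨α, hα, fun x => hαφ x⟩

end Cfsg.Agent.Lib.Helper11.ESe
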