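import Cfsg.Agent.Lib.Helper11.ESn

/-!
The case `p = 2`: invariance lemmas and the hyperfocal bound (helper11), for S5265.
-/
set_option autoImplicit false

namespace Cfsg.Agent.Lib.Helper11.ESe

open Subgroup Cfsg Cfsg.Agent.Lib.Helper11.ESa Cfsg.Agent.Lib.Helper29
open scoped commutatorElement

variable {Ω : Type*} [Group Ω] {S : Subgroup Ω} {K : Subgroup Ω} [Finite S]
variable [Fact (Nat.Prime 2)]

section
variable {c : Ctx S 2 K} {F : FusionSystem S} {P : Subgroup Ω} {hP : AbMax S 2 P}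
  {V W : Subgroup Ω} {b y : Ω} {hy : y ∈ S}

theorem EData.hVP (d : EData c F P hP V W b y hy) : V ≤ P := d.hVZ.trans hP.zle

/-- `F`-automorphisms of `S` preserving `P` preserve `V` and `W` -/
theorem EData.gamma_inv (d : EData c F P hP V W b y hy) {γ : MulAut ↥S} (hγ : γ ∈ F.autGroup S)
    (hst : γ ∈ stabSub S P) (x : S) :
    ((x : Ω) ∈ V → ((γ x : S) : Ω) ∈ V) ∧ ((x : Ω) ∈ W → ((γ x : S) : Ω) ∈ W) := by
  obtain ⟨α, hα, hαγ⟩ := exists_restrict F hP.le hγ hst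
  constructor
  · intro hx
    have := (d.hinv α hα ⟨x, d.hVP hx⟩).1 hx
    rw [hαγ] at this
    exact this
  · intro hx
    have := (d.hinv α hα ⟨x, d.hWP hx⟩).2 hx
    rw [hαγ] at this
    exact this

/-- a `Γ`-invariant subgroup of `V` is `Aut_F(P)`-invariant -/
theorem EData.aut_inv (d : EData c F P hP V W b y hy) (hS : IsPGroup 2 S) (hF : F.IsSaturated 2)
    (hPfn : F.IsFullyNormalized P) {Q : Subgroup Ω} (hQV : Q ≤ V)
    (hΓ : ∀ γ ∈ F.autGroup S, ∀ x : S, (x : Ω) ∈ Q → ((γ x : S) : Ω) ∈ Q)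
    {α : MulAut ↥P} (hα : α ∈ F.autGroup P) (x : P) (hx : (x : Ω) ∈ Q) : ((α x : P) : Ω) ∈ Q := by
  obtain ⟨ν, hν, hνfix, hconj⟩ := d.hfrat α hα
  have hc : (ν * α) * c.tau hP y hy * (ν * α)⁻¹ ∈ autInducedBy S P := by
    rw [hconj]
    exact c.tau_mem hP y hy
  obtain ⟨γ, hγ, hγe⟩ := c.exists_extension hS F hF hP hPfn hy d.hyP (mul_mem hν hα) hc
  have h1 := hΓ γ hγ ⟨x, hP.le x.2⟩ hx
  rw [hγe x x.2] at h1
  have h2 : ((ν * α) x : P) = ν (α x) := rfl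
  have h3 : ν ((ν * α) x) = (ν * α) x := hνfix _ (hQV h1)
  have h4 : ν (α x) = α x := by
    rw [h2] at h3
    exact ν.injective h3
  rw [h2, h4] at h1
  exact h1

theorem EData.card_Z (d : EData c F P hP V W b y hy) : Nat.card (Zc S) = Nat.card V * 2 := by
  rw [← c.hK, ← Nat.card_prod]
  symm
  apply Nat.card_congr
  refine Equiv.ofBijective (fun vk : V × K => (⟨vk.1 * vk.2, (Zc S).mul_mem (d.hVZ vk.1.2)
    (c.hKZ vk.2.2)⟩ : Zc S)) ⟨?_, ?_⟩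
  · rintro ⟨⟨v, hv⟩, ⟨k, hk⟩⟩ ⟨⟨v', hv'⟩, ⟨k', hk'⟩⟩ h
    have h1 : v * k = v' * k' := congrArg Subtype.val h
    have h2 : v'⁻¹ * v = k' * k⁻¹ := by
      calc v'⁻¹ * v = v'⁻¹ * (v * k) * k⁻¹ := by group
        _ = v'⁻¹ * (v' * k') * k⁻¹ := by rw [h1]
        _ = k' * k⁻¹ := by group
    have h3 : v'⁻¹ * v ∈ V ⊓ K :=
      Subgroup.mem_inf.2 ⟨V.mul_mem (V.inv_mem hv') hv, h2 ▸ K.mul_mem hk' (K.inv_mem hk)⟩
    rw [d.hVK, mem_bot] at h3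
    have hv : v = v' := by
      have := inv_mul_eq_one.1 h3
      exact this.symm
    subst hv
    have hk : k = k' := mul_left_cancel h1
    subst hk
    rfl
  · rintro ⟨x, hx⟩
    obtain ⟨v, hv, k, hk, rfl⟩ := d.hZdec x hx
    exact ⟨⟨⟨v, hv⟩, ⟨k, hk⟩⟩, rfl⟩

/-- `Aut_F(P)` acts trivially on `P` modulo `W` when `|V| = 2` -/
theorem EData.aut_mod (d : EData c F P hP V W b y hy) (hV : Nat.card V = 2)
    {α : MulAut ↥P} (hα : α ∈ F.autGroup P) (x : P) : (x : Ω)⁻¹ * ((α x : P) : Ω) ∈ W := by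
  obtain ⟨v, hv, w, hw, hxvw⟩ := d.hPdec x x.2
  have hvP : v ∈ P := d.hVP hv
  have hwP : w ∈ P := d.hWP hw
  have hx' : x = (⟨v, hvP⟩ : P) * ⟨w, hwP⟩ := Subtype.ext hxvw
  have hαv : ((α ⟨v, hvP⟩ : P) : Ω) = v := by
    by_cases hv1 : v = 1
    · have : (⟨v, hvP⟩ : P) = 1 := Subtype.ext hv1
      rw [this, map_one, hv1]
      rfl
    · have h1 := (d.hinv α hα ⟨v, hvP⟩).1 hv
      rcases card_two_cases hV hv hv1 h1 with h | h
      · exfalso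
        have : α ⟨v, hvP⟩ = 1 := Subtype.ext h
        rw [map_eq_one_iff α α.injective] at this
        exact hv1 (congrArg Subtype.val this)
      · exact h
  have hαw := (d.hinv α hα ⟨w, hwP⟩).2 hw
  have e : (x : Ω)⁻¹ * ((α x : P) : Ω) = w⁻¹ * ((α ⟨w, hwP⟩ : P) : Ω) := by
    rw [hx', map_mul, Subgroup.coe_mul, Subgroup.coe_mul, hαv]
    show (v * w)⁻¹ * (v * _) = _
    group
  rw [e]
  exact W.mul_mem (W.inv_mem hw) hαw

end

/-- the hyperfocal subgroup lies in any subgroup containing `K`, `b₁`, `b₂` when `|V₁| = |V₂| = 2` -/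
theorem Ctx.hyp_le_of_two (c : Ctx S 2 K) (hS : IsPGroup 2 S) (F : FusionSystem S)
    (hF : F.IsSaturated 2) {P₁ P₂ : Subgroup Ω} {hP₁ : AbMax S 2 P₁} {hP₂ : AbMax S 2 P₂}
    {V₁ W₁ V₂ W₂ : Subgroup Ω} {b₁ y₁ b₂ y₂ : Ω} {hy₁ : y₁ ∈ S} {hy₂ : y₂ ∈ S}
    (d₁ : EData c F P₁ hP₁ V₁ W₁ b₁ y₁ hy₁) (d₂ : EData c F P₂ hP₂ V₂ W₂ b₂ y₂ hy₂)
    (hV₁ : Nat.card V₁ = 2) (hV₂ : Nat.card V₂ = 2)
    (pres₁ : ∀ γ ∈ F.autGroup S, γ ∈ stabSub S P₁) (pres₂ : ∀ γ ∈ F.autGroup S, γ ∈ stabSub S P₂)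
    (honly : ∀ P, F.IsEssential 2 P → P = P₁ ∨ P = P₂) (hb₂P₁ : b₂ ∉ P₁)
    (N : Subgroup Ω) (hNS : N ≤ S) (hKN : K ≤ N) (hb₁N : b₁ ∈ N) (hb₂N : b₂ ∈ N) :
    F.hyperfocalSubgroup 2 ≤ N := by
  have hW₁N : W₁ ≤ N := by
    intro w hw
    rcases d₁.hWdec w hw with h | ⟨k, hk, rfl⟩
    · exact hKN h
    · exact N.mul_mem hb₁N (hKN hk)
  have hW₂N : W₂ ≤ N := by
    intro w hw
    rcases d₂.hWdec w hw with h | ⟨k, hk, rfl⟩
    · exact hKN h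
    · exact N.mul_mem hb₂N (hKN hk)
  have hnormal : ∀ t ∈ S, ∀ n ∈ N, t * n * t⁻¹ ∈ N := by
    intro t ht n hn
    have : t * n * t⁻¹ = (t * n * t⁻¹ * n⁻¹) * n := by group
    rw [this]
    exact N.mul_mem (hKN (c.hcomm t ht n (hNS hn))) hn
  have hb₂S : b₂ ∈ S := hP₂.le (d₂.hWP d₂.hbW)
  -- automorphisms of `S`
  have n6 : ∀ γ ∈ F.autGroup S, ∀ x : S, (x : Ω)⁻¹ * ((γ x : S) : Ω) ∈ N := by
    intro γ hγ
    have hP₁x : ∀ x : S, (x : Ω) ∈ P₁ → (x : Ω)⁻¹ * ((γ x : S) : Ω) ∈ N := by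
      intro x hx
      obtain ⟨α, hα, hαγ⟩ := exists_restrict F hP₁.le hγ (pres₁ γ hγ)
      have := d₁.aut_mod hV₁ hα ⟨x, hx⟩
      rw [hαγ] at this
      exact hW₁N this
    have hP₂x : ∀ x : S, (x : Ω) ∈ P₂ → (x : Ω)⁻¹ * ((γ x : S) : Ω) ∈ N := by
      intro x hx
      obtain ⟨α, hα, hαγ⟩ := exists_restrict F hP₂.le hγ (pres₂ γ hγ)
      have := d₂.aut_mod hV₂ hα ⟨x, hx⟩
      rw [hαγ] at this
      exact hW₂N this
    intro x
    by_cases hx : (x : Ω) ∈ P₁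
    · exact hP₁x x hx
    · have ha : (x : Ω) * b₂ ∈ P₁ := hP₁.mul_mem_of_not_mem x.2 hb₂S hx hb₂P₁
      set a : S := ⟨(x : Ω) * b₂, hP₁.le ha⟩ with ha_def
      set b₂' : S := ⟨b₂, hb₂S⟩ with hb₂'
      have hxab : x = a * b₂' := by
        apply Subtype.ext
        show (x : Ω) = (x : Ω) * b₂ * b₂
        rw [mul_assoc, d₂.hbb, mul_one]
      have h1 := hP₁x a ha
      have h2 := hP₂x b₂' (d₂.hWP d₂.hbW)
      have e : (x : Ω)⁻¹ * ((γ x : S) : Ω) =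
          (b₂⁻¹ * ((a : Ω)⁻¹ * ((γ a : S) : Ω)) * b₂⁻¹⁻¹) * (b₂⁻¹ * ((γ b₂' : S) : Ω)) := by
        rw [hxab, map_mul, Subgroup.coe_mul, Subgroup.coe_mul]
        show ((a : Ω) * b₂)⁻¹ * _ = _
        group
      rw [e]
      exact N.mul_mem (hnormal _ (S.inv_mem hb₂S) _ h1) h2
  have hN : ⁅S, S⁆ ≤ N := by
    rw [Subgroup.commutator_le]
    intro g hg h hh
    rw [commutatorElement_def]
    exact hKN (c.hcomm g hg h hh)
  have hle : F ≤ modSys F N hN := by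
    apply alperin 2 hS F hF
    intro P hP α hα
    have hPS : P ≤ S := by
      rcases hP with rfl | hP
      · exact le_rfl
      · exact hP.1.1
    rw [mem_autGroup_iff _ hPS]
    refine ⟨(mem_autGroup_iff F hPS).1 hα, fun x => ?_⟩
    show (x : Ω)⁻¹ * ((α x : P) : Ω) ∈ N
    rcases hP with hP | hPe
    · subst hP
      exact n6 α hα x
    · rcases honly P hPe with h | h
      · subst h
        exact hW₁N (d₁.aut_mod hV₁ hα x)
      · subst h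
        exact hW₂N (d₂.aut_mod hV₂ hα x)
  unfold FusionSystem.hyperfocalSubgroup
  rw [Subgroup.closure_le]
  rintro _ ⟨P', α, x, hP'S, _, rfl⟩
  exact (hle P' ((mem_autGroup_iff F hP'S).1 α.2)).2 x

end Cfsg.Agent.Lib.Helper11.ESe
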