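import Cfsg.Agent.Lib.Helper11.ESo
import Cfsg.Agent.Lib.Helper11.ESj
import Cfsg.Agent.Lib.Helper24.DihIso

/-!
The case `p = 2`: `|S| = 8` with two non-commuting involutions (helper11), for S5265.
-/
set_option autoImplicit false

namespace Cfsg.Agent.Lib.Helper11.ESe

open Subgroup Cfsg Cfsg.Agent.Lib.Helper11.ESa Cfsg.Agent.Lib.Helper29

variable {Ω : Type*} [Group Ω] {S : Subgroup Ω} {K : Subgroup Ω} [Finite S]
variable [Fact (Nat.Prime 2)]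

theorem two_main (c : Ctx S 2 K) (hS : IsPGroup 2 S) (F : FusionSystem S) (hF : F.IsSaturated 2)
    (hcore : F.core = ⊥) (hS1 : S ≠ ⊥) (hhyp : F.hyperfocalSubgroup 2 = S) :
    Nat.card S = 8 ∧ ∃ b₁ b₂ : S, b₁ * b₁ = 1 ∧ b₂ * b₂ = 1 ∧ b₁ * b₂ ≠ b₂ * b₁ := by
  obtain ⟨P₁, hP₁e⟩ := exists_essential hS F hF hcore hS1
  have hP₁ := c.abMax_of_isEssential hS F hF hP₁e
  obtain ⟨V₁, W₁, b₁, y₁, hy₁, d₁⟩ := c.exists_edata hS F hF hP₁e hP₁
  have hns : ∀ ζ ∈ Zc S, ζ * ζ ∈ K → ζ * ζ = 1 := fun ζ hζ h => d₁.not_square hζ h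
  have hb₁P : b₁ ∈ P₁ := d₁.hWP d₁.hbW
  have pres₁ : ∀ γ ∈ F.autGroup S, γ ∈ stabSub S P₁ :=
    fun γ hγ => c.gamma_preserves hS F hF hns hP₁ hb₁P d₁.hbZ d₁.hbb hγ
  -- a second essential subgroup
  obtain ⟨P₂, hP₂e, hP₂ne⟩ : ∃ P₂, F.IsEssential 2 P₂ ∧ P₂ ≠ P₁ := by
    by_contra hcon
    push_neg at hcon
    have hnormal : F.IsNormal P₁ := by
      apply isNormal_of_invariant hS F hF P₁ hP₁.le
      · intro P hPe
        rw [hcon P hPe]
      · intro P hP α hα x hx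
        rcases hP with hP | hPe
        · subst hP
          exact ((pres₁ α hα) x).1 hx
        · have := hcon P hPe
          subst this
          exact (α x).2
    have hbot := eq_bot_of_isNormal F hcore hnormal
    have hK : K ≤ P₁ := c.hKZ.trans hP₁.zle
    rw [hbot] at hK
    have := c.hK
    rw [eq_bot_iff.2 hK, Subgroup.card_bot] at this
    omega
  have hP₂ := c.abMax_of_isEssential hS F hF hP₂e
  obtain ⟨V₂, W₂, b₂, y₂, hy₂, d₂⟩ := c.exists_edata hS F hF hP₂e hP₂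
  have hb₂P : b₂ ∈ P₂ := d₂.hWP d₂.hbW
  have pres₂ : ∀ γ ∈ F.autGroup S, γ ∈ stabSub S P₂ :=
    fun γ hγ => c.gamma_preserves hS F hF hns hP₂ hb₂P d₂.hbZ d₂.hbb hγ
  have hb₁S : b₁ ∈ S := hP₁.le hb₁P
  have hb₂S : b₂ ∈ S := hP₂.le hb₂P
  have hb₂P₁ : b₂ ∉ P₁ := fun h => hP₂ne (hP₂.eq_of_mem hP₁ hb₂P h d₂.hbZ)
  have hnc : b₁ * b₂ ≠ b₂ * b₁ := by
    intro h
    exact hb₂P₁ (hP₁.mem_of_commute hb₁P d₁.hbZ hb₂S h.symm)
  have houtput : ∃ b₁ b₂ : S, b₁ * b₁ = 1 ∧ b₂ * b₂ = 1 ∧ b₁ * b₂ ≠ b₂ * b₁ :=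
    ⟨⟨b₁, hb₁S⟩, ⟨b₂, hb₂S⟩, Subtype.ext d₁.hbb, Subtype.ext d₂.hbb,
      fun h => hnc (congrArg Subtype.val h)⟩
  -- only two essential subgroups
  have honly : ∀ P, F.IsEssential 2 P → P = P₁ ∨ P = P₂ := by
    intro P hPe
    by_contra hcon
    push_neg at hcon
    have hP := c.abMax_of_isEssential hS F hF hPe
    obtain ⟨V, W, b, y, hy, d⟩ := c.exists_edata hS F hF hPe hP
    have hbP : b ∈ P := d.hWP d.hbW
    have h1 : b₁ ∉ P := fun h => hcon.1 (hP₁.eq_of_mem hP hb₁P h d₁.hbZ).symm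
    have h2 : b₂ ∉ P := fun h => hcon.2 (hP₂.eq_of_mem hP hb₂P h d₂.hbZ).symm
    exact c.three hns hP hbP d.hbZ d.hbb hb₁S hb₂S h1 h2 d₁.hbb d₂.hbb hnc
  -- `V₁ ⊓ V₂` is normal in `F`
  have hΓQ : ∀ γ ∈ F.autGroup S, ∀ x : S, (x : Ω) ∈ V₁ ⊓ V₂ → ((γ x : S) : Ω) ∈ V₁ ⊓ V₂ := by
    intro γ hγ x hx
    exact Subgroup.mem_inf.2 ⟨(d₁.gamma_inv hγ (pres₁ γ hγ) x).1 hx.1,
      (d₂.gamma_inv hγ (pres₂ γ hγ) x).1 hx.2⟩
  have hQnormal : F.IsNormal (V₁ ⊓ V₂) := by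
    apply isNormal_of_invariant hS F hF
    · exact inf_le_left.trans (d₁.hVZ.trans inf_le_left)
    · intro P hPe
      exact inf_le_left.trans (d₁.hVZ.trans (c.abMax_of_isEssential hS F hF hPe).zle)
    · intro P hP α hα x hx
      rcases hP with hP | hPe
      · subst hP
        exact hΓQ α hα x hx
      · rcases honly P hPe with h | h
        · subst h
          exact d₁.aut_inv hS hF hPe.2.1 inf_le_left hΓQ hα x hx
        · subst h
          exact d₂.aut_inv hS hF hPe.2.1 inf_le_right hΓQ hα x hx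
  have hQbot : V₁ ⊓ V₂ = ⊥ := eq_bot_of_isNormal F hcore hQnormal
  -- counting
  haveI : Finite (Zc S) := finite_of_le (inf_le_left : Zc S ≤ S)
  haveI : Finite V₁ := finite_of_le (d₁.hVZ.trans inf_le_left)
  haveI : Finite V₂ := finite_of_le (d₂.hVZ.trans inf_le_left)
  have hZ₁ := d₁.card_Z
  have hZ₂ := d₂.card_Z
  have hinj : Nat.card V₁ * Nat.card V₂ ≤ Nat.card (Zc S) := by
    rw [← Nat.card_prod]
    apply Nat.card_le_card_of_injective (fun vw : V₁ × V₂ =>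
      (⟨vw.1 * vw.2, (Zc S).mul_mem (d₁.hVZ vw.1.2) (d₂.hVZ vw.2.2)⟩ : Zc S))
    rintro ⟨⟨v, hv⟩, ⟨w, hw⟩⟩ ⟨⟨v', hv'⟩, ⟨w', hw'⟩⟩ h
    have h1 : v * w = v' * w' := congrArg Subtype.val h
    have h2 : v'⁻¹ * v = w' * w⁻¹ := by
      calc v'⁻¹ * v = v'⁻¹ * (v * w) * w⁻¹ := by group
        _ = v'⁻¹ * (v' * w') * w⁻¹ := by rw [h1]
        _ = w' * w⁻¹ := by group
    have h3 : v'⁻¹ * v ∈ V₁ ⊓ V₂ :=
      Subgroup.mem_inf.2 ⟨V₁.mul_mem (V₁.inv_mem hv') hv, h2 ▸ V₂.mul_mem hw' (V₂.inv_mem hw)⟩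
    rw [hQbot, mem_bot] at h3
    have hv : v = v' := (inv_mul_eq_one.1 h3).symm
    subst hv
    have hw : w = w' := mul_left_cancel h1
    subst hw
    rfl
  have hV₁pos : 0 < Nat.card V₁ := Nat.card_pos
  have hV₂pos : 0 < Nat.card V₂ := Nat.card_pos
  have hV₂le : Nat.card V₂ ≤ 2 := by
    rw [hZ₁] at hinj
    exact Nat.le_of_mul_le_mul_left hinj hV₁pos
  have hcardS := c.hcard
  rcases (by omega : Nat.card V₂ = 1 ∨ Nat.card V₂ = 2) with h1 | h2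
  · -- `V₂ = ⊥`
    have hV₂bot : V₂ = ⊥ := Subgroup.card_eq_one.1 h1
    have hZK := d₂.hbot hV₂bot
    rw [hZK, c.hK] at hcardS
    exact ⟨by rw [hcardS]; norm_num, houtput⟩
  · exfalso
    have hV₁2 : Nat.card V₁ = 2 := by
      rw [hZ₂, h2] at hZ₁
      omega
    have hcardZ : Nat.card (Zc S) = 4 := by rw [hZ₂, h2]
    have hcardS16 : Nat.card S = 16 := by rw [hcardS, hcardZ]; norm_num
    -- the subgroup generated by `b₁, b₂`
    set b₁' : S := ⟨b₁, hb₁S⟩ with hb₁'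
    set b₂' : S := ⟨b₂, hb₂S⟩ with hb₂'
    set N' : Subgroup ↥S := closure {b₁', b₂'} with hN'
    have hb₁N' : b₁' ∈ N' := subset_closure (Set.mem_insert _ _)
    have hb₂N' : b₂' ∈ N' := subset_closure (Set.mem_insert_of_mem _ rfl)
    have hb₁inv : b₁⁻¹ = b₁ := inv_eq_of_mul_eq_one_left d₁.hbb
    have hb₂inv : b₂⁻¹ = b₂ := inv_eq_of_mul_eq_one_left d₂.hbb
    have hk₀K : b₁ * b₂ * b₁⁻¹ * b₂⁻¹ ∈ K := c.hcomm b₁ hb₁S b₂ hb₂S
    have hk₀1 : b₁ * b₂ * b₁⁻¹ * b₂⁻¹ ≠ 1 := by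
      intro h
      apply hnc
      calc b₁ * b₂ = (b₁ * b₂ * b₁⁻¹ * b₂⁻¹) * b₂ * b₁ := by group
        _ = b₂ * b₁ := by rw [h, one_mul]
    have hk₀N : b₁ * b₂ * b₁⁻¹ * b₂⁻¹ ∈ N'.map S.subtype := by
      refine ⟨b₁' * b₂' * b₁'⁻¹ * b₂'⁻¹, ?_, rfl⟩
      exact mul_mem (mul_mem (mul_mem hb₁N' hb₂N') (inv_mem hb₁N')) (inv_mem hb₂N')
    have hKN : K ≤ N'.map S.subtype := by
      intro k hk
      rcases card_two_cases c.hK hk₀K hk₀1 hk with rfl | rfl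
      · exact one_mem _
      · exact hk₀N
    have hNS : N'.map S.subtype ≤ S := by
      rintro _ ⟨x, _, rfl⟩
      exact x.2
    have hle := c.hyp_le_of_two hS F hF d₁ d₂ hV₁2 h2 pres₁ pres₂ honly hb₂P₁ (N'.map S.subtype)
      hNS hKN ⟨b₁', hb₁N', rfl⟩ ⟨b₂', hb₂N', rfl⟩
    rw [hhyp] at hle
    -- cardinality of `N'`
    have ho₁ : orderOf b₁' = 2 := by
      apply orderOf_eq_prime
      · rw [pow_two]; exact Subtype.ext d₁.hbb
      · intro h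
        apply d₁.hbZ
        have : b₁ = 1 := congrArg Subtype.val h
        rw [this]
        exact one_mem _
    have ho₂ : orderOf b₂' = 2 := by
      apply orderOf_eq_prime
      · rw [pow_two]; exact Subtype.ext d₂.hbb
      · intro h
        apply d₂.hbZ
        have : b₂ = 1 := congrArg Subtype.val h
        rw [this]
        exact one_mem _
    obtain ⟨e⟩ := Cfsg.Agent.Lib.Helper24.closure_pair_equiv_dihedral ho₁ ho₂
    have hcardN' : Nat.card N' = 2 * orderOf (b₁' * b₂') := by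
      rw [Nat.card_congr e.toEquiv, DihedralGroup.nat_card]
    have hpow4 : (b₁' * b₂') ^ 4 = 1 := by
      apply Subtype.ext
      show (b₁ * b₂) ^ 4 = 1
      have h2' : (b₁ * b₂) ^ 2 = b₁ * b₂ * b₁⁻¹ * b₂⁻¹ := by
        rw [pow_two, hb₁inv, hb₂inv]; group
      have : (b₁ * b₂) ^ 4 = ((b₁ * b₂) ^ 2) ^ 2 := by rw [← pow_mul]
      rw [this, h2', pow_two]
      exact card_two_sq c.hK hk₀K
    have hdvd : orderOf (b₁' * b₂') ∣ 4 := orderOf_dvd_of_pow_eq_one hpow4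
    have hle4 : orderOf (b₁' * b₂') ≤ 4 := Nat.le_of_dvd (by norm_num) hdvd
    have hcardle : Nat.card S ≤ Nat.card N' := by
      have h1 : Nat.card S ≤ Nat.card (N'.map S.subtype) := by
        haveI : Finite (N'.map S.subtype) := finite_of_le hNS
        exact Subgroup.card_le_of_le hle
      rwa [Nat.card_congr (N'.equivMapOfInjective S.subtype S.subtype_injective).toEquiv.symm] at h1
    omega

end Cfsg.Agent.Lib.Helper11.ESe
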