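import Mathlib

/-!
# Extremely primitive groups: point stabilisers act faithfully on suborbits

`G` primitive and faithful on a finite set `Ω`, every point stabiliser nontrivial and primitive on
each of its orbits.  Then a subgroup `K ≤ G_α`, normalised by `G_α`, that fixes a point `β ≠ α`
is trivial.
-/

namespace Cfsg.Agent.Lib.Helper11

open MulAction
open scoped Pointwise

section

variable {G : Type*} [Group G] {Ω : Type*} [MulAction G Ω]

/-- On a finite set, a set mapped into itself by a group element is mapped onto itself. -/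
theorem smul_set_eq_of_forall_mem [Finite Ω] (x : G) (S : Set Ω) (h : ∀ p ∈ S, x • p ∈ S) :
    x • S = S := by
  have hsub : x • S ⊆ S := by
    rintro _ ⟨p, hp, rfl⟩
    exact h p hp
  exact Set.eq_of_subset_of_ncard_le hsub (by rw [Set.ncard_smul_set]) (Set.toFinite S)

/-- Pattern lemma: in a primitive action, a nonempty proper subset cannot be stabilised by a point
stabiliser together with an element outside it. -/
theorem false_of_invariant_set [Finite Ω] (hprim : IsPreprimitive G Ω) (α : Ω) (S : Set Ω)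
    (hS : S.Nonempty) (hS' : S ≠ Set.univ)
    (hα : ∀ x ∈ stabilizer G α, ∀ p ∈ S, x • p ∈ S) (g : G) (hg : g • α ≠ α)
    (hgS : ∀ p ∈ S, g • p ∈ S) : False := by
  haveI : Nontrivial Ω := ⟨⟨g • α, α, hg⟩⟩
  haveI := hprim
  have hco : IsCoatom (stabilizer G α) := IsPreprimitive.isCoatom_stabilizer_of_isPreprimitive (G := G) α
  have hle : stabilizer G α ≤ stabilizer G S := by
    intro x hx
    rw [mem_stabilizer_iff]
    exact smul_set_eq_of_forall_mem x S (hα x hx)
  have hgmem : g ∈ stabilizer G S := by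
    rw [mem_stabilizer_iff]
    exact smul_set_eq_of_forall_mem g S hgS
  have hlt : stabilizer G α < stabilizer G S := by
    refine lt_of_le_of_ne hle ?_
    intro heq
    apply hg
    have : g ∈ stabilizer G α := heq ▸ hgmem
    exact this
  have htop : stabilizer G S = ⊤ := hco.2 _ hlt
  obtain ⟨a, ha⟩ := hS
  obtain ⟨b, hb⟩ := (Set.ne_univ_iff_exists_notMem S).1 hS'
  haveI := hprim.toIsPretransitive
  obtain ⟨x, hx⟩ := exists_smul_eq G a b
  have hxS : x ∈ stabilizer G S := htop ▸ Subgroup.mem_top x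
  rw [mem_stabilizer_iff] at hxS
  apply hb
  rw [← hxS, ← hx]
  exact Set.smul_mem_smul_set ha

/-- Quasi-primitivity of the point stabiliser on each of its orbits, in elementwise form. -/
theorem exists_smul_eq_of_normal_of_moves
    (hep : ∀ (α ω : Ω), IsPreprimitive (stabilizer G α) (orbit (stabilizer G α) ω))
    (γ : Ω) (N : Subgroup G) (hN : N ≤ stabilizer G γ)
    (hnorm : ∀ x ∈ stabilizer G γ, ∀ n ∈ N, x * n * x⁻¹ ∈ N)
    (σ : Ω) (hσ : ∃ n ∈ N, n • σ ≠ σ) (x : G) (hx : x ∈ stabilizer G γ) :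
    ∃ n ∈ N, n • σ = x • σ := by
  classical
  set H := stabilizer G γ with hH
  let N' : Subgroup H := N.subgroupOf H
  haveI : N'.Normal := by
    refine ⟨fun n hn y => ?_⟩
    rw [Subgroup.mem_subgroupOf] at hn ⊢
    simpa using hnorm y y.2 n hn
  haveI := hep γ σ
  have hq : IsQuasiPreprimitive H (orbit H σ) := inferInstance
  obtain ⟨n, hn, hnσ⟩ := hσ
  have hne : fixedPoints N' (orbit H σ) ≠ Set.univ := by
    intro h
    have hmem : (⟨σ, mem_orbit_self σ⟩ : orbit H σ) ∈ fixedPoints N' (orbit H σ) := by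
      rw [h]; trivial
    rw [mem_fixedPoints] at hmem
    have := hmem ⟨⟨n, hN hn⟩, by rw [Subgroup.mem_subgroupOf]; exact hn⟩
    apply hnσ
    have h2 := congrArg Subtype.val this
    exact h2
  haveI := hq.isPretransitive_of_normal hne
  obtain ⟨m, hm⟩ := exists_smul_eq N' (⟨σ, mem_orbit_self σ⟩ : orbit H σ)
    (⟨x • σ, ⟨⟨x, hx⟩, rfl⟩⟩ : orbit H σ)
  refine ⟨((m : H) : G), ?_, ?_⟩
  · have := m.2
    rw [Subgroup.mem_subgroupOf] at this
    exact this
  · have h2 := congrArg Subtype.val hm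
    exact h2

/-- A point stabiliser in a primitive faithful action with nontrivial stabilisers is not contained
in another point stabiliser. -/
theorem exists_mem_stabilizer_smul_ne [Finite Ω] [FaithfulSMul G Ω] (hprim : IsPreprimitive G Ω)
    (hH : ∀ α : Ω, stabilizer G α ≠ ⊥) (α : Ω) (g : G) (hg : g • α ≠ α) :
    ∃ y ∈ stabilizer G (g • α), y • α ≠ α := by
  by_contra hcon
  push_neg at hcon
  let S : Set Ω := {p | ∀ x ∈ stabilizer G α, x • p = p}
  have hαS : α ∈ S := fun x hx => hx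
  have hSne : S ≠ Set.univ := by
    intro hS
    apply hH α
    rw [Subgroup.eq_bot_iff_forall]
    intro x hx
    apply FaithfulSMul.eq_of_smul_eq_smul (α := Ω)
    intro p
    have : p ∈ S := hS ▸ Set.mem_univ p
    rw [one_smul]
    exact this x hx
  refine false_of_invariant_set hprim α S ⟨α, hαS⟩ hSne ?_ g⁻¹ ?_ ?_
  · intro x hx p hp
    rw [hp x hx]
    exact hp
  · intro h
    exact hg (inv_smul_eq_iff.1 h).symm
  · intro p hp x hx
    have h1 : g * x * g⁻¹ ∈ stabilizer G (g • α) := by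
      rw [mem_stabilizer_iff, mul_smul, mul_smul, inv_smul_smul]
      rw [mem_stabilizer_iff] at hx
      rw [hx]
    have h2 : g * x * g⁻¹ ∈ stabilizer G α := hcon _ h1
    have h3 := hp _ h2
    rw [mul_smul, mul_smul] at h3
    exact (smul_eq_iff_eq_inv_smul g).1 h3

/-- **Main lemma.** In an extremely primitive group, a subgroup of a point stabiliser `G_α` that is
normalised by `G_α` and fixes a further point is trivial. -/
theorem eq_bot_of_normal_of_fixes [Finite Ω] [FaithfulSMul G Ω] (hprim : IsPreprimitive G Ω)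
    (hH : ∀ α : Ω, stabilizer G α ≠ ⊥)
    (hep : ∀ (α ω : Ω), IsPreprimitive (stabilizer G α) (orbit (stabilizer G α) ω))
    (α β : Ω) (hβ : β ≠ α) (K : Subgroup G) (hK : K ≤ stabilizer G α)
    (hnorm : ∀ x ∈ stabilizer G α, ∀ k ∈ K, x * k * x⁻¹ ∈ K)
    (hKβ : ∀ k ∈ K, k • β = β) : K = ⊥ := by
  by_contra hKbot
  haveI := hprim.toIsPretransitive
  -- the fixed point set
  let F : Set Ω := {p | ∀ k ∈ K, k • p = p}
  have hαF : α ∈ F := fun k hk => hK hk
  have hβF : β ∈ F := hKβ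
  -- F is invariant under G_α
  have hF1 : ∀ x ∈ stabilizer G α, ∀ p ∈ F, x • p ∈ F := by
    intro x hx p hp k hk
    have h1 : x⁻¹ * k * x⁻¹⁻¹ ∈ K := hnorm x⁻¹ (inv_mem hx) k hk
    have h2 := hp _ h1
    rw [inv_inv, mul_smul, mul_smul] at h2
    exact inv_smul_eq_iff.1 h2
  have hF1' : ∀ x ∈ stabilizer G α, ∀ p, x • p ∈ F → p ∈ F := by
    intro x hx p hp
    have := hF1 x⁻¹ (inv_mem hx) _ hp
    rwa [inv_smul_smul] at this
  -- F is proper
  have hF2 : ∃ σ, σ ∉ F := by
    by_contra hcon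
    push_neg at hcon
    apply hKbot
    rw [Subgroup.eq_bot_iff_forall]
    intro k hk
    apply FaithfulSMul.eq_of_smul_eq_smul (α := Ω)
    intro p
    rw [one_smul]
    exact hcon p k hk
  have hFne : F ≠ Set.univ := by
    obtain ⟨σ, hσ⟩ := hF2
    intro h
    exact hσ (h ▸ Set.mem_univ σ)
  -- K is transitive on G_α-orbits outside F
  have hF3 : ∀ σ, σ ∉ F → ∀ x ∈ stabilizer G α, ∃ k ∈ K, k • σ = x • σ := by
    intro σ hσ x hx
    apply exists_smul_eq_of_normal_of_moves hep α K hK hnorm σ _ x hx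
    by_contra hcon
    push_neg at hcon
    exact hσ hcon
  -- K preserves u • F whenever u • α ∈ F
  have hi : ∀ u : G, u • α ∈ F → ∀ k ∈ K, ∀ p, u⁻¹ • p ∈ F → u⁻¹ • k • p ∈ F := by
    intro u hu k hk p hp
    have hx : u⁻¹ * k * u ∈ stabilizer G α := by
      rw [mem_stabilizer_iff, mul_smul, mul_smul, hu k hk, inv_smul_smul]
    have := hF1 _ hx _ hp
    rwa [mul_smul, mul_smul, smul_inv_smul] at this
  -- Step 1: symmetry
  have step1 : ∀ g : G, g • α ∈ F → g • α ≠ α → g⁻¹ • α ∈ F := by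
    intro g hgF hne
    by_contra hcon
    have hcon' : ∃ k0 ∈ K, k0 • g⁻¹ • α ≠ g⁻¹ • α := by
      by_contra h
      push_neg at h
      exact hcon h
    obtain ⟨k0, hk0, hk0α⟩ := hcon'
    have hy0 : (g * k0 * g⁻¹) • α ≠ α := by
      intro h
      apply hk0α
      rw [mul_smul, mul_smul] at h
      exact (smul_eq_iff_eq_inv_smul g).1 h
    -- g • F is proper
    have hgFne : ∃ τ, g⁻¹ • τ ∉ F := by
      obtain ⟨σ, hσ⟩ := hF2
      exact ⟨g • σ, by rwa [inv_smul_smul]⟩
    by_cases hcase : ∀ p ∈ F, g⁻¹ • p ∈ F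
    · -- case (a): g⁻¹ • F ⊆ F
      refine false_of_invariant_set hprim α F ⟨α, hαF⟩ hFne hF1 g⁻¹ ?_ hcase
      intro h
      exact hne (inv_smul_eq_iff.1 h).symm
    · -- case (b)
      push_neg at hcase
      obtain ⟨σ0, hσ0F, hσ0⟩ := hcase
      -- σ := g⁻¹ • σ0 ∉ F, σ0 ∈ F.  Use instead points of g • F outside F.
      -- we work with the conjugate picture: σ ∈ g • F, σ ∉ F
      by_cases hcase2 : ∀ p, g⁻¹ • p ∈ F → p ∈ F
      · -- g • F ⊆ F
        refine false_of_invariant_set hprim α F ⟨α, hαF⟩ hFne hF1 g hne ?_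
        intro p hp
        apply hcase2
        rwa [inv_smul_smul]
      · push_neg at hcase2
        obtain ⟨σ, hσgF, hσF⟩ := hcase2
        let I : Set Ω := {p | ∀ h ∈ stabilizer G α, (h * g)⁻¹ • p ∈ F}
        have hσI : σ ∈ I := by
          intro h hh
          obtain ⟨k, hk, hkσ⟩ := hF3 σ hσF h⁻¹ (inv_mem hh)
          have := hi g hgF k hk σ hσgF
          rw [hkσ] at this
          rwa [mul_inv_rev, mul_smul]
        have hIinv : ∀ x ∈ stabilizer G α, ∀ p ∈ I, x • p ∈ I := by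
          intro x hx p hp h hh
          have := hp (x⁻¹ * h) (mul_mem (inv_mem hx) hh)
          rw [mul_inv_rev, mul_inv_rev, mul_smul, mul_smul, inv_inv] at this
          rw [mul_inv_rev, mul_smul]
          exact this
        have hIsub : ∀ p ∈ I, g⁻¹ • p ∈ F := by
          intro p hp
          have := hp 1 (one_mem _)
          rwa [one_mul] at this
        have hIne : I ≠ Set.univ := by
          obtain ⟨τ, hτ⟩ := hgFne
          intro h
          exact hτ (hIsub τ (h ▸ Set.mem_univ τ))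
        refine false_of_invariant_set hprim α I ⟨σ, hσI⟩ hIne hIinv (g * k0 * g⁻¹) hy0 ?_
        intro p hp
        have h1 := hIsub p hp k0 hk0
        have h2 : (g * k0 * g⁻¹) • p = p := by
          rw [mul_smul, mul_smul, h1, smul_inv_smul]
        rw [h2]
        exact hp
  -- Step 2: covering
  have step2 : ∀ g : G, g • α ∈ F → g • α ≠ α → ∀ σ, σ ∈ F ∨ g⁻¹ • σ ∈ F := by
    intro g hgF hne σ
    by_contra hcon
    push_neg at hcon
    obtain ⟨hσF, hσgF⟩ := hcon
    have hg' := step1 g hgF hne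
    -- the conjugate subgroup
    let Kg : Subgroup G := K.map (MulAut.conj g).toMonoidHom
    have hKg_mem : ∀ y, y ∈ Kg ↔ ∃ k ∈ K, g * k * g⁻¹ = y := by
      intro y
      simp [Kg, Subgroup.mem_map, MulAut.conj_apply]
    have hKg_le : Kg ≤ stabilizer G (g • α) := by
      intro y hy
      obtain ⟨k, hk, rfl⟩ := (hKg_mem y).1 hy
      rw [mem_stabilizer_iff, mul_smul, mul_smul, inv_smul_smul, hαF k hk]
    have hKg_le' : Kg ≤ stabilizer G α := by
      intro y hy
      obtain ⟨k, hk, rfl⟩ := (hKg_mem y).1 hy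
      rw [mem_stabilizer_iff, mul_smul, mul_smul, hg' k hk, smul_inv_smul]
    have hK_le' : K ≤ stabilizer G (g • α) := fun k hk => hgF k hk
    have hKg_norm : ∀ x ∈ stabilizer G (g • α), ∀ n ∈ Kg, x * n * x⁻¹ ∈ Kg := by
      intro x hx n hn
      obtain ⟨k, hk, rfl⟩ := (hKg_mem n).1 hn
      rw [hKg_mem]
      have hx' : g⁻¹ * x * g ∈ stabilizer G α := by
        rw [mem_stabilizer_iff] at hx ⊢
        rw [mul_smul, mul_smul, hx, inv_smul_smul]
      refine ⟨(g⁻¹ * x * g) * k * (g⁻¹ * x * g)⁻¹, hnorm _ hx' k hk, ?_⟩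
      group
    have hKg_moves : ∃ n ∈ Kg, n • σ ≠ σ := by
      have : ∃ k ∈ K, k • g⁻¹ • σ ≠ g⁻¹ • σ := by
        by_contra h
        push_neg at h
        exact hσgF h
      obtain ⟨k, hk, hkσ⟩ := this
      refine ⟨g * k * g⁻¹, (hKg_mem _).2 ⟨k, hk, rfl⟩, ?_⟩
      intro h
      apply hkσ
      rw [mul_smul, mul_smul] at h
      exact (smul_eq_iff_eq_inv_smul g).1 h
    have hF3g : ∀ y ∈ stabilizer G (g • α), ∃ n ∈ Kg, n • σ = y • σ :=
      fun y hy => exists_smul_eq_of_normal_of_moves hep (g • α) Kg hKg_le hKg_norm σ hKg_moves y hy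
    let Θ : Set Ω := {p | ∃ x ∈ stabilizer G α, x • σ = p}
    have hσΘ : σ ∈ Θ := ⟨1, one_mem _, one_smul _ _⟩
    have hΘne : Θ ≠ Set.univ := by
      intro h
      have : α ∈ Θ := h ▸ Set.mem_univ α
      obtain ⟨x, hx, hxσ⟩ := this
      apply hσF
      have : σ = α := by
        rw [mem_stabilizer_iff] at hx
        rw [← hx] at hxσ
        exact smul_left_cancel x hxσ
      rw [this]
      exact hαF
    have hΘα : ∀ x ∈ stabilizer G α, ∀ p ∈ Θ, x • p ∈ Θ := by
      rintro x hx _ ⟨x', hx', rfl⟩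
      exact ⟨x * x', mul_mem hx hx', mul_smul _ _ _⟩
    obtain ⟨y, hy, hyα⟩ := exists_mem_stabilizer_smul_ne hprim hH α g hne
    refine false_of_invariant_set hprim α Θ ⟨σ, hσΘ⟩ hΘne hΘα y hyα ?_
    rintro _ ⟨x, hx, rfl⟩
    obtain ⟨k, hk, hkσ⟩ := hF3 σ hσF x hx
    obtain ⟨n, hn, hnσ⟩ := hF3g (y * k) (mul_mem hy (hK_le' hk))
    refine ⟨n, hKg_le' hn, ?_⟩
    rw [hnσ, mul_smul, hkσ]
  -- Step 3
  obtain ⟨σ, hσF⟩ := hF2
  obtain ⟨s, hs⟩ := exists_smul_eq G α σ
  have hσα : σ ≠ α := fun h => hσF (h ▸ hαF)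
  let F' : Set Ω := {p | p ∈ F ∧ p ≠ α}
  have hF'ne : F' ≠ Set.univ := by
    intro h
    have : α ∈ F' := h ▸ Set.mem_univ α
    exact this.2 rfl
  refine false_of_invariant_set hprim α F' ⟨β, hβF, hβ⟩ hF'ne ?_ s⁻¹ ?_ ?_
  · rintro x hx p ⟨hp, hpα⟩
    refine ⟨hF1 x hx p hp, ?_⟩
    intro h
    apply hpα
    rw [mem_stabilizer_iff] at hx
    rw [← hx] at h
    exact smul_left_cancel x h
  · intro h
    exact hσα (hs.symm.trans (inv_smul_eq_iff.1 h).symm)
  · rintro p ⟨hp, hpα⟩
    obtain ⟨g, hg⟩ := exists_smul_eq G α p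
    have hgF : g • α ∈ F := hg ▸ hp
    have hgne : g • α ≠ α := hg ▸ hpα
    have h2 := (step2 g hgF hgne σ).resolve_left hσF
    have hpσ : p ≠ σ := fun h => hσF (h ▸ hp)
    have h3 : (g⁻¹ * s) • α ∈ F := by
      rw [mul_smul, hs]; exact h2
    have h4 : (g⁻¹ * s) • α ≠ α := by
      rw [mul_smul, hs]
      intro h
      exact hpσ (hg.symm.trans (inv_smul_eq_iff.1 h).symm)
    have h5 := step1 (g⁻¹ * s) h3 h4
    rw [mul_inv_rev, inv_inv, mul_smul, hg] at h5
    refine ⟨h5, ?_⟩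
    intro h
    exact hpσ ((inv_smul_eq_iff.1 h).trans hs)

end

end Cfsg.Agent.Lib.Helper11
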