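import Cfsg.Agent.Lib.Helper11.ExtPrim

/-!
# Extremely primitive groups: abelian normal subgroups of a point stabiliser

In an extremely primitive group, a nontrivial abelian subgroup `A ≤ G_α` normalised by `G_α` is
regular on every nontrivial `G_α`-orbit and self-centralising in `G_α`.
-/

namespace Cfsg.Agent.Lib.Helper11

open MulAction

section

variable {G : Type*} [Group G] {Ω : Type*} [MulAction G Ω]

/-- If one point stabiliser is nontrivial in a transitive action, all are. -/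
theorem stabilizer_ne_bot_of_pretransitive [IsPretransitive G Ω] (α : Ω)
    (h : stabilizer G α ≠ ⊥) (β : Ω) : stabilizer G β ≠ ⊥ := by
  obtain ⟨g, rfl⟩ := exists_smul_eq G α β
  intro hbot
  apply h
  rw [Subgroup.eq_bot_iff_forall] at hbot ⊢
  intro x hx
  have h1 : g * x * g⁻¹ ∈ stabilizer G (g • α) := by
    rw [mem_stabilizer_iff, mul_smul, mul_smul, inv_smul_smul]
    rw [mem_stabilizer_iff] at hx
    rw [hx]
  have h2 := hbot _ h1
  have : x = g⁻¹ * (g * x * g⁻¹) * g := by group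
  rw [this, h2]; group

/-- Elementwise form of faithfulness on suborbits. -/
theorem eq_one_of_fixes_orbit [Finite Ω] [FaithfulSMul G Ω] (hprim : IsPreprimitive G Ω)
    (hH : ∀ α : Ω, stabilizer G α ≠ ⊥)
    (hep : ∀ (α ω : Ω), IsPreprimitive (stabilizer G α) (orbit (stabilizer G α) ω))
    (α ω : Ω) (hω : ω ≠ α) (x : G) (hx : x ∈ stabilizer G α)
    (hfix : ∀ y ∈ stabilizer G α, x • y • ω = y • ω) : x = 1 := by
  let K : Subgroup G :=
    { carrier := {k | k ∈ stabilizer G α ∧ ∀ y ∈ stabilizer G α, k • y • ω = y • ω}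
      mul_mem' := by
        rintro a b ⟨ha, ha'⟩ ⟨hb, hb'⟩
        refine ⟨mul_mem ha hb, fun y hy => ?_⟩
        rw [mul_smul, hb' y hy, ha' y hy]
      one_mem' := ⟨one_mem _, fun y _ => one_smul _ _⟩
      inv_mem' := by
        rintro a ⟨ha, ha'⟩
        refine ⟨inv_mem ha, fun y hy => ?_⟩
        rw [inv_smul_eq_iff, ha' y hy] }
  have hK : K = ⊥ := by
    apply eq_bot_of_normal_of_fixes hprim hH hep α ω hω
    · intro k hk
      exact hk.1
    · rintro z hz k ⟨hk, hk'⟩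
      refine ⟨mul_mem (mul_mem hz hk) (inv_mem hz), fun y hy => ?_⟩
      rw [mul_smul, mul_smul, ← mul_smul z⁻¹ y, hk' _ (mul_mem (inv_mem hz) hy), ← mul_smul,
        mul_inv_cancel_left]
    · rintro k ⟨hk, hk'⟩
      simpa using hk' 1 (one_mem _)
  have hmem : x ∈ K := ⟨hx, hfix⟩
  rw [hK, Subgroup.mem_bot] at hmem
  exact hmem

/-- **Key lemma**: abelian normal subgroups of the stabiliser are regular on suborbits and
self-centralising. -/
theorem abelian_normal_regular [Finite Ω] [FaithfulSMul G Ω] (hprim : IsPreprimitive G Ω)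
    (hH : ∀ α : Ω, stabilizer G α ≠ ⊥)
    (hep : ∀ (α ω : Ω), IsPreprimitive (stabilizer G α) (orbit (stabilizer G α) ω))
    (α : Ω) (A : Subgroup G) (hA : A ≤ stabilizer G α)
    (hnorm : ∀ x ∈ stabilizer G α, ∀ a ∈ A, x * a * x⁻¹ ∈ A) (hAne : A ≠ ⊥)
    (hcomm : ∀ a ∈ A, ∀ b ∈ A, a * b = b * a) :
    (∀ ω, ω ≠ α → ∀ x ∈ stabilizer G α, ∃ a ∈ A, a • ω = x • ω) ∧
    (∀ ω, ω ≠ α → ∀ c ∈ stabilizer G α, (∀ a ∈ A, c * a = a * c) → c • ω = ω → c = 1) ∧
    (∀ c ∈ stabilizer G α, (∀ a ∈ A, c * a = a * c) → c ∈ A) := by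
  have ha : ∀ ω, ω ≠ α → ∀ x ∈ stabilizer G α, ∃ a ∈ A, a • ω = x • ω := by
    intro ω hω x hx
    apply exists_smul_eq_of_normal_of_moves hep α A hA hnorm ω _ x hx
    by_contra hcon
    push_neg at hcon
    exact hAne (eq_bot_of_normal_of_fixes hprim hH hep α ω hω A hA hnorm hcon)
  have hb : ∀ ω, ω ≠ α → ∀ c ∈ stabilizer G α, (∀ a ∈ A, c * a = a * c) → c • ω = ω → c = 1 := by
    intro ω hω c hc hca hcω
    apply eq_one_of_fixes_orbit hprim hH hep α ω hω c hc
    intro y hy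
    obtain ⟨a, haA, haω⟩ := ha ω hω y hy
    rw [← haω, ← mul_smul, hca a haA, mul_smul, hcω]
  refine ⟨ha, hb, ?_⟩
  intro c hc hca
  -- pick ω ≠ α
  have hex : ∃ ω, ω ≠ α := by
    by_contra hcon
    push_neg at hcon
    apply hH α
    rw [Subgroup.eq_bot_iff_forall]
    intro x _
    apply FaithfulSMul.eq_of_smul_eq_smul (α := Ω)
    intro p
    rw [hcon p, one_smul, hcon (x • α)]
  obtain ⟨ω, hω⟩ := hex
  obtain ⟨a, haA, haω⟩ := ha ω hω c hc
  have h1 : a⁻¹ * c = 1 := by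
    apply hb ω hω (a⁻¹ * c) (mul_mem (inv_mem (hA haA)) hc)
    · intro b hbA
      have e1 : a⁻¹ * c * b = a⁻¹ * (c * b) := by group
      rw [e1, hca b hbA]
      have e2 : a⁻¹ * (b * c) = (a⁻¹ * b) * c := by group
      have e3 : a⁻¹ * b = b * a⁻¹ := hcomm _ (inv_mem haA) _ hbA
      rw [e2, e3]; group
    · rw [mul_smul, ← haω, inv_smul_smul]
  have : c = a := by
    have : c = a * (a⁻¹ * c) := by group
    rw [this, h1, mul_one]
  rw [this]
  exact haA

end

end Cfsg.Agent.Lib.Helper11
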