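import Mathlib
import Cfsg.Agent.Lib.Helper11.SFS6
import Cfsg.Agent.Lib.Helper1.FamilyFusion
import Cfsg.Agent.S1959

/-!
Control of strong fusion in sections by a set of functors (Glauberman): definitions and basic
transport lemmas (helper11).
-/

set_option autoImplicit false
set_option linter.unusedSectionVars false
open Cfsg

universe u

namespace Cfsg.Agent.Lib.Helper11.FSF

open Cfsg.Agent.Lib.Helper29 Cfsg.Agent.Lib.Helper1 Cfsg.Agent.Lib.Helper16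
open Cfsg.Agent.S2005 (induced_map induced_map_eq induced_le induced_ne_bot
  normalizer_le_normalizer_induced)
open Cfsg.Agent.Lib.Helper11.SFS (conjFunctor)

variable {p : ℕ} [Fact p.Prime] {𝓦 : Set (∀ (Q : Type u) [Group Q], Subgroup Q)}

/-- the induced set of conjugacy functors on `X` -/
def ind (𝓦 : Set (∀ (Q : Type u) [Group Q], Subgroup Q)) (X : Type u) [Group X] :
    Set (Subgroup X → Subgroup X) :=
  (fun W => Cfsg.inducedFunctor (G := X) W) '' 𝓦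

/-- the family controls strong fusion in `S` -/
def FCtlAt (𝓦 : Set (∀ (Q : Type u) [Group Q], Subgroup Q)) (X : Type u) [Group X]
    (S : Subgroup X) : Prop :=
  ∀ (A : Set X) (g : X), A ⊆ (S : Set X) → lcs g A ⊆ (S : Set X) → Good (ind 𝓦 X) S A g

/-- family control of strong fusion with respect to every Sylow subgroup -/
def FCtl (p : ℕ) (𝓦 : Set (∀ (Q : Type u) [Group Q], Subgroup Q)) (X : Type u) [Group X] : Prop :=
  ∀ S : Sylow p X, FCtlAt 𝓦 X (S : Subgroup X)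

theorem ind_conj (h𝓦 : ∀ W ∈ 𝓦, Cfsg.IsCharPFunctor.{u} p W) (X : Type u) [Group X] [Finite X] :
    ∀ W' ∈ ind 𝓦 X, Cfsg.IsConjugacyFunctor p W' := by
  rintro _ ⟨W, hW, rfl⟩
  exact conjFunctor (h𝓦 W hW) X

theorem fctl_of_ctlIn (h𝓦 : ∀ W ∈ 𝓦, Cfsg.IsCharPFunctor.{u} p W) {X : Type u} [Group X]
    [Finite X] (h : Cfsg.FamilyControlsStrongFusionIn p (ind 𝓦 X) ⊤) : FCtl p 𝓦 X := by
  intro S A g hA hAg
  exact family_fusion_transport (ind_conj h𝓦 X) ⊤ (S : Subgroup X) le_top S.isPGroup'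
    (by rw [Subgroup.relIndex_top_right]; exact S.not_dvd_index) h A g (Subgroup.mem_top _) hA hAg

theorem ctlIn_of_fctlAt {X : Type u} [Group X] [Finite X] (S : Sylow p X)
    (h : FCtlAt 𝓦 X (S : Subgroup X)) :
    Cfsg.FamilyControlsStrongFusionIn p (ind 𝓦 X) ⊤ := by
  refine ⟨S, le_top, S.isPGroup', ?_, ?_⟩
  · rw [Subgroup.relIndex_top_right]; exact S.not_dvd_index
  · intro A g _ hA hAg
    obtain ⟨u, hu, hag⟩ := h A g hA hAg
    obtain ⟨n, c, h0, h2, h3, hlast⟩ := hu.to_fin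
    refine ⟨n, c, h0, h2, h3, ?_⟩
    intro a ha
    rw [hlast]
    exact hag a ha

/-- chains map forward along homomorphisms injective on `S` -/
theorem LChain.map (h𝓦 : ∀ W ∈ 𝓦, Cfsg.IsCharPFunctor.{u} p W) {X Y : Type u} [Group X]
    [Group Y] [Finite X] (f : X →* Y) (S : Subgroup X) (hS : IsPGroup p S)
    (hinj : ∀ a ∈ S, f a = 1 → a = 1) {A : Set X} {u : X}
    (h : LChain (ind 𝓦 X) ⊤ S A u) : LChain (ind 𝓦 Y) ⊤ (S.map f) (f '' A) (f u) := by
  induction h with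
  | nil hA =>
    rw [map_one]
    refine LChain.nil _ ?_
    rintro _ ⟨a, ha, rfl⟩
    exact ⟨a, hA ha, rfl⟩
  | step u y W' hW' hy _ hA ih =>
    obtain ⟨W, hW, rfl⟩ := hW'
    rw [map_mul]
    refine LChain.step _ _ _ (Cfsg.inducedFunctor (G := Y) W) ⟨W, hW, rfl⟩ ?_ ih ?_
    · refine ⟨Subgroup.mem_top _, ?_⟩
      rw [induced_map (h𝓦 W hW) f S hS hinj]
      exact Subgroup.le_normalizer_map f ⟨y, hy.2, rfl⟩
    · rintro _ ⟨_, ⟨a, ha, rfl⟩, rfl⟩
      refine ⟨(y * u) * a * (y * u)⁻¹, hA ⟨a, ha, rfl⟩, ?_⟩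
      simp only [map_mul, map_inv]

theorem Good.map (h𝓦 : ∀ W ∈ 𝓦, Cfsg.IsCharPFunctor.{u} p W) {X Y : Type u} [Group X]
    [Group Y] [Finite X] (f : X →* Y) (S : Subgroup X) (hS : IsPGroup p S)
    (hinj : ∀ a ∈ S, f a = 1 → a = 1) {A : Set X} {g : X}
    (h : Good (ind 𝓦 X) S A g) : Good (ind 𝓦 Y) (S.map f) (f '' A) (f g) := by
  obtain ⟨u, hu, hag⟩ := h
  refine ⟨f u, LChain.map h𝓦 f S hS hinj hu, ?_⟩
  rintro _ ⟨a, ha, rfl⟩
  have := congrArg f (hag a ha)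
  simpa only [map_mul, map_inv] using this

/-- control in the group `↥H` gives goodness in `X` for elements of `H` -/
theorem good_of_sub (h𝓦 : ∀ W ∈ 𝓦, Cfsg.IsCharPFunctor.{u} p W) {X : Type u} [Group X] [Finite X]
    (S : Sylow p X) (H : Subgroup X) (hSH : (S : Subgroup X) ≤ H) (h : FCtl p 𝓦 ↥H) :
    ∀ (A : Set X) (g : X), g ∈ H → A ⊆ ((S : Subgroup X) : Set X) →
      lcs g A ⊆ ((S : Subgroup X) : Set X) → Good (ind 𝓦 X) (S : Subgroup X) A g := by
  intro A g hg hA hAg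
  set S' : Sylow p ↥H := S.subtype hSH with hS'
  have hS'coe : (S' : Subgroup ↥H) = (S : Subgroup X).subgroupOf H := Sylow.coe_subtype S hSH
  have hmap : (S' : Subgroup ↥H).map H.subtype = (S : Subgroup X) := by
    rw [hS'coe]; exact Subgroup.map_subgroupOf_eq_of_le hSH
  set A' : Set ↥H := {a | (a : X) ∈ A} with hA'
  have himg : H.subtype '' A' = A := by
    ext x
    constructor
    · rintro ⟨a, ha, rfl⟩
      exact ha
    · intro hx
      exact ⟨⟨x, hSH (hA hx)⟩, hx, rfl⟩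
  have hA'S : A' ⊆ ((S' : Subgroup ↥H) : Set ↥H) := by
    intro a ha
    rw [hS'coe]
    exact hA ha
  have hA'g : lcs (⟨g, hg⟩ : ↥H) A' ⊆ ((S' : Subgroup ↥H) : Set ↥H) := by
    rintro _ ⟨a, ha, rfl⟩
    rw [hS'coe]
    show ((⟨g, hg⟩ * a * (⟨g, hg⟩ : ↥H)⁻¹ : ↥H) : X) ∈ (S : Subgroup X)
    exact hAg ⟨(a : X), ha, rfl⟩
  have h1 := h S' A' ⟨g, hg⟩ hA'S hA'g
  have h2 := Good.map h𝓦 H.subtype (S' : Subgroup ↥H) S'.isPGroup'
    (fun a _ ha => Subtype.ext (by simpa using ha)) h1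
  rw [hmap, himg] at h2
  exact h2

/-- transport of family control along an isomorphism -/
theorem FCtl.of_equiv (h𝓦 : ∀ W ∈ 𝓦, Cfsg.IsCharPFunctor.{u} p W) {Y₁ Y₂ : Type u} [Group Y₁]
    [Group Y₂] [Finite Y₁] (e : Y₁ ≃* Y₂) (h : FCtl p 𝓦 Y₁) : FCtl p 𝓦 Y₂ := by
  haveI : Finite Y₂ := Finite.of_equiv _ e.toEquiv
  intro T A g hA hAg
  let T₁ : Sylow p Y₁ := T.comapOfInjective e.toMonoidHom e.injective
    (by rw [MonoidHom.range_eq_top.2 e.surjective]; exact le_top)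
  have hT₁ : (T₁ : Subgroup Y₁) = (T : Subgroup Y₂).comap e.toMonoidHom := rfl
  have hmap : (T₁ : Subgroup Y₁).map e.toMonoidHom = (T : Subgroup Y₂) := by
    rw [hT₁, Subgroup.map_comap_eq_self_of_surjective e.surjective]
  set A₁ : Set Y₁ := {a | e a ∈ A} with hA₁
  have himg : e.toMonoidHom '' A₁ = A := by
    ext x
    constructor
    · rintro ⟨a, ha, rfl⟩
      exact ha
    · intro hx
      refine ⟨e.symm x, ?_, by simp⟩
      show e (e.symm x) ∈ A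
      rw [e.apply_symm_apply]; exact hx
  have hA₁T : A₁ ⊆ ((T₁ : Subgroup Y₁) : Set Y₁) := by
    intro a ha
    rw [hT₁]
    exact hA ha
  have hA₁g : lcs (e.symm g) A₁ ⊆ ((T₁ : Subgroup Y₁) : Set Y₁) := by
    rintro _ ⟨a, ha, rfl⟩
    rw [hT₁]
    show e (e.symm g * a * (e.symm g)⁻¹) ∈ (T : Subgroup Y₂)
    rw [map_mul, map_mul, map_inv, e.apply_symm_apply]
    exact hAg ⟨e a, ha, rfl⟩
  have h1 := h T₁ A₁ (e.symm g) hA₁T hA₁g
  have h2 := Good.map h𝓦 e.toMonoidHom (T₁ : Subgroup Y₁) T₁.isPGroup'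
    (fun a _ ha => e.injective (by simpa using ha)) h1
  rw [hmap, himg] at h2
  simpa using h2

end Cfsg.Agent.Lib.Helper11.FSF
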