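import Mathlib
import Cfsg.Agent.Lib.Helper11.FSF1

/-!
Family control of strong fusion in sections: lifting through a normal `p'`-subgroup (helper11).
-/

set_option autoImplicit false
set_option linter.unusedSectionVars false
open Cfsg

universe u

namespace Cfsg.Agent.Lib.Helper11.FSF

open Cfsg.Agent.Lib.Helper29 Cfsg.Agent.Lib.Helper1 Cfsg.Agent.Lib.Helper16
open Cfsg.Agent.S2005 (induced_map induced_map_eq induced_le induced_ne_bot
  normalizer_le_normalizer_induced normalizer_map_mk not_dvd_relIndex_sup)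
open Cfsg.Agent.Lib.Helper11.SFS (conjFunctor sylow_le_normalizer_induced inj_on_of_coprime
  cj_closure_le)

variable {p : ℕ} [Fact p.Prime] {𝓦 : Set (∀ (Q : Type u) [Group Q], Subgroup Q)}

/-- lifting a chain through a normal `p'`-subgroup -/
theorem lift_chain (h𝓦 : ∀ W ∈ 𝓦, Cfsg.IsCharPFunctor.{u} p W) {X : Type u} [Group X] [Finite X]
    (K : Subgroup X) [K.Normal] (hK : (Nat.card K).Coprime p) (S : Sylow p X)
    {Ab : Set (X ⧸ K)} {ub : X ⧸ K}
    (h : LChain (ind 𝓦 (X ⧸ K)) ⊤ ((S : Subgroup X).map (QuotientGroup.mk' K)) Ab ub) :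
    ∀ A : Set X, A ⊆ ((S : Subgroup X) : Set X) → (QuotientGroup.mk' K) '' A = Ab →
      ∃ u : X, (QuotientGroup.mk' K) u = ub ∧ LChain (ind 𝓦 X) ⊤ (S : Subgroup X) A u := by
  classical
  have hinj := inj_on_of_coprime K hK (S : Subgroup X) S.isPGroup'
  induction h with
  | nil hAb =>
    intro A hA _
    exact ⟨1, map_one _, LChain.nil A hA⟩
  | step ub yb W' hW' hyb _ hAb ih =>
    intro A hA himg
    obtain ⟨u, hu, hchu⟩ := ih A hA himg
    obtain ⟨W, hW, rfl⟩ := hW'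
    set π := QuotientGroup.mk' K with hπ
    set Wd : Subgroup X := Cfsg.inducedFunctor W (S : Subgroup X) with hWd
    have hWb : Cfsg.inducedFunctor W ((S : Subgroup X).map π) = Wd.map π :=
      induced_map (h𝓦 W hW) π (S : Subgroup X) S.isPGroup' hinj
    have hWdp : IsPGroup p Wd := S.isPGroup'.to_le (induced_le _)
    set N : Subgroup X := Subgroup.normalizer (Wd : Set X) with hN
    have hSN : (S : Subgroup X) ≤ N := sylow_le_normalizer_induced (h𝓦 W hW) _ S.isPGroup'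
    have hyb2 := hyb.2
    simp only [] at hyb2
    rw [hWb, normalizer_map_mk Wd K hWdp hK] at hyb2
    obtain ⟨n, hn, rfl⟩ := hyb2
    have hn' : n ∈ N := hn
    set A₁ : Set X := lcs u A with hA₁
    have hA₁S : A₁ ⊆ ((S : Subgroup X) : Set X) := hchu.image_subset
    set B : Subgroup X := Subgroup.closure A₁ with hB
    have hBS : B ≤ (S : Subgroup X) := (Subgroup.closure_le _).mpr hA₁S
    set L₀ : Subgroup X := ((S : Subgroup X) ⊔ K) ⊓ N with hL₀
    have hSL₀ : (S : Subgroup X) ≤ L₀ := le_inf le_sup_left hSN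
    have hBnL₀ : cj n B ≤ L₀ := by
      apply cj_closure_le
      rintro _ ⟨a, ha, rfl⟩
      refine ⟨?_, N.mul_mem (N.mul_mem hn' (hSN (hA₁S ⟨a, ha, rfl⟩))) (N.inv_mem hn')⟩
      have h1 : π (n * (u * a * u⁻¹) * n⁻¹) ∈ (S : Subgroup X).map π := by
        apply hAb
        refine ⟨π a, ?_, ?_⟩
        · rw [← himg]; exact ⟨a, ha, rfl⟩
        · show (π n * ub) * π a * (π n * ub)⁻¹ = _
          rw [← hu]
          simp only [map_mul, map_inv]
          group
      obtain ⟨s, hs, hsn⟩ := h1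
      have h2 : s⁻¹ * (n * (u * a * u⁻¹) * n⁻¹) ∈ K := by
        rw [← QuotientGroup.ker_mk' K, MonoidHom.mem_ker]
        show π (s⁻¹ * (n * (u * a * u⁻¹) * n⁻¹)) = 1
        rw [map_mul, map_inv, hsn, inv_mul_cancel]
      have : n * (u * a * u⁻¹) * n⁻¹ = s * (s⁻¹ * (n * (u * a * u⁻¹) * n⁻¹)) := by group
      rw [this]
      exact Subgroup.mul_mem_sup hs h2
    have hBnp : IsPGroup p (cj n B) := isPGroup_cj (S.isPGroup'.to_le hBS)
    have hidx : ¬ p ∣ (S : Subgroup X).relIndex L₀ := by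
      have h1 := not_dvd_relIndex_sup (p := p) (S : Subgroup X) K hK
      have h2 : (S : Subgroup X).relIndex L₀ * L₀.relIndex ((S : Subgroup X) ⊔ K) =
          (S : Subgroup X).relIndex ((S : Subgroup X) ⊔ K) :=
        Subgroup.relIndex_mul_relIndex _ _ _ hSL₀ inf_le_left
      intro hd
      apply h1
      rw [← h2]
      exact Dvd.dvd.mul_right hd _
    have hsyl : IsSylowSub p (S : Subgroup X) L₀ :=
      isSylowSub_of_not_dvd_relIndex hSL₀ S.isPGroup' hidx
    obtain ⟨y, hyL₀, hy⟩ := exists_cj_le_of_isSylowSub hsyl hBnL₀ hBnp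
    have hyN : y ∈ N := hyL₀.2
    have hysup : y ∈ (S : Subgroup X) ⊔ K := hyL₀.1
    rw [Subgroup.mem_sup_of_normal_right] at hysup
    obtain ⟨s', hs', k', hk', rfl⟩ := hysup
    have hk'N : k' ∈ N := by
      have : k' = s'⁻¹ * (s' * k') := by group
      rw [this]
      exact N.mul_mem (N.inv_mem (hSN hs')) hyN
    have hk'Bn : cj k' (cj n B) ≤ (S : Subgroup X) := by
      have h1 : cj (s' * k') (cj n B) = cj s' (cj k' (cj n B)) := (cj_cj s' k' (cj n B)).symm
      rw [h1] at hy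
      intro z hz
      have h2 : s' * z * s'⁻¹ ∈ (S : Subgroup X) := hy (conj_mem_cj hz)
      have : z = s'⁻¹ * (s' * z * s'⁻¹) * s' := by group
      rw [this]
      exact Subgroup.mul_mem _ (Subgroup.mul_mem _ (Subgroup.inv_mem _ hs') h2) hs'
    have hk1 : π k' = 1 := by
      rw [← MonoidHom.mem_ker, QuotientGroup.ker_mk']; exact hk'
    refine ⟨(k' * n) * u, ?_, ?_⟩
    · rw [map_mul, map_mul, hk1, one_mul, hu]
    · refine LChain.step A u (k' * n) (Cfsg.inducedFunctor (G := X) W) ⟨W, hW, rfl⟩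
        ⟨Subgroup.mem_top _, N.mul_mem hk'N hn'⟩ hchu ?_
      rintro _ ⟨a, ha, rfl⟩
      have h1 : u * a * u⁻¹ ∈ B := Subgroup.subset_closure ⟨a, ha, rfl⟩
      have h2 : k' * (n * (u * a * u⁻¹) * n⁻¹) * k'⁻¹ ∈ (S : Subgroup X) :=
        hk'Bn (conj_mem_cj (conj_mem_cj h1))
      have e : (k' * n * u) * a * (k' * n * u)⁻¹ = k' * (n * (u * a * u⁻¹) * n⁻¹) * k'⁻¹ := by group
      show (k' * n * u) * a * (k' * n * u)⁻¹ ∈ (S : Subgroup X)
      rw [e]; exact h2

/-- lifting family control of strong fusion through a normal `p'`-subgroup -/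
theorem lift_pprime (h𝓦 : ∀ W ∈ 𝓦, Cfsg.IsCharPFunctor.{u} p W) {X : Type u} [Group X] [Finite X]
    (K : Subgroup X) [K.Normal] (hK : (Nat.card K).Coprime p) (S : Sylow p X)
    (h : FCtl p 𝓦 (X ⧸ K)) : FCtlAt 𝓦 X (S : Subgroup X) := by
  classical
  intro A g hA hAg
  set π := QuotientGroup.mk' K with hπ
  have hsurj : Function.Surjective π := QuotientGroup.mk'_surjective K
  set Sb : Sylow p (X ⧸ K) := S.mapSurjective hsurj with hSb
  have hSbcoe : (Sb : Subgroup (X ⧸ K)) = (S : Subgroup X).map π := Sylow.coe_mapSurjective _ _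
  have hinj := inj_on_of_coprime K hK (S : Subgroup X) S.isPGroup'
  have hinj' : ∀ a ∈ (S : Subgroup X), ∀ b ∈ (S : Subgroup X), π a = π b → a = b := by
    intro a ha b hb hab
    have h1 : π (a * b⁻¹) = 1 := by rw [map_mul, map_inv, hab, mul_inv_cancel]
    have := hinj (a * b⁻¹) (mul_mem ha (inv_mem hb)) h1
    exact mul_inv_eq_one.mp this
  have hAb : π '' A ⊆ ((Sb : Subgroup (X ⧸ K)) : Set (X ⧸ K)) := by
    rintro _ ⟨a, ha, rfl⟩
    rw [hSbcoe]
    exact ⟨a, hA ha, rfl⟩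
  have hAbg : lcs (π g) (π '' A) ⊆ ((Sb : Subgroup (X ⧸ K)) : Set (X ⧸ K)) := by
    rintro _ ⟨_, ⟨a, ha, rfl⟩, rfl⟩
    rw [hSbcoe]
    exact ⟨g * a * g⁻¹, hAg ⟨a, ha, rfl⟩, by simp⟩
  obtain ⟨ub, hub, hagb⟩ := h Sb (π '' A) (π g) hAb hAbg
  rw [hSbcoe] at hub
  obtain ⟨u, hu, hchu⟩ := lift_chain h𝓦 K hK S hub A hA rfl
  refine ⟨u, hchu, ?_⟩
  intro a ha
  apply hinj' _ (hchu.image_subset ⟨a, ha, rfl⟩) _ (hAg ⟨a, ha, rfl⟩)
  have := hagb (π a) ⟨a, ha, rfl⟩
  rw [← hu] at this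
  simpa only [map_mul, map_inv] using this

end Cfsg.Agent.Lib.Helper11.FSF
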