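import Mathlib
import Cfsg.Agent.Lib.Helper11.FSF2

/-!
Family control of strong fusion in sections: the case `X = C_X(O_p(X)) S` (helper11).
-/

set_option autoImplicit false
set_option linter.unusedSectionVars false
open Cfsg

universe u

namespace Cfsg.Agent.Lib.Helper11.FSF

open Cfsg.Agent.Lib.Helper29 Cfsg.Agent.Lib.Helper1 Cfsg.Agent.Lib.Helper16
open Cfsg.Agent.S2005 (induced_map induced_map_eq induced_le induced_ne_bot
  normalizer_le_normalizer_induced)
open Cfsg.Agent.Lib.Helper11.SFS (conjFunctor sylow_le_normalizer_induced inj_on_of_coprime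
  cj_closure_le stab_claim)

variable {p : ℕ} [Fact p.Prime] {𝓦 : Set (∀ (Q : Type u) [Group Q], Subgroup Q)}

theorem good_image_subset {X : Type u} [Group X] {𝓥 : Set (Subgroup X → Subgroup X)}
    {S : Subgroup X} {A : Set X} {g : X} (h : Good 𝓥 S A g) : lcs g A ⊆ (S : Set X) := by
  obtain ⟨u, hu, hag⟩ := h
  rw [← lcs_congr hag]
  exact hu.image_subset

theorem good_subset {X : Type u} [Group X] {𝓥 : Set (Subgroup X → Subgroup X)}
    {S : Subgroup X} {A : Set X} {g : X} (h : Good 𝓥 S A g) : A ⊆ (S : Set X) := by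
  obtain ⟨u, hu, _⟩ := h
  exact hu.subset

/-- lifting a chain of `X ⧸ Q` to `X`, each step being realized in `X` -/
theorem lift_chain_quot {X : Type u} [Group X] [Finite X]
    (Q : Subgroup X) [Q.Normal] (S : Subgroup X) (hQS : Q ≤ S)
    (hstep : ∀ W ∈ 𝓦, ∀ y : X, (QuotientGroup.mk' Q) y ∈ Subgroup.normalizer
        ((Cfsg.inducedFunctor W (S.map (QuotientGroup.mk' Q)) : Subgroup (X ⧸ Q)) : Set (X ⧸ Q)) →
      ∀ B : Set X, B ⊆ (S : Set X) → lcs y B ⊆ (S : Set X) → Good (ind 𝓦 X) S B y)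
    {Bb : Set (X ⧸ Q)} {ub : X ⧸ Q}
    (h : LChain (ind 𝓦 (X ⧸ Q)) ⊤ (S.map (QuotientGroup.mk' Q)) Bb ub) :
    ∀ B : Set X, B ⊆ (S : Set X) → (QuotientGroup.mk' Q) '' B = Bb →
      ∃ u : X, (QuotientGroup.mk' Q) u = ub ∧ Good (ind 𝓦 X) S B u := by
  induction h with
  | nil hAb =>
    intro B hB _
    exact ⟨1, map_one _, Good.one hB⟩
  | step ub yb W' hW' hyb _ hAb ih =>
    intro B hB himg
    obtain ⟨u, hu, hgu⟩ := ih B hB himg
    obtain ⟨W, hW, rfl⟩ := hW'
    set π := QuotientGroup.mk' Q with hπ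
    obtain ⟨y, rfl⟩ := QuotientGroup.mk'_surjective Q yb
    have hB₁ : lcs u B ⊆ (S : Set X) := good_image_subset hgu
    have hyB₁ : lcs y (lcs u B) ⊆ (S : Set X) := by
      rintro _ ⟨_, ⟨b, hb, rfl⟩, rfl⟩
      have h1 : π (y * (u * b * u⁻¹) * y⁻¹) ∈ S.map π := by
        apply hAb
        refine ⟨π b, ?_, ?_⟩
        · rw [← himg]; exact ⟨b, hb, rfl⟩
        · show (π y * ub) * π b * (π y * ub)⁻¹ = _
          rw [← hu]
          simp only [map_mul, map_inv]
          group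
      obtain ⟨s, hs, hsn⟩ := h1
      have h2 : s⁻¹ * (y * (u * b * u⁻¹) * y⁻¹) ∈ Q := by
        rw [← QuotientGroup.ker_mk' Q, MonoidHom.mem_ker]
        show π (s⁻¹ * (y * (u * b * u⁻¹) * y⁻¹)) = 1
        rw [map_mul, map_inv, hsn, inv_mul_cancel]
      have : y * (u * b * u⁻¹) * y⁻¹ = s * (s⁻¹ * (y * (u * b * u⁻¹) * y⁻¹)) := by group
      show y * (u * b * u⁻¹) * y⁻¹ ∈ S
      rw [this]
      exact S.mul_mem hs (hQS h2)
    have hgy := hstep W hW y hyb.2 (lcs u B) hB₁ hyB₁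
    exact ⟨y * u, by rw [map_mul, hu], Good.trans hgu hgy⟩

/-- the case `C_X(Q) S = X` -/
theorem case_full (h𝓦 : ∀ W ∈ 𝓦, Cfsg.IsCharPFunctor.{u} p W) {X : Type u} [Group X] [Finite X]
    (S : Sylow p X)
    (IHsub : ∀ H : Subgroup X, H ≠ ⊤ → FCtl p 𝓦 ↥H)
    (IHquot : FCtl p 𝓦 (X ⧸ Cfsg.pCore p X))
    (hSC : ¬ (S : Subgroup X) ⊓ Subgroup.centralizer ((Cfsg.pCore p X : Subgroup X) : Set X) ≤
      Cfsg.pCore p X)
    (hCS : Subgroup.centralizer ((Cfsg.pCore p X : Subgroup X) : Set X) ⊔ (S : Subgroup X) = ⊤) :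
    FCtlAt 𝓦 X (S : Subgroup X) := by
  classical
  set Q : Subgroup X := Cfsg.pCore p X with hQ
  haveI hQn : Q.Normal := pCore_normal p X
  have hQp : IsPGroup p Q := pCore_isPGroup p X
  have hQS : Q ≤ (S : Subgroup X) := pCore_le_sylow S
  set π := QuotientGroup.mk' Q with hπ
  have hsurj : Function.Surjective π := QuotientGroup.mk'_surjective Q
  set Sb : Subgroup (X ⧸ Q) := (S : Subgroup X).map π with hSb
  have hSbp : IsPGroup p Sb := S.isPGroup'.map π
  have hSnQ : ¬ (S : Subgroup X) ≤ Q := fun hle => hSC (inf_le_left.trans hle)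
  have hSbne : Sb ≠ ⊥ := by
    intro hbot
    apply hSnQ
    intro s hs
    have : π s ∈ Sb := ⟨s, hs, rfl⟩
    rw [hbot, Subgroup.mem_bot] at this
    rw [← QuotientGroup.ker_mk' Q, MonoidHom.mem_ker]
    exact this
  have hSne : (S : Subgroup X) ≠ ⊤ := by
    intro htop
    apply hSnQ
    have hSn : (S : Subgroup X).Normal := by rw [htop]; infer_instance
    exact le_pCore hSn S.isPGroup'
  -- elements of S are good
  have hSgood : ∀ s ∈ (S : Subgroup X), ∀ B : Set X, B ⊆ ((S : Subgroup X) : Set X) →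
      Good (ind 𝓦 X) (S : Subgroup X) B s := by
    intro s hs B hB
    apply good_of_sub h𝓦 S (S : Subgroup X) le_rfl (IHsub _ hSne) B s hs hB
    rintro _ ⟨b, hb, rfl⟩
    exact Subgroup.mul_mem _ (Subgroup.mul_mem _ hs (hB hb)) (Subgroup.inv_mem _ hs)
  -- the steps of a chain in the quotient
  have hstep : ∀ W ∈ 𝓦, ∀ y : X, π y ∈ Subgroup.normalizer
        ((Cfsg.inducedFunctor W Sb : Subgroup (X ⧸ Q)) : Set (X ⧸ Q)) →
      ∀ B : Set X, B ⊆ ((S : Subgroup X) : Set X) → lcs y B ⊆ ((S : Subgroup X) : Set X) →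
        Good (ind 𝓦 X) (S : Subgroup X) B y := by
    intro W hW y hy B hB hyB
    have hW' := h𝓦 W hW
    set Wb : Subgroup (X ⧸ Q) := Cfsg.inducedFunctor W Sb with hWb
    have hWbne : Wb ≠ ⊥ := induced_ne_bot hW' Sb hSbp hSbne
    have hWbp : IsPGroup p Wb := hSbp.to_le (induced_le Sb)
    set P : Subgroup X := Wb.comap π with hP
    have hPp : IsPGroup p P := by
      apply IsPGroup.comap_of_ker_isPGroup hWbp
      rw [QuotientGroup.ker_mk']
      exact hQp
    set M₂ : Subgroup X := Subgroup.normalizer (P : Set X) with hM₂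
    have hM₂ne : M₂ ≠ ⊤ := by
      intro htop
      have hPn : P.Normal := Subgroup.normalizer_eq_top_iff.mp htop
      have hPQ : P ≤ Q := le_pCore hPn hPp
      apply hWbne
      rw [eq_bot_iff]
      intro w hw
      obtain ⟨x, rfl⟩ := hsurj w
      have hxP : x ∈ P := hw
      have hxQ : x ∈ Q := hPQ hxP
      rw [Subgroup.mem_bot]
      rw [← MonoidHom.mem_ker, QuotientGroup.ker_mk']
      exact hxQ
    have hcomapN : ∀ x : X, π x ∈ Subgroup.normalizer (Wb : Set (X ⧸ Q)) → x ∈ M₂ := by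
      intro x hx
      exact Subgroup.le_normalizer_comap π hx
    have hSM₂ : (S : Subgroup X) ≤ M₂ := by
      intro s hs
      apply hcomapN
      exact sylow_le_normalizer_induced hW' Sb hSbp ⟨s, hs, rfl⟩
    exact good_of_sub h𝓦 S M₂ hSM₂ (IHsub M₂ hM₂ne) B y (hcomapN y hy) hB hyB
  -- reading control of the quotient in the group
  have ctlQ : ∀ (B : Set X) (g : X), B ⊆ ((S : Subgroup X) : Set X) →
      lcs g B ⊆ ((S : Subgroup X) : Set X) →
      ∃ n : X, Good (ind 𝓦 X) (S : Subgroup X) B n ∧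
        ∀ b ∈ B, π (g * b * g⁻¹) = π (n * b * n⁻¹) := by
    intro B g hB hgB
    set Sb' : Sylow p (X ⧸ Q) := S.mapSurjective hsurj with hSb'
    have hSbcoe : (Sb' : Subgroup (X ⧸ Q)) = Sb := Sylow.coe_mapSurjective _ _
    have hBb : π '' B ⊆ ((Sb' : Subgroup (X ⧸ Q)) : Set (X ⧸ Q)) := by
      rintro _ ⟨b, hb, rfl⟩
      rw [hSbcoe]
      exact ⟨b, hB hb, rfl⟩
    have hBbg : lcs (π g) (π '' B) ⊆ ((Sb' : Subgroup (X ⧸ Q)) : Set (X ⧸ Q)) := by
      rintro _ ⟨_, ⟨b, hb, rfl⟩, rfl⟩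
      rw [hSbcoe]
      exact ⟨g * b * g⁻¹, hgB ⟨b, hb, rfl⟩, by simp⟩
    obtain ⟨ub, hub, hagb⟩ := IHquot Sb' (π '' B) (π g) hBb hBbg
    rw [hSbcoe] at hub
    obtain ⟨n, hn, hgn⟩ := lift_chain_quot Q (S : Subgroup X) hQS hstep hub B hB rfl
    refine ⟨n, hgn, ?_⟩
    intro b hb
    have := hagb (π b) ⟨b, hb, rfl⟩
    rw [← hn] at this
    simp only [map_mul, map_inv]
    exact this.symm
  -- Claim 1 : tame targets
  have claim1 : ∀ B : Subgroup X, Q ≤ B → B ≤ (S : Subgroup X) → ∀ g : X,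
      cj g B ≤ (S : Subgroup X) →
      ¬ p ∣ ((S : Subgroup X) ⊓ Subgroup.normalizer ((cj g B : Subgroup X) : Set X)).relIndex
        (Subgroup.normalizer ((cj g B : Subgroup X) : Set X)) →
      Good (ind 𝓦 X) (S : Subgroup X) (B : Set X) g := by
    intro B hQB hBS g hgB htame
    have hgb : lcs g (B : Set X) ⊆ ((S : Subgroup X) : Set X) := by
      rw [lcs_coe]; exact hgB
    obtain ⟨n, hngood, hnb⟩ := ctlQ (B : Set X) g hBS hgb
    -- Q ≤ cj g B
    have hQgB : Q ≤ cj g B := by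
      intro q hq
      rw [mem_cj]
      exact hQB (by simpa using hQn.conj_mem q hq g⁻¹)
    have hdiff : ∀ b ∈ B, (g * b * g⁻¹) * (n * b * n⁻¹)⁻¹ ∈ Q := by
      intro b hb
      rw [← QuotientGroup.ker_mk' Q, MonoidHom.mem_ker]
      show π ((g * b * g⁻¹) * (n * b * n⁻¹)⁻¹) = 1
      rw [map_mul, map_inv, hnb b hb, mul_inv_cancel]
    have hcjeq : cj n B = cj g B := by
      apply Subgroup.eq_of_le_of_card_ge
      · rintro _ ⟨b, hb, rfl⟩
        show n * b * n⁻¹ ∈ cj g B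
        have h1 : g * b * g⁻¹ ∈ cj g B := conj_mem_cj hb
        have h2 := hQgB (hdiff b hb)
        have e : n * b * n⁻¹ = ((g * b * g⁻¹) * (n * b * n⁻¹)⁻¹)⁻¹ * (g * b * g⁻¹) := by group
        rw [e]
        exact Subgroup.mul_mem _ (Subgroup.inv_mem _ h2) h1
      · rw [card_cj, card_cj]
    have hhN : g * n⁻¹ ∈ Subgroup.normalizer ((cj g B : Subgroup X) : Set X) := by
      apply mem_normalizer_of_cj_eq
      rw [← cj_cj, ← hcjeq, cj_inv_cj, hcjeq]
    have hstab : ∀ b' ∈ cj g B, (g * n⁻¹) * b' * (g * n⁻¹)⁻¹ * b'⁻¹ ∈ Q := by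
      intro b' hb'
      rw [← hcjeq] at hb'
      obtain ⟨b, hb, rfl⟩ := hb'
      have := hdiff b hb
      have e : (g * n⁻¹) * ((MulAut.conj n).toMonoidHom b) * (g * n⁻¹)⁻¹ *
          ((MulAut.conj n).toMonoidHom b)⁻¹ = (g * b * g⁻¹) * (n * b * n⁻¹)⁻¹ := by
        simp only [MulEquiv.coe_toMonoidHom, MulAut.conj_apply]
        group
      rw [e]; exact this
    obtain ⟨s, hs, hsb⟩ := stab_claim S Q hQp hCS (cj g B) hgB htame (g * n⁻¹) hhN hstab
    have hnBS : lcs n (B : Set X) ⊆ ((S : Subgroup X) : Set X) := good_image_subset hngood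
    have hgs := hSgood s hs (lcs n (B : Set X)) hnBS
    refine Good.congr (Good.trans hngood hgs) ?_
    intro b hb
    have hnbB' : n * b * n⁻¹ ∈ cj g B := by
      rw [← hcjeq]; exact conj_mem_cj hb
    have h2 := hsb _ hnbB'
    calc s * n * b * (s * n)⁻¹ = s * (n * b * n⁻¹) * s⁻¹ := by group
      _ = (g * n⁻¹) * (n * b * n⁻¹) * (g * n⁻¹)⁻¹ := h2.symm
      _ = g * b * g⁻¹ := by group
  -- Claim 2 : general targets
  have claim2 : ∀ B : Subgroup X, Q ≤ B → B ≤ (S : Subgroup X) → ∀ g : X,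
      cj g B ≤ (S : Subgroup X) → Good (ind 𝓦 X) (S : Subgroup X) (B : Set X) g := by
    intro B hQB hBS g hgB
    set B' : Subgroup X := cj g B with hB'
    have hB'p : IsPGroup p B' := S.isPGroup'.to_le hgB
    obtain ⟨t, htS, htsyl⟩ := exists_cj_sylCond S B' B' Subgroup.le_normalizer hB'p
    rw [sylCond_iff] at htsyl
    have hQB' : Q ≤ B' := by
      intro q hq
      rw [hB', mem_cj]
      exact hQB (by simpa using hQn.conj_mem q hq g⁻¹)
    have e1 : cj (t * g) B = cj t B' := (cj_cj t g B).symm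
    have g1 := claim1 B hQB hBS (t * g) (by rw [e1]; exact htS) (by rw [e1]; exact htsyl)
    have g2 := claim1 B' hQB' hgB t htS htsyl
    have g3 := Good.symm g2
    have e2 : lcs (t * g) (B : Set X) = lcs t (B' : Set X) := by
      rw [lcs_mul, lcs_coe g B]
    rw [← e2] at g3
    have g4 := Good.trans g1 g3
    have e3 : t⁻¹ * (t * g) = g := by group
    rwa [e3] at g4
  -- conclusion
  intro A g hA hAg
  set B : Subgroup X := Subgroup.closure A ⊔ Q with hB
  have hBS : B ≤ (S : Subgroup X) := sup_le ((Subgroup.closure_le _).mpr hA) hQS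
  have hgB : cj g B ≤ (S : Subgroup X) := by
    rw [hB, cj_sup]
    apply sup_le
    · exact cj_closure_le g A _ (fun a ha => hAg ⟨a, ha, rfl⟩)
    · rw [cj_normal Q g]; exact hQS
  have := claim2 B le_sup_right hBS g hgB
  exact Good.mono this (fun a ha => (le_sup_left : Subgroup.closure A ≤ B) (Subgroup.subset_closure ha))

end Cfsg.Agent.Lib.Helper11.FSF
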