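import Mathlib
import Cfsg.Agent.Lib.Helper11.FSF3

/-!
Family control of strong fusion in sections: the case `C_X(O_p(X)) S ≠ X` (helper11).
-/

set_option autoImplicit false
set_option linter.unusedSectionVars false
open Cfsg

universe u

namespace Cfsg.Agent.Lib.Helper11.FSF

open Cfsg.Agent.Lib.Helper29 Cfsg.Agent.Lib.Helper1 Cfsg.Agent.Lib.Helper16
open Cfsg.Agent.S2005 (induced_map induced_map_eq induced_le induced_ne_bot
  normalizer_le_normalizer_induced)
open Cfsg.Agent.Lib.Helper11.SFS (conjFunctor sylow_le_normalizer_induced inj_on_of_coprime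
  cj_closure_le stab_claim not_dvd_relIndex_sylow)

variable {p : ℕ} [Fact p.Prime] {𝓦 : Set (∀ (Q : Type u) [Group Q], Subgroup Q)}

/-- the case `C_X(Q) S ≠ X` -/
theorem case_proper (h𝓦 : ∀ W ∈ 𝓦, Cfsg.IsCharPFunctor.{u} p W) {X : Type u} [Group X] [Finite X]
    (S : Sylow p X)
    (IHsub : ∀ H : Subgroup X, H ≠ ⊤ → FCtl p 𝓦 ↥H)
    (hSC : ¬ (S : Subgroup X) ⊓ Subgroup.centralizer ((Cfsg.pCore p X : Subgroup X) : Set X) ≤
      Cfsg.pCore p X)
    (hG₂ : Subgroup.centralizer ((Cfsg.pCore p X : Subgroup X) : Set X) ⊔ (S : Subgroup X) ≠ ⊤) :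
    FCtlAt 𝓦 X (S : Subgroup X) := by
  classical
  set Q : Subgroup X := Cfsg.pCore p X with hQ
  haveI hQn : Q.Normal := pCore_normal p X
  have hQp : IsPGroup p Q := pCore_isPGroup p X
  have hQS : Q ≤ (S : Subgroup X) := pCore_le_sylow S
  set C : Subgroup X := Subgroup.centralizer (Q : Set X) with hC
  haveI hCn : C.Normal := Subgroup.normal_centralizer
  set H : Subgroup X := Q ⊔ C with hH
  haveI hHn : H.Normal := Subgroup.sup_normal Q C
  set R : Subgroup X := (S : Subgroup X) ⊓ H with hR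
  have hQR : Q ≤ R := le_inf hQS le_sup_left
  have hRS : R ≤ (S : Subgroup X) := inf_le_left
  have hRp : IsPGroup p R := S.isPGroup'.to_le hRS
  have hRne : ¬ R ≤ Q := by
    intro hle
    apply hSC
    exact (inf_le_inf_left _ (le_sup_right : C ≤ H)).trans hle
  set M : Subgroup X := Subgroup.normalizer (R : Set X) with hM
  have hMne : M ≠ ⊤ := by
    intro htop
    have hRn : R.Normal := Subgroup.normalizer_eq_top_iff.mp htop
    exact hRne (le_pCore hRn hRp)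
  have hSM : (S : Subgroup X) ≤ M := by
    intro s hs
    apply mem_normalizer_of_cj_eq
    rw [hR, cj_inf, cj_normal H s]
    congr 1
    exact cj_eq_of_mem_normalizer (Subgroup.le_normalizer hs)
  set G₂ : Subgroup X := C ⊔ (S : Subgroup X) with hG₂def
  have hSG₂ : (S : Subgroup X) ≤ G₂ := le_sup_right
  have ctl₂ := good_of_sub h𝓦 S G₂ hSG₂ (IHsub G₂ hG₂)
  have ctlM := good_of_sub h𝓦 S M hSM (IHsub M hMne)
  intro A g hA hAg'
  have hAg : ∀ a ∈ A, g * a * g⁻¹ ∈ (S : Subgroup X) := fun a ha => hAg' ⟨a, ha, rfl⟩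
  -- Frattini decomposition g = m * c
  obtain ⟨m₀, hm₀, h', hh', hg⟩ := frattini_decomp S H g
  rw [hH, Subgroup.mem_sup_of_normal_right] at hh'
  obtain ⟨q, hq, c, hc, rfl⟩ := hh'
  set m : X := m₀ * q with hm
  have hmM : m ∈ M := M.mul_mem hm₀ (Subgroup.le_normalizer (hQR hq))
  have hg' : g = m * c := by rw [hg, hm]; group
  -- the p-subgroup P₁
  set P₁ : Subgroup X := Subgroup.closure ((fun a => c * a * c⁻¹) '' A) ⊔ R with hP₁
  have hP₁le : P₁ ≤ cj m⁻¹ (S : Subgroup X) := by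
    rw [hP₁]
    apply sup_le
    · rw [Subgroup.closure_le]
      rintro _ ⟨a, ha, rfl⟩
      rw [SetLike.mem_coe, mem_cj]
      have := hAg a ha
      rw [hg'] at this
      have e : m⁻¹⁻¹ * (c * a * c⁻¹) * m⁻¹ = m * c * a * (m * c)⁻¹ := by group
      rw [e]; exact this
    · intro r hr
      rw [mem_cj]
      have := (Subgroup.mem_normalizer_iff.mp hmM r).mp hr
      have e : m⁻¹⁻¹ * r * m⁻¹ = m * r * m⁻¹ := by group
      rw [e]; exact hRS this
  have hP₁p : IsPGroup p P₁ := (isPGroup_cj S.isPGroup').to_le hP₁le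
  have hP₁G₂ : P₁ ≤ G₂ := by
    rw [hP₁]
    apply sup_le
    · rw [Subgroup.closure_le]
      rintro _ ⟨a, ha, rfl⟩
      have hcG : c ∈ G₂ := (le_sup_left : C ≤ G₂) hc
      exact G₂.mul_mem (G₂.mul_mem hcG (hSG₂ (hA ha))) (G₂.inv_mem hcG)
    · exact hRS.trans hSG₂
  have hsyl : IsSylowSub p (S : Subgroup X) G₂ :=
    isSylowSub_of_not_dvd_relIndex hSG₂ S.isPGroup' (not_dvd_relIndex_sylow S hSG₂)
  obtain ⟨u, huG₂, hu⟩ := exists_cj_le_of_isSylowSub hsyl hP₁G₂ hP₁p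
  have huM : u ∈ M := by
    apply mem_normalizer_of_cj_eq
    apply Subgroup.eq_of_le_of_card_ge
    · rw [hR]
      apply le_inf
      · exact (cj_mono (le_sup_right : R ≤ P₁)).trans hu
      · have := cj_mono (g := u) (inf_le_right : R ≤ H)
        rwa [cj_normal H u] at this
    · rw [card_cj]
  -- first step : u * c ∈ G₂
  have hucG₂ : u * c ∈ G₂ := G₂.mul_mem huG₂ ((le_sup_left : C ≤ G₂) hc)
  have huc : ∀ a ∈ A, (u * c) * a * (u * c)⁻¹ ∈ (S : Subgroup X) := by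
    intro a ha
    have h1 : c * a * c⁻¹ ∈ P₁ :=
      (le_sup_left : Subgroup.closure ((fun a => c * a * c⁻¹) '' A) ≤ P₁)
        (Subgroup.subset_closure ⟨a, ha, rfl⟩)
    have h2 := hu (conj_mem_cj (g := u) h1)
    have e : u * c * a * (u * c)⁻¹ = u * (c * a * c⁻¹) * u⁻¹ := by group
    rw [e]; exact h2
  have huc' : lcs (u * c) A ⊆ ((S : Subgroup X) : Set X) := by
    rintro _ ⟨a, ha, rfl⟩
    exact huc a ha
  have g₂ := ctl₂ A (u * c) hucG₂ hA huc'
  -- second step : m * u⁻¹ ∈ M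
  have hmuM : m * u⁻¹ ∈ M := M.mul_mem hmM (M.inv_mem huM)
  have hmu : lcs (m * u⁻¹) (lcs (u * c) A) ⊆ ((S : Subgroup X) : Set X) := by
    rintro _ ⟨_, ⟨a, ha, rfl⟩, rfl⟩
    have e : m * u⁻¹ * (u * c * a * (u * c)⁻¹) * (m * u⁻¹)⁻¹ = (m * c) * a * (m * c)⁻¹ := by group
    show m * u⁻¹ * (u * c * a * (u * c)⁻¹) * (m * u⁻¹)⁻¹ ∈ (S : Subgroup X)
    rw [e, ← hg']
    exact hAg a ha
  have g₃ := ctlM (lcs (u * c) A) (m * u⁻¹) hmuM huc' hmu
  have g₄ := Good.trans g₂ g₃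
  have e : m * u⁻¹ * (u * c) = g := by rw [hg']; group
  rwa [e] at g₄

end Cfsg.Agent.Lib.Helper11.FSF
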