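import Mathlib
import Cfsg.Agent.Lib.Helper11.FSF4

/-!
Family control of strong fusion in sections: the main induction (Glauberman) (helper11).
If a set `𝓦` of functors controls strong fusion in every section `G*` with
`C(O_p(G*)) ≤ O_p(G*)`, then it controls strong fusion in every section.
-/

set_option autoImplicit false
set_option linter.unusedSectionVars false
open Cfsg

universe u

namespace Cfsg.Agent.Lib.Helper11.FSF

open Cfsg.Agent.Lib.Helper29 Cfsg.Agent.Lib.Helper1 Cfsg.Agent.Lib.Helper16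
open Cfsg.Agent.S2005 (induced_map induced_map_eq induced_le induced_ne_bot
  normalizer_le_normalizer_induced IsSec map_pCore_equiv)
open Cfsg.Agent.Lib.Helper11.SFS (conjFunctor card_quotient_lt centralizer_le_of_inf_le)

section Defs

variable (p : ℕ) [Fact p.Prime] (𝓦 : Set (∀ (Q : Type u) [Group Q], Subgroup Q))

/-- the local hypothesis on a single group -/
def LocF (Y : Type u) [Group Y] : Prop :=
  Subgroup.centralizer ((Cfsg.pCore p Y : Subgroup Y) : Set Y) ≤ Cfsg.pCore p Y → FCtl p 𝓦 Y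

/-- every section satisfies the local hypothesis -/
def SecLocF (X : Type u) [Group X] : Prop :=
  ∀ (Y : Type u) [Group Y] [Finite Y], IsSec Y X → LocF p 𝓦 Y

end Defs

variable {p : ℕ} [Fact p.Prime] {𝓦 : Set (∀ (Q : Type u) [Group Q], Subgroup Q)}

theorem SecLocF.subgroup {X : Type u} [Group X] (h : SecLocF p 𝓦 X) (H : Subgroup X) :
    SecLocF p 𝓦 H := fun Y _ _ hY => h Y (IsSec.of_subgroup H hY)

theorem SecLocF.quotient {X : Type u} [Group X] (h : SecLocF p 𝓦 X) (N : Subgroup X) [N.Normal] :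
    SecLocF p 𝓦 (X ⧸ N) := fun Y _ _ hY => h Y (IsSec.of_quotient N hY)

theorem LocF.of_equiv (h𝓦 : ∀ W ∈ 𝓦, Cfsg.IsCharPFunctor.{u} p W) {Y₁ Y₂ : Type u} [Group Y₁]
    [Group Y₂] [Finite Y₁] (e : Y₁ ≃* Y₂) (h : LocF p 𝓦 Y₁) : LocF p 𝓦 Y₂ := by
  haveI : Finite Y₂ := Finite.of_equiv _ e.toEquiv
  intro hC
  have hO : (Cfsg.pCore p Y₁).map e.toMonoidHom = Cfsg.pCore p Y₂ := map_pCore_equiv e
  have hmemO : ∀ y : Y₁, y ∈ Cfsg.pCore p Y₁ ↔ e y ∈ Cfsg.pCore p Y₂ := by
    intro y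
    rw [← hO]
    constructor
    · intro hy
      exact ⟨y, hy, rfl⟩
    · rintro ⟨y', hy', hyy'⟩
      have : y' = y := e.injective hyy'
      rwa [← this]
  have hC₁ : Subgroup.centralizer ((Cfsg.pCore p Y₁ : Subgroup Y₁) : Set Y₁) ≤ Cfsg.pCore p Y₁ := by
    intro x hx
    rw [hmemO]
    apply hC
    rw [Subgroup.mem_centralizer_iff]
    intro y₂ hy₂
    obtain ⟨y₁, rfl⟩ := e.surjective y₂
    have h1 : y₁ ∈ Cfsg.pCore p Y₁ := (hmemO y₁).2 hy₂
    have h2 := Subgroup.mem_centralizer_iff.1 hx y₁ h1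
    rw [← map_mul, ← map_mul, h2]
  exact FCtl.of_equiv h𝓦 e (h hC₁)

theorem secLocF_of_hloc (h𝓦 : ∀ W ∈ 𝓦, Cfsg.IsCharPFunctor.{u} p W) {G : Type u} [Group G]
    [Finite G]
    (hloc : ∀ (K R : Subgroup G) [_hR : (R.subgroupOf K).Normal], LocF p 𝓦 (↥K ⧸ R.subgroupOf K)) :
    SecLocF p 𝓦 G := by
  rintro Y _ _ ⟨K, f, hf⟩
  have hRK : (f.ker.map K.subtype).subgroupOf K = f.ker :=
    Subgroup.comap_map_eq_self_of_injective K.subtype_injective _
  haveI : ((f.ker.map K.subtype).subgroupOf K).Normal := by rw [hRK]; infer_instance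
  have e : ↥K ⧸ (f.ker.map K.subtype).subgroupOf K ≃* Y :=
    (QuotientGroup.quotientMulEquivOfEq hRK).trans (QuotientGroup.quotientKerEquivOfSurjective f hf)
  exact LocF.of_equiv h𝓦 e (hloc K (f.ker.map K.subtype))

theorem LChain.mono_left {X : Type u} [Group X] {𝓥 : Set (Subgroup X → Subgroup X)}
    {H H' P : Subgroup X} (hHH' : H ≤ H') {A : Set X} {u : X} (h : LChain 𝓥 H P A u) :
    LChain 𝓥 H' P A u := by
  induction h with
  | nil hA => exact LChain.nil _ hA
  | step u y W hW hy _ hA ih => exact LChain.step _ u y W hW ⟨hHH' hy.1, hy.2⟩ ih hA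

/-- chains map forward along homomorphisms injective on `S`, staying in the range -/
theorem LChain.map_range (h𝓦 : ∀ W ∈ 𝓦, Cfsg.IsCharPFunctor.{u} p W) {X Y : Type u} [Group X]
    [Group Y] [Finite X] (f : X →* Y) (S : Subgroup X) (hS : IsPGroup p S)
    (hinj : ∀ a ∈ S, f a = 1 → a = 1) {A : Set X} {u : X}
    (h : LChain (ind 𝓦 X) ⊤ S A u) : LChain (ind 𝓦 Y) f.range (S.map f) (f '' A) (f u) := by
  induction h with
  | nil hA =>
    rw [map_one]
    refine LChain.nil _ ?_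
    rintro _ ⟨a, ha, rfl⟩
    exact ⟨a, hA ha, rfl⟩
  | step u y W' hW' hy _ hA ih =>
    obtain ⟨W, hW, rfl⟩ := hW'
    rw [map_mul]
    refine LChain.step _ _ _ (Cfsg.inducedFunctor (G := Y) W) ⟨W, hW, rfl⟩ ?_ ih ?_
    · refine ⟨⟨y, rfl⟩, ?_⟩
      rw [induced_map (h𝓦 W hW) f S hS hinj]
      exact Subgroup.le_normalizer_map f ⟨y, hy.2, rfl⟩
    · rintro _ ⟨_, ⟨a, ha, rfl⟩, rfl⟩
      refine ⟨(y * u) * a * (y * u)⁻¹, hA ⟨a, ha, rfl⟩, ?_⟩
      simp only [map_mul, map_inv]

/-- control in the group `↥H` gives control in the subgroup `H` of `X` -/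
theorem ctlIn_of_fctl_sub (h𝓦 : ∀ W ∈ 𝓦, Cfsg.IsCharPFunctor.{u} p W) {X : Type u} [Group X]
    [Finite X] (H : Subgroup X) (h : FCtl p 𝓦 ↥H) :
    Cfsg.FamilyControlsStrongFusionIn p (ind 𝓦 X) H := by
  obtain ⟨T'⟩ : Nonempty (Sylow p ↥H) := inferInstance
  set T : Subgroup X := (T' : Subgroup ↥H).map H.subtype with hT
  have hTH : T ≤ H := Subgroup.map_subtype_le _
  have hTp : IsPGroup p T := T'.isPGroup'.map _
  have hsub : T.subgroupOf H = (T' : Subgroup ↥H) :=
    Subgroup.comap_map_eq_self_of_injective (Subgroup.subtype_injective H) _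
  refine ⟨T, hTH, hTp, ?_, ?_⟩
  · rw [Subgroup.relIndex, hsub]; exact T'.not_dvd_index
  · intro A g hg hA hAg
    set A' : Set ↥H := {a | (a : X) ∈ A} with hA'
    have himg : H.subtype '' A' = A := by
      ext x
      constructor
      · rintro ⟨a, ha, rfl⟩
        exact ha
      · intro hx
        exact ⟨⟨x, hTH (hA hx)⟩, hx, rfl⟩
    have hA'T : A' ⊆ ((T' : Subgroup ↥H) : Set ↥H) := by
      intro a ha
      have : (a : X) ∈ T := hA ha
      obtain ⟨b, hb, hba⟩ := this
      have : b = a := Subtype.ext hba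
      rw [← this]; exact hb
    have hA'g : lcs (⟨g, hg⟩ : ↥H) A' ⊆ ((T' : Subgroup ↥H) : Set ↥H) := by
      rintro _ ⟨a, ha, rfl⟩
      have : g * (a : X) * g⁻¹ ∈ T := hAg ⟨(a : X), ha, rfl⟩
      obtain ⟨b, hb, hba⟩ := this
      have : b = (⟨g, hg⟩ : ↥H) * a * (⟨g, hg⟩ : ↥H)⁻¹ := Subtype.ext (by simpa using hba)
      show (⟨g, hg⟩ : ↥H) * a * (⟨g, hg⟩ : ↥H)⁻¹ ∈ (T' : Subgroup ↥H)
      rw [← this]; exact hb
    obtain ⟨u', hch, hag⟩ := h T' A' ⟨g, hg⟩ hA'T hA'g
    have hch' := LChain.map_range h𝓦 H.subtype (T' : Subgroup ↥H) T'.isPGroup'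
      (fun a _ ha => Subtype.ext (by simpa using ha)) hch
    rw [Subgroup.range_subtype, himg] at hch'
    obtain ⟨n, c, h0, h2, h3, hlast⟩ := hch'.to_fin
    refine ⟨n, c, h0, h2, h3, ?_⟩
    intro a ha
    rw [hlast]
    have haH : a ∈ H := hTH (hA ha)
    have := hag ⟨a, haH⟩ ha
    have h4 := congrArg Subtype.val this
    simpa using h4

/-- the main theorem -/
theorem main (h𝓦 : ∀ W ∈ 𝓦, Cfsg.IsCharPFunctor.{u} p W) :
    ∀ (n : ℕ) (X : Type u) [Group X] [Finite X],
    Nat.card X ≤ n → SecLocF p 𝓦 X → FCtl p 𝓦 X := by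
  intro n
  induction n with
  | zero =>
    intro X _ _ hcard
    have : 0 < Nat.card X := Nat.card_pos
    omega
  | succ n ih =>
    intro X _ _ hcard hsec
    classical
    have IHsub : ∀ H : Subgroup X, H ≠ ⊤ → FCtl p 𝓦 ↥H := by
      intro H hH
      apply ih ↥H _ (hsec.subgroup H)
      have := Cfsg.Agent.Lib.Helper20.card_lt_of_lt_top (lt_top_iff_ne_top.mpr hH)
      omega
    have IHquot : ∀ (N : Subgroup X) [N.Normal], N ≠ ⊥ → FCtl p 𝓦 (X ⧸ N) := by
      intro N _ hN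
      apply ih (X ⧸ N) _ (hsec.quotient N)
      have := card_quotient_lt N hN
      omega
    intro S
    set Q : Subgroup X := Cfsg.pCore p X with hQ
    haveI hQn : Q.Normal := pCore_normal p X
    have hQp : IsPGroup p Q := pCore_isPGroup p X
    by_cases hQbot : Q = ⊥
    · -- O_p(X) = 1 : local-to-global
      have hloc : ∀ T : Subgroup X, T ≤ (S : Subgroup X) → T ≠ ⊥ →
          ¬ p ∣ ((S : Subgroup X) ⊓ Subgroup.normalizer ((T : Subgroup X) : Set X)).relIndex
            (Subgroup.normalizer ((T : Subgroup X) : Set X)) →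
          Cfsg.FamilyControlsStrongFusionIn p (ind 𝓦 X)
            (Subgroup.normalizer ((T : Subgroup X) : Set X)) := by
        intro T hTS hTne _
        have hne : Subgroup.normalizer ((T : Subgroup X) : Set X) ≠ ⊤ := by
          intro htop
          have hTn : T.Normal := Subgroup.normalizer_eq_top_iff.mp htop
          have hTp : IsPGroup p T := S.isPGroup'.to_le hTS
          have := le_pCore hTn hTp
          rw [← hQ, hQbot] at this
          exact hTne (le_bot_iff.mp this)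
        exact ctlIn_of_fctl_sub h𝓦 _ (IHsub _ hne)
      have htop := Cfsg.Agent.S1959.result S (ind 𝓦 X) (ind_conj h𝓦 X) hloc
      exact fctl_of_ctlIn h𝓦 htop S
    · by_cases hcon : Subgroup.centralizer ((Q : Subgroup X) : Set X) ≤ Q
      · -- constrained case
        exact hsec X (IsSec.refl X) hcon S
      · by_cases hK : Cfsg.pPrimeCore p X = ⊥
        · have hSC : ¬ (S : Subgroup X) ⊓ Subgroup.centralizer ((Q : Subgroup X) : Set X) ≤ Q :=
            fun hle => hcon (centralizer_le_of_inf_le S hK hle)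
          by_cases hCS : Subgroup.centralizer ((Q : Subgroup X) : Set X) ⊔ (S : Subgroup X) = ⊤
          · exact case_full h𝓦 S IHsub (IHquot Q hQbot) hSC hCS
          · exact case_proper h𝓦 S IHsub hSC hCS
        · haveI : (Cfsg.pPrimeCore p X).Normal := Cfsg.Agent.Lib.Helper2.pPrimeCore_normal p
          exact lift_pprime h𝓦 (Cfsg.pPrimeCore p X) (Cfsg.Agent.Lib.Helper2.pPrimeCore_coprime p) S
            (IHquot _ hK)

end Cfsg.Agent.Lib.Helper11.FSF
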