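import Mathlib

/-!
# Fixed points of a `p`-group on cosets of a normal `p'`-subgroup

If `Q` is a `p`-subgroup of `G`, `S ⊲ G` has order prime to `p`, and `c : G ⧸ S` is centralised by
the image of `Q`, then the coset `c` contains an element centralised by `Q`.  This is the
elementary form of `C_{G/S}(Q) = C_G(Q) S / S` for coprime action.
-/

namespace Cfsg.Agent.Lib.Helper11

open Subgroup

section

variable {G : Type*} [Group G]

/-- Conjugation action of a subgroup `Q` on a fibre of `G → G ⧸ S` which its image centralises. -/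
def fibreConjAction (S : Subgroup G) [S.Normal] (Q : Subgroup G) (c : G ⧸ S)
    (hc : ∀ k ∈ Q, (QuotientGroup.mk k : G ⧸ S) * c = c * QuotientGroup.mk k) :
    MulAction Q {g : G // (QuotientGroup.mk g : G ⧸ S) = c} where
  smul k g := ⟨(k : G) * g * (k : G)⁻¹, by
    rw [QuotientGroup.mk_mul, QuotientGroup.mk_mul, g.2, hc k k.2, QuotientGroup.mk_inv,
      mul_assoc, mul_inv_cancel, mul_one]⟩
  one_smul g := Subtype.ext (by
    change ((1 : Q) : G) * g * ((1 : Q) : G)⁻¹ = g
    simp)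
  mul_smul k l g := Subtype.ext (by
    change ((k * l : Q) : G) * g * ((k * l : Q) : G)⁻¹ = (k : G) * ((l : G) * g * (l : G)⁻¹) * (k : G)⁻¹
    simp [mul_assoc])

/-- A fibre of `G → G ⧸ S` has as many elements as `S`. -/
theorem card_fibre_mk (S : Subgroup G) [S.Normal] (y : G) :
    Nat.card {g : G // (QuotientGroup.mk g : G ⧸ S) = QuotientGroup.mk y} = Nat.card S := by
  refine Nat.card_congr ⟨fun g => ⟨y⁻¹ * g, ?_⟩, fun s => ⟨y * s, ?_⟩, ?_, ?_⟩
  · have := g.2
    rw [eq_comm, QuotientGroup.eq] at this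
    exact this
  · rw [QuotientGroup.eq]
    simp
  · intro g
    apply Subtype.ext
    simp
  · intro s
    apply Subtype.ext
    simp

/-- **Coprime fixed points on cosets.** -/
theorem exists_commute_in_fibre [Finite G] {p : ℕ} [Fact p.Prime] (S : Subgroup G) [S.Normal]
    (hS : ¬ p ∣ Nat.card S) (Q : Subgroup G) (hQ : IsPGroup p Q) (c : G ⧸ S)
    (hc : ∀ k ∈ Q, (QuotientGroup.mk k : G ⧸ S) * c = c * QuotientGroup.mk k) :
    ∃ g : G, (QuotientGroup.mk g : G ⧸ S) = c ∧ ∀ k ∈ Q, k * g = g * k := by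
  letI := fibreConjAction S Q c hc
  obtain ⟨y, rfl⟩ := QuotientGroup.mk_surjective c
  have hcard : ¬ p ∣ Nat.card {g : G // (QuotientGroup.mk g : G ⧸ S) = QuotientGroup.mk y} := by
    rw [card_fibre_mk]; exact hS
  obtain ⟨g, hg⟩ := hQ.nonempty_fixed_point_of_prime_not_dvd_card _ hcard
  refine ⟨g.1, g.2, fun k hk => ?_⟩
  have := hg ⟨k, hk⟩
  have h1 : k * g.1 * k⁻¹ = g.1 := congrArg Subtype.val this
  have : k * g.1 = k * g.1 * k⁻¹ * k := by group
  rw [this, h1]

/-- The number of elements of a normal `p'`-subgroup is congruent mod `p` to the number of its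
elements centralised by a `p`-subgroup `Q`. -/
theorem card_modEq_card_centralized [Finite G] {p : ℕ} [Fact p.Prime] (S : Subgroup G) [S.Normal]
    (Q : Subgroup G) (hQ : IsPGroup p Q) :
    Nat.card S ≡ Nat.card {g : G // g ∈ S ∧ ∀ k ∈ Q, k * g = g * k} [MOD p] := by
  have hc : ∀ k ∈ Q, (QuotientGroup.mk k : G ⧸ S) * ((1 : G) : G ⧸ S) =
      ((1 : G) : G ⧸ S) * QuotientGroup.mk k := by
    intro k _
    simp
  letI := fibreConjAction S Q ((1 : G) : G ⧸ S) hc
  have h1 := hQ.card_modEq_card_fixedPoints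
    {g : G // (QuotientGroup.mk g : G ⧸ S) = QuotientGroup.mk (1 : G)}
  rw [card_fibre_mk] at h1
  have h2 : Nat.card (MulAction.fixedPoints Q
      {g : G // (QuotientGroup.mk g : G ⧸ S) = QuotientGroup.mk (1 : G)}) =
      Nat.card {g : G // g ∈ S ∧ ∀ k ∈ Q, k * g = g * k} := ?_
  · rw [h2] at h1; exact h1
  refine Nat.card_congr ⟨fun g => ⟨g.1.1, ?_, ?_⟩, fun g => ⟨⟨g.1, ?_⟩, ?_⟩, ?_, ?_⟩
  · have h3 : (QuotientGroup.mk g.1.1 : G ⧸ S) = QuotientGroup.mk (1 : G) := g.1.2
    have h4 : (QuotientGroup.mk g.1.1 : G ⧸ S) = 1 := h3.trans (QuotientGroup.mk_one S)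
    exact (QuotientGroup.eq_one_iff _).1 h4
  · intro k hk
    have := g.2 ⟨k, hk⟩
    have h1 : k * g.1.1 * k⁻¹ = g.1.1 := congrArg Subtype.val this
    have : k * g.1.1 = k * g.1.1 * k⁻¹ * k := by group
    rw [this, h1]
  · exact ((QuotientGroup.eq_one_iff g.1).2 g.2.1).trans (QuotientGroup.mk_one S).symm
  · intro k
    apply Subtype.ext
    change (k : G) * g.1 * (k : G)⁻¹ = g.1
    rw [g.2.2 k k.2]
    group
  · intro g; rfl
  · intro g; rfl

end

end Cfsg.Agent.Lib.Helper11
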