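import Mathlib
import Cfsg.Prelude.Def_FusionComponents
import Cfsg.Agent.Lib.Helper11.KInfGlue
import Cfsg.Agent.Lib.Helper1.QdConverseZJ
import Cfsg.Agent.Lib.Helper1.QdFreeStable

/-!
# Factor systems of the fusion system of a `Qd(p)`-free group have nontrivial core (helper11)
-/

set_option autoImplicit false
open Cfsg

universe u

namespace Cfsg.Agent.Lib.Helper11.FusionFactor

open Cfsg.Agent.Lib.Helper11.KInfGlue Cfsg.Agent.Lib.Helper11.SFS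
open Cfsg.Agent.Lib.Helper1.QdConv Cfsg.Agent.Lib.Helper1.QdFree
open Cfsg.Agent.S2005 (induced_le induced_ne_bot)
open Cfsg.FusionSystem

section Setup

variable {G : Type u} [Group G] [Finite G] {p : ℕ} [hp : Fact p.Prime]

/-- the group-theoretic core: control of strong fusion in `N_G(R)/R` by `N(W(T))`, for `W` an
isomorphism-invariant functor normal in constrained `p`-stable groups -/
theorem ctl_section (hp2 : p ≠ 2) (hqd : ¬ Cfsg.Involves ↥(Cfsg.qd p) G) (N R : Subgroup G)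
    [hR : (R.subgroupOf N).Normal] (T : Sylow p (↥N ⧸ R.subgroupOf N)) :
    CtlAt ZJt.{u} (↥N ⧸ R.subgroupOf N) (T : Subgroup (↥N ⧸ R.subgroupOf N)) := by
  have hX : ¬ Cfsg.Involves ↥(Cfsg.qd p) (↥N ⧸ R.subgroupOf N) := qdFree_section hqd N R
  have hst : ∀ (K' R' : Subgroup (↥N ⧸ R.subgroupOf N)) [_hR : (R'.subgroupOf K').Normal],
      Cfsg.IsNormalizerPStable p (↥K' ⧸ R'.subgroupOf K') :=
    fun K' R' _ => nps_of_qdFree hp2 (qdFree_section hX K' R')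
  have hsec := secLocN_of_nps (hNonNormal_ZJt.{u} hp2) hst
  exact main (ZJt_char.{u} p) _ (↥N ⧸ R.subgroupOf N) le_rfl hsec T

/-- **Main theorem.** Every factor system of the fusion system of a `Qd(p)`-free group modulo a
proper strongly closed subgroup has nontrivial core. -/
theorem factor_core_ne_bot (hp2 : p ≠ 2) (hqd : ¬ Cfsg.Involves ↥(Cfsg.qd p) G) (P : Sylow p G)
    (R : Subgroup G) (hRsc : (groupFusionSystem (P : Subgroup G)).StronglyClosed R)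
    (hRne : R ≠ (P : Subgroup G)) [hRn : (R.subgroupOf (P : Subgroup G)).Normal]
    (E : FusionSystem (⊤ : Subgroup (↥(P : Subgroup G) ⧸ R.subgroupOf (P : Subgroup G))))
    (hE : (groupFusionSystem (P : Subgroup G)).IsFactorSystem R
      (QuotientGroup.mk' (R.subgroupOf (P : Subgroup G))) E) : E.core ≠ ⊥ := by
  classical
  obtain ⟨hRS, hker, hrange, hEhom⟩ := hE
  -- the normalizer of `R` and the section `X = N / R`
  have hSN : (P : Subgroup G) ≤ Subgroup.normalizer (R : Set G) := by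
    intro s hs
    apply Subgroup.mem_normalizer_fintype
    intro r hr
    have h1 := hRn.conj_mem ⟨r, hRS hr⟩ (Subgroup.mem_subgroupOf.2 hr) ⟨s, hs⟩
    exact Subgroup.mem_subgroupOf.1 h1
  have hRN : R ≤ Subgroup.normalizer (R : Set G) := Subgroup.le_normalizer
  obtain ⟨N, hNdef⟩ : ∃ N : Subgroup G, N = Subgroup.normalizer (R : Set G) := ⟨_, rfl⟩
  rw [← hNdef] at hSN hRN
  haveI hRNn : (R.subgroupOf N).Normal := by
    rw [hNdef]; infer_instance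
  -- the comparison map `ι : S/R → N/R`
  have hcomap : R.subgroupOf (P : Subgroup G) ≤
      (R.subgroupOf N).comap (Subgroup.inclusion hSN) := by
    intro x hx
    exact hx
  let ι : (↥(P : Subgroup G) ⧸ R.subgroupOf (P : Subgroup G)) →* (↥N ⧸ R.subgroupOf N) :=
    QuotientGroup.map (R.subgroupOf (P : Subgroup G)) (R.subgroupOf N) (Subgroup.inclusion hSN) hcomap
  have hιmk : ∀ (s : G) (hs : s ∈ (P : Subgroup G)),
      ι (QuotientGroup.mk' (R.subgroupOf (P : Subgroup G)) ⟨s, hs⟩) =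
        QuotientGroup.mk' (R.subgroupOf N) ⟨s, hSN hs⟩ := by
    intro s hs
    rfl
  have hιinj : Function.Injective ι := by
    rw [injective_iff_map_eq_one]
    intro y hy
    obtain ⟨⟨s, hs⟩, rfl⟩ := QuotientGroup.mk'_surjective (R.subgroupOf (P : Subgroup G)) y
    rw [hιmk] at hy
    rw [QuotientGroup.mk'_apply, QuotientGroup.eq_one_iff, Subgroup.mem_subgroupOf] at hy ⊢
    exact hy
  -- the Sylow subgroup `T` of `X = N/R`
  let T : Sylow p (↥N ⧸ R.subgroupOf N) :=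
    (P.subtype hSN).mapSurjective (QuotientGroup.mk'_surjective (R.subgroupOf N))
  have hTcoe : (T : Subgroup (↥N ⧸ R.subgroupOf N)) =
      ((P : Subgroup G).subgroupOf N).map (QuotientGroup.mk' (R.subgroupOf N)) := by
    rw [Sylow.coe_mapSurjective, Sylow.coe_subtype]
  have hTmem : ∀ (z : G) (hz : z ∈ N),
      QuotientGroup.mk' (R.subgroupOf N) ⟨z, hz⟩ ∈ (T : Subgroup (↥N ⧸ R.subgroupOf N)) ↔
        z ∈ (P : Subgroup G) := by
    intro z hz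
    rw [hTcoe]
    constructor
    · rintro ⟨⟨s, hsN⟩, hs, hsz⟩
      have hs' : s ∈ (P : Subgroup G) := Subgroup.mem_subgroupOf.1 hs
      have h1 : (⟨s, hsN⟩ : ↥N)⁻¹ * ⟨z, hz⟩ ∈ R.subgroupOf N := by
        rw [← QuotientGroup.eq]
        exact hsz
      have h2 : s⁻¹ * z ∈ R := Subgroup.mem_subgroupOf.1 h1
      have h3 : z = s * (s⁻¹ * z) := by group
      rw [h3]
      exact mul_mem hs' (hRS h2)
    · intro hzP
      exact ⟨⟨z, hz⟩, Subgroup.mem_subgroupOf.2 hzP, rfl⟩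
  have hιT : ∀ y, ι y ∈ (T : Subgroup (↥N ⧸ R.subgroupOf N)) := by
    intro y
    obtain ⟨⟨s, hs⟩, rfl⟩ := QuotientGroup.mk'_surjective (R.subgroupOf (P : Subgroup G)) y
    rw [hιmk]
    exact (hTmem s (hSN hs)).2 hs
  have hTι : ∀ t ∈ (T : Subgroup (↥N ⧸ R.subgroupOf N)), ∃ y, ι y = t := by
    intro t ht
    obtain ⟨⟨z, hz⟩, rfl⟩ := QuotientGroup.mk'_surjective (R.subgroupOf N) t
    have hzP := (hTmem z hz).1 ht
    exact ⟨QuotientGroup.mk' (R.subgroupOf (P : Subgroup G)) ⟨z, hzP⟩, hιmk z hzP⟩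
  -- the candidate normal subgroup
  obtain ⟨Wb, hWb⟩ : ∃ Wb : Subgroup (↥N ⧸ R.subgroupOf N),
      Wb = Cfsg.inducedFunctor ZJt.{u} (T : Subgroup (↥N ⧸ R.subgroupOf N)) := ⟨_, rfl⟩
  have hWbT : Wb ≤ (T : Subgroup (↥N ⧸ R.subgroupOf N)) := by
    rw [hWb]; exact induced_le _
  have hTne : (T : Subgroup (↥N ⧸ R.subgroupOf N)) ≠ ⊥ := by
    intro hbot
    apply hRne
    apply le_antisymm hRS
    intro s hs
    have h1 : QuotientGroup.mk' (R.subgroupOf N) ⟨s, hSN hs⟩ ∈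
        (T : Subgroup (↥N ⧸ R.subgroupOf N)) := (hTmem s (hSN hs)).2 hs
    rw [hbot, Subgroup.mem_bot, QuotientGroup.mk'_apply, QuotientGroup.eq_one_iff,
      Subgroup.mem_subgroupOf] at h1
    exact h1
  have hWbne : Wb ≠ ⊥ := by
    rw [hWb]
    exact induced_ne_bot (ZJt_char.{u} p) _ T.isPGroup' hTne
  have hQne : Wb.comap ι ≠ ⊥ := by
    intro hbot
    apply hWbne
    rw [eq_bot_iff]
    intro w hw
    obtain ⟨y, rfl⟩ := hTι w (hWbT hw)
    have hy : y ∈ Wb.comap ι := hw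
    rw [hbot, Subgroup.mem_bot] at hy
    rw [hy, map_one]
    exact Subgroup.mem_bot.2 rfl
  have hctl := ctl_section hp2 hqd N R T
  suffices hnorm : E.IsNormal (Wb.comap ι) by
    intro hcore
    apply hQne
    rw [eq_bot_iff, ← hcore]
    exact le_sSup hnorm
  refine ⟨le_top, ?_⟩
  intro P' φ' hφ'
  obtain ⟨-, φ, hφ, hPt, hφS, hP', hind⟩ := (hEhom P' φ').1 hφ'
  obtain ⟨-, -, g, hg⟩ := hφ
  -- membership in preimages
  have mem_pre : ∀ (P'' : Subgroup (↥(P : Subgroup G) ⧸ R.subgroupOf (P : Subgroup G))) (z : G),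
      z ∈ preimageAlong (QuotientGroup.mk' (R.subgroupOf (P : Subgroup G))) P'' ↔
        ∃ hz : z ∈ (P : Subgroup G),
          QuotientGroup.mk' (R.subgroupOf (P : Subgroup G)) ⟨z, hz⟩ ∈ P'' := by
    intro P'' z
    unfold preimageAlong
    constructor
    · rintro ⟨⟨z', hz'⟩, hmem, rfl⟩
      exact ⟨hz', hmem⟩
    · rintro ⟨hz, hmem⟩
      exact ⟨⟨z, hz⟩, hmem, rfl⟩
  have hRpre : ∀ (P'' : Subgroup (↥(P : Subgroup G) ⧸ R.subgroupOf (P : Subgroup G))),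
      R ≤ preimageAlong (QuotientGroup.mk' (R.subgroupOf (P : Subgroup G))) P'' := by
    intro P'' r hr
    rw [mem_pre]
    refine ⟨hRS hr, ?_⟩
    have : QuotientGroup.mk' (R.subgroupOf (P : Subgroup G)) ⟨r, hRS hr⟩ = 1 := by
      rw [QuotientGroup.mk'_apply, QuotientGroup.eq_one_iff, Subgroup.mem_subgroupOf]
      exact hr
    rw [this]; exact one_mem _
  -- `g` normalizes `R`
  have hgN : g ∈ N := by
    rw [hNdef]
    apply Subgroup.mem_normalizer_fintype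
    intro r hr
    have hmem : conjHom R g ∈ (groupFusionSystem (P : Subgroup G)).Hom R := by
      refine ⟨hRS, ?_, g, fun x => rfl⟩
      intro x
      have h1 := hφS ⟨(x : G), hRpre P' x.2⟩
      rw [hg] at h1
      exact h1
    exact hRsc.2 R le_rfl (conjHom R g) hmem ⟨r, hr⟩
  -- conjugation in `X` versus conjugation in `G`
  have hconjX : ∀ (m : G) (hm : m ∈ N) (z : G) (hz : z ∈ (P : Subgroup G))
      (hmz : m * z * m⁻¹ ∈ (P : Subgroup G)),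
      ι (QuotientGroup.mk' (R.subgroupOf (P : Subgroup G)) ⟨m * z * m⁻¹, hmz⟩) =
        QuotientGroup.mk' (R.subgroupOf N) ⟨m, hm⟩ *
          ι (QuotientGroup.mk' (R.subgroupOf (P : Subgroup G)) ⟨z, hz⟩) *
          (QuotientGroup.mk' (R.subgroupOf N) ⟨m, hm⟩)⁻¹ := by
    intro m hm z hz hmz
    rw [hιmk, hιmk, ← map_inv, ← map_mul, ← map_mul]
    rfl
  have hA : ι '' (P' : Set _) ⊆ ((T : Subgroup (↥N ⧸ R.subgroupOf N)) : Set _) := by
    rintro _ ⟨y, -, rfl⟩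
    exact hιT y
  have hgP : ∀ (s : G) (hs : s ∈ (P : Subgroup G)),
      QuotientGroup.mk' (R.subgroupOf (P : Subgroup G)) ⟨s, hs⟩ ∈ P' →
        g * s * g⁻¹ ∈ (P : Subgroup G) := by
    intro s hs hsP'
    have hsPt : s ∈ preimageAlong (QuotientGroup.mk' (R.subgroupOf (P : Subgroup G))) P' :=
      (mem_pre P' s).2 ⟨hs, hsP'⟩
    have h1 := hφS ⟨s, hsPt⟩
    rw [hg] at h1
    exact h1
  have hgA : ∀ a ∈ ι '' (P' : Set _),
      QuotientGroup.mk' (R.subgroupOf N) ⟨g, hgN⟩ * a *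
        (QuotientGroup.mk' (R.subgroupOf N) ⟨g, hgN⟩)⁻¹ ∈
        (T : Subgroup (↥N ⧸ R.subgroupOf N)) := by
    rintro _ ⟨y, hy, rfl⟩
    obtain ⟨⟨s, hs⟩, rfl⟩ := QuotientGroup.mk'_surjective (R.subgroupOf (P : Subgroup G)) y
    have h1 := hgP s hs hy
    rw [← hconjX g hgN s hs h1]
    exact hιT _
  obtain ⟨xb, hxb, hxa⟩ := hctl (ι '' (P' : Set _)) _ hA hgA
  obtain ⟨⟨n, hn⟩, rfl⟩ := QuotientGroup.mk'_surjective (R.subgroupOf N) xb
  rw [← hWb] at hxb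
  obtain ⟨xb, hxbdef⟩ : ∃ xb : ↥N ⧸ R.subgroupOf N,
      xb = QuotientGroup.mk' (R.subgroupOf N) ⟨n, hn⟩ := ⟨_, rfl⟩
  rw [← hxbdef] at hxb hxa
  obtain ⟨gb, hgbdef⟩ : ∃ gb : ↥N ⧸ R.subgroupOf N,
      gb = QuotientGroup.mk' (R.subgroupOf N) ⟨g, hgN⟩ := ⟨_, rfl⟩
  rw [← hgbdef] at hgA hxa
  -- the subgroup of elements whose `xb`-conjugate stays in `T`
  obtain ⟨B, hBdef⟩ : ∃ B : Subgroup (↥(P : Subgroup G) ⧸ R.subgroupOf (P : Subgroup G)),
      B = (T : Subgroup (↥N ⧸ R.subgroupOf N)).comap ((MulAut.conj xb).toMonoidHom.comp ι) :=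
    ⟨_, rfl⟩
  have hBmem : ∀ y, y ∈ B ↔ xb * ι y * xb⁻¹ ∈ (T : Subgroup (↥N ⧸ R.subgroupOf N)) := by
    intro y
    rw [hBdef]
    rfl
  have hP'B : P' ≤ B := by
    intro y hy
    rw [hBmem, ← hxa (ι y) ⟨y, hy, rfl⟩]
    exact hgA (ι y) ⟨y, hy, rfl⟩
  have hQB : Wb.comap ι ≤ B := by
    intro y hy
    rw [hBmem]
    exact hWbT ((Subgroup.mem_normalizer_iff.1 hxb (ι y)).1 hy)
  have hsupB : P' ⊔ Wb.comap ι ≤ B := sup_le hP'B hQB
  have hnP : ∀ (z : G) (hz : z ∈ (P : Subgroup G)),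
      QuotientGroup.mk' (R.subgroupOf (P : Subgroup G)) ⟨z, hz⟩ ∈ B →
        n * z * n⁻¹ ∈ (P : Subgroup G) := by
    intro z hz hzB
    have hnz : n * z * n⁻¹ ∈ N := N.mul_mem (N.mul_mem hn (hSN hz)) (N.inv_mem hn)
    apply (hTmem _ hnz).1
    have h1 := (hBmem _).1 hzB
    rw [hιmk, hxbdef, ← map_inv, ← map_mul, ← map_mul] at h1
    exact h1
  -- the lifted map on the preimage of `P' ⊔ Q'`
  obtain ⟨D, hDdef⟩ : ∃ D : Subgroup G,
      D = preimageAlong (QuotientGroup.mk' (R.subgroupOf (P : Subgroup G))) (P' ⊔ Wb.comap ι) :=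
    ⟨_, rfl⟩
  have hDmem : ∀ z : G, z ∈ D ↔ ∃ hz : z ∈ (P : Subgroup G),
      QuotientGroup.mk' (R.subgroupOf (P : Subgroup G)) ⟨z, hz⟩ ∈ P' ⊔ Wb.comap ι := by
    intro z
    rw [hDdef]
    exact mem_pre _ z
  have hDP : D ≤ (P : Subgroup G) := fun z hz => ((hDmem z).1 hz).1
  have hDsup : ∀ x : D, QuotientGroup.mk' (R.subgroupOf (P : Subgroup G)) ⟨x, hDP x.2⟩ ∈
      P' ⊔ Wb.comap ι := fun x => ((hDmem x).1 x.2).2
  have hψ₀S : ∀ x : D, conjHom D n x ∈ (P : Subgroup G) := by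
    intro x
    exact hnP x (hDP x.2) (hsupB (hDsup x))
  have hψ₀mem : conjHom D n ∈ (groupFusionSystem (P : Subgroup G)).Hom D :=
    ⟨hDP, hψ₀S, n, fun x => rfl⟩
  let τ : ↥D →* ↥(P' ⊔ Wb.comap ι) :=
    ((QuotientGroup.mk' (R.subgroupOf (P : Subgroup G))).comp (Subgroup.inclusion hDP)).codRestrict
      (P' ⊔ Wb.comap ι) hDsup
  have hτsurj : Function.Surjective τ := by
    rintro ⟨y, hy⟩
    obtain ⟨⟨s, hs⟩, rfl⟩ := QuotientGroup.mk'_surjective (R.subgroupOf (P : Subgroup G)) y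
    exact ⟨⟨s, (hDmem s).2 ⟨hs, hy⟩⟩, rfl⟩
  let κ : ↥D →* (↥(P : Subgroup G) ⧸ R.subgroupOf (P : Subgroup G)) :=
    (QuotientGroup.mk' (R.subgroupOf (P : Subgroup G))).comp
      ((conjHom D n).codRestrict (P : Subgroup G) hψ₀S)
  have hker : τ.ker ≤ κ.ker := by
    intro x hx
    rw [MonoidHom.mem_ker] at hx ⊢
    have h1 : QuotientGroup.mk' (R.subgroupOf (P : Subgroup G)) ⟨x, hDP x.2⟩ = 1 := by
      have := congrArg Subtype.val hx
      exact this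
    rw [QuotientGroup.mk'_apply, QuotientGroup.eq_one_iff, Subgroup.mem_subgroupOf] at h1
    show QuotientGroup.mk' (R.subgroupOf (P : Subgroup G)) ⟨n * (x : G) * n⁻¹, hψ₀S x⟩ = 1
    rw [QuotientGroup.mk'_apply, QuotientGroup.eq_one_iff, Subgroup.mem_subgroupOf]
    have hnR : n ∈ Subgroup.normalizer (R : Set G) := hNdef ▸ hn
    exact (Subgroup.mem_normalizer_iff.1 hnR _).1 h1
  obtain ⟨ψ', hψ'def⟩ : ∃ ψ' : ↥(P' ⊔ Wb.comap ι) →*
      (↥(P : Subgroup G) ⧸ R.subgroupOf (P : Subgroup G)),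
      ψ' = MonoidHom.liftOfSurjective τ hτsurj ⟨κ, hker⟩ := ⟨_, rfl⟩
  have hψ'τ : ∀ x : D, ψ' (τ x) = κ x := by
    intro x
    rw [hψ'def]
    exact MonoidHom.liftOfRightInverse_comp_apply τ _ _ ⟨κ, hker⟩ x
  -- the key formula: `ψ'` is conjugation by `xb`, read through `ι`
  have hιψ : ∀ (y : ↥(P : Subgroup G) ⧸ R.subgroupOf (P : Subgroup G))
      (hy : y ∈ P' ⊔ Wb.comap ι), ι (ψ' ⟨y, hy⟩) = xb * ι y * xb⁻¹ := by
    intro y hy
    obtain ⟨⟨s, hs⟩, rfl⟩ := QuotientGroup.mk'_surjective (R.subgroupOf (P : Subgroup G)) y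
    have hsD : s ∈ D := (hDmem s).2 ⟨hs, hy⟩
    have e1 : (⟨QuotientGroup.mk' (R.subgroupOf (P : Subgroup G)) ⟨s, hs⟩, hy⟩ :
        ↥(P' ⊔ Wb.comap ι)) = τ ⟨s, hsD⟩ := rfl
    rw [e1, hψ'τ]
    have h3 : n * s * n⁻¹ ∈ (P : Subgroup G) := hψ₀S ⟨s, hsD⟩
    show ι (QuotientGroup.mk' (R.subgroupOf (P : Subgroup G)) ⟨n * s * n⁻¹, h3⟩) = _
    rw [hconjX n hn s hs h3, ← hxbdef]
  have hInd : InducedAlong (QuotientGroup.mk' (R.subgroupOf (P : Subgroup G))) (conjHom D n) ψ' := by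
    refine ⟨hDP, hψ₀S, hDsup, ?_⟩
    intro x
    exact hψ'τ x
  have hψ'E : ψ' ∈ E.Hom (P' ⊔ Wb.comap ι) := by
    rw [hEhom]
    refine ⟨le_top, ?_⟩
    rw [← hDdef]
    exact ⟨conjHom D n, hψ₀mem, hInd⟩
  refine ⟨ψ', hψ'E, ?_, ?_⟩
  · -- `ψ'` extends `φ'`
    rintro ⟨y, hy⟩
    apply hιinj
    rw [show (Subgroup.inclusion le_sup_left (⟨y, hy⟩ : ↥P') : ↥(P' ⊔ Wb.comap ι)) =
      ⟨y, le_sup_left (a := P') hy⟩ from rfl, hιψ, ← hxa (ι y) ⟨y, hy, rfl⟩]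
    obtain ⟨⟨s, hs⟩, rfl⟩ := QuotientGroup.mk'_surjective (R.subgroupOf (P : Subgroup G)) y
    have hsPt : s ∈ preimageAlong (QuotientGroup.mk' (R.subgroupOf (P : Subgroup G))) P' :=
      (mem_pre P' s).2 ⟨hs, hy⟩
    have h1 := hind ⟨s, hsPt⟩
    have h2 : g * s * g⁻¹ ∈ (P : Subgroup G) := hgP s hs hy
    have e2 : (⟨φ ⟨s, hsPt⟩, hφS ⟨s, hsPt⟩⟩ : ↥(P : Subgroup G)) = ⟨g * s * g⁻¹, h2⟩ :=
      Subtype.ext (hg ⟨s, hsPt⟩)
    rw [e2] at h1
    have e3 : φ' ⟨QuotientGroup.mk' (R.subgroupOf (P : Subgroup G)) ⟨s, hs⟩, hy⟩ =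
        QuotientGroup.mk' (R.subgroupOf (P : Subgroup G)) ⟨g * s * g⁻¹, h2⟩ := h1
    rw [e3, hconjX g hgN s hs h2, ← hgbdef]
  · -- `ψ'` maps `Q'` onto `Q'`
    apply le_antisymm
    · rintro _ ⟨⟨y, hyPQ⟩, hyQ, rfl⟩
      have hyQ' : y ∈ Wb.comap ι := hyQ
      show ι (ψ' ⟨y, hyPQ⟩) ∈ Wb
      rw [hιψ]
      exact (Subgroup.mem_normalizer_iff.1 hxb (ι y)).1 hyQ'
    · intro y hy
      have hy' : ι y ∈ Wb := hy
      have hw : xb⁻¹ * ι y * xb ∈ Wb := by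
        rw [Subgroup.mem_normalizer_iff.1 hxb (xb⁻¹ * ι y * xb)]
        have : xb * (xb⁻¹ * ι y * xb) * xb⁻¹ = ι y := by group
        rw [this]; exact hy'
      obtain ⟨y₀, hy₀⟩ := hTι _ (hWbT hw)
      have hy₀Q : y₀ ∈ Wb.comap ι := by
        show ι y₀ ∈ Wb
        rw [hy₀]; exact hw
      refine ⟨⟨y₀, le_sup_right (a := P') hy₀Q⟩, hy₀Q, ?_⟩
      apply hιinj
      rw [hιψ, hy₀]
      group

end Setup

end Cfsg.Agent.Lib.Helper11.FusionFactor
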