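import Cfsg.Agent.Lib.Lead.DicksonBase

/-!
Generalised Dickson lemma (S5060), part 1 (helper11): the group `Gk k α = ⟨x(k), y(kα)⟩ ≤ SL₂(K)`,
the easy inclusion, the final assembly and the diagonal normaliser.
-/

set_option autoImplicit false

namespace Cfsg.Agent.Lib.Helper11.GenDk

open Matrix Cfsg.Agent.Lib.Helper9.SL2Upper Cfsg.Agent.Lib.Lead.DicksonBase

variable {k K : Type*} [Field k] [Field K] [Algebra k K]

local notation "SL2" => Matrix.SpecialLinearGroup (Fin 2) K
local notation "M2" => Matrix (Fin 2) (Fin 2) K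

/-- the generating set of S5060 -/
def gens (k : Type*) {K : Type*} [Field k] [Field K] [Algebra k K] (α : K) :
    Set (Matrix.SpecialLinearGroup (Fin 2) K) :=
  {g | ∃ c : k, (g : Matrix (Fin 2) (Fin 2) K) = !![1, algebraMap k K c; 0, 1]} ∪
  {g | ∃ c : k, (g : Matrix (Fin 2) (Fin 2) K) = !![1, 0; algebraMap k K c * α, 1]}

/-- the group generated -/
def Gk (k : Type*) {K : Type*} [Field k] [Field K] [Algebra k K] (α : K) :
    Subgroup (Matrix.SpecialLinearGroup (Fin 2) K) := Subgroup.closure (gens k α)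

theorem upper_mem (α : K) (c : k) : (upper (algebraMap k K c) : SL2) ∈ Gk k α :=
  Subgroup.subset_closure (Or.inl ⟨c, rfl⟩)

theorem lower_mem (α : K) (c : k) : (lower (algebraMap k K c * α) : SL2) ∈ Gk k α :=
  Subgroup.subset_closure (Or.inr ⟨c, rfl⟩)

theorem upper_one_mem (α : K) : (upper 1 : SL2) ∈ Gk k α := by
  have := upper_mem (k := k) α 1
  rwa [map_one] at this

theorem lower_alpha_mem (α : K) : (lower α : SL2) ∈ Gk k α := by
  have := lower_mem (k := k) α 1
  rwa [map_one, one_mul] at this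

theorem mem_gens_iff (α : K) (g : SL2) : g ∈ gens k α ↔
    (∃ c : k, g = upper (algebraMap k K c)) ∨ (∃ c : k, g = lower (algebraMap k K c * α)) := by
  constructor
  · rintro (⟨c, hc⟩ | ⟨c, hc⟩)
    · exact Or.inl ⟨c, Subtype.ext hc⟩
    · exact Or.inr ⟨c, Subtype.ext hc⟩
  · rintro (⟨c, rfl⟩ | ⟨c, rfl⟩)
    · exact Or.inl ⟨c, rfl⟩
    · exact Or.inr ⟨c, rfl⟩

/-- the easy inclusion: all entries lie in `k(α)` -/
theorem entries_mem (α : K) : ∀ g ∈ Gk k α, ∀ i j : Fin 2,
    (g : M2) i j ∈ IntermediateField.adjoin k ({α} : Set K) := by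
  intro g hg
  unfold Gk at hg
  induction hg using Subgroup.closure_induction with
  | mem g hg =>
    have hα : α ∈ IntermediateField.adjoin k ({α} : Set K) :=
      IntermediateField.mem_adjoin_simple_self k α
    rcases hg with ⟨c, hc⟩ | ⟨c, hc⟩
    · intro i j
      rw [hc]
      fin_cases i <;> fin_cases j <;> simp [IntermediateField.algebraMap_mem]
    · intro i j
      rw [hc]
      fin_cases i <;> fin_cases j <;> simp
      exact mul_mem (IntermediateField.algebraMap_mem _ c) hα
  | one =>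
    intro i j
    rw [Matrix.SpecialLinearGroup.coe_one, Matrix.one_apply]
    split_ifs
    · exact one_mem _
    · exact zero_mem _
  | mul g h _ _ ihg ihh =>
    intro i j
    rw [Matrix.SpecialLinearGroup.coe_mul, Matrix.mul_apply, Fin.sum_univ_two]
    exact add_mem (mul_mem (ihg _ _) (ihh _ _)) (mul_mem (ihg _ _) (ihh _ _))
  | inv g _ ih =>
    intro i j
    rw [Matrix.SpecialLinearGroup.coe_inv, Matrix.adjugate_fin_two]
    fin_cases i <;> fin_cases j <;> simp
    · exact ih _ _
    · exact ih _ _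
    · exact ih _ _
    · exact ih _ _

/-- final assembly -/
theorem mem_of_entries (α : K) (L : IntermediateField k K)
    (hu : ∀ t ∈ L, (upper t : SL2) ∈ Gk k α) (hl : ∀ t ∈ L, (lower t : SL2) ∈ Gk k α)
    (g : SL2) (hg : ∀ i j : Fin 2, (g : M2) i j ∈ L) : g ∈ Gk k α := by
  have key : ∀ y : SL2, (∀ i j : Fin 2, (y : M2) i j ∈ L) → (y : M2) 1 0 ≠ 0 → y ∈ Gk k α := by
    intro y hy hy0
    rw [eq_upper_lower_upper y hy0]
    refine (Gk k α).mul_mem ((Gk k α).mul_mem (hu _ ?_) (hl _ (hy _ _))) (hu _ ?_)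
    · exact div_mem (sub_mem (hy _ _) (one_mem _)) (hy _ _)
    · exact div_mem (sub_mem (hy _ _) (one_mem _)) (hy _ _)
  by_cases hc : (g : M2) 1 0 = 0
  · have hd := det_eq g
    rw [hc, mul_zero, sub_zero] at hd
    have ha : (g : M2) 0 0 ≠ 0 := left_ne_zero_of_mul_eq_one hd
    have h1 : lower 1 * g ∈ Gk k α := by
      apply key
      · intro i j
        rw [Matrix.SpecialLinearGroup.coe_mul, Matrix.mul_apply, Fin.sum_univ_two]
        refine add_mem (mul_mem ?_ (hg _ _)) (mul_mem ?_ (hg _ _))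
        · rw [lower_coe]; fin_cases i <;> simp [one_mem, zero_mem]
        · rw [lower_coe]; fin_cases i <;> simp [one_mem, zero_mem]
      · simp only [Matrix.SpecialLinearGroup.coe_mul, Matrix.mul_apply, Fin.sum_univ_two, lower_coe,
          Matrix.of_apply, Matrix.cons_val', Matrix.cons_val_zero, Matrix.cons_val_one,
          Matrix.cons_val_fin_one, hc]
        simpa using ha
    have h2 : g = (lower 1)⁻¹ * (lower 1 * g) := by group
    rw [h2]
    exact (Gk k α).mul_mem ((Gk k α).inv_mem (hl 1 (one_mem _))) h1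
  · exact key g hg hc

/-- `[[0,1],[-1,0]]` -/
theorem upper_conj (t : K) :
    (upper t : SL2) = (upper 1 * lower (-1) * upper 1) * lower (-t) * (upper 1 * lower (-1) * upper 1)⁻¹ := by
  rw [eq_mul_inv_iff_mul_eq]
  apply sl_ext <;>
    simp only [Matrix.SpecialLinearGroup.coe_mul, Matrix.mul_apply, Fin.sum_univ_two, upper_coe,
      lower_coe, Matrix.of_apply, Matrix.cons_val', Matrix.cons_val_zero, Matrix.cons_val_one,
      Matrix.cons_val_fin_one] <;> ring

theorem upper_of_lower (α : K) (L : IntermediateField k K)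
    (hl : ∀ t ∈ L, (lower t : SL2) ∈ Gk k α) : ∀ t ∈ L, (upper t : SL2) ∈ Gk k α := by
  intro t ht
  have hW : (upper 1 * lower (-1) * upper 1 : SL2) ∈ Gk k α :=
    (Gk k α).mul_mem ((Gk k α).mul_mem (upper_one_mem α) (hl _ (neg_mem (one_mem _))))
      (upper_one_mem α)
  rw [upper_conj t]
  exact (Gk k α).mul_mem ((Gk k α).mul_mem hW (hl _ (neg_mem ht))) ((Gk k α).inv_mem hW)

/-- conjugation by `diag(1, d)`, written entrywise -/
def cjFun (d : K) (hd : d ≠ 0) (g : SL2) : SL2 :=
  ⟨!![(g : M2) 0 0, (g : M2) 0 1 / d; d * (g : M2) 1 0, (g : M2) 1 1], by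
    rw [Matrix.det_fin_two_of]
    have := det_eq g
    field_simp
    linear_combination this⟩

@[simp] theorem cjFun_coe (d : K) (hd : d ≠ 0) (g : SL2) : ((cjFun d hd g : SL2) : M2) =
    !![(g : M2) 0 0, (g : M2) 0 1 / d; d * (g : M2) 1 0, (g : M2) 1 1] := rfl

/-- conjugation by `diag(1, d)` as a monoid homomorphism -/
def cj (d : K) (hd : d ≠ 0) : SL2 →* SL2 where
  toFun := cjFun d hd
  map_one' := by
    apply sl_ext <;> simp
  map_mul' := by
    intro g h
    apply sl_ext <;>
      simp only [Matrix.SpecialLinearGroup.coe_mul, Matrix.mul_apply, Fin.sum_univ_two,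
        cjFun_coe, Matrix.of_apply, Matrix.cons_val', Matrix.cons_val_zero,
        Matrix.cons_val_one, Matrix.cons_val_fin_one] <;> field_simp

@[simp] theorem cj_apply (d : K) (hd : d ≠ 0) (g : SL2) : cj d hd g = cjFun d hd g := rfl

theorem cj_upper (d : K) (hd : d ≠ 0) (t : K) : cj d hd (upper t) = upper (t / d) := by
  apply sl_ext <;> simp

theorem cj_lower (d : K) (hd : d ≠ 0) (t : K) : cj d hd (lower t) = lower (d * t) := by
  apply sl_ext <;> simp

theorem cj_mem (α : K) (c : k) (hc : c ≠ 0) (g : SL2) (hg : g ∈ Gk k α) :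
    cj (algebraMap k K c) (by simpa using hc) g ∈ Gk k α := by
  have hle : Gk k α ≤ (Gk k α).comap (cj (algebraMap k K c) (by simpa using hc)) := by
    unfold Gk
    rw [Subgroup.closure_le]
    intro g hg
    rw [mem_gens_iff] at hg
    show cj _ _ g ∈ Subgroup.closure (gens k α)
    rcases hg with ⟨c', rfl⟩ | ⟨c', rfl⟩
    · rw [cj_upper, ← map_div₀]
      exact upper_mem α _
    · rw [cj_lower, ← mul_assoc, ← map_mul]
      exact lower_mem α _
  exact hle hg

theorem lower_smul_mem (α : K) (c : k) (t : K) (ht : (lower t : SL2) ∈ Gk k α) :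
    (lower (algebraMap k K c * t) : SL2) ∈ Gk k α := by
  by_cases hc : c = 0
  · rw [hc, map_zero, zero_mul, lower_zero]; exact (Gk k α).one_mem
  · have := cj_mem α c hc _ ht
    rwa [cj_lower] at this

end Cfsg.Agent.Lib.Helper11.GenDk
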