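import Mathlib

/-!
Generalised Dickson lemma (S5060), part 2 (helper11): a fraction-free "slow Euclidean algorithm" on
pairs of polynomials, in which the partial quotients are alternately constants and constant
multiples of `X`.  `D j P` is the product of the pivots; it commutes with base change, and equals
`1` on an explicit base point `bp j`.
-/

set_option autoImplicit false

namespace Cfsg.Agent.Lib.Helper11.GenDk

open Polynomial

section Ring

variable {R : Type*} [CommRing R]

/-- first half-step (fraction free): kill the coefficient `j` of `U` using `W`. -/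
noncomputable def s1 (j : ℕ) (P : R[X] × R[X]) : R[X] × R[X] :=
  (C (P.2.coeff j) * P.1 - C (P.1.coeff j) * P.2, C (P.2.coeff j) * P.2)

/-- second half-step: kill the coefficient `j+1` of `W` using `X * U`. -/
noncomputable def s2 (j : ℕ) (P : R[X] × R[X]) : R[X] × R[X] :=
  (C (P.1.coeff j) * P.1, C (P.1.coeff j) * P.2 - C (P.2.coeff (j + 1)) * (X * P.1))

/-- the product of the pivots of the slow Euclidean algorithm started at level `j`. -/
noncomputable def D : ℕ → R[X] × R[X] → R
  | 0, P => P.2.coeff 0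
  | (j + 1), P => P.2.coeff (j + 1) * ((s1 (j + 1) P).1.coeff j * D j (s2 j (s1 (j + 1) P)))

theorem D_zero (P : R[X] × R[X]) : D 0 P = P.2.coeff 0 := rfl

theorem D_succ (j : ℕ) (P : R[X] × R[X]) :
    D (j + 1) P = P.2.coeff (j + 1) * ((s1 (j + 1) P).1.coeff j * D j (s2 j (s1 (j + 1) P))) := rfl

/-- base change of a pair -/
noncomputable def mapP {R' : Type*} [CommRing R'] (φ : R →+* R') (P : R[X] × R[X]) :
    R'[X] × R'[X] := (P.1.map φ, P.2.map φ)

theorem s1_mapP {R' : Type*} [CommRing R'] (φ : R →+* R') (j : ℕ) (P : R[X] × R[X]) :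
    s1 j (mapP φ P) = mapP φ (s1 j P) := by
  simp [s1, mapP, Polynomial.map_sub, Polynomial.map_mul, Polynomial.coeff_map]

theorem s2_mapP {R' : Type*} [CommRing R'] (φ : R →+* R') (j : ℕ) (P : R[X] × R[X]) :
    s2 j (mapP φ P) = mapP φ (s2 j P) := by
  simp [s2, mapP, Polynomial.map_sub, Polynomial.map_mul, Polynomial.coeff_map]

theorem D_mapP {R' : Type*} [CommRing R'] (φ : R →+* R') :
    ∀ (j : ℕ) (P : R[X] × R[X]), D j (mapP φ P) = φ (D j P) := by
  intro j
  induction j with
  | zero => intro P; simp [D_zero, mapP, Polynomial.coeff_map]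
  | succ j ih =>
    intro P
    rw [D_succ, D_succ, s1_mapP, s2_mapP, ih]
    simp [mapP, Polynomial.coeff_map]

theorem natDegree_le_of_coeff_succ {p : R[X]} {j : ℕ} (h : p.natDegree ≤ j + 1)
    (hc : p.coeff (j + 1) = 0) : p.natDegree ≤ j := by
  rw [Polynomial.natDegree_le_iff_coeff_eq_zero]
  intro N hN
  rcases Nat.lt_or_ge (j + 1) N with h1 | h1
  · exact Polynomial.coeff_eq_zero_of_natDegree_lt (lt_of_le_of_lt h h1)
  · have : N = j + 1 := by omega
    rw [this]; exact hc

theorem natDegree_C_mul_le' (a : R) (p : R[X]) : (C a * p).natDegree ≤ p.natDegree :=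
  Polynomial.natDegree_C_mul_le a p

theorem natDegree_X_mul_le' (p : R[X]) : (X * p).natDegree ≤ p.natDegree + 1 := by
  calc (X * p).natDegree ≤ (X : R[X]).natDegree + p.natDegree := Polynomial.natDegree_mul_le
    _ ≤ 1 + p.natDegree := Nat.add_le_add_right Polynomial.natDegree_X_le _
    _ = p.natDegree + 1 := by ring

theorem s1_natDegree (j : ℕ) (P : R[X] × R[X]) (h1 : P.1.natDegree ≤ j + 1)
    (h2 : P.2.natDegree ≤ j + 1) :
    (s1 (j + 1) P).1.natDegree ≤ j ∧ (s1 (j + 1) P).2.natDegree ≤ j + 1 := by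
  constructor
  · apply natDegree_le_of_coeff_succ
    · refine (Polynomial.natDegree_sub_le _ _).trans (max_le ?_ ?_)
      · exact (natDegree_C_mul_le' _ _).trans h1
      · exact (natDegree_C_mul_le' _ _).trans h2
    · simp only [s1, Polynomial.coeff_sub, Polynomial.coeff_C_mul]
      ring
  · exact (natDegree_C_mul_le' _ _).trans h2

theorem s2_natDegree (j : ℕ) (P : R[X] × R[X]) (h1 : P.1.natDegree ≤ j)
    (h2 : P.2.natDegree ≤ j + 1) :
    (s2 j P).1.natDegree ≤ j ∧ (s2 j P).2.natDegree ≤ j := by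
  constructor
  · exact (natDegree_C_mul_le' _ _).trans h1
  · apply natDegree_le_of_coeff_succ
    · refine (Polynomial.natDegree_sub_le _ _).trans (max_le ?_ ?_)
      · exact (natDegree_C_mul_le' _ _).trans h2
      · refine (natDegree_C_mul_le' _ _).trans ((natDegree_X_mul_le' _).trans ?_)
        omega
    · simp only [s2, Polynomial.coeff_sub, Polynomial.coeff_C_mul, Polynomial.coeff_X_mul]
      ring

/-- the base point: continuants with all partial quotients `1` resp. `X`. -/
noncomputable def bp : ℕ → R[X] × R[X]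
  | 0 => (1, 1)
  | (j + 1) => ((bp j).1 + (bp j).2 + X * (bp j).1, (bp j).2 + X * (bp j).1)

theorem bp_zero : (bp 0 : R[X] × R[X]) = (1, 1) := rfl

theorem bp_succ (j : ℕ) : (bp (j + 1) : R[X] × R[X]) =
    ((bp j).1 + (bp j).2 + X * (bp j).1, (bp j).2 + X * (bp j).1) := rfl

theorem bp_spec : ∀ j : ℕ, (bp j : R[X] × R[X]).1.natDegree ≤ j ∧ (bp j : R[X] × R[X]).2.natDegree ≤ j ∧
    (bp j : R[X] × R[X]).1.coeff j = 1 ∧ (bp j : R[X] × R[X]).2.coeff j = 1 := by
  intro j
  induction j with
  | zero => simp [bp_zero]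
  | succ j ih =>
    obtain ⟨h1, h2, h3, h4⟩ := ih
    have hX : (X * (bp j : R[X] × R[X]).1).natDegree ≤ j + 1 :=
      (natDegree_X_mul_le' _).trans (by omega)
    have c1 : (bp j : R[X] × R[X]).1.coeff (j + 1) = 0 :=
      Polynomial.coeff_eq_zero_of_natDegree_lt (by omega)
    have c2 : (bp j : R[X] × R[X]).2.coeff (j + 1) = 0 :=
      Polynomial.coeff_eq_zero_of_natDegree_lt (by omega)
    rw [bp_succ]
    refine ⟨?_, ?_, ?_, ?_⟩
    · refine (Polynomial.natDegree_add_le _ _).trans (max_le ?_ hX)
      exact (Polynomial.natDegree_add_le _ _).trans (max_le (by omega) (by omega))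
    · exact (Polynomial.natDegree_add_le _ _).trans (max_le (by omega) hX)
    · simp only [Polynomial.coeff_add, Polynomial.coeff_X_mul, c1, c2, h3]
      ring
    · simp only [Polynomial.coeff_add, Polynomial.coeff_X_mul, c2, h3]
      ring

theorem D_bp : ∀ j : ℕ, D j (bp j : R[X] × R[X]) = 1 := by
  intro j
  induction j with
  | zero => simp [D_zero, bp_zero]
  | succ j ih =>
    obtain ⟨h1, h2, h3, h4⟩ := bp_spec (R := R) j
    obtain ⟨-, -, h3', h4'⟩ := bp_spec (R := R) (j + 1)
    have e1 : s1 (j + 1) (bp (j + 1) : R[X] × R[X]) = ((bp j).1, (bp (j + 1)).2) := by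
      simp only [s1, h3', h4', map_one, one_mul]
      rw [bp_succ]
      ext1
      · simp only; ring
      · rfl
    have e2 : s2 j (((bp j).1, (bp (j + 1)).2) : R[X] × R[X]) = bp j := by
      simp only [s2, h3, h4', map_one, one_mul]
      rw [bp_succ]
      ext1
      · rfl
      · simp only; ring
    rw [D_succ, e1, e2, ih, h4']
    simp [h3]

end Ring

end Cfsg.Agent.Lib.Helper11.GenDk
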