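import Cfsg.Agent.Lib.Helper11.GenDk1
import Cfsg.Agent.Lib.Helper11.GenDk2

/-!
Generalised Dickson lemma (S5060), part 3 (helper11): the case of an infinite ground field `k`.
The orbit `Orb` of the second basis vector (up to scalars of `k`) contains the values at `α` of all
"slow-normal" pairs of polynomials; these are Zariski dense, which forces the stabiliser field of
`{t | lower t ∈ G}` to be all of `k(α)`.
-/

set_option autoImplicit false

namespace Cfsg.Agent.Lib.Helper11.GenDk

open Matrix Polynomial Cfsg.Agent.Lib.Helper9.SL2Upper Cfsg.Agent.Lib.Lead.DicksonBase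

variable {k K : Type*} [Field k] [Field K] [Algebra k K]

local notation "SL2" => Matrix.SpecialLinearGroup (Fin 2) K
local notation "M2" => Matrix (Fin 2) (Fin 2) K

/-- vectors that some element of `Gk k α` maps to a `k`-multiple of the second basis vector -/
def Orb (k : Type*) {K : Type*} [Field k] [Field K] [Algebra k K] (α : K) : Set (Fin 2 → K) :=
  {v | ∃ g ∈ Gk k α, ∃ c : k, c ≠ 0 ∧
    (g : Matrix (Fin 2) (Fin 2) K).mulVec v = ![0, algebraMap k K c]}

theorem mulVec_two (g : M2) (μ ν : K) :
    g.mulVec ![μ, ν] = ![g 0 0 * μ + g 0 1 * ν, g 1 0 * μ + g 1 1 * ν] := by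
  funext i
  fin_cases i <;> simp [Matrix.mulVec, dotProduct, Fin.sum_univ_two]

theorem orb_step1 (α : K) (a b : k) (hb : b ≠ 0) (μ ν : K)
    (h : ![algebraMap k K b * μ - algebraMap k K a * ν, algebraMap k K b * ν] ∈ Orb k α) :
    ![μ, ν] ∈ Orb k α := by
  obtain ⟨g, hg, c, hc, hgc⟩ := h
  have hb' : algebraMap k K b ≠ 0 := by simpa using hb
  refine ⟨g * upper (algebraMap k K (-a / b)), (Gk k α).mul_mem hg (upper_mem α _), c / b,
    div_ne_zero hc hb, ?_⟩
  rw [mulVec_two] at hgc
  have h0 := congrFun hgc 0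
  have h1 := congrFun hgc 1
  simp only [Matrix.cons_val_zero, Matrix.cons_val_one, Matrix.cons_val_fin_one] at h0 h1
  rw [mulVec_two]
  funext i
  fin_cases i
  · simp only [Matrix.SpecialLinearGroup.coe_mul, Matrix.mul_apply, Fin.sum_univ_two, upper_coe,
      Matrix.of_apply, Matrix.cons_val', Matrix.cons_val_zero, Matrix.cons_val_one,
      Matrix.cons_val_fin_one, map_div₀, map_neg, Fin.zero_eta]
    field_simp
    linear_combination h0
  · simp only [Matrix.SpecialLinearGroup.coe_mul, Matrix.mul_apply, Fin.sum_univ_two, upper_coe,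
      Matrix.of_apply, Matrix.cons_val', Matrix.cons_val_zero, Matrix.cons_val_one,
      Matrix.cons_val_fin_one, map_div₀, map_neg, Fin.mk_one]
    field_simp
    linear_combination h1

theorem orb_step2 (α : K) (a b : k) (ha : a ≠ 0) (μ ν : K)
    (h : ![algebraMap k K a * μ, algebraMap k K a * ν - algebraMap k K b * (α * μ)] ∈ Orb k α) :
    ![μ, ν] ∈ Orb k α := by
  obtain ⟨g, hg, c, hc, hgc⟩ := h
  have ha' : algebraMap k K a ≠ 0 := by simpa using ha
  refine ⟨g * lower (algebraMap k K (-b / a) * α), (Gk k α).mul_mem hg (lower_mem α _), c / a,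
    div_ne_zero hc ha, ?_⟩
  rw [mulVec_two] at hgc
  have h0 := congrFun hgc 0
  have h1 := congrFun hgc 1
  simp only [Matrix.cons_val_zero, Matrix.cons_val_one, Matrix.cons_val_fin_one] at h0 h1
  rw [mulVec_two]
  funext i
  fin_cases i
  · simp only [Matrix.SpecialLinearGroup.coe_mul, Matrix.mul_apply, Fin.sum_univ_two, lower_coe,
      Matrix.of_apply, Matrix.cons_val', Matrix.cons_val_zero, Matrix.cons_val_one,
      Matrix.cons_val_fin_one, map_div₀, map_neg, Fin.zero_eta]
    field_simp
    linear_combination h0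
  · simp only [Matrix.SpecialLinearGroup.coe_mul, Matrix.mul_apply, Fin.sum_univ_two, lower_coe,
      Matrix.of_apply, Matrix.cons_val', Matrix.cons_val_zero, Matrix.cons_val_one,
      Matrix.cons_val_fin_one, map_div₀, map_neg, Fin.mk_one]
    field_simp
    linear_combination h1

/-- **slow Euclid**: slow-normal pairs of polynomials evaluate into the orbit -/
theorem orb_of_D (α : K) : ∀ (j : ℕ) (P : k[X] × k[X]), P.1.natDegree ≤ j → P.2.natDegree ≤ j →
    D j P ≠ 0 → ![aeval α P.1, aeval α P.2] ∈ Orb k α := by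
  intro j
  induction j with
  | zero =>
    intro P h1 h2 hD
    rw [D_zero] at hD
    rw [Polynomial.eq_C_of_natDegree_le_zero h1, Polynomial.eq_C_of_natDegree_le_zero h2,
      Polynomial.aeval_C, Polynomial.aeval_C]
    set u := P.1.coeff 0
    set w := P.2.coeff 0
    have hw' : algebraMap k K w ≠ 0 := by simpa using hD
    refine ⟨upper (algebraMap k K (-u / w)), upper_mem α _, w, hD, ?_⟩
    rw [mulVec_two]
    funext i
    fin_cases i
    · simp only [upper_coe, Matrix.of_apply, Matrix.cons_val', Matrix.cons_val_zero,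
        Matrix.cons_val_one, Matrix.cons_val_fin_one, map_div₀, map_neg, Fin.zero_eta]
      field_simp
      ring
    · simp
  | succ j ih =>
    intro P h1 h2 hD
    rw [D_succ] at hD
    have hb : P.2.coeff (j + 1) ≠ 0 := left_ne_zero_of_mul hD
    have hD2 := right_ne_zero_of_mul hD
    have ha : (s1 (j + 1) P).1.coeff j ≠ 0 := left_ne_zero_of_mul hD2
    have hD3 := right_ne_zero_of_mul hD2
    obtain ⟨d1, d2⟩ := s1_natDegree j P h1 h2
    obtain ⟨e1, e2⟩ := s2_natDegree j (s1 (j + 1) P) d1 d2
    have key := ih (s2 j (s1 (j + 1) P)) e1 e2 hD3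
    apply orb_step1 α (P.1.coeff (j + 1)) (P.2.coeff (j + 1)) hb
    apply orb_step2 α ((s1 (j + 1) P).1.coeff j) ((s1 (j + 1) P).2.coeff (j + 1)) ha
    have e : ![aeval α (s2 j (s1 (j + 1) P)).1, aeval α (s2 j (s1 (j + 1) P)).2] =
        ![algebraMap k K ((s1 (j + 1) P).1.coeff j) *
            (algebraMap k K (P.2.coeff (j + 1)) * aeval α P.1 -
              algebraMap k K (P.1.coeff (j + 1)) * aeval α P.2),
          algebraMap k K ((s1 (j + 1) P).1.coeff j) *
              (algebraMap k K (P.2.coeff (j + 1)) * aeval α P.2) -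
            algebraMap k K ((s1 (j + 1) P).2.coeff (j + 1)) *
              (α * (algebraMap k K (P.2.coeff (j + 1)) * aeval α P.1 -
                algebraMap k K (P.1.coeff (j + 1)) * aeval α P.2))] := by
      have f1 : aeval α (s1 (j + 1) P).1 = algebraMap k K (P.2.coeff (j + 1)) * aeval α P.1 -
          algebraMap k K (P.1.coeff (j + 1)) * aeval α P.2 := by
        simp [s1, Polynomial.aeval_C]
      have f2 : aeval α (s1 (j + 1) P).2 = algebraMap k K (P.2.coeff (j + 1)) * aeval α P.2 := by
        simp [s1, Polynomial.aeval_C]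
      have g1 : aeval α (s2 j (s1 (j + 1) P)).1 =
          algebraMap k K ((s1 (j + 1) P).1.coeff j) * aeval α (s1 (j + 1) P).1 := by
        simp only [s2, map_mul, Polynomial.aeval_C]
      have g2 : aeval α (s2 j (s1 (j + 1) P)).2 =
          algebraMap k K ((s1 (j + 1) P).1.coeff j) * aeval α (s1 (j + 1) P).2 -
            algebraMap k K ((s1 (j + 1) P).2.coeff (j + 1)) * (α * aeval α (s1 (j + 1) P).1) := by
        simp only [s2, map_mul, map_sub, Polynomial.aeval_C, Polynomial.aeval_X]
      rw [g1, g2, f1, f2]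
    rw [← e]
    exact key

end Cfsg.Agent.Lib.Helper11.GenDk
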