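import Cfsg.Agent.Lib.Helper11.GenDk3

/-!
Generalised Dickson lemma (S5060), part 4 (helper11): infinite ground field, the genericity
argument and the stabiliser field.
-/

set_option autoImplicit false

namespace Cfsg.Agent.Lib.Helper11.GenDk

open Matrix Polynomial Cfsg.Agent.Lib.Helper9.SL2Upper Cfsg.Agent.Lib.Lead.DicksonBase

variable {k K : Type*} [Field k] [Field K] [Algebra k K]

local notation "SL2" => Matrix.SpecialLinearGroup (Fin 2) K
local notation "M2" => Matrix (Fin 2) (Fin 2) K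

/-- representatives of small degree -/
theorem exists_rep (α : K) (hα : IsAlgebraic k α) (z : K)
    (hz : z ∈ IntermediateField.adjoin k ({α} : Set K)) :
    ∃ u : k[X], u.natDegree ≤ (minpoly k α).natDegree - 1 ∧ aeval α u = z := by
  have hint : IsIntegral k α := hα.isIntegral
  have h1 : z ∈ (IntermediateField.adjoin k ({α} : Set K)).toSubalgebra := hz
  rw [IntermediateField.adjoin_simple_toSubalgebra_of_isAlgebraic hα,
    Algebra.adjoin_singleton_eq_range_aeval] at h1
  obtain ⟨p, hp⟩ := h1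
  have hm : (minpoly k α).Monic := minpoly.monic hint
  refine ⟨p %ₘ minpoly k α, ?_, ?_⟩
  · have := Polynomial.natDegree_modByMonic_lt p hm (minpoly.ne_one k α)
    omega
  · have h2 := Polynomial.modByMonic_add_div p (minpoly k α)
    have h3 := congrArg (aeval α) h2
    rw [map_add, map_mul, minpoly.aeval, zero_mul, add_zero] at h3
    rw [h3]
    exact hp

theorem aeval_mem_adjoin (α : K) (p : k[X]) :
    aeval α p ∈ IntermediateField.adjoin k ({α} : Set K) := by
  have : aeval α p ∈ Algebra.adjoin k ({α} : Set K) := by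
    rw [Algebra.adjoin_singleton_eq_range_aeval]
    exact ⟨p, rfl⟩
  exact IntermediateField.algebra_adjoin_le_adjoin k _ this

theorem evalRingHom_comp_C (s : k) :
    (Polynomial.evalRingHom s).comp (C : k →+* k[X]) = RingHom.id k := by
  ext x
  simp

/-- the family lemma: for `θ ∈ k(α)`, the vectors `(1 + sθ) v₀` lie in the orbit for all `s`
outside the zero set of a nonzero polynomial -/
theorem family (α : K) (hα : IsAlgebraic k α) (θ : K)
    (hθ : θ ∈ IntermediateField.adjoin k ({α} : Set K)) :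
    ∃ Δ : k[X], Δ ≠ 0 ∧ ∀ s : k, Δ.eval s ≠ 0 →
      ![(1 + algebraMap k K s * θ) * aeval α (bp ((minpoly k α).natDegree - 1) : k[X] × k[X]).1,
        (1 + algebraMap k K s * θ) * aeval α (bp ((minpoly k α).natDegree - 1) : k[X] × k[X]).2]
        ∈ Orb k α := by
  set j₀ := (minpoly k α).natDegree - 1 with hj₀
  set U₀ : k[X] := (bp j₀ : k[X] × k[X]).1 with hU₀
  set W₀ : k[X] := (bp j₀ : k[X] × k[X]).2 with hW₀
  obtain ⟨hd1, hd2, -, -⟩ := bp_spec (R := k) j₀
  obtain ⟨U₁, hU₁d, hU₁⟩ := exists_rep α hα (θ * aeval α U₀)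
    (mul_mem hθ (aeval_mem_adjoin α U₀))
  obtain ⟨W₁, hW₁d, hW₁⟩ := exists_rep α hα (θ * aeval α W₀)
    (mul_mem hθ (aeval_mem_adjoin α W₀))
  -- the generic pair over `k[Y]`
  let Uh : (k[X])[X] := U₀.map C + C X * U₁.map C
  let Wh : (k[X])[X] := W₀.map C + C X * W₁.map C
  have hmap : ∀ s : k, mapP (Polynomial.evalRingHom s) (Uh, Wh) =
      (U₀ + C s * U₁, W₀ + C s * W₁) := by
    intro s
    simp only [mapP, Uh, Wh, Polynomial.map_add, Polynomial.map_mul, Polynomial.map_map,
      evalRingHom_comp_C, Polynomial.map_id, Polynomial.map_C, Polynomial.coe_evalRingHom,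
      Polynomial.eval_X]
  refine ⟨D j₀ (Uh, Wh), ?_, ?_⟩
  · intro h0
    have h1 : (D j₀ (Uh, Wh)).eval 0 = 1 := by
      have := D_mapP (Polynomial.evalRingHom (0 : k)) j₀ (Uh, Wh)
      rw [hmap 0] at this
      simp only [map_zero, zero_mul, add_zero] at this
      rw [show ((U₀, W₀) : k[X] × k[X]) = bp j₀ from rfl, D_bp] at this
      rw [Polynomial.coe_evalRingHom] at this
      exact this.symm
    rw [h0] at h1
    simp at h1
  · intro s hs
    have h1 := D_mapP (Polynomial.evalRingHom s) j₀ (Uh, Wh)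
    rw [hmap s, Polynomial.coe_evalRingHom] at h1
    have h2 : D j₀ ((U₀ + C s * U₁, W₀ + C s * W₁) : k[X] × k[X]) ≠ 0 := by
      rw [h1]; exact hs
    have h3 := orb_of_D α j₀ (U₀ + C s * U₁, W₀ + C s * W₁) ?_ ?_ h2
    · have e1 : aeval α (U₀ + C s * U₁) = (1 + algebraMap k K s * θ) * aeval α U₀ := by
        rw [map_add, map_mul, Polynomial.aeval_C, hU₁]; ring
      have e2 : aeval α (W₀ + C s * W₁) = (1 + algebraMap k K s * θ) * aeval α W₀ := by
        rw [map_add, map_mul, Polynomial.aeval_C, hW₁]; ring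
      simpa only [e1, e2] using h3
    · exact (Polynomial.natDegree_add_le _ _).trans
        (max_le hd1 ((natDegree_C_mul_le' _ _).trans hU₁d))
    · exact (Polynomial.natDegree_add_le _ _).trans
        (max_le hd2 ((natDegree_C_mul_le' _ _).trans hW₁d))

/-- conjugating `lower t` by a lower triangular element -/
theorem lower_conj_of_upper_zero (γ : SL2) (h01 : (γ : M2) 0 1 = 0) (t : K) :
    γ⁻¹ * lower t * γ = lower (((γ : M2) 0 0) ^ 2 * t) := by
  have hd := det_eq γ
  rw [h01, zero_mul, sub_zero] at hd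
  have h : lower t * γ = γ * lower (((γ : M2) 0 0) ^ 2 * t) := by
    apply sl_ext <;>
      simp only [Matrix.SpecialLinearGroup.coe_mul, Matrix.mul_apply, Fin.sum_univ_two, lower_coe,
        Matrix.of_apply, Matrix.cons_val', Matrix.cons_val_zero, Matrix.cons_val_one,
        Matrix.cons_val_fin_one, h01]
    · ring
    · ring
    · linear_combination (-(γ : M2) 0 0 * t) * hd
    · ring
  rw [mul_assoc, h, inv_mul_cancel_left]

/-- the stabiliser lemma -/
theorem stab_of_orb (α : K) (lam : K) (hlam : lam ≠ 0) (μ ν : K) (h1 : ![μ, ν] ∈ Orb k α)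
    (h2 : ![lam * μ, lam * ν] ∈ Orb k α) (t : K) (ht : (lower t : SL2) ∈ Gk k α) :
    (lower (lam ^ 2 * t) : SL2) ∈ Gk k α := by
  obtain ⟨g, hg, c, hc, hgc⟩ := h1
  obtain ⟨g', hg', c', hc', hgc'⟩ := h2
  have hcK : algebraMap k K c ≠ 0 := by simpa using hc
  have hcK' : algebraMap k K c' ≠ 0 := by simpa using hc'
  rw [mulVec_two] at hgc hgc'
  have a0 := congrFun hgc 0
  have a1 := congrFun hgc 1
  have b0 := congrFun hgc' 0
  have b1 := congrFun hgc' 1
  simp only [Matrix.cons_val_zero, Matrix.cons_val_one, Matrix.cons_val_fin_one] at a0 a1 b0 b1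
  -- γ = g' g⁻¹
  set γ : SL2 := g' * g⁻¹ with hγ
  have hγG : γ ∈ Gk k α := (Gk k α).mul_mem hg' ((Gk k α).inv_mem hg)
  have hdg := det_eq g
  have e01 : (γ : M2) 0 1 = (g' : M2) 0 1 * (g : M2) 0 0 - (g' : M2) 0 0 * (g : M2) 0 1 := by
    rw [hγ, Matrix.SpecialLinearGroup.coe_mul, Matrix.SpecialLinearGroup.coe_inv,
      Matrix.adjugate_fin_two, Matrix.mul_apply, Fin.sum_univ_two]
    simp; ring
  have e00 : (γ : M2) 0 0 = (g' : M2) 0 0 * (g : M2) 1 1 - (g' : M2) 0 1 * (g : M2) 1 0 := by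
    rw [hγ, Matrix.SpecialLinearGroup.coe_mul, Matrix.SpecialLinearGroup.coe_inv,
      Matrix.adjugate_fin_two, Matrix.mul_apply, Fin.sum_univ_two]
    simp; ring
  -- solve for μ, ν
  have hμ : μ = -(g : M2) 0 1 * algebraMap k K c := by
    linear_combination (g : M2) 1 1 * a0 - (g : M2) 0 1 * a1 - μ * hdg
  have hν : ν = (g : M2) 0 0 * algebraMap k K c := by
    linear_combination (g : M2) 0 0 * a1 - (g : M2) 1 0 * a0 - ν * hdg
  have h01 : (γ : M2) 0 1 = 0 := by
    rw [e01]
    have : lam * algebraMap k K c * ((g' : M2) 0 1 * (g : M2) 0 0 - (g' : M2) 0 0 * (g : M2) 0 1)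
        = 0 := by
      rw [hμ, hν] at b0
      linear_combination b0
    rcases mul_eq_zero.1 this with h | h
    · exact absurd h (mul_ne_zero hlam hcK)
    · exact h
  have hdγ := det_eq γ
  rw [h01, zero_mul, sub_zero] at hdγ
  -- γ 1 1 = c' / (lam c)
  have e11 : (γ : M2) 1 1 = (g' : M2) 1 1 * (g : M2) 0 0 - (g' : M2) 1 0 * (g : M2) 0 1 := by
    rw [hγ, Matrix.SpecialLinearGroup.coe_mul, Matrix.SpecialLinearGroup.coe_inv,
      Matrix.adjugate_fin_two, Matrix.mul_apply, Fin.sum_univ_two]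
    simp; ring
  have h11 : lam * algebraMap k K c * (γ : M2) 1 1 = algebraMap k K c' := by
    rw [e11]
    rw [hμ, hν] at b1
    linear_combination b1
  have h00 : (γ : M2) 0 0 = lam * algebraMap k K (c / c') := by
    rw [map_div₀]
    field_simp
    have : (γ : M2) 0 0 * (lam * algebraMap k K c * (γ : M2) 1 1) = lam * algebraMap k K c := by
      rw [mul_comm ((γ : M2) 0 0), mul_assoc, mul_comm ((γ : M2) 1 1), hdγ, mul_one]
    rw [h11] at this
    linear_combination this
  have key : (lower (((γ : M2) 0 0) ^ 2 * t) : SL2) ∈ Gk k α := by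
    rw [← lower_conj_of_upper_zero γ h01 t]
    exact (Gk k α).mul_mem ((Gk k α).mul_mem ((Gk k α).inv_mem hγG) ht) hγG
  have key2 := lower_smul_mem α (c' / c) _ (lower_smul_mem α (c' / c) _ key)
  have : algebraMap k K (c' / c) * (algebraMap k K (c' / c) * (((γ : M2) 0 0) ^ 2 * t)) =
      lam ^ 2 * t := by
    rw [h00, map_div₀, map_div₀]
    field_simp
  rwa [this] at key2

end Cfsg.Agent.Lib.Helper11.GenDk
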