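import Cfsg.Agent.Lib.Helper11.GenDk4

/-!
Generalised Dickson lemma (S5060), part 5 (helper11): infinite ground field, conclusion.
-/

set_option autoImplicit false

namespace Cfsg.Agent.Lib.Helper11.GenDk

open Matrix Polynomial Cfsg.Agent.Lib.Helper9.SL2Upper Cfsg.Agent.Lib.Lead.DicksonBase

variable {k K : Type*} [Field k] [Field K] [Algebra k K]

local notation "SL2" => Matrix.SpecialLinearGroup (Fin 2) K
local notation "M2" => Matrix (Fin 2) (Fin 2) K

theorem lower_inv'' (s : K) : (lower s : SL2)⁻¹ = lower (-s) := by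
  rw [inv_eq_iff_mul_eq_one, lower_mul, add_neg_cancel, lower_zero]

/-- squares of `k(α)` stabilise `{t | lower t ∈ G}` -/
theorem sq_stab [Infinite k] (α : K) (hα : IsAlgebraic k α) (lam : K)
    (hlam : lam ∈ IntermediateField.adjoin k ({α} : Set K)) (t : K)
    (ht : (lower t : SL2) ∈ Gk k α) : (lower (lam ^ 2 * t) : SL2) ∈ Gk k α := by
  by_cases h0 : lam = 0
  · rw [h0]; simp only [ne_eq, OfNat.ofNat_ne_zero, not_false_eq_true, zero_pow, zero_mul]
    rw [lower_zero]; exact (Gk k α).one_mem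
  have hθ1 : lam⁻¹ - 1 ∈ IntermediateField.adjoin k ({α} : Set K) :=
    sub_mem (inv_mem hlam) (one_mem _)
  have hθ2 : lam - 1 ∈ IntermediateField.adjoin k ({α} : Set K) := sub_mem hlam (one_mem _)
  obtain ⟨Δ1, hΔ1, hf1⟩ := family α hα (lam⁻¹ - 1) hθ1
  obtain ⟨Δ2, hΔ2, hf2⟩ := family α hα (lam - 1) hθ2
  have fin1 : Set.Finite {s : k | Δ1.IsRoot s} := Polynomial.finite_setOfPred_isRoot hΔ1
  have fin2 : Set.Finite {s : k | Δ2.IsRoot (1 - s)} := by
    have := (Polynomial.finite_setOfPred_isRoot hΔ2).preimage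
      (f := fun s : k => 1 - s) (sub_right_injective.injOn)
    exact this
  obtain ⟨s, hs⟩ := (fin1.union fin2).exists_notMem
  rw [Set.mem_union, not_or] at hs
  have hs1 : Δ1.eval s ≠ 0 := hs.1
  have hs2 : Δ2.eval (1 - s) ≠ 0 := hs.2
  have m1 := hf1 s hs1
  have m2 := hf2 (1 - s) hs2
  set a₀ : K := aeval α (bp ((minpoly k α).natDegree - 1) : k[X] × k[X]).1
  set b₀ : K := aeval α (bp ((minpoly k α).natDegree - 1) : k[X] × k[X]).2
  have e : (1 + algebraMap k K (1 - s) * (lam - 1)) =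
      lam * (1 + algebraMap k K s * (lam⁻¹ - 1)) := by
    rw [map_sub, map_one]
    field_simp
    ring
  rw [e, mul_assoc, mul_assoc] at m2
  exact stab_of_orb α lam h0 _ _ m1 m2 t ht

/-- `k(α)` stabilises `{t | lower t ∈ G}` -/
theorem lin_stab [Infinite k] (hk2 : ringChar k ≠ 2) (α : K) (hα : IsAlgebraic k α) (lam : K)
    (hlam : lam ∈ IntermediateField.adjoin k ({α} : Set K)) (t : K)
    (ht : (lower t : SL2) ∈ Gk k α) : (lower (lam * t) : SL2) ∈ Gk k α := by
  have h1 := sq_stab α hα (lam + 1) (add_mem hlam (one_mem _)) t ht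
  have h2 := sq_stab α hα lam hlam t ht
  have h3 : (lower ((lam + 1) ^ 2 * t) * (lower (lam ^ 2 * t))⁻¹ * (lower t)⁻¹ : SL2) ∈ Gk k α :=
    (Gk k α).mul_mem ((Gk k α).mul_mem h1 ((Gk k α).inv_mem h2)) ((Gk k α).inv_mem ht)
  rw [lower_inv'', lower_inv'', lower_mul, lower_mul] at h3
  have h2k : (2 : k) ≠ 0 := Ring.two_ne_zero hk2
  have h4 := lower_smul_mem α ((2 : k)⁻¹) _ h3
  have : algebraMap k K (2 : k)⁻¹ * ((lam + 1) ^ 2 * t + -(lam ^ 2 * t) + -t) = lam * t := by
    have e2 : algebraMap k K (2 : k) = (2 : K) := map_ofNat _ 2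
    have h2K : (2 : K) ≠ 0 := by rw [← e2]; exact (_root_.map_ne_zero _).2 h2k
    rw [map_inv₀, e2]
    field_simp
    ring
  rwa [this] at h4

/-- **the infinite case** -/
theorem lower_mem_of_infinite [Infinite k] (hk2 : ringChar k ≠ 2) (α : K) (hα : IsAlgebraic k α)
    (hα0 : α ≠ 0) : ∀ z ∈ IntermediateField.adjoin k ({α} : Set K), (lower z : SL2) ∈ Gk k α := by
  intro z hz
  have hαL : α ∈ IntermediateField.adjoin k ({α} : Set K) :=
    IntermediateField.mem_adjoin_simple_self k α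
  have := lin_stab hk2 α hα (z / α) (div_mem hz hαL) α (lower_alpha_mem α)
  rwa [div_mul_cancel₀ z hα0] at this

end Cfsg.Agent.Lib.Helper11.GenDk
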