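import Cfsg.Agent.Lib.Helper11.GenDk1
import Cfsg.Agent.Lib.Lead.DicksonGenA
import Cfsg.Agent.Lib.Lead.DicksonField5

/-!
Generalised Dickson lemma (S5060), part 6 (helper11): finite ground field, via the lead's Dickson
structure theorem (`dichotomy'` + `structure_of_index'`).
-/

set_option autoImplicit false

namespace Cfsg.Agent.Lib.Helper11.GenDk

open Matrix Cfsg.Agent.Lib.Helper9.SL2Upper Cfsg.Agent.Lib.Lead.DicksonBase
  Cfsg.Agent.Lib.Lead.DicksonSL2

variable {k K : Type*} [Field k] [Field K] [Algebra k K]

local notation "SL2" => Matrix.SpecialLinearGroup (Fin 2) K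
local notation "M2" => Matrix (Fin 2) (Fin 2) K

theorem finite_Gk [Finite k] (α : K) (hα : IsAlgebraic k α) : Finite (Gk k α) := by
  haveI : FiniteDimensional k (IntermediateField.adjoin k ({α} : Set K)) :=
    IntermediateField.adjoin.finiteDimensional hα.isIntegral
  haveI : Finite (IntermediateField.adjoin k ({α} : Set K)) :=
    Module.finite_of_finite k
  let f : Gk k α → (Fin 2 → Fin 2 → IntermediateField.adjoin k ({α} : Set K)) :=
    fun g i j => ⟨((g : SL2) : M2) i j, entries_mem α g.1 g.2 i j⟩
  apply Finite.of_injective f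
  intro g h hgh
  apply Subtype.ext
  apply Subtype.ext
  ext i j
  have := congrFun (congrFun hgh i) j
  exact congrArg Subtype.val this

theorem three_le_card [Finite k] (hk2 : ringChar k ≠ 2) : 3 ≤ Nat.card k := by
  classical
  have h2 : (2 : k) ≠ 0 := Ring.two_ne_zero hk2
  have h01 : (0 : k) ≠ 1 := zero_ne_one
  have h0m : (0 : k) ≠ -1 := by simp
  have h1m : (1 : k) ≠ -1 := by intro h; apply h2; linear_combination h
  haveI := Fintype.ofFinite k
  rw [Nat.card_eq_fintype_card]
  have : ({0, 1, -1} : Finset k).card = 3 := by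
    rw [Finset.card_insert_of_notMem, Finset.card_insert_of_notMem, Finset.card_singleton]
    · simpa using h1m
    · simp [h01, h0m]
  rw [← this]
  exact Finset.card_le_univ _

/-- **the finite case** -/
theorem mem_of_finite [Finite k] (hk2 : ringChar k ≠ 2) (hk3 : Nat.card k ≠ 3) (α : K)
    (hα : IsAlgebraic k α) (hα0 : α ≠ 0) :
    ∀ z ∈ IntermediateField.adjoin k ({α} : Set K),
      (upper z : SL2) ∈ Gk k α ∧ (lower z : SL2) ∈ Gk k α := by
  -- the characteristic
  set p := ringChar k with hp
  have : CharP k p := ringChar.charP k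
  have hpp : p.Prime := by
    rcases CharP.char_is_prime_or_zero k p with h | h
    · exact h
    · exfalso
      haveI : CharP k 0 := by rw [← h]; infer_instance
      haveI : CharZero k := CharP.charP_to_charZero k
      haveI : Infinite k := CharZero.infinite k
      exact not_finite k
  haveI : Fact p.Prime := ⟨hpp⟩
  haveI : CharP K p := charP_of_injective_algebraMap (algebraMap k K).injective p
  haveI : Finite (Gk k α) := finite_Gk α hα
  have h1 : (upper 1 : SL2) ∈ Gk k α := upper_one_mem α
  have hy : (lower α : SL2) ∈ Gk k α := lower_alpha_mem α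
  have hne : PH (Gk k α) ≠ ⊥ := by
    intro hbot
    have hm : (⟨upper 1, h1⟩ : Gk k α) ∈ PH (Gk k α) := by
      rw [mem_PH]
      show (upper (1 : K) : SL2) ∈ Uni
      constructor <;> simp
    rw [hbot, Subgroup.mem_bot] at hm
    have := congrArg (fun x : Gk k α => ((x : SL2) : M2) 0 1) hm
    simp at this
  have hnB : ∃ y : Gk k α, ((y : SL2)) ∉ Cfsg.Agent.Lib.Lead.DicksonSL2.Borel := by
    refine ⟨⟨lower α, hy⟩, ?_⟩
    rw [mem_Borel]
    simpa using hα0
  rcases Cfsg.Agent.Lib.Lead.DicksonGen.dichotomy' p hk2 hne hnB with hidx | ⟨h3, -, -⟩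
  · obtain ⟨K₀, hKu, hKl, -, -⟩ :=
      Cfsg.Agent.Lib.Lead.DicksonField.structure_of_index' p hα0 h1 hy hidx
    have hk : ∀ c : k, algebraMap k K c ∈ K₀ := fun c => (hKu _).1 (upper_mem α c)
    have hαK : α ∈ K₀ := (hKl _).1 hy
    let M : IntermediateField k K := Subfield.toIntermediateField K₀ hk
    have hle : IntermediateField.adjoin k ({α} : Set K) ≤ M := by
      rw [IntermediateField.adjoin_simple_le_iff]
      exact hαK
    intro z hz
    have hzK : z ∈ K₀ := hle hz
    exact ⟨(hKu z).2 hzK, (hKl z).2 hzK⟩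
  · exfalso
    -- `k` embeds in `PH`
    let f : k → PH (Gk k α) := fun c => ⟨⟨upper (algebraMap k K c), upper_mem α c⟩, by
      rw [mem_PH]
      show (upper (algebraMap k K c) : SL2) ∈ Uni
      constructor <;> simp⟩
    have hf : Function.Injective f := by
      intro c c' hcc
      have := congrArg (fun x : PH (Gk k α) => (((x : Gk k α) : SL2) : M2) 0 1) hcc
      simpa [f] using this
    haveI : Finite (PH (Gk k α)) := inferInstance
    have hle := Nat.card_le_card_of_injective f hf
    rw [h3] at hle
    have := three_le_card (k := k) hk2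
    omega

end Cfsg.Agent.Lib.Helper11.GenDk
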