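import Mathlib
import Cfsg.Agent.Lib.Helper11.AG6

/-!
Chains of steps from a prescribed set with all partial conjugates inside a prescribed set
(helper11), for local-to-global theorems on strong fusion with centralizer slack.
-/

set_option autoImplicit false

namespace Cfsg.Agent.Lib.Helper11.LG

open Cfsg Cfsg.Agent.Lib.Helper29 Cfsg.Agent.Lib.Helper1 Cfsg.Agent.Lib.Helper11.AG

variable {G : Type*} [Group G]

/-- Chains of steps from `St`, with all partial conjugates of the starting set inside `Q`. -/
inductive SChain (St : Set G) (Q : Set G) : Set G → G → Prop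
  | nil (A : Set G) (hA : A ⊆ Q) : SChain St Q A 1
  | cons (A : Set G) (b g : G) (hb : b ∈ St) (hA : A ⊆ Q) (h : SChain St Q (rcs b A) g) :
      SChain St Q A (b * g)

theorem SChain.subset {St Q A : Set G} {g : G} (h : SChain St Q A g) : A ⊆ Q := by
  cases h with
  | nil _ hA => exact hA
  | cons _ _ _ _ hA _ => exact hA

theorem SChain.rcs_subset {St Q A : Set G} {g : G} (h : SChain St Q A g) : rcs g A ⊆ Q := by
  induction h with
  | nil A hA => rw [rcs_one]; exact hA
  | cons A b g _ _ _ ih => rw [rcs_mul]; exact ih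

theorem SChain.mono_set {St Q A : Set G} {g : G} (h : SChain St Q A g) :
    ∀ B : Set G, B ⊆ A → SChain St Q B g := by
  induction h with
  | nil A hA => intro B hB; exact SChain.nil B (hB.trans hA)
  | cons A b g hb hA _ ih =>
    intro B hB
    exact SChain.cons B b g hb (hB.trans hA) (ih _ (rcs_mono b hB))

theorem SChain.mono {St St' Q Q' A : Set G} {g : G} (hSt : St ⊆ St') (hQ : Q ⊆ Q')
    (h : SChain St Q A g) : SChain St' Q' A g := by
  induction h with
  | nil A hA => exact SChain.nil A (hA.trans hQ)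
  | cons A b g hb hA _ ih => exact SChain.cons A b g (hSt hb) (hA.trans hQ) ih

theorem SChain.trans {St Q A : Set G} {g : G} (h : SChain St Q A g) :
    ∀ k : G, SChain St Q (rcs g A) k → SChain St Q A (g * k) := by
  induction h with
  | nil A _ => intro k hk; rw [rcs_one] at hk; rwa [one_mul]
  | cons A b g hb hA _ ih =>
    intro k hk
    rw [rcs_mul] at hk
    rw [mul_assoc]
    exact SChain.cons A b (g * k) hb hA (ih k hk)

theorem SChain.single {St Q A : Set G} {b : G} (hb : b ∈ St) (hA : A ⊆ Q)
    (hAb : rcs b A ⊆ Q) : SChain St Q A b := by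
  have := SChain.cons A b 1 hb hA (SChain.nil _ hAb)
  rwa [mul_one] at this

theorem rcs_conj_step (m b : G) (A : Set G) :
    rcs (m⁻¹ * b * m) (rcs m A) = rcs m (rcs b A) := by
  rw [← rcs_mul, ← rcs_mul]
  congr 1
  group

/-- Conjugating a chain. -/
theorem SChain.conj {St Q A : Set G} {g : G} (m : G) (h : SChain St Q A g) :
    SChain (rcs m St) (rcs m Q) (rcs m A) (m⁻¹ * g * m) := by
  induction h with
  | nil A hA =>
    have : m⁻¹ * 1 * m = 1 := by group
    rw [this]
    exact SChain.nil _ (rcs_mono m hA)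
  | cons A b g hb hA _ ih =>
    have e : m⁻¹ * (b * g) * m = (m⁻¹ * b * m) * (m⁻¹ * g * m) := by group
    rw [e]
    refine SChain.cons _ _ _ ⟨b, hb, rfl⟩ (rcs_mono m hA) ?_
    rw [rcs_conj_step]
    exact ih

/-- From a list of steps to a chain. -/
theorem SChain.of_list {St Q : Set G} (l : List G) (hl : ∀ x ∈ l, x ∈ St) :
    ∀ A : Set G, (∀ k : ℕ, k ≤ l.length → rcs ((l.take k).prod) A ⊆ Q) →
      SChain St Q A l.prod := by
  induction l with
  | nil =>
    intro A h
    have := h 0 (le_refl _)
    simp only [List.take_nil, List.prod_nil, rcs_one] at this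
    simpa using SChain.nil A this
  | cons b l ih =>
    intro A h
    rw [List.prod_cons]
    have hA : A ⊆ Q := by
      have := h 0 (Nat.zero_le _)
      simpa [rcs_one] using this
    refine SChain.cons A b l.prod (hl b (List.mem_cons_self)) hA ?_
    apply ih (fun x hx => hl x (List.mem_cons_of_mem _ hx))
    intro k hk
    have := h (k + 1) (by simp only [List.length_cons]; omega)
    rw [List.take_succ_cons, List.prod_cons, rcs_mul] at this
    exact this

/-- From a chain to a list of steps. -/
theorem SChain.exists_list {St Q A : Set G} {g : G} (h : SChain St Q A g) :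
    ∃ l : List G, (∀ x ∈ l, x ∈ St) ∧ l.prod = g ∧
      ∀ k : ℕ, k ≤ l.length → rcs ((l.take k).prod) A ⊆ Q := by
  induction h with
  | nil A hA =>
    refine ⟨[], by simp, by simp, ?_⟩
    intro k _
    simp only [List.take_nil, List.prod_nil, rcs_one]
    exact hA
  | cons A b g hb hA _ ih =>
    obtain ⟨l, hl, hprod, hk⟩ := ih
    refine ⟨b :: l, ?_, by rw [List.prod_cons, hprod], ?_⟩
    · intro x hx
      rcases List.mem_cons.mp hx with rfl | hx
      · exact hb
      · exact hl x hx
    · intro k hk'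
      rcases Nat.eq_zero_or_pos k with rfl | hpos
      · simp only [List.take_zero, List.prod_nil, rcs_one]; exact hA
      · obtain ⟨j, rfl⟩ : ∃ j, k = j + 1 := ⟨k - 1, by omega⟩
        rw [List.take_succ_cons, List.prod_cons, rcs_mul]
        apply hk j
        simp only [List.length_cons] at hk'
        omega

/-- Chains up to an element centralizing the starting set. -/
def WS (St Q : Set G) (A : Set G) (g : G) : Prop :=
  ∃ c ∈ Subgroup.centralizer A, ∃ y : G, SChain St Q A y ∧ g = c * y

theorem WS.of_schain {St Q A : Set G} {g : G} (h : SChain St Q A g) : WS St Q A g :=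
  ⟨1, one_mem _, g, h, (one_mul g).symm⟩

theorem WS.mono_set {St Q A B : Set G} {g : G} (h : WS St Q A g) (hB : B ⊆ A) :
    WS St Q B g := by
  obtain ⟨c, hc, y, hy, rfl⟩ := h
  exact ⟨c, Subgroup.centralizer_le hB hc, y, hy.mono_set B hB, rfl⟩

theorem WS.mono {St St' Q Q' A : Set G} {g : G} (hSt : St ⊆ St') (hQ : Q ⊆ Q')
    (h : WS St Q A g) : WS St' Q' A g := by
  obtain ⟨c, hc, y, hy, rfl⟩ := h
  exact ⟨c, hc, y, hy.mono hSt hQ, rfl⟩

theorem WS.centralizer_mul {St Q A : Set G} {g c : G}
    (hc : c ∈ Subgroup.centralizer A) (h : WS St Q A g) : WS St Q A (c * g) := by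
  obtain ⟨c', hc', y, hy, rfl⟩ := h
  exact ⟨c * c', mul_mem hc hc', y, hy, (mul_assoc _ _ _).symm⟩

theorem WS.trans {St Q A : Set G} {g k : G} (h : WS St Q A g)
    (hk : WS St Q (rcs g A) k) : WS St Q A (g * k) := by
  obtain ⟨c, hc, y, hy, rfl⟩ := h
  obtain ⟨c', hc', y', hy', rfl⟩ := hk
  have e : rcs (c * y) A = rcs y A := by rw [rcs_mul, rcs_eq_of_mem_centralizer hc]
  rw [e] at hc' hy'
  refine ⟨c * (y * c' * y⁻¹), mul_mem hc (conj_mem_centralizer_of_rcs hc'), y * y',
    hy.trans y' hy', by group⟩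

theorem WS.subset {St Q A : Set G} {g : G} (h : WS St Q A g) : A ⊆ Q := by
  obtain ⟨c, hc, y, hy, rfl⟩ := h
  exact hy.subset

/-- Conjugating a chain up to centralizers. -/
theorem WS.conj {St Q A : Set G} {g : G} (m : G) (h : WS St Q A g) :
    WS (rcs m St) (rcs m Q) (rcs m A) (m⁻¹ * g * m) := by
  obtain ⟨c, hc, y, hy, rfl⟩ := h
  refine ⟨m⁻¹ * c * m, ?_, m⁻¹ * y * m, hy.conj m, by group⟩
  have h1 : c ∈ Subgroup.centralizer (rcs m⁻¹ (rcs m A)) := by rw [rcs_inv_rcs]; exact hc
  have := conj_mem_centralizer_of_rcs h1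
  simpa using this

end Cfsg.Agent.Lib.Helper11.LG
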