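import Mathlib
import Cfsg.Agent.Lib.Helper11.LG1
import Cfsg.Agent.Lib.Helper1.LocalToGlobal

/-!
Restricted local-to-global theorem for strong fusion with centralizer slack (helper11):
local control in `N_G(H)` for `Z(P) ≤ H ≤ P` only (Glauberman).
-/

set_option autoImplicit false

namespace Cfsg.Agent.Lib.Helper11.LG

open Cfsg Cfsg.Agent.Lib.Helper29 Cfsg.Agent.Lib.Helper1 Cfsg.Agent.Lib.Helper11.AG

variable {G : Type*} [Group G]

/-- The centre of a subgroup, as a subgroup of `G`. -/
abbrev zz (H : Subgroup G) : Subgroup G := H ⊓ Subgroup.centralizer (H : Set G)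

/-- Allowed steps relative to `Q`: elements of `N_G(W(Q))` and extra steps `E(Q)`. -/
def St (W : Subgroup G → Subgroup G) (E : Subgroup G → Set G) (Q : Subgroup G) : Set G :=
  ((Subgroup.normalizer ((W Q : Subgroup G) : Set G) : Subgroup G) : Set G) ∪ E Q

variable [Finite G] {p : ℕ} [Fact p.Prime]

theorem zz_le_zz_of_le {P R : Subgroup G} (hRP : R ≤ P) (hZ : zz P ≤ R) : zz P ≤ zz R := by
  intro x hx
  exact ⟨hZ hx, Subgroup.centralizer_le (SetLike.coe_subset_coe.mpr hRP) hx.2⟩

/-- Transport of local control between Sylow subgroups of `N`. -/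
theorem transport (W : Subgroup G → Subgroup G) (hW : IsConjugacyFunctor p W)
    (E : Subgroup G → Set G)
    (hEconj : ∀ (Q : Subgroup G) (g e : G), IsPGroup p Q → e ∈ E Q → g * e * g⁻¹ ∈ E (cj g Q))
    (N Q R : Subgroup G) (hQN : Q ≤ N) (hQp : IsPGroup p Q) (hQs : ¬ p ∣ Q.relIndex N)
    (hRN : R ≤ N) (hRp : IsPGroup p R) (hRs : ¬ p ∣ R.relIndex N)
    (hctl : ∀ (X : Set G) (a : G), X ⊆ (Q : Set G) → a ∈ N → rcs a X ⊆ (Q : Set G) →
      WS (St W E Q) (Q : Set G) X a) :
    ∀ (X : Set G) (a : G), X ⊆ (R : Set G) → a ∈ N → rcs a X ⊆ (R : Set G) →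
      WS (St W E R) (R : Set G) X a := by
  have hsylQ : IsSylowSub p Q N :=
    Cfsg.Agent.Lib.Helper1.isSylowSub_of_not_dvd_relIndex hQN hQp hQs
  have hsylR : IsSylowSub p R N :=
    Cfsg.Agent.Lib.Helper1.isSylowSub_of_not_dvd_relIndex hRN hRp hRs
  obtain ⟨m, hmN, hmle⟩ := exists_cj_le_of_isSylowSub hsylQ hRN hRp
  have hcard : Nat.card Q = Nat.card R := by
    rw [((isSylowSub_iff hQN).mp hsylQ).2, ((isSylowSub_iff hRN).mp hsylR).2]
  have hmeq : cj m R = Q := by
    apply Subgroup.eq_of_le_of_card_ge hmle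
    rw [card_cj, hcard]
  have hRQ : rcs m⁻¹ (R : Set G) = (Q : Set G) := by rw [rcs_coe, inv_inv, hmeq]
  have hQR : rcs m (Q : Set G) = (R : Set G) := by rw [← hRQ, ← rcs_mul, inv_mul_cancel, rcs_one]
  intro X a hX ha hXa
  have hX' : rcs m⁻¹ X ⊆ (Q : Set G) := by rw [← hRQ]; exact rcs_mono _ hX
  have ha' : m * a * m⁻¹ ∈ N := mul_mem (mul_mem hmN ha) (inv_mem hmN)
  have hXa' : rcs (m * a * m⁻¹) (rcs m⁻¹ X) ⊆ (Q : Set G) := by
    rw [← rcs_mul]
    have e : m⁻¹ * (m * a * m⁻¹) = a * m⁻¹ := by group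
    rw [e, rcs_mul, ← hRQ]
    exact rcs_mono _ hXa
  have h1 := (hctl _ _ hX' ha' hXa').conj m
  have e1 : rcs m (rcs m⁻¹ X) = X := by rw [← rcs_mul, inv_mul_cancel, rcs_one]
  have e2 : m⁻¹ * (m * a * m⁻¹) * m = a := by group
  rw [e1, e2, hQR] at h1
  refine WS.mono ?_ (subset_refl _) h1
  rintro _ ⟨s, hs, rfl⟩
  have hRcj : cj m⁻¹ Q = R := by rw [← hmeq, cj_inv_cj]
  rcases hs with hs | hs
  · left
    have hWR : W R = cj m⁻¹ (W Q) := by
      rw [← hRcj]; exact (hW Q hQp).2.2 m⁻¹
    show m⁻¹ * s * m ∈ Subgroup.normalizer ((W R : Subgroup G) : Set G)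
    rw [hWR, ← cj_normalizer, mem_cj]
    have e : m⁻¹⁻¹ * (m⁻¹ * s * m) * m⁻¹ = s := by group
    rw [e]
    exact hs
  · right
    have := hEconj Q m⁻¹ s hQp hs
    rw [hRcj, inv_inv] at this
    exact this

/-- The core induction along towers of well-placed subgroups containing `Z(P)`. -/
theorem core (P : Sylow p G) (W : Subgroup G → Subgroup G) (hW : IsConjugacyFunctor p W)
    (hWZ : ∀ H : Subgroup G, IsPGroup p H → zz H ≤ W H)
    (E : Subgroup G → Set G)
    (hEconj : ∀ (Q : Subgroup G) (g e : G), IsPGroup p Q → e ∈ E Q → g * e * g⁻¹ ∈ E (cj g Q))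
    (hEmono : ∀ R : Subgroup G, R ≤ (P : Subgroup G) → zz (P : Subgroup G) ≤ zz R →
      E R ⊆ E (P : Subgroup G))
    (hloc : ∀ H : Subgroup G, zz (P : Subgroup G) ≤ H → H ≤ (P : Subgroup G) →
      ∃ Q : Subgroup G, Q ≤ Subgroup.normalizer (H : Set G) ∧ IsPGroup p Q ∧
        ¬ p ∣ Q.relIndex (Subgroup.normalizer (H : Set G)) ∧
        ∀ (X : Set G) (a : G), X ⊆ (Q : Set G) → a ∈ Subgroup.normalizer (H : Set G) →
          rcs a X ⊆ (Q : Set G) → WS (St W E Q) (Q : Set G) X a) :
    ∀ (k : ℕ) (U : Subgroup G), zz (P : Subgroup G) ≤ U → IsWellPlaced p W (P : Subgroup G) U →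
      Nat.card P - Nat.card (nS (P : Subgroup G) U) = k →
      ∀ (B : Set G) (x : G), x ∈ Subgroup.normalizer (U : Set G) →
        B ⊆ (nS (P : Subgroup G) U : Set G) → rcs x B ⊆ (nS (P : Subgroup G) U : Set G) →
        WS (St W E (P : Subgroup G)) ((P : Subgroup G) : Set G) B x := by
  intro k
  induction k using Nat.strong_induction_on with
  | _ k ih =>
    intro U hZU hU hk B x hx hB hBx
    have hRp : IsPGroup p (nS (P : Subgroup G) U) := P.isPGroup'.to_le inf_le_left
    have hRN : nS (P : Subgroup G) U ≤ Subgroup.normalizer (U : Set G) := inf_le_right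
    have hRs : ¬ p ∣ (nS (P : Subgroup G) U).relIndex (Subgroup.normalizer (U : Set G)) := hU.2 0
    have hRP : nS (P : Subgroup G) U ≤ (P : Subgroup G) := inf_le_left
    obtain ⟨Q, hQN, hQp, hQs, hctl⟩ := hloc U hZU hU.1
    have hR := transport W hW E hEconj _ Q _ hQN hQp hQs hRN hRp hRs hctl B x hB hx hBx
    by_cases hRPeq : nS (P : Subgroup G) U = (P : Subgroup G)
    · rw [hRPeq] at hR; exact hR
    · have hRlt : nS (P : Subgroup G) U < (P : Subgroup G) := lt_of_le_of_ne hRP hRPeq
      have hUR : U ≤ nS (P : Subgroup G) U := le_inf hU.1 Subgroup.le_normalizer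
      have hZR : zz (P : Subgroup G) ≤ zz (nS (P : Subgroup G) U) :=
        zz_le_zz_of_le hRP (hZU.trans hUR)
      -- the next tower term
      have hU₁wp := isWellPlaced_tower_one P W hW U hU
      have hU₁eq : functorTower W (P : Subgroup G) U 1 = W (nS (P : Subgroup G) U) := rfl
      have hZU₁ : zz (P : Subgroup G) ≤ functorTower W (P : Subgroup G) U 1 := by
        rw [hU₁eq]; exact hZR.trans (hWZ _ hRp)
      have hgrow := lt_inf_normalizer_of_lt P.isPGroup' hRlt
      have hle : (P : Subgroup G) ⊓ Subgroup.normalizer ((nS (P : Subgroup G) U : Subgroup G) : Set G) ≤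
          nS (P : Subgroup G) (functorTower W (P : Subgroup G) U 1) :=
        inf_le_inf_left _ (normalizer_le_normalizer_functor W hW _ hRp)
      have hRU₁ : nS (P : Subgroup G) U ≤ nS (P : Subgroup G) (functorTower W (P : Subgroup G) U 1) :=
        hgrow.le.trans hle
      have hcard : Nat.card (nS (P : Subgroup G) U) <
          Nat.card (nS (P : Subgroup G) (functorTower W (P : Subgroup G) U 1)) := by
        by_contra hc
        have h1 := not_lt.mp hc
        have h2 := Subgroup.card_le_of_le hle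
        have h3 : nS (P : Subgroup G) U = (P : Subgroup G) ⊓
            Subgroup.normalizer ((nS (P : Subgroup G) U : Subgroup G) : Set G) :=
          Subgroup.eq_of_le_of_card_ge hgrow.le (h2.trans h1)
        exact hgrow.ne h3
      have hcardS : Nat.card (nS (P : Subgroup G) (functorTower W (P : Subgroup G) U 1)) ≤
          Nat.card P := Subgroup.card_le_of_le inf_le_left
      -- lifting chains relative to `N_P(U)` to chains relative to `P`
      have lift : ∀ (B' : Set G) (y : G),
          SChain (St W E (nS (P : Subgroup G) U)) ((nS (P : Subgroup G) U : Subgroup G) : Set G) B' y →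
          WS (St W E (P : Subgroup G)) ((P : Subgroup G) : Set G) B' y := by
        intro B' y hy
        induction hy with
        | nil A hA =>
          exact WS.of_schain (SChain.nil A (hA.trans (SetLike.coe_subset_coe.mpr hRP)))
        | cons A b g hb hA hch ih' =>
          have hbA : rcs b A ⊆ ((nS (P : Subgroup G) U : Subgroup G) : Set G) := hch.subset
          rcases hb with hbW | hbE
          · have h1 := ih (Nat.card P -
                Nat.card (nS (P : Subgroup G) (functorTower W (P : Subgroup G) U 1)))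
              (by omega) _ hZU₁ hU₁wp rfl A b hbW
              (hA.trans (SetLike.coe_subset_coe.mpr hRU₁))
              (hbA.trans (SetLike.coe_subset_coe.mpr hRU₁))
            exact h1.trans ih'
          · have h1 : SChain (St W E (P : Subgroup G)) ((P : Subgroup G) : Set G) A b :=
              SChain.single (Or.inr (hEmono _ hRP hZR hbE))
                (hA.trans (SetLike.coe_subset_coe.mpr hRP))
                (hbA.trans (SetLike.coe_subset_coe.mpr hRP))
            exact (WS.of_schain h1).trans ih'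
      obtain ⟨c, hc, y, hy, rfl⟩ := hR
      exact WS.centralizer_mul hc (lift B y hy)

/-- Restricted local-to-global theorem (Glauberman): local control in `N_G(H)`, `Z(P) ≤ H ≤ P`,
gives global control. -/
theorem restricted_local_to_global (P : Sylow p G) (W : Subgroup G → Subgroup G)
    (hW : IsConjugacyFunctor p W)
    (hWZ : ∀ H : Subgroup G, IsPGroup p H → zz H ≤ W H)
    (E : Subgroup G → Set G)
    (hEconj : ∀ (Q : Subgroup G) (g e : G), IsPGroup p Q → e ∈ E Q → g * e * g⁻¹ ∈ E (cj g Q))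
    (hEmono : ∀ R : Subgroup G, R ≤ (P : Subgroup G) → zz (P : Subgroup G) ≤ zz R →
      E R ⊆ E (P : Subgroup G))
    (hloc : ∀ H : Subgroup G, zz (P : Subgroup G) ≤ H → H ≤ (P : Subgroup G) →
      ∃ Q : Subgroup G, Q ≤ Subgroup.normalizer (H : Set G) ∧ IsPGroup p Q ∧
        ¬ p ∣ Q.relIndex (Subgroup.normalizer (H : Set G)) ∧
        ∀ (X : Set G) (a : G), X ⊆ (Q : Set G) → a ∈ Subgroup.normalizer (H : Set G) →
          rcs a X ⊆ (Q : Set G) → WS (St W E Q) (Q : Set G) X a) :
    ∀ (X : Set G) (a : G), X ⊆ ((P : Subgroup G) : Set G) → rcs a X ⊆ ((P : Subgroup G) : Set G) →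
      WS (St W E (P : Subgroup G)) ((P : Subgroup G) : Set G) X a := by
  intro X a hX hXa
  have hSel : IsSelector P {U : Subgroup G | IsWellPlaced p W (P : Subgroup G) U} :=
    ⟨fun U hU => hU.1, fun U hU => hU.2 0, fun T hT => exists_wellPlaced_cj P W hW T hT⟩
  obtain ⟨c, hc, y, hy, rfl⟩ := main_set_sel P _ hSel X hX a hXa
  apply WS.centralizer_mul hc
  have key : ∀ (A : Set G) (y : G),
      FChain (AGFam p (P : Subgroup G) ∩ {U : Subgroup G | IsWellPlaced p W (P : Subgroup G) U}) A y →
      A ⊆ ((P : Subgroup G) : Set G) →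
      WS (St W E (P : Subgroup G)) ((P : Subgroup G) : Set G) A y := by
    intro A y h
    induction h with
    | nil A => intro hA; exact WS.of_schain (SChain.nil A hA)
    | cons A T x g hT hx hAT _ ih =>
      intro _
      have hTwp : IsWellPlaced p W (P : Subgroup G) T := hT.2
      have hZT := center_le_of_mem_AGFam P hT.1
      have hTn : T ≤ nS (P : Subgroup G) T := le_inf hTwp.1 Subgroup.le_normalizer
      have hxA : rcs x A ⊆ (T : Set G) := rcs_subset_of_mem_normalizer hx hAT
      have h1 := core P W hW hWZ E hEconj hEmono hloc _ T hZT hTwp rfl A x hx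
        (hAT.trans (SetLike.coe_subset_coe.mpr hTn)) (hxA.trans (SetLike.coe_subset_coe.mpr hTn))
      exact h1.trans (ih (hxA.trans (SetLike.coe_subset_coe.mpr hTwp.1)))
  exact key X y hy hX

end Cfsg.Agent.Lib.Helper11.LG
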