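import Mathlib
import Cfsg.Agent.Lib.Helper11.LG2
import Cfsg.Agent.Lib.Helper1.LocalToGlobalTransfer

/-!
Restricted local-to-global theorem for control of transfer by a pair of functors (helper11).
-/

set_option autoImplicit false

namespace Cfsg.Agent.Lib.Helper11.LG

open Cfsg Cfsg.Agent.Lib.Helper29 Cfsg.Agent.Lib.Helper1 Cfsg.Agent.Lib.Helper11.AG
open scoped commutatorElement

variable {G : Type*} [Group G]

/-- `Q ∩ (L ∩ N(W Q))'`. -/
def tA (W : Subgroup G → Subgroup G) (Q L : Subgroup G) : Subgroup G :=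
  Q ⊓ ⁅L ⊓ Subgroup.normalizer ((W Q : Subgroup G) : Set G),
    L ⊓ Subgroup.normalizer ((W Q : Subgroup G) : Set G)⁆

/-- `Q ∩ (L ∩ C(V Q))'`. -/
def tB (V : Subgroup G → Subgroup G) (Q L : Subgroup G) : Subgroup G :=
  Q ⊓ ⁅L ⊓ Subgroup.centralizer ((V Q : Subgroup G) : Set G),
    L ⊓ Subgroup.centralizer ((V Q : Subgroup G) : Set G)⁆

variable [Finite G] {p : ℕ} [Fact p.Prime]

theorem cj_tA (W : Subgroup G → Subgroup G) (hW : IsConjugacyFunctor p W) (Q L : Subgroup G)
    (hQp : IsPGroup p Q) (m : G) : cj m (tA W Q L) = tA W (cj m Q) (cj m L) := by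
  unfold tA
  have h : W (cj m Q) = cj m (W Q) := (hW Q hQp).2.2 m
  rw [cj_inf, cj_commutator, cj_inf, cj_normalizer, h]

theorem cj_tB (V : Subgroup G → Subgroup G) (hV : IsConjugacyFunctor p V) (Q L : Subgroup G)
    (hQp : IsPGroup p Q) (m : G) : cj m (tB V Q L) = tB V (cj m Q) (cj m L) := by
  unfold tB
  have h : V (cj m Q) = cj m (V Q) := (hV Q hQp).2.2 m
  rw [cj_inf, cj_commutator, cj_inf, cj_centralizer, h]

/-- Transport of local control of transfer between Sylow subgroups of `N`. -/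
theorem transfer_transport2 (W V : Subgroup G → Subgroup G) (hW : IsConjugacyFunctor p W)
    (hV : IsConjugacyFunctor p V)
    (N Q R : Subgroup G) (hQN : Q ≤ N) (hQp : IsPGroup p Q) (hQs : ¬ p ∣ Q.relIndex N)
    (hRN : R ≤ N) (hRp : IsPGroup p R) (hRs : ¬ p ∣ R.relIndex N)
    (hctl : ∀ x : G, x ∈ Q ⊓ ⁅N, N⁆ → ∃ a ∈ tA W Q N, ∃ b ∈ tB V Q N, x = a * b) :
    ∀ x : G, x ∈ R ⊓ ⁅N, N⁆ → ∃ a ∈ tA W R N, ∃ b ∈ tB V R N, x = a * b := by
  have hsylQ : IsSylowSub p Q N :=
    Cfsg.Agent.Lib.Helper1.isSylowSub_of_not_dvd_relIndex hQN hQp hQs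
  have hsylR : IsSylowSub p R N :=
    Cfsg.Agent.Lib.Helper1.isSylowSub_of_not_dvd_relIndex hRN hRp hRs
  obtain ⟨m, hmN, hmle⟩ := exists_cj_le_of_isSylowSub hsylR hQN hQp
  have hcard : Nat.card Q = Nat.card R := by
    rw [((isSylowSub_iff hQN).mp hsylQ).2, ((isSylowSub_iff hRN).mp hsylR).2]
  have hmeq : cj m Q = R := by
    apply Subgroup.eq_of_le_of_card_ge hmle
    rw [card_cj, hcard]
  have hNm : cj m N = N := cj_eq_self_of_mem hmN
  intro x hx
  have hx' : m⁻¹ * x * m ∈ Q ⊓ ⁅N, N⁆ := by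
    have h1 : x ∈ cj m (Q ⊓ ⁅N, N⁆) := by
      rw [cj_inf, cj_commutator, hmeq, hNm]; exact hx
    exact mem_cj.mp h1
  obtain ⟨a, ha, b, hb, hab⟩ := hctl _ hx'
  refine ⟨m * a * m⁻¹, ?_, m * b * m⁻¹, ?_, ?_⟩
  · have := conj_mem_cj (g := m) ha
    rwa [cj_tA W hW Q N hQp m, hmeq, hNm] at this
  · have := conj_mem_cj (g := m) hb
    rwa [cj_tB V hV Q N hQp m, hmeq, hNm] at this
  · have : x = m * (m⁻¹ * x * m) * m⁻¹ := by group
    rw [this, hab]; group

/-- The target subgroup `(P ∩ N(W P)')(P ∩ C(V P)')`. -/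
def tF (W V : Subgroup G → Subgroup G) (P : Subgroup G) : Subgroup G :=
  tA W P ⊤ ⊔ tB V P ⊤

/-- Core induction for transfer along towers of well-placed subgroups containing `Z(P)`. -/
theorem core_transfer (P : Sylow p G) (W V : Subgroup G → Subgroup G)
    (hW : IsConjugacyFunctor p W) (hV : IsConjugacyFunctor p V)
    (hWZ : ∀ H : Subgroup G, IsPGroup p H → zz H ≤ W H)
    (hVZ : ∀ H : Subgroup G, IsPGroup p H → V H ≤ zz H)
    (hVmono : ∀ H K : Subgroup G, IsPGroup p H → IsPGroup p K → H ≠ ⊥ → K ≠ ⊥ →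
      zz H ≤ zz K → V H ≤ V K)
    (hloc : ∀ H : Subgroup G, zz (P : Subgroup G) ≤ H → H ≤ (P : Subgroup G) →
      ∃ Q : Subgroup G, Q ≤ Subgroup.normalizer (H : Set G) ∧ IsPGroup p Q ∧
        ¬ p ∣ Q.relIndex (Subgroup.normalizer (H : Set G)) ∧
        ∀ x : G, x ∈ Q ⊓ ⁅Subgroup.normalizer (H : Set G), Subgroup.normalizer (H : Set G)⁆ →
          ∃ a ∈ tA W Q (Subgroup.normalizer (H : Set G)),
            ∃ b ∈ tB V Q (Subgroup.normalizer (H : Set G)), x = a * b) :
    ∀ (k : ℕ) (U : Subgroup G), zz (P : Subgroup G) ≤ U → IsWellPlaced p W (P : Subgroup G) U →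
      Nat.card P - Nat.card (nS (P : Subgroup G) U) = k →
      nS (P : Subgroup G) U ⊓
        ⁅Subgroup.normalizer (U : Set G), Subgroup.normalizer (U : Set G)⁆ ≤
        tF W V (P : Subgroup G) := by
  intro k
  induction k using Nat.strong_induction_on with
  | _ k ih =>
    intro U hZU hU hk x hx
    have hRp : IsPGroup p (nS (P : Subgroup G) U) := P.isPGroup'.to_le inf_le_left
    have hRN : nS (P : Subgroup G) U ≤ Subgroup.normalizer (U : Set G) := inf_le_right
    have hRs : ¬ p ∣ (nS (P : Subgroup G) U).relIndex (Subgroup.normalizer (U : Set G)) := hU.2 0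
    have hRP : nS (P : Subgroup G) U ≤ (P : Subgroup G) := inf_le_left
    have hUR : U ≤ nS (P : Subgroup G) U := le_inf hU.1 Subgroup.le_normalizer
    have hZR : zz (P : Subgroup G) ≤ zz (nS (P : Subgroup G) U) :=
      zz_le_zz_of_le hRP (hZU.trans hUR)
    obtain ⟨Q, hQN, hQp, hQs, hctl⟩ := hloc U hZU hU.1
    obtain ⟨a, ha, b, hb, rfl⟩ :=
      transfer_transport2 W V hW hV _ Q _ hQN hQp hQs hRN hRp hRs hctl x hx
    -- the `V`-part
    have hVle : V (P : Subgroup G) ≤ V (nS (P : Subgroup G) U) := by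
      by_cases hR : nS (P : Subgroup G) U = ⊥
      · have : V (P : Subgroup G) ≤ ⊥ := by
          calc V (P : Subgroup G) ≤ zz (P : Subgroup G) := hVZ _ P.isPGroup'
            _ ≤ zz (nS (P : Subgroup G) U) := hZR
            _ ≤ nS (P : Subgroup G) U := inf_le_left
            _ = ⊥ := hR
        exact this.trans bot_le
      · have hPne : (P : Subgroup G) ≠ ⊥ := fun h => hR (le_bot_iff.mp (h ▸ hRP))
        exact hVmono _ _ P.isPGroup' hRp hPne hR hZR
    have hbF : b ∈ tF W V (P : Subgroup G) := by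
      apply Subgroup.mem_sup_right
      refine ⟨hRP hb.1, ?_⟩
      have hle : Subgroup.normalizer (U : Set G) ⊓
          Subgroup.centralizer ((V (nS (P : Subgroup G) U) : Subgroup G) : Set G) ≤
          ⊤ ⊓ Subgroup.centralizer ((V (P : Subgroup G) : Subgroup G) : Set G) :=
        le_inf le_top (inf_le_right.trans
          (Subgroup.centralizer_le (SetLike.coe_subset_coe.mpr hVle)))
      exact Subgroup.commutator_mono hle hle hb.2
    have haF : a ∈ tF W V (P : Subgroup G) := by
      by_cases hRPeq : nS (P : Subgroup G) U = (P : Subgroup G)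
      · apply Subgroup.mem_sup_left
        unfold tA at ha ⊢
        rw [hRPeq] at ha
        exact ⟨ha.1, Subgroup.commutator_mono (inf_le_inf_right _ le_top)
          (inf_le_inf_right _ le_top) ha.2⟩
      · have hRlt : nS (P : Subgroup G) U < (P : Subgroup G) := lt_of_le_of_ne hRP hRPeq
        have hU₁wp := isWellPlaced_tower_one P W hW U hU
        have hU₁eq : functorTower W (P : Subgroup G) U 1 = W (nS (P : Subgroup G) U) := rfl
        have hZU₁ : zz (P : Subgroup G) ≤ functorTower W (P : Subgroup G) U 1 := by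
          rw [hU₁eq]; exact hZR.trans (hWZ _ hRp)
        have hgrow := lt_inf_normalizer_of_lt P.isPGroup' hRlt
        have hle : (P : Subgroup G) ⊓
            Subgroup.normalizer ((nS (P : Subgroup G) U : Subgroup G) : Set G) ≤
            nS (P : Subgroup G) (functorTower W (P : Subgroup G) U 1) :=
          inf_le_inf_left _ (normalizer_le_normalizer_functor W hW _ hRp)
        have hRU₁ : nS (P : Subgroup G) U ≤
            nS (P : Subgroup G) (functorTower W (P : Subgroup G) U 1) := hgrow.le.trans hle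
        have hcard : Nat.card (nS (P : Subgroup G) U) <
            Nat.card (nS (P : Subgroup G) (functorTower W (P : Subgroup G) U 1)) := by
          by_contra hc
          have h1 := not_lt.mp hc
          have h2 := Subgroup.card_le_of_le hle
          have h3 : nS (P : Subgroup G) U = (P : Subgroup G) ⊓
              Subgroup.normalizer ((nS (P : Subgroup G) U : Subgroup G) : Set G) :=
            Subgroup.eq_of_le_of_card_ge hgrow.le (h2.trans h1)
          exact hgrow.ne h3
        have hcardS : Nat.card (nS (P : Subgroup G) (functorTower W (P : Subgroup G) U 1)) ≤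
            Nat.card P := Subgroup.card_le_of_le inf_le_left
        apply ih (Nat.card P -
            Nat.card (nS (P : Subgroup G) (functorTower W (P : Subgroup G) U 1)))
          (by omega) _ hZU₁ hU₁wp rfl
        refine ⟨hRU₁ ha.1, ?_⟩
        have hle2 : Subgroup.normalizer (U : Set G) ⊓
            Subgroup.normalizer ((W (nS (P : Subgroup G) U) : Subgroup G) : Set G) ≤
            Subgroup.normalizer ((functorTower W (P : Subgroup G) U 1 : Subgroup G) : Set G) := by
          rw [hU₁eq]; exact inf_le_right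
        exact Subgroup.commutator_mono hle2 hle2 ha.2
    exact mul_mem haF hbF

end Cfsg.Agent.Lib.Helper11.LG
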