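import Mathlib
import Cfsg.Agent.Lib.Helper11.LG3

/-!
Restricted local-to-global theorem for control of transfer by a pair of functors: global part
(helper11).
-/

set_option autoImplicit false

namespace Cfsg.Agent.Lib.Helper11.LG

open Cfsg Cfsg.Agent.Lib.Helper29 Cfsg.Agent.Lib.Helper1 Cfsg.Agent.Lib.Helper11.AG
open scoped commutatorElement

variable {G : Type*} [Group G] [Finite G] {p : ℕ} [Fact p.Prime]

theorem transfer_restricted (P : Sylow p G) (W V : Subgroup G → Subgroup G)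
    (hW : IsConjugacyFunctor p W) (hV : IsConjugacyFunctor p V)
    (hWZ : ∀ H : Subgroup G, IsPGroup p H → zz H ≤ W H)
    (hVZ : ∀ H : Subgroup G, IsPGroup p H → V H ≤ zz H)
    (hVmono : ∀ H K : Subgroup G, IsPGroup p H → IsPGroup p K → H ≠ ⊥ → K ≠ ⊥ →
      zz H ≤ zz K → V H ≤ V K)
    (hloc : ∀ H : Subgroup G, zz (P : Subgroup G) ≤ H → H ≤ (P : Subgroup G) →
      ∃ Q : Subgroup G, Q ≤ Subgroup.normalizer (H : Set G) ∧ IsPGroup p Q ∧
        ¬ p ∣ Q.relIndex (Subgroup.normalizer (H : Set G)) ∧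
        ∀ x : G, x ∈ Q ⊓ ⁅Subgroup.normalizer (H : Set G), Subgroup.normalizer (H : Set G)⁆ →
          ∃ a ∈ tA W Q (Subgroup.normalizer (H : Set G)),
            ∃ b ∈ tB V Q (Subgroup.normalizer (H : Set G)), x = a * b) :
    (P : Subgroup G) ⊓ ⁅(⊤ : Subgroup G), ⊤⁆ ≤ tF W V (P : Subgroup G) := by
  have hSel : IsSelector P {U : Subgroup G | IsWellPlaced p W (P : Subgroup G) U} :=
    ⟨fun U hU => hU.1, fun U hU => hU.2 0, fun T hT => exists_wellPlaced_cj P W hW T hT⟩
  have hchain : ∀ (A : Set G) (g : G),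
      FChain (AGFam p (P : Subgroup G) ∩ {U : Subgroup G | IsWellPlaced p W (P : Subgroup G) U})
        A g → ∀ a ∈ A, a * (g⁻¹ * a * g)⁻¹ ∈ tF W V (P : Subgroup G) := by
    intro A g hch
    induction hch with
    | nil A => intro a _; simp
    | cons A T x g' hT hxN hAT _ ih =>
      intro a ha
      have hTwp : IsWellPlaced p W (P : Subgroup G) T := hT.2
      have hZT := center_le_of_mem_AGFam P hT.1
      have h2 := ih (x⁻¹ * a * x) ⟨a, ha, rfl⟩
      have h1 : a * (x⁻¹ * a * x)⁻¹ ∈ tF W V (P : Subgroup G) := by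
        apply core_transfer P W V hW hV hWZ hVZ hVmono hloc _ T hZT hTwp rfl
        have haT : a ∈ T := hAT ha
        have hxa : x⁻¹ * a * x ∈ T := by
          have := (Subgroup.mem_normalizer_iff.mp (inv_mem hxN) a).mp haT
          simpa using this
        refine ⟨le_inf hTwp.1 Subgroup.le_normalizer (mul_mem haT (inv_mem hxa)), ?_⟩
        have : a * (x⁻¹ * a * x)⁻¹ = ⁅a, x⁻¹⁆ := by
          rw [commutatorElement_def]; group
        rw [this]
        exact Subgroup.commutator_mem_commutator (Subgroup.le_normalizer haT) (inv_mem hxN)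
      have : a * ((x * g')⁻¹ * a * (x * g'))⁻¹ =
          (a * (x⁻¹ * a * x)⁻¹) * ((x⁻¹ * a * x) * (g'⁻¹ * (x⁻¹ * a * x) * g')⁻¹) := by group
      rw [this]
      exact mul_mem h1 h2
  have hfoc : (P : Subgroup G) ⊓ ⁅(⊤ : Subgroup G), ⊤⁆ = (P : Subgroup G).focalSubgroup := by
    rw [inf_comm]
    exact Subgroup.commutator_inf_eq_focalSubgroup P
  rw [hfoc, Subgroup.focalSubgroup_def, Subgroup.closure_le]
  rintro _ ⟨hgS, x, hxS, u, rfl⟩
  have huS : u * x * u⁻¹ ∈ (P : Subgroup G) := by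
    have h1 : (⁅x, u⁆)⁻¹ * x ∈ (P : Subgroup G) := mul_mem (inv_mem hgS) hxS
    have : (⁅x, u⁆)⁻¹ * x = u * x * u⁻¹ := by rw [commutatorElement_def]; group
    rwa [this] at h1
  have hTS : ((Subgroup.zpowers x : Subgroup G) : Set G) ⊆ ((P : Subgroup G) : Set G) := by
    apply SetLike.coe_subset_coe.mpr
    rw [Subgroup.zpowers_le]; exact hxS
  have hTu : rcs u⁻¹ ((Subgroup.zpowers x : Subgroup G) : Set G) ⊆ ((P : Subgroup G) : Set G) := by
    rw [rcs_coe, inv_inv]
    apply SetLike.coe_subset_coe.mpr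
    change (Subgroup.zpowers x).map (MulAut.conj u).toMonoidHom ≤ _
    rw [MonoidHom.map_zpowers, Subgroup.zpowers_le]
    exact huS
  obtain ⟨c, hc, y, hy, hcy⟩ := main_set_sel P _ hSel _ hTS u⁻¹ hTu
  have h1 := hchain _ _ hy x (Subgroup.mem_zpowers x)
  have hcx : c⁻¹ * x * c = x := by
    have := Subgroup.mem_centralizer_iff.mp hc x (Subgroup.mem_zpowers x)
    rw [mul_assoc, this, ← mul_assoc, inv_mul_cancel, one_mul]
  have e : ⁅x, u⁆ = x * (y⁻¹ * x * y)⁻¹ := by
    have hu : u = (c * y)⁻¹ := by rw [← hcy, inv_inv]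
    rw [commutatorElement_def, hu]
    have : y⁻¹ * x * y = y⁻¹ * (c⁻¹ * x * c) * y := by rw [hcx]
    rw [this]
    group
  rw [e]
  exact h1

end Cfsg.Agent.Lib.Helper11.LG
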