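import Mathlib
import Cfsg.Agent.Lib.Lead.MaxClass

/-!
`p`-groups of maximal class: the centralizer of the second centre has index `p` (helper11),
for S5270.
-/
set_option autoImplicit false

namespace Cfsg.Agent.Lib.Helper11.MCa

open Subgroup Cfsg.Agent.Lib.Lead.MaxClass

universe u

variable {X : Type u} [Group X]

/-- the commutator map `x ↦ x y x⁻¹ y⁻¹` into the centre, for `y` in the second centre -/
noncomputable def cHom (y : X) (h : ∀ x : X, x * y * x⁻¹ * y⁻¹ ∈ center X) : X →* center X :=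
  MonoidHom.mk' (fun x => ⟨x * y * x⁻¹ * y⁻¹, h x⟩) (by
    intro a b
    apply Subtype.ext
    have hc := h b
    rw [mem_center_iff] at hc
    show (a * b) * y * (a * b)⁻¹ * y⁻¹ = (a * y * a⁻¹ * y⁻¹) * (b * y * b⁻¹ * y⁻¹)
    have h1 : (a * b) * y * (a * b)⁻¹ * y⁻¹ = a * (b * y * b⁻¹ * y⁻¹) * y * a⁻¹ * y⁻¹ := by group
    rw [h1, hc a]
    have h2 := hc (a * y * a⁻¹ * y⁻¹)
    rw [h2]
    group)

theorem mem_ker_cHom (y : X) (h : ∀ x : X, x * y * x⁻¹ * y⁻¹ ∈ center X) (x : X) :
    x ∈ (cHom y h).ker ↔ x * y = y * x := by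
  rw [MonoidHom.mem_ker, Subtype.ext_iff]
  show x * y * x⁻¹ * y⁻¹ = 1 ↔ _
  constructor
  · intro h1
    have : x * y = (x * y * x⁻¹ * y⁻¹) * y * x := by group
    rw [this, h1, one_mul]
  · intro h1
    rw [h1]; group

theorem mem_Z2_comm {y : X} (hy : y ∈ Subgroup.upperCentralSeries X 2) (x : X) :
    x * y * x⁻¹ * y⁻¹ ∈ center X := by
  have h1 : y ∈ Subgroup.upperCentralSeries X (1 + 1) := hy
  rw [Subgroup.mem_upperCentralSeries_succ_iff] at h1
  have h2 := h1 x
  rw [Subgroup.upperCentralSeries_one, commutatorElement_def] at h2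
  have : x * y * x⁻¹ * y⁻¹ = (y * x * y⁻¹ * x⁻¹)⁻¹ := by group
  rw [this]
  exact inv_mem h2

variable [Finite X] {p : ℕ} [Fact p.Prime] {n : ℕ}

theorem exists_gen_Z2 (hX : Nat.card X = p ^ n) (hn : 4 ≤ n)
    (hc : Group.nilpotencyClass X = n - 1) :
    Nat.card (center X) = p ∧ ∃ y ∈ Subgroup.upperCentralSeries X 2, y ∉ center X ∧
      ∀ w ∈ Subgroup.upperCentralSeries X 2, ∃ k : ℕ, ∃ z ∈ center X, w = z * y ^ k := by
  have hp : p.Prime := Fact.out
  obtain ⟨h1a, h1b, h1c⟩ := card_center_of_maxClass hX (by omega) hc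
  obtain ⟨h2a, -, -⟩ := card_center_of_maxClass (X := X ⧸ center X) h1b (by omega)
    (by rw [h1c]; omega)
  refine ⟨h1a, ?_⟩
  -- a nontrivial element of the centre of the quotient
  haveI : Nontrivial (center (X ⧸ center X)) := by
    rw [← Finite.one_lt_card_iff_nontrivial, h2a]
    exact hp.one_lt
  obtain ⟨g, hg⟩ := exists_ne (1 : center (X ⧸ center X))
  obtain ⟨y, hy⟩ := QuotientGroup.mk_surjective (g : X ⧸ center X)
  have hZ2 : ∀ w : X, w ∈ Subgroup.upperCentralSeries X 2 ↔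
      (QuotientGroup.mk w : X ⧸ center X) ∈ center (X ⧸ center X) := by
    intro w
    rw [← Subgroup.comap_upperCentralSeries_quotient_center 1, mem_comap, Subgroup.upperCentralSeries_one]
    rfl
  have hyZ2 : y ∈ Subgroup.upperCentralSeries X 2 := by
    rw [hZ2, hy]; exact g.2
  have hyZ : y ∉ center X := by
    intro hcon
    apply hg
    apply Subtype.ext
    rw [← hy]
    exact (QuotientGroup.eq_one_iff y).2 hcon
  refine ⟨y, hyZ2, hyZ, fun w hw => ?_⟩
  have htop := zpowers_eq_top_of_prime_card h2a hg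
  have hw' : (⟨QuotientGroup.mk w, (hZ2 w).1 hw⟩ : center (X ⧸ center X)) ∈ zpowers g :=
    htop ▸ mem_top _
  rw [← mem_powers_iff_mem_zpowers] at hw'
  obtain ⟨k, hk⟩ := hw'
  have hk' : (QuotientGroup.mk (y ^ k) : X ⧸ center X) = QuotientGroup.mk w := by
    have := congrArg Subtype.val hk
    simp only [SubgroupClass.coe_pow] at this
    rw [QuotientGroup.mk_pow, hy]
    exact this
  rw [QuotientGroup.eq] at hk'
  refine ⟨k, (y ^ k)⁻¹ * w, hk', ?_⟩
  have hcomm := (mem_center_iff.1 hk') (y ^ k)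
  rw [← hcomm]; group

theorem index_centralizer_Z2 (hX : Nat.card X = p ^ n) (hn : 4 ≤ n)
    (hc : Group.nilpotencyClass X = n - 1) :
    (centralizer ((Subgroup.upperCentralSeries X 2 : Subgroup X) : Set X)).index ∣ p := by
  obtain ⟨hZ, y, hy2, -, hgen⟩ := exists_gen_Z2 hX hn hc
  have h := mem_Z2_comm hy2
  have hker : (cHom y h).ker = centralizer ((Subgroup.upperCentralSeries X 2 : Subgroup X) : Set X) := by
    ext x
    rw [mem_ker_cHom, mem_centralizer_iff]
    constructor
    · intro hx w hw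
      obtain ⟨k, z, hz, rfl⟩ := hgen w hw
      have h1 : x * y ^ k = y ^ k * x := (Commute.pow_right hx k).eq
      have h2 := (mem_center_iff.1 hz) x
      calc z * y ^ k * x = z * (y ^ k * x) := mul_assoc _ _ _
        _ = z * (x * y ^ k) := by rw [h1]
        _ = (z * x) * y ^ k := (mul_assoc _ _ _).symm
        _ = (x * z) * y ^ k := by rw [h2]
        _ = x * (z * y ^ k) := mul_assoc _ _ _
    · intro hx
      exact (hx y hy2).symm
  rw [← hker, index_ker, ← hZ]
  exact card_subgroup_dvd_card _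

end Cfsg.Agent.Lib.Helper11.MCa
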