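import Mathlib
import Cfsg.Agent.Lib.Helper11.MCa
import Cfsg.Agent.Lib.Helper11.ESh
import Cfsg.Agent.Lib.Helper29.ExtendableAut
import Cfsg.Agent.Lib.Helper29.FusionChain2
import Cfsg.Agent.Lib.Helper29.YoshidaMain
import Cfsg.Agent.S5077

/-!
In a saturated fusion system over a `p`-group of maximal class, `C_S(Z₂(S))` is essential as soon
as some `F`-automorphism of `Z₂(S)` moves `Z(S)` (helper11), for S5270.
-/
set_option autoImplicit false

namespace Cfsg.Agent.Lib.Helper11.MCb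

open Subgroup Cfsg Cfsg.Agent.Lib.Helper29 Cfsg.Agent.Lib.Helper11.ESe

variable {Ω : Type*} [Group Ω] {S : Subgroup Ω}

/-- `Z₂(S)` in the ambient group -/
abbrev ZZ (S : Subgroup Ω) : Subgroup Ω := (Subgroup.upperCentralSeries ↥S 2).map S.subtype

theorem ZZ_le : ZZ S ≤ S := by
  rintro _ ⟨u, _, rfl⟩
  exact u.2

theorem conj_mem_ZZ {s : Ω} (hs : s ∈ S) {w : Ω} (hw : w ∈ ZZ S) : s * w * s⁻¹ ∈ ZZ S := by
  obtain ⟨u, hu, rfl⟩ := hw
  have hN : (Subgroup.upperCentralSeries ↥S 2).Normal := inferInstance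
  have h1 : (⟨s, hs⟩ : S) * u * (⟨s, hs⟩ : S)⁻¹ ∈ Subgroup.upperCentralSeries ↥S 2 :=
    hN.conj_mem u hu ⟨s, hs⟩
  rw [Subgroup.mem_map]
  refine ⟨_, h1, ?_⟩
  simp

theorem mem_center_map {c : Ω} : c ∈ (center ↥S).map S.subtype ↔ c ∈ Zc S := by
  rw [mem_Zc]
  constructor
  · rintro ⟨u, hu, rfl⟩
    refine ⟨u.2, fun h hh => ?_⟩
    exact congrArg Subtype.val ((mem_center_iff.1 hu) ⟨h, hh⟩)
  · rintro ⟨hc, hall⟩
    refine ⟨⟨c, hc⟩, ?_, rfl⟩
    show (⟨c, hc⟩ : S) ∈ center ↥S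
    rw [mem_center_iff]
    intro g
    exact Subtype.ext (hall g g.2)

theorem S_le_normalizer_ZZ : S ≤ normalizer ((ZZ S : Subgroup Ω) : Set Ω) :=
  le_normalizer_of_conj_mem fun _ hg _ hx => conj_mem_ZZ hg hx

/-- `C_S(Z₂(S))` is normal in `S` -/
theorem S_le_normalizer_cent : S ≤ normalizer ((S ⊓ centralizer ((ZZ S : Subgroup Ω) : Set Ω) :
    Subgroup Ω) : Set Ω) := by
  apply le_normalizer_of_conj_mem
  intro s hs g hg
  refine Subgroup.mem_inf.2 ⟨S.mul_mem (S.mul_mem hs hg.1) (S.inv_mem hs), ?_⟩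
  rw [mem_centralizer_iff]
  intro w hw
  have hw' : s⁻¹ * w * s ∈ ZZ S := by
    have := conj_mem_ZZ (S.inv_mem hs) hw
    rwa [inv_inv] at this
  have hg2 := (mem_centralizer_iff.1 hg.2) _ hw'
  calc w * (s * g * s⁻¹) = s * ((s⁻¹ * w * s) * g) * s⁻¹ := by group
    _ = s * (g * (s⁻¹ * w * s)) * s⁻¹ := by rw [hg2]
    _ = s * g * s⁻¹ * w := by group

theorem fullyNormalized_of_normal [Finite S] (F : FusionSystem S) {P : Subgroup Ω} (hPS : P ≤ S)
    (hN : S ≤ normalizer (P : Set Ω)) : F.IsFullyNormalized P := by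
  refine ⟨hPS, fun Q _ => ?_⟩
  have h1 : FusionSystem.normalizerIn S P = S := inf_eq_left.2 hN
  rw [h1]
  haveI : Finite (FusionSystem.normalizerIn S Q) := finite_normalizerIn Q
  exact Subgroup.card_le_of_le inf_le_left

section
variable [Finite S] {p : ℕ} [Fact p.Prime]

theorem class_eq (hS : IsPGroup p S) {n : ℕ} (hn : Nat.card S = p ^ n) (h4 : 4 ≤ n)
    (hmax : S.lowerCentralSeries (n - 2) ≠ ⊥) : Group.nilpotencyClass ↥S = n - 1 := by
  haveI := hS.isNilpotent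
  have h1 := Cfsg.Agent.Lib.Lead.MaxClass.nilpotencyClass_le n ↥S hn (by omega)
  have h2 : ¬ Group.nilpotencyClass ↥S ≤ n - 2 := by
    intro hle
    apply hmax
    rw [← top_subtype_lowerCentralSeries,
      Subgroup.lowerCentralSeries_eq_bot_iff_nilpotencyClass_le.2 hle, Subgroup.map_bot]
  omega

theorem relIndex_cent (hS : IsPGroup p S) {n : ℕ} (hn : Nat.card S = p ^ n) (h4 : 4 ≤ n)
    (hmax : S.lowerCentralSeries (n - 2) ≠ ⊥) :
    (S ⊓ centralizer ((ZZ S : Subgroup Ω) : Set Ω)).relIndex S ∣ p := by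
  have h1 := Cfsg.Agent.Lib.Helper11.MCa.index_centralizer_Z2 (X := ↥S) hn h4
    (class_eq hS hn h4 hmax)
  have h2 : (S ⊓ centralizer ((ZZ S : Subgroup Ω) : Set Ω)).subgroupOf S =
      centralizer ((Subgroup.upperCentralSeries ↥S 2 : Subgroup ↥S) : Set ↥S) := by
    ext s
    rw [mem_subgroupOf, Subgroup.mem_inf, mem_centralizer_iff, mem_centralizer_iff]
    constructor
    · rintro ⟨-, hall⟩ u hu
      exact Subtype.ext (hall (u : Ω) ⟨u, hu, rfl⟩)
    · intro hall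
      refine ⟨s.2, ?_⟩
      rintro _ ⟨u, hu, rfl⟩
      exact congrArg Subtype.val (hall u hu)
  unfold relIndex
  rw [h2]
  exact h1

end

end Cfsg.Agent.Lib.Helper11.MCb
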