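import Mathlib
import Cfsg.Agent.Lib.Helper11.MCb

/-!
Main theorem for S5270 (helper11).
-/
set_option autoImplicit false

namespace Cfsg.Agent.Lib.Helper11.MCb

open Subgroup Cfsg Cfsg.Agent.Lib.Helper29 Cfsg.Agent.Lib.Helper11.ESe

variable {Ω : Type*} [Group Ω] {S : Subgroup Ω}

variable [Finite S] {p : ℕ} [Fact p.Prime]

/-- a subgroup strictly between `P` and `S` does not exist when `P` has index `p` -/
theorem eq_of_lt_of_relIndex {P Q : Subgroup Ω} (hrel : P.relIndex S = p) (hPQ : P < Q)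
    (hQS : Q ≤ S) : Q = S := by
  have hp : p.Prime := Fact.out
  have h1 := relIndex_mul_relIndex P Q S hPQ.le hQS
  rw [hrel] at h1
  have h2 : P.relIndex Q ≠ 1 := by
    rw [Ne, relIndex_eq_one]
    exact not_le_of_gt hPQ
  have h3 : P.relIndex Q ∣ p := Dvd.intro _ h1
  rcases (Nat.dvd_prime hp).1 h3 with h4 | h4
  · exact absurd h4 h2
  · rw [h4] at h1
    have h5 : Q.relIndex S = 1 := by
      have : p * Q.relIndex S = p * 1 := by rw [h1, mul_one]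
      exact Nat.eq_of_mul_eq_mul_left hp.pos this
    exact le_antisymm hQS (relIndex_eq_one.1 h5)

/-- automorphisms of `P` that extend to a larger subgroup preserve `Z(S)` when `P` has index `p` -/
theorem extGen_preserves (F : FusionSystem S) {P : Subgroup Ω} (hPS : P ≤ S)
    (hrel : P.relIndex S = p) {β : MulAut ↥P} (hβ : β ∈ Subgroup.closure (extGen F P)) :
    ∀ x : P, (x : Ω) ∈ Zc S → ((β x : P) : Ω) ∈ Zc S := by
  haveI : Finite P := finite_of_le hPS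
  have hβ' : β ∈ (Subgroup.closure (extGen F P)).toSubmonoid := hβ
  rw [Subgroup.closure_toSubmonoid_of_finite] at hβ'
  clear hβ
  induction hβ' using Submonoid.closure_induction with
  | mem β₀ hβ₀ =>
    obtain ⟨Q, hPQ, φ', hφ', hv⟩ := hβ₀
    have hQS : Q ≤ S := (F.le_of_mem hφ').1
    have hQ : Q = S := eq_of_lt_of_relIndex hrel hPQ hQS
    subst hQ
    obtain ⟨α', -, hα'⟩ := exists_aut_of_hom_top F hφ'
    intro x hx
    rw [← hv x, ← hα']
    exact Cfsg.Agent.Lib.Helper11.ESe.char_Zc α' (x := Subgroup.inclusion hPQ.le x) hx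
  | one =>
    intro x hx
    exact hx
  | mul β₁ β₂ _ _ ih₁ ih₂ =>
    intro x hx
    rw [MulAut.mul_apply]
    exact ih₁ _ (ih₂ x hx)

theorem essential_cent (hS : IsPGroup p S) {n : ℕ} (hn : Nat.card S = p ^ n) (h4 : 4 ≤ n)
    (hmax : S.lowerCentralSeries (n - 2) ≠ ⊥) (F : FusionSystem S) (hF : F.IsSaturated p)
    (φ : ↥(ZZ S) →* Ω) (hφ : φ ∈ F.Hom (ZZ S)) (hφZ : φ.range = ZZ S)
    (hmove : ∃ (z : Ω) (hz : z ∈ ZZ S), z ∈ (center ↥S).map S.subtype ∧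
      φ ⟨z, hz⟩ ∉ (center ↥S).map S.subtype) :
    F.IsEssential p (S ⊓ centralizer ((ZZ S : Subgroup Ω) : Set Ω)) := by
  have hp : p.Prime := Fact.out
  obtain ⟨z, hz, hzZ, hφz⟩ := hmove
  rw [mem_center_map] at hzZ hφz
  obtain ⟨S₁, hS₁⟩ : ∃ S₁ : Subgroup Ω, S₁ = S ⊓ centralizer ((ZZ S : Subgroup Ω) : Set Ω) :=
    ⟨_, rfl⟩
  rw [← hS₁]
  have hS₁S : S₁ ≤ S := by rw [hS₁]; exact inf_le_left
  haveI : Finite S₁ := finite_of_le hS₁S
  have hmemS₁ : ∀ g : Ω, g ∈ S₁ ↔ g ∈ S ∧ ∀ w ∈ ZZ S, w * g = g * w := by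
    intro g
    rw [hS₁, Subgroup.mem_inf, mem_centralizer_iff]
    rfl
  -- `S₁ ≠ S`
  have hne : S₁ ≠ S := by
    intro heq
    apply hφz
    have hφzZ : φ ⟨z, hz⟩ ∈ ZZ S := hφZ.le ⟨_, rfl⟩
    refine mem_Zc.2 ⟨ZZ_le hφzZ, fun s hs => ?_⟩
    have hs' : s ∈ S₁ := by rw [heq]; exact hs
    exact (((hmemS₁ s).1 hs').2 _ hφzZ).symm
  -- index `p`
  have hrel : S₁.relIndex S = p := by
    have h1 := relIndex_cent hS hn h4 hmax
    rw [← hS₁] at h1
    rcases (Nat.dvd_prime hp).1 h1 with h2 | h2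
    · exact absurd (le_antisymm hS₁S (relIndex_eq_one.1 h2)) hne
    · exact h2
  have hfn : F.IsFullyNormalized S₁ := by
    apply fullyNormalized_of_normal F hS₁S
    rw [hS₁]
    exact S_le_normalizer_cent
  rcases extendable_dichotomy hS F hF (lt_of_le_of_ne hS₁S hne) hfn with ⟨-, hcl⟩ | ⟨hess, -⟩
  swap
  · exact hess
  exfalso
  -- the automorphism of `S₁` extending `φ`
  have hZfn : F.IsFullyNormalized (ZZ S) := fullyNormalized_of_normal F ZZ_le S_le_normalizer_ZZ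
  have hsat := (Cfsg.Agent.S5077.result p hS F).1 hF
  have hrec : F.IsReceptive (ZZ S) := hsat.2 _ (hsat.1 _ hZfn).1
  obtain ⟨ψ, hψ, hext⟩ := hrec.2 (ZZ S) φ hφ hφZ
  have hS₁N : S₁ ≤ FusionSystem.extender S (ZZ S) φ := by
    rw [hS₁]
    exact centralizerIn_le_extender (ZZ S) φ
  have hZN : ZZ S ≤ FusionSystem.extender S (ZZ S) φ := le_extender F hφ
  have hψ₁ := restrict_mem F hS₁N hψ
  have himg : ∀ x : S₁, (ψ.comp (Subgroup.inclusion hS₁N)) x ∈ S₁ := by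
    intro x
    rw [hmemS₁]
    refine ⟨(F.le_of_mem hψ).2 _, fun w hw => ?_⟩
    have hw' : w ∈ φ.range := hφZ.ge hw
    obtain ⟨w', rfl⟩ := hw'
    have h1 : ψ ⟨(w' : Ω), hZN w'.2⟩ = φ w' := hext _ w'.2 (hZN w'.2)
    have h2 : (w' : Ω) * x = x * w' := ((hmemS₁ _).1 x.2).2 _ w'.2
    have h3 : (⟨(w' : Ω), hZN w'.2⟩ : FusionSystem.extender S (ZZ S) φ) *
        Subgroup.inclusion hS₁N x = Subgroup.inclusion hS₁N x * ⟨(w' : Ω), hZN w'.2⟩ :=
      Subtype.ext h2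
    have h4 := congrArg ψ h3
    rw [map_mul, map_mul, h1] at h4
    exact h4
  obtain ⟨α, hα, hαx⟩ := exists_aut_of_hom F hψ₁ himg
  have hzS₁ : z ∈ S₁ := by
    rw [hmemS₁]
    exact ⟨(mem_Zc.1 hzZ).1, fun w hw => (mem_Zc.1 hzZ).2 w (ZZ_le hw)⟩
  have h5 : ((α ⟨z, hzS₁⟩ : S₁) : Ω) = φ ⟨z, hz⟩ := by
    rw [hαx]
    exact hext z hz (hS₁N hzS₁)
  rw [← hcl] at hα
  have h6 := extGen_preserves F hS₁S hrel hα ⟨z, hzS₁⟩ hzZ
  rw [h5] at h6
  exact hφz h6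

end Cfsg.Agent.Lib.Helper11.MCb
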