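import Mathlib
import Cfsg.Agent.Lib.Helper2.NilpotentBasic

/-!
Minimal normal `p`-subgroups: they are centralized by suitable `p`-subgroups, are abelian and have
exponent `p` (helper11).
-/

set_option autoImplicit false

namespace Cfsg.Agent.Lib.Helper11.MinNormalP

open Subgroup

variable {Z : Type*} [Group Z] [Finite Z] {p : ℕ} [Fact p.Prime]

/-- a minimal normal `p`-subgroup `M` is centralized by every `p`-subgroup `P` for which there is a
subgroup `Q` centralizing `M` with `Q ⊔ P` normal -/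
theorem le_centralizer_of_min {M : Subgroup Z} (hMn : M.Normal) (hM : IsPGroup p M)
    (hmin : ∀ N : Subgroup Z, N.Normal → N ≤ M → N = ⊥ ∨ N = M)
    {P Q : Subgroup Z} (hP : IsPGroup p P) (hQ : Q ≤ centralizer (M : Set Z))
    (hQP : (Q ⊔ P).Normal) : P ≤ centralizer (M : Set Z) := by
  classical
  by_cases hMbot : M = ⊥
  · subst hMbot
    intro x _
    rw [mem_centralizer_iff]
    intro m hm
    have : m = 1 := hm
    subst this
    simp
  -- the `p`-group `D = M ⊔ P`
  have hD : IsPGroup p (M ⊔ P : Subgroup Z) := IsPGroup.to_sup_of_normal_left hM hP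
  haveI : Group.IsNilpotent ↥(M ⊔ P : Subgroup Z) := hD.isNilpotent
  haveI hsn : (M.subgroupOf (M ⊔ P)).Normal := hMn.subgroupOf _
  have hne : M.subgroupOf (M ⊔ P) ≠ ⊥ := by
    intro h
    rw [subgroupOf_eq_bot, disjoint_iff, inf_of_le_left le_sup_left] at h
    exact hMbot h
  have h3 := Cfsg.Agent.Lib.Helper2.normal_inf_center_ne_bot (M.subgroupOf (M ⊔ P)) hne
  obtain ⟨x, hx, hx1⟩ : ∃ x : ↥(M ⊔ P : Subgroup Z),
      x ∈ M.subgroupOf (M ⊔ P) ⊓ center ↥(M ⊔ P : Subgroup Z) ∧ x ≠ 1 := by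
    obtain ⟨x, hx⟩ := (Subgroup.ne_bot_iff_exists_ne_one).1 h3
    exact ⟨x.1, x.2, fun h => hx (Subtype.ext h)⟩
  have hxM : (x : Z) ∈ M := (mem_inf.1 hx).1
  have hxc : ∀ d : ↥(M ⊔ P : Subgroup Z), d * x = x * d := fun d =>
    (mem_center_iff.1 (mem_inf.1 hx).2) d
  -- the normal subgroup `F = M ⊓ C(Q ⊔ P)`
  haveI := hQP
  have hFn : (M ⊓ centralizer ((Q ⊔ P : Subgroup Z) : Set Z)).Normal := by
    haveI := hMn
    exact inferInstance
  have hxF : (x : Z) ∈ M ⊓ centralizer ((Q ⊔ P : Subgroup Z) : Set Z) := by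
    refine mem_inf.2 ⟨hxM, ?_⟩
    have hle : Q ⊔ P ≤ centralizer ({(x : Z)} : Set Z) := by
      refine sup_le ?_ ?_
      · intro q hq
        rw [mem_centralizer_iff]
        intro y hy
        rw [Set.mem_singleton_iff] at hy
        subst hy
        have := (mem_centralizer_iff.1 (hQ hq)) (x : Z) hxM
        exact this
      · intro t ht
        rw [mem_centralizer_iff]
        intro y hy
        rw [Set.mem_singleton_iff] at hy
        subst hy
        have := hxc ⟨t, (le_sup_right : P ≤ M ⊔ P) ht⟩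
        have h2 := congrArg Subtype.val this
        simpa using h2.symm
    rw [mem_centralizer_iff]
    intro y hy
    have := (mem_centralizer_iff.1 (hle hy)) (x : Z) rfl
    exact this.symm
  rcases hmin _ hFn inf_le_left with h | h
  · exfalso
    rw [h] at hxF
    exact hx1 (Subtype.ext (by simpa using hxF))
  · intro t ht
    rw [mem_centralizer_iff]
    intro m hm
    rw [← h] at hm
    have := (mem_centralizer_iff.1 (mem_inf.1 hm).2) t ((le_sup_right : P ≤ Q ⊔ P) ht)
    exact this.symm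

/-- a minimal normal `p`-subgroup is abelian -/
theorem comm_of_min {M : Subgroup Z} (hMn : M.Normal) (hM : IsPGroup p M)
    (hmin : ∀ N : Subgroup Z, N.Normal → N ≤ M → N = ⊥ ∨ N = M) :
    ∀ a ∈ M, ∀ b ∈ M, a * b = b * a := by
  have h := le_centralizer_of_min hMn hM hmin (P := M) (Q := ⊥) hM bot_le
    (by rw [bot_sup_eq]; exact hMn)
  intro a ha b hb
  exact ((mem_centralizer_iff.1 (h ha)) b hb).symm

/-- a minimal normal `p`-subgroup has exponent `p` -/
theorem pow_eq_one_of_min {M : Subgroup Z} (hMn : M.Normal) (hM : IsPGroup p M)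
    (hmin : ∀ N : Subgroup Z, N.Normal → N ≤ M → N = ⊥ ∨ N = M) :
    ∀ a ∈ M, a ^ p = 1 := by
  classical
  have hp : p.Prime := Fact.out
  have hcomm := comm_of_min hMn hM hmin
  by_cases hMbot : M = ⊥
  · subst hMbot
    intro a ha
    have : a = 1 := ha
    subst this
    simp
  let Om : Subgroup Z :=
    { carrier := {u | u ∈ M ∧ u ^ p = 1}
      one_mem' := ⟨M.one_mem, one_pow _⟩
      mul_mem' := by
        rintro a b ⟨ha, hap⟩ ⟨hb, hbp⟩
        refine ⟨M.mul_mem ha hb, ?_⟩
        have hc : Commute a b := hcomm a ha b hb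
        rw [hc.mul_pow, hap, hbp, one_mul]
      inv_mem' := by
        rintro a ⟨ha, hap⟩
        exact ⟨M.inv_mem ha, by rw [inv_pow, hap, inv_one]⟩ }
  have hOmn : Om.Normal := by
    constructor
    rintro a ⟨ha, hap⟩ z
    refine ⟨hMn.conj_mem a ha z, ?_⟩
    rw [conj_pow, hap, mul_one, mul_inv_cancel]
  have hOmle : Om ≤ M := fun a ha => ha.1
  -- Cauchy
  haveI : Nontrivial ↥M := by
    rw [Subgroup.nontrivial_iff_ne_bot]
    exact hMbot
  obtain ⟨k, hk⟩ := IsPGroup.iff_card.mp hM
  have hk0 : k ≠ 0 := by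
    rintro rfl
    rw [pow_zero] at hk
    have := (Subgroup.card_eq_one (H := M)).1 hk
    exact hMbot this
  have hdvd : p ∣ Nat.card ↥M := by
    rw [hk]; exact dvd_pow_self p hk0
  obtain ⟨x, hx⟩ := exists_prime_orderOf_dvd_card' p hdvd
  have hxOm : (x : Z) ∈ Om := by
    refine ⟨x.2, ?_⟩
    have : x ^ p = 1 := by rw [← hx]; exact pow_orderOf_eq_one x
    have h2 := congrArg Subtype.val this
    simpa using h2
  rcases hmin Om hOmn hOmle with h | h
  · exfalso
    rw [h] at hxOm
    have hx1 : x = 1 := Subtype.ext (by simpa using hxOm)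
    rw [hx1, orderOf_one] at hx
    exact hp.one_lt.ne hx
  · intro a ha
    rw [← h] at ha
    exact ha.2

end Cfsg.Agent.Lib.Helper11.MinNormalP
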