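import Mathlib

/-!
A finite `p`-group `S` with an abelian subgroup `A` of index `p` (helper11): elementary facts,
for S5254 / S5257.
-/
set_option autoImplicit false

namespace Cfsg.Agent.Lib.Helper11.UAa

open Subgroup

variable {Ω : Type*} [Group Ω]

/-- the data of an abelian subgroup of index `p`, in elementwise form -/
structure UAb (S A : Subgroup Ω) (p : ℕ) : Prop where
  le : A ≤ S
  comm : ∀ a ∈ A, ∀ b ∈ A, a * b = b * a
  norm : ∀ s ∈ S, ∀ a ∈ A, s * a * s⁻¹ ∈ A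
  gen : ∀ x ∈ S, x ∉ A → ∀ s ∈ S, ∃ k : ℕ, ∃ a ∈ A, s = a * x ^ k
  comm_mem : ∀ s ∈ S, ∀ t ∈ S, s * t * s⁻¹ * t⁻¹ ∈ A
  pow_mem : ∀ s ∈ S, s ^ p ∈ A

theorem uab_of_index {S A : Subgroup Ω} [Finite S] {p : ℕ} [Fact p.Prime] (hS : IsPGroup p S)
    (hAS : A ≤ S) (hc : IsMulCommutative ↥A) (hidx : (A.subgroupOf S).index = p) : UAb S A p := by
  have hp : p.Prime := Fact.out
  haveI hN : (A.subgroupOf S).Normal := by
    apply normal_of_index_eq_minFac_card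
    rw [hidx]
    obtain ⟨n, hn⟩ := IsPGroup.iff_card.1 hS
    have hn0 : n ≠ 0 := by
      rintro rfl
      have h1 : (A.subgroupOf S).index ∣ Nat.card S := index_dvd_card _
      rw [hidx, hn, pow_zero] at h1
      exact hp.one_lt.ne' (Nat.dvd_one.1 h1)
    rw [hn, hp.pow_minFac hn0]
  have hcard : Nat.card (↥S ⧸ A.subgroupOf S) = p := by rw [← index_eq_card, hidx]
  have hnorm : ∀ s ∈ S, ∀ a ∈ A, s * a * s⁻¹ ∈ A := by
    intro s hs a ha
    have := hN.conj_mem ⟨a, hAS ha⟩ (mem_subgroupOf.2 ha) ⟨s, hs⟩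
    exact mem_subgroupOf.1 this
  have hmk : ∀ s (hs : s ∈ S), (QuotientGroup.mk (⟨s, hs⟩ : S) : ↥S ⧸ A.subgroupOf S) = 1 ↔ s ∈ A := by
    intro s hs
    rw [QuotientGroup.eq_one_iff, mem_subgroupOf]
  refine ⟨hAS, ?_, hnorm, ?_, ?_, ?_⟩
  · intro a ha b hb
    exact congrArg Subtype.val (hc.is_comm.comm ⟨a, ha⟩ ⟨b, hb⟩)
  · intro x hx hxA s hs
    have hne : (QuotientGroup.mk (⟨x, hx⟩ : S) : ↥S ⧸ A.subgroupOf S) ≠ 1 := by
      rw [Ne, hmk]; exact hxA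
    have htop := zpowers_eq_top_of_prime_card hcard hne
    have hmem : (QuotientGroup.mk (⟨s, hs⟩ : S) : ↥S ⧸ A.subgroupOf S) ∈
        zpowers (QuotientGroup.mk (⟨x, hx⟩ : S) : ↥S ⧸ A.subgroupOf S) := htop ▸ mem_top _
    haveI : Finite (↥S ⧸ A.subgroupOf S) := inferInstance
    rw [← mem_powers_iff_mem_zpowers] at hmem
    obtain ⟨k, hk⟩ := hmem
    refine ⟨k, s * (x ^ k)⁻¹, ?_, by group⟩
    have h1 : (QuotientGroup.mk ((⟨s, hs⟩ : S) * (⟨x, hx⟩ ^ k)⁻¹) : ↥S ⧸ A.subgroupOf S) = 1 := by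
      rw [QuotientGroup.mk_mul, QuotientGroup.mk_inv, QuotientGroup.mk_pow]
      dsimp only at hk
      rw [hk, mul_inv_cancel]
    have h2 := (hmk (s * (x ^ k)⁻¹) (S.mul_mem hs (S.inv_mem (S.pow_mem hx k)))).1
    apply h2
    exact h1
  · intro s hs t ht
    haveI := isCyclic_of_prime_card hcard
    letI := IsCyclic.commGroup (α := ↥S ⧸ A.subgroupOf S)
    have h1 : (QuotientGroup.mk ((⟨s, hs⟩ : S) * ⟨t, ht⟩ * (⟨s, hs⟩ : S)⁻¹ * (⟨t, ht⟩ : S)⁻¹) :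
        ↥S ⧸ A.subgroupOf S) = 1 := by
      rw [QuotientGroup.mk_mul, QuotientGroup.mk_mul, QuotientGroup.mk_mul, QuotientGroup.mk_inv,
        QuotientGroup.mk_inv]
      rw [mul_comm (QuotientGroup.mk (⟨s, hs⟩ : S) : ↥S ⧸ A.subgroupOf S), mul_inv_cancel_right,
        mul_inv_cancel]
    have h2 := (hmk (s * t * s⁻¹ * t⁻¹)
      (S.mul_mem (S.mul_mem (S.mul_mem hs ht) (S.inv_mem hs)) (S.inv_mem ht))).1
    apply h2
    exact h1
  · intro s hs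
    have h1 : (QuotientGroup.mk ((⟨s, hs⟩ : S) ^ p) : ↥S ⧸ A.subgroupOf S) = 1 := by
      rw [QuotientGroup.mk_pow, ← hcard, pow_card_eq_one']
    have h2 := (hmk (s ^ p) (S.pow_mem hs p)).1
    apply h2
    exact h1

variable {S A : Subgroup Ω} {p : ℕ}

theorem UAb.norm' (h : UAb S A p) {s : Ω} (hs : s ∈ S) {a : Ω} (ha : a ∈ A) : s⁻¹ * a * s ∈ A := by
  have := h.norm s⁻¹ (S.inv_mem hs) a ha
  rwa [inv_inv] at this

theorem UAb.gen' (h : UAb S A p) {x : Ω} (hx : x ∈ S) (hxA : x ∉ A) {s : Ω} (hs : s ∈ S) :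
    ∃ k : ℕ, s * x ^ k ∈ A := by
  obtain ⟨k, a, ha, hk⟩ := h.gen x hx hxA s⁻¹ (S.inv_mem hs)
  refine ⟨k, ?_⟩
  have e : s * x ^ k = s * a⁻¹ * s⁻¹ := by
    have : x ^ k = a⁻¹ * s⁻¹ := by rw [hk]; group
    rw [this]; group
  rw [e]
  exact h.norm s hs _ (A.inv_mem ha)

/-- `Z(S)` as a subgroup of `Ω` -/
abbrev ZS (S : Subgroup Ω) : Subgroup Ω := S ⊓ centralizer (S : Set Ω)

theorem mem_ZS {S : Subgroup Ω} {z : Ω} : z ∈ ZS S ↔ z ∈ S ∧ ∀ s ∈ S, s * z = z * s := by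
  rw [Subgroup.mem_inf, mem_centralizer_iff]
  rfl

/-- an element of `A` commuting with an element outside `A` is central -/
theorem UAb.mem_ZS_of_commute (h : UAb S A p) {x : Ω} (hx : x ∈ S) (hxA : x ∉ A) {a : Ω}
    (ha : a ∈ A) (hax : a * x = x * a) : a ∈ ZS S := by
  refine mem_ZS.2 ⟨h.le ha, fun s hs => ?_⟩
  obtain ⟨k, b, hb, rfl⟩ := h.gen x hx hxA s hs
  have h1 : Commute a (x ^ k) := Commute.pow_right hax k
  calc b * x ^ k * a = b * (x ^ k * a) := mul_assoc _ _ _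
    _ = b * (a * x ^ k) := by rw [h1.eq]
    _ = (b * a) * x ^ k := (mul_assoc _ _ _).symm
    _ = (a * b) * x ^ k := by rw [h.comm a ha b hb]
    _ = a * (b * x ^ k) := mul_assoc _ _ _

/-- `Z(S) ≤ A` when `S` is not abelian -/
theorem UAb.ZS_le (h : UAb S A p) (hna : ¬ IsMulCommutative ↥S) : ZS S ≤ A := by
  intro z hz
  by_contra hzA
  apply hna
  have hz' := mem_ZS.1 hz
  refine ⟨⟨fun s t => Subtype.ext ?_⟩⟩
  obtain ⟨k, a, ha, hk⟩ := h.gen z hz'.1 hzA s s.2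
  obtain ⟨l, b, hb, hl⟩ := h.gen z hz'.1 hzA t t.2
  have hzc : ∀ u ∈ S, ∀ m : ℕ, u * z ^ m = z ^ m * u := fun u hu m =>
    (Commute.pow_right (hz'.2 u hu) m).eq
  show (s : Ω) * t = t * s
  rw [hk, hl]
  calc a * z ^ k * (b * z ^ l) = a * (z ^ k * b) * z ^ l := by group
    _ = a * (b * z ^ k) * z ^ l := by rw [hzc b (h.le hb) k]
    _ = (a * b) * (z ^ k * z ^ l) := by group
    _ = (b * a) * (z ^ l * z ^ k) := by rw [h.comm a ha b hb, ← pow_add, ← pow_add, add_comm]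
    _ = b * (a * z ^ l) * z ^ k := by group
    _ = b * (z ^ l * a) * z ^ k := by rw [hzc a (h.le ha) l]
    _ = b * z ^ l * (a * z ^ k) := by group

/-- a subgroup containing `A` and an element outside `A` is `S` -/
theorem UAb.eq_top_of_le (h : UAb S A p) {P : Subgroup Ω} (hPS : P ≤ S) (hAP : A ≤ P) {x : Ω}
    (hx : x ∈ P) (hxA : x ∉ A) : P = S := by
  apply le_antisymm hPS
  intro s hs
  obtain ⟨k, a, ha, rfl⟩ := h.gen x (hPS hx) hxA s hs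
  exact P.mul_mem (hAP ha) (P.pow_mem hx k)

end Cfsg.Agent.Lib.Helper11.UAa
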