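import Mathlib
import Cfsg.Agent.Lib.Helper11.ESa

/-!
Abstract lemmas (helper11) for S5254: a maximal `p`-subgroup of a group of automorphisms contains
every automorphism stabilizing a chain it stabilizes; an index criterion.
-/
set_option autoImplicit false

namespace Cfsg.Agent.Lib.Helper11.UAb

open Subgroup Cfsg.Agent.Lib.Helper11.ESa

section stab
variable {P : Type*} [Group P]

/-- `β` acts trivially on `W`, on `P₀ / W` and on `P / P₀` -/
def Stab3 (W P₀ : Subgroup P) (β : MulAut P) : Prop :=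
  (∀ w ∈ W, β w = w) ∧ (∀ y ∈ P₀, y⁻¹ * β y ∈ W) ∧ ∀ y : P, y⁻¹ * β y ∈ P₀

theorem mem_of_stab3 [Finite P] {p : ℕ} [Fact p.Prime] (hP : IsPGroup p P)
    (G T : Subgroup (MulAut P))
    (hT : ∀ U : Subgroup (MulAut P), U ≤ G → IsPGroup p U → T ≤ U → U ≤ T) (hTG : T ≤ G)
    (W P₀ : Subgroup P) (hW : W ≤ P₀) (hTs : ∀ τ ∈ T, Stab3 W P₀ τ) {t : MulAut P} (ht : t ∈ G)
    (hts : Stab3 W P₀ t) : t ∈ T := by
  set s : Set (MulAut P) := {β | β ∈ G ∧ Stab3 W P₀ β} with hs
  have hUG : closure s ≤ G := (closure_le G).2 fun β hβ => hβ.1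
  set B : ℕ → Subgroup P := fun i => if i = 0 then ⊥ else if i = 1 then W else if i = 2 then P₀ else ⊤
    with hB
  have hUp : IsPGroup p (closure s) := by
    apply isPGroup_closure_of_chain hP s 3 B
    · simp [hB]
    · simp [hB]
    · intro i hi
      interval_cases i
      · simp [hB]
      · simpa [hB] using hW
      · simp [hB]
    · intro α hα i hi x hx
      obtain ⟨-, h1, h2, h3⟩ := hα
      interval_cases i
      · have hx' : x ∈ W := by simpa [hB] using hx
        have : x⁻¹ * α x = 1 := by rw [h1 x hx', inv_mul_cancel]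
        rw [this]
        exact one_mem _
      · have hx' : x ∈ P₀ := by simpa [hB] using hx
        have := h2 x hx'
        simpa [hB] using this
      · have := h3 x
        simpa [hB] using this
  have hTU : T ≤ closure s := fun τ hτ => subset_closure ⟨hTG hτ, hTs τ hτ⟩
  exact hT _ hUG hUp hTU (subset_closure ⟨ht, hts⟩)

end stab

section idx
variable {Ω : Type*} [Group Ω]

/-- index criterion: `N = P ⟨a₀⟩` with `a₀ ^ p ∈ P` and `P` normal in `N` -/
theorem index_dvd_of_gen {P N : Subgroup Ω} (hN : N ≤ normalizer (P : Set Ω)) (p : ℕ)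
    {a₀ : Ω} (ha₀ : a₀ ∈ N) (hp : a₀ ^ p ∈ P) (hgen : ∀ n ∈ N, ∃ k : ℕ, a₀ ^ k * n ∈ P) :
    (P.subgroupOf N).index ∣ p := by
  haveI hn : (P.subgroupOf N).Normal := by
    refine ⟨fun y hy g => ?_⟩
    rw [mem_subgroupOf] at hy ⊢
    exact (mem_normalizer_iff.1 (hN g.2) y).1 hy
  set q : ↥N ⧸ P.subgroupOf N := QuotientGroup.mk ⟨a₀, ha₀⟩ with hq
  have htop : zpowers q = ⊤ := by
    rw [eq_top_iff]
    intro u _
    induction u using QuotientGroup.induction_on with
    | H n =>
      obtain ⟨k, hk⟩ := hgen n n.2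
      have h1 : (QuotientGroup.mk (⟨a₀, ha₀⟩ ^ k * n) : ↥N ⧸ P.subgroupOf N) = 1 := by
        rw [QuotientGroup.eq_one_iff, mem_subgroupOf]
        exact hk
      rw [QuotientGroup.mk_mul, QuotientGroup.mk_pow] at h1
      rw [eq_inv_of_mul_eq_one_right h1]
      exact inv_mem (pow_mem (mem_zpowers q) k)
  have hqp : q ^ p = 1 := by
    rw [hq, ← QuotientGroup.mk_pow, QuotientGroup.eq_one_iff, mem_subgroupOf]
    exact hp
  have hc : Nat.card (↥N ⧸ P.subgroupOf N) = orderOf q := by
    rw [← Nat.card_zpowers, htop, card_top]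
  rw [index_eq_card, hc]
  exact orderOf_dvd_of_pow_eq_one hqp

end idx

end Cfsg.Agent.Lib.Helper11.UAb
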