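import Mathlib
import Cfsg.Agent.Lib.Helper11.UAa
import Cfsg.Agent.Lib.Helper11.UAb
import Cfsg.Agent.Lib.Helper11.ESf
import Cfsg.Agent.Lib.Helper29.FusionChain
import Cfsg.Agent.Lib.Helper29.SatPairs

/-!
Essential subgroups of a saturated fusion system over a `p`-group with an abelian subgroup of
index `p` (helper11), for S5254.
-/
set_option autoImplicit false

namespace Cfsg.Agent.Lib.Helper11.UAc

open Subgroup Cfsg Cfsg.Agent.Lib.Helper29 Cfsg.Agent.Lib.Helper11.UAa Cfsg.Agent.Lib.Helper11.UAb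
  Cfsg.Agent.Lib.Helper11.ESe

variable {Ω : Type*} [Group Ω] {S : Subgroup Ω} {p : ℕ}

section
variable [Finite S] [Fact p.Prime]

theorem cen_le (F : FusionSystem S) {P : Subgroup Ω} (hP : F.IsEssential p P) :
    FusionSystem.centralizerIn S P ≤ P := hP.1.2 P (isConj_refl F hP.1.1)

theorem ZS_le_P (F : FusionSystem S) {P : Subgroup Ω} (hP : F.IsEssential p P) : ZS S ≤ P := by
  refine le_trans ?_ (cen_le F hP)
  intro z hz
  exact Subgroup.mem_inf.2 ⟨hz.1, centralizer_le (SetLike.coe_subset_coe.2 hP.1.1) hz.2⟩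

/-- `Aut_S(P)` is a maximal `p`-subgroup of `Aut_F(P)` -/
theorem sylow_max (hS : IsPGroup p S) (F : FusionSystem S) (hF : F.IsSaturated p) {P : Subgroup Ω}
    (hP : F.IsEssential p P) (U : Subgroup (MulAut ↥P)) (hUG : U ≤ F.autGroup P)
    (hU : IsPGroup p U) (hTU : autInducedBy S P ≤ U) : U ≤ autInducedBy S P := by
  obtain ⟨-, R, hR⟩ := (((Cfsg.Agent.S5077.result p hS F).1 hF).1 P hP.2.1).2
  have hU' : IsPGroup p (U.subgroupOf (F.autGroup P)) := hU.comap_subtype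
  have hle : (R : Subgroup (F.autGroup P)) ≤ U.subgroupOf (F.autGroup P) := by
    rw [hR]
    intro u hu
    exact mem_subgroupOf.2 (hTU (mem_subgroupOf.1 hu))
  have heq := R.is_maximal' hU' hle
  intro u hu
  have h1 : (⟨u, hUG hu⟩ : F.autGroup P) ∈ U.subgroupOf (F.autGroup P) := mem_subgroupOf.2 hu
  rw [heq, hR] at h1
  exact mem_subgroupOf.1 h1

/-- some `F`-automorphism of `P` moves `P ∩ A` -/
theorem exists_moved (hS : IsPGroup p S) (F : FusionSystem S) (hF : F.IsSaturated p)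
    {A : Subgroup Ω} (h : UAb S A p) {P : Subgroup Ω} (hP : F.IsEssential p P)
    {x : Ω} (hxP : x ∈ P) (hxA : x ∉ A) :
    ∃ γ ∈ F.autGroup P, ∃ b : P, (b : Ω) ∈ A ∧ ((γ b : P) : Ω) ∉ A := by
  by_contra hcon
  push Not at hcon
  have hPS : P ≤ S := hP.1.1
  have hr := isRadical_of_isEssential hS F hP
  have hPA : P ≤ normalizer (A : Set Ω) := by
    intro y hy
    rw [mem_normalizer_iff]
    intro a
    constructor
    · intro ha
      exact h.norm y (hPS hy) a ha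
    · intro ha
      have := h.norm' (hPS hy) ha
      have e : y⁻¹ * (y * a * y⁻¹) * y = a := by group
      rwa [e] at this
  set M : ℕ → Subgroup Ω := fun i => if i = 0 then ⊥ else if i = 1 then A else ⊤ with hM
  have hAP : A ≤ P := by
    apply le_of_stab_chain hS F hP.1 hr A h.le hPA M 2
    · intro i
      by_cases h0 : i = 0
      · subst h0; simp [hM]
      · by_cases h1 : i = 1
        · subst h1; simp [hM]
        · have : ¬ (i + 1 = 0) := by omega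
          have : ¬ (i + 1 = 1) := by omega
          simp [hM, *]
    · simp [hM]
    · intro i α hα y hy
      by_cases h0 : i = 0
      · subst h0
        have hy' : (y : Ω) = 1 := by simpa [hM] using hy
        have : y = 1 := Subtype.ext hy'
        rw [this, map_one]
        exact one_mem _
      · by_cases h1 : i = 1
        · subst h1
          have hy' : (y : Ω) ∈ A := by simpa [hM] using hy
          have := hcon α hα y hy'
          simpa [hM] using this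
        · simp [hM, *]
    · intro α _
      refine ⟨0, fun y hy => ?_⟩
      have hy' : (y : Ω) = 1 := by simpa [hM] using hy
      have : y = 1 := Subtype.ext hy'
      rw [this, map_one]
    · intro g hg hgN i hi y hyP hy
      interval_cases i
      · have hy' : y ∈ A := by simpa [hM] using hy
        have : y⁻¹ * (g * y * g⁻¹) = 1 := by
          rw [h.comm g hg y hy']; group
        rw [this]
        exact one_mem _
      · have h1 : y⁻¹ * (g * y * g⁻¹) = (y⁻¹ * g * y) * g⁻¹ := by group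
        have h2 : y⁻¹ * (g * y * g⁻¹) ∈ A := by
          rw [h1]
          exact A.mul_mem (h.norm' (hPS hyP) hg) (A.inv_mem hg)
        simpa [hM] using h2
  exact ne_of_isEssential hS F hF hP (h.eq_top_of_le hPS hAP hxP hxA)

end

/-- an element of `P ∩ A ∩ γ(P ∩ A)` is central in `S` if `γ` moves `P ∩ A` -/
theorem mem_ZS_of_moved {A : Subgroup Ω} (h : UAb S A p) {P : Subgroup Ω} (hPS : P ≤ S)
    (γ : MulAut ↥P) {b' : P} (hb' : (b' : Ω) ∈ A) (hγb' : ((γ b' : P) : Ω) ∉ A)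
    {b : P} (hb : (b : Ω) ∈ A) (hγb : ((γ b : P) : Ω) ∈ A) : ((γ b : P) : Ω) ∈ ZS S := by
  apply h.mem_ZS_of_commute (hPS (γ b').2) hγb' hγb
  have h1 : b * b' = b' * b := Subtype.ext (h.comm _ hb _ hb')
  have h2 := congrArg γ h1
  rw [map_mul, map_mul] at h2
  exact congrArg Subtype.val h2

theorem exists_moved_inv [Finite S] {A : Subgroup Ω} {P : Subgroup Ω} (hPS : P ≤ S)
    (γ : MulAut ↥P) {b₁ : P} (hb₁ : (b₁ : Ω) ∈ A) (hγb₁ : ((γ b₁ : P) : Ω) ∉ A) :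
    ∃ b₂ : P, (b₂ : Ω) ∈ A ∧ ((γ⁻¹ b₂ : P) : Ω) ∉ A := by
  by_contra hcon
  push Not at hcon
  haveI : Finite P := finite_of_le hPS
  have hle : (A.subgroupOf P).map (γ⁻¹ : MulAut P).toMonoidHom ≤ A.subgroupOf P := by
    rintro _ ⟨b, hb, rfl⟩
    exact mem_subgroupOf.2 (hcon b (mem_subgroupOf.1 hb))
  have hcard : Nat.card ((A.subgroupOf P).map (γ⁻¹ : MulAut P).toMonoidHom) =
      Nat.card (A.subgroupOf P) :=
    Subgroup.card_map_of_injective (γ⁻¹ : MulAut P).injective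
  have heq : (A.subgroupOf P).map (γ⁻¹ : MulAut P).toMonoidHom = A.subgroupOf P :=
    Subgroup.eq_of_le_of_card_ge hle (by rw [hcard])
  have h1 : b₁ ∈ (A.subgroupOf P).map (γ⁻¹ : MulAut P).toMonoidHom := by
    rw [heq]; exact mem_subgroupOf.2 hb₁
  obtain ⟨b, hb, hbb⟩ := h1
  apply hγb₁
  have h2 : γ b₁ = b := by
    rw [← hbb]
    show γ ((γ⁻¹ : MulAut P) b) = b
    rw [MulAut.apply_inv_self]
  rw [h2]
  exact mem_subgroupOf.1 hb

/-- `P ∩ A ∩ γ⁻¹(P ∩ A)` -/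
def W0 (A P : Subgroup Ω) (γ : MulAut ↥P) : Subgroup ↥P :=
  A.subgroupOf P ⊓ (A.subgroupOf P).comap γ.toMonoidHom

theorem mem_W0 {A P : Subgroup Ω} {γ : MulAut ↥P} {y : P} :
    y ∈ W0 A P γ ↔ (y : Ω) ∈ A ∧ ((γ y : P) : Ω) ∈ A := by
  unfold W0
  rw [Subgroup.mem_inf, mem_comap, mem_subgroupOf, mem_subgroupOf]
  rfl

theorem W0_le {A P : Subgroup Ω} {γ : MulAut ↥P} : W0 A P γ ≤ A.subgroupOf P := inf_le_left

/-- on `P ∩ A`, conjugation by an element of `N_S(P)` is conjugation by an element of `P` -/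
theorem exists_conj_eq {A : Subgroup Ω} (h : UAb S A p) {P : Subgroup Ω} (hPS : P ≤ S)
    {x : Ω} (hxP : x ∈ P) (hxA : x ∉ A) {n : Ω} (hnS : n ∈ S)
    (hnN : n ∈ normalizer (P : Set Ω)) :
    ∃ y₀ : P, ∀ y : P, (y : Ω) ∈ A → P.normalizerMonoidHom ⟨n, hnN⟩ y = y₀ * y * y₀⁻¹ := by
  obtain ⟨k, hk⟩ := h.gen' (hPS hxP) hxA hnS
  obtain ⟨y₀, hy₀c⟩ : ∃ y₀ : P, (y₀ : Ω) = (x ^ k)⁻¹ :=
    ⟨⟨(x ^ k)⁻¹, P.inv_mem (P.pow_mem hxP k)⟩, rfl⟩
  refine ⟨y₀, fun y hy => Subtype.ext ?_⟩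
  have h2 : (y₀ : Ω) * y * (y₀ : Ω)⁻¹ ∈ A := h.norm _ (hPS y₀.2) _ hy
  show n * (y : Ω) * n⁻¹ = (y₀ : Ω) * y * (y₀ : Ω)⁻¹
  calc n * (y : Ω) * n⁻¹ = (n * x ^ k) * ((y₀ : Ω) * y * (y₀ : Ω)⁻¹) * (n * x ^ k)⁻¹ := by
        rw [hy₀c]; group
    _ = ((y₀ : Ω) * y * (y₀ : Ω)⁻¹) * (n * x ^ k) * (n * x ^ k)⁻¹ := by
        rw [h.comm _ hk _ h2]
    _ = (y₀ : Ω) * y * (y₀ : Ω)⁻¹ := by group

/-- `Aut_S(P)` stabilizes the chain `1 ≤ W0 ≤ P ∩ A ≤ P` -/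
theorem stab3_of_autInducedBy {A : Subgroup Ω} (h : UAb S A p) {P : Subgroup Ω} (hPS : P ≤ S)
    (γ : MulAut ↥P) {b₂ : P} (hb₂ : (b₂ : Ω) ∈ A) (hγb₂ : ((γ⁻¹ b₂ : P) : Ω) ∉ A)
    {x : Ω} (hxP : x ∈ P) (hxA : x ∉ A) {τ : MulAut ↥P} (hτ : τ ∈ autInducedBy S P) :
    Stab3 (W0 A P γ) (A.subgroupOf P) τ := by
  obtain ⟨n, hnS, hnN, rfl⟩ := mem_autInducedBy_iff.1 hτ
  obtain ⟨k, hk⟩ := h.gen' (hPS hxP) hxA hnS
  have hcoe : ∀ y : P, ((P.normalizerMonoidHom ⟨n, hnN⟩ y : P) : Ω) = n * y * n⁻¹ := fun y => rfl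
  refine ⟨?_, ?_, ?_⟩
  · intro w hw
    rw [mem_W0] at hw
    have hwZ : (w : Ω) ∈ ZS S := by
      have := mem_ZS_of_moved h hPS γ⁻¹ hb₂ hγb₂ (b := γ w) hw.2 (by
        rw [MulAut.inv_apply_self]; exact hw.1)
      rwa [MulAut.inv_apply_self] at this
    apply Subtype.ext
    rw [hcoe, (mem_ZS.1 hwZ).2 n hnS, mul_inv_cancel_right]
  · intro y hy
    rw [mem_subgroupOf] at hy
    rw [mem_W0]
    constructor
    · show (y : Ω)⁻¹ * (n * y * n⁻¹) ∈ A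
      exact A.mul_mem (A.inv_mem hy) (h.norm n hnS _ hy)
    · -- `n y n⁻¹ = y₀ y y₀⁻¹` with `y₀ = x⁻ᵏ`
      obtain ⟨y₀, hy₀⟩ := exists_conj_eq h hPS hxP hxA hnS hnN
      have h1 := hy₀ y hy
      have h4 : γ (y⁻¹ * (y₀ * y * y₀⁻¹)) = (γ y)⁻¹ * γ y₀ * (γ y)⁻¹⁻¹ * (γ y₀)⁻¹ := by
        rw [map_mul, map_mul, map_mul, map_inv, map_inv, inv_inv]; group
      rw [h1, h4]
      exact h.comm_mem _ (hPS (γ y)⁻¹.2) _ (hPS (γ y₀).2)
  · intro y
    rw [mem_subgroupOf]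
    show (y : Ω)⁻¹ * (n * y * n⁻¹) ∈ A
    have := h.comm_mem _ (S.inv_mem (hPS y.2)) _ hnS
    simpa [mul_assoc] using this

section
variable [Finite S] [Fact p.Prime]

/-- the key proposition: an element `a ∈ N_A(P)` with `γ⁻¹ [x, a] ∈ A` lies in `P` -/
theorem key (hS : IsPGroup p S) (F : FusionSystem S) (hF : F.IsSaturated p)
    {A : Subgroup Ω} (h : UAb S A p) {P : Subgroup Ω} (hP : F.IsEssential p P)
    {γ : MulAut ↥P} (hγ : γ ∈ F.autGroup P) {b₁ : P} (hb₁ : (b₁ : Ω) ∈ A)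
    (hx : ((γ b₁ : P) : Ω) ∉ A) {a : Ω} (ha : a ∈ A) (haN : a ∈ normalizer (P : Set Ω))
    (hd : ((γ⁻¹ ((γ b₁)⁻¹ * P.normalizerMonoidHom ⟨a, haN⟩ (γ b₁)) : P) : Ω) ∈ A) : a ∈ P := by
  have hPS : P ≤ S := hP.1.1
  haveI : Finite P := finite_of_le hPS
  have hPp : IsPGroup p P := hS.to_le hPS
  obtain ⟨x, hxdef⟩ : ∃ x : P, x = γ b₁ := ⟨_, rfl⟩
  rw [← hxdef] at hx hd
  obtain ⟨t, htdef⟩ : ∃ t : MulAut P, t = P.normalizerMonoidHom ⟨a, haN⟩ := ⟨_, rfl⟩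
  rw [← htdef] at hd
  have htcoe : ∀ y : P, ((t y : P) : Ω) = a * y * a⁻¹ := fun y => by rw [htdef]; rfl
  have htG : t ∈ F.autGroup P :=
    autInducedBy_le_autGroup F hPS (mem_autInducedBy_iff.2 ⟨a, h.le ha, haN, htdef⟩)
  obtain ⟨b₂, hb₂, hγb₂⟩ := exists_moved_inv hPS γ hb₁ (hxdef ▸ hx)
  obtain ⟨w', hw'⟩ : ∃ w' : P, w' = x⁻¹ * t x := ⟨_, rfl⟩
  rw [← hw'] at hd
  have hw'c : (w' : Ω) = (x : Ω)⁻¹ * (a * x * a⁻¹) := by
    rw [hw', Subgroup.coe_mul, Subgroup.coe_inv, htcoe]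
  have hw'A : (w' : Ω) ∈ A := by
    have e : (x : Ω)⁻¹ * (a * x * a⁻¹) = ((x : Ω)⁻¹ * a * x) * a⁻¹ := by group
    rw [hw'c, e]
    exact A.mul_mem (h.norm' (hPS x.2) ha) (A.inv_mem ha)
  have hw'Z : (w' : Ω) ∈ ZS S := by
    have := mem_ZS_of_moved h hPS γ hb₁ (hxdef ▸ hx) (b := γ⁻¹ w') hd (by
      rw [MulAut.apply_inv_self]; exact hw'A)
    rwa [MulAut.apply_inv_self] at this
  -- `[u, t]` is a power of `w'`
  have hpow : ∀ u : P, ∃ k : ℕ, u⁻¹ * t u = w' ^ k := by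
    intro u
    obtain ⟨k, b, hb, hk⟩ := h.gen x (hPS x.2) hx u (hPS u.2)
    refine ⟨k, Subtype.ext ?_⟩
    have hcomm : Commute (x : Ω) (w' : Ω) := (mem_ZS.1 hw'Z).2 x (hPS x.2)
    have h1 : a * (x : Ω) * a⁻¹ = x * w' := by rw [hw'c]; group
    have h2 : a * (x : Ω) ^ k * a⁻¹ = (x : Ω) ^ k * (w' : Ω) ^ k := by
      rw [← hcomm.mul_pow, ← h1, conj_pow]
    rw [Subgroup.coe_mul, Subgroup.coe_inv, htcoe, hk, SubgroupClass.coe_pow]
    calc (b * (x : Ω) ^ k)⁻¹ * (a * (b * (x : Ω) ^ k) * a⁻¹)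
        = ((x : Ω) ^ k)⁻¹ * b⁻¹ * (a * b) * a⁻¹ * (a * (x : Ω) ^ k * a⁻¹) := by group
      _ = ((x : Ω) ^ k)⁻¹ * b⁻¹ * (b * a) * a⁻¹ * ((x : Ω) ^ k * (w' : Ω) ^ k) := by
          rw [h.comm a ha b hb, h2]
      _ = (w' : Ω) ^ k := by group
  have ht'G : γ⁻¹ * t * γ ∈ F.autGroup P := mul_mem (mul_mem (inv_mem hγ) htG) hγ
  have hall : ∀ y : P, y⁻¹ * (γ⁻¹ * t * γ) y ∈ W0 A P γ := by
    intro y
    obtain ⟨k, hk⟩ := hpow (γ y)
    have e : y⁻¹ * (γ⁻¹ * t * γ) y = (γ⁻¹ w') ^ k := by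
      rw [← map_pow, ← hk, map_mul, map_inv, MulAut.inv_apply_self]
      rfl
    rw [e, mem_W0]
    constructor
    · rw [SubgroupClass.coe_pow]
      exact A.pow_mem hd k
    · rw [map_pow, MulAut.apply_inv_self, SubgroupClass.coe_pow]
      exact A.pow_mem hw'A k
  have hstab : Stab3 (W0 A P γ) (A.subgroupOf P) (γ⁻¹ * t * γ) := by
    refine ⟨?_, fun y _ => hall y, fun y => W0_le (hall y)⟩
    intro w hw
    rw [mem_W0] at hw
    have hwZ := mem_ZS_of_moved h hPS γ hb₁ (hxdef ▸ hx) hw.1 hw.2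
    have h1 : t (γ w) = γ w := by
      apply Subtype.ext
      rw [htcoe, (mem_ZS.1 hwZ).2 a (h.le ha), mul_inv_cancel_right]
    show γ⁻¹ (t (γ w)) = w
    rw [h1, MulAut.inv_apply_self]
  have hmem : γ⁻¹ * t * γ ∈ autInducedBy S P :=
    mem_of_stab3 hPp (F.autGroup P) (autInducedBy S P) (sylow_max hS F hF hP)
      (autInducedBy_le_autGroup F hPS) (W0 A P γ) (A.subgroupOf P) W0_le
      (fun τ hτ => stab3_of_autInducedBy h hPS γ hb₂ hγb₂ x.2 hx hτ) ht'G hstab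
  obtain ⟨n, hnS, hnN, hn⟩ := mem_autInducedBy_iff.1 hmem
  obtain ⟨y₀, hy₀⟩ := exists_conj_eq h hPS x.2 hx hnS hnN
  have h1 : t x = γ y₀ * x * (γ y₀)⁻¹ := by
    have h2 : (γ⁻¹ * t * γ) b₁ = y₀ * b₁ * y₀⁻¹ := by rw [hn]; exact hy₀ b₁ hb₁
    have h3 : γ⁻¹ (t x) = y₀ * b₁ * y₀⁻¹ := by rw [hxdef]; exact h2
    have h4 := congrArg γ h3
    rw [MulAut.apply_inv_self, map_mul, map_mul, map_inv, ← hxdef] at h4
    exact h4
  obtain ⟨j, b', hb', hj⟩ := h.gen x (hPS x.2) hx (γ y₀) (hPS (γ y₀).2)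
  have h5 : a * (x : Ω) * a⁻¹ = b' * x * b'⁻¹ := by
    have := congrArg Subtype.val h1
    rw [htcoe] at this
    rw [this]
    show ((γ y₀ : P) : Ω) * x * ((γ y₀ : P) : Ω)⁻¹ = b' * x * b'⁻¹
    rw [hj]
    group
  have h6 : (b'⁻¹ * a) * (x : Ω) = x * (b'⁻¹ * a) := by
    calc (b'⁻¹ * a) * (x : Ω) = b'⁻¹ * (a * x * a⁻¹) * a := by group
      _ = b'⁻¹ * (b' * x * b'⁻¹) * a := by rw [h5]
      _ = x * (b'⁻¹ * a) := by group
  have h7 : b'⁻¹ * a ∈ ZS S :=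
    h.mem_ZS_of_commute (hPS x.2) hx (A.mul_mem (A.inv_mem hb') ha) h6
  have h8 : b' ∈ P := by
    have : b' = ((γ y₀ : P) : Ω) * ((x : Ω) ^ j)⁻¹ := by rw [hj]; group
    rw [this]
    exact P.mul_mem (γ y₀).2 (P.inv_mem (P.pow_mem x.2 j))
  have : a = b' * (b'⁻¹ * a) := by group
  rw [this]
  exact P.mul_mem h8 (ZS_le_P F hP h7)

end

end Cfsg.Agent.Lib.Helper11.UAc
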