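import Mathlib
import Cfsg.Agent.Lib.Helper11.UAc

/-!
Essential subgroups not contained in the abelian subgroup of index `p` (helper11): index in the
normalizer and structure, for S5254.
-/
set_option autoImplicit false

namespace Cfsg.Agent.Lib.Helper11.UAc

open Subgroup Cfsg Cfsg.Agent.Lib.Helper29 Cfsg.Agent.Lib.Helper11.UAa Cfsg.Agent.Lib.Helper11.UAb
  Cfsg.Agent.Lib.Helper11.ESe

variable {Ω : Type*} [Group Ω] {S : Subgroup Ω} {p : ℕ}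

/-- `x⁻¹ a x a⁻¹` -/
def DD (x a : Ω) : Ω := x⁻¹ * a * x * a⁻¹

theorem DD_mem {A : Subgroup Ω} (h : UAb S A p) {x : Ω} (hx : x ∈ S) {a : Ω} (ha : a ∈ A) :
    DD x a ∈ A := A.mul_mem (h.norm' hx ha) (A.inv_mem ha)

theorem DD_mul {A : Subgroup Ω} (h : UAb S A p) {x : Ω} (hx : x ∈ S) {a b : Ω} (ha : a ∈ A)
    (hb : b ∈ A) : DD x (a * b) = DD x a * DD x b := by
  have h1 := h.comm _ (DD_mem h hx hb) _ (A.inv_mem ha)
  unfold DD at h1 ⊢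
  calc x⁻¹ * (a * b) * x * (a * b)⁻¹ = x⁻¹ * a * x * ((x⁻¹ * b * x * b⁻¹) * a⁻¹) := by group
    _ = x⁻¹ * a * x * (a⁻¹ * (x⁻¹ * b * x * b⁻¹)) := by rw [h1]
    _ = x⁻¹ * a * x * a⁻¹ * (x⁻¹ * b * x * b⁻¹) := by group

theorem DD_pow {A : Subgroup Ω} (h : UAb S A p) {x : Ω} (hx : x ∈ S) {a : Ω} (ha : a ∈ A)
    (k : ℕ) : DD x (a ^ k) = DD x a ^ k := by
  induction k with
  | zero => simp [DD]
  | succ k ih => rw [pow_succ, DD_mul h hx (A.pow_mem ha k) ha, ih, pow_succ]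

theorem DD_mem_P {P : Subgroup Ω} {x a : Ω} (hx : x ∈ P) (haN : a ∈ normalizer (P : Set Ω)) :
    DD x a ∈ P := by
  have : DD x a = x⁻¹ * (a * x * a⁻¹) := by unfold DD; group
  rw [this]
  exact P.mul_mem (P.inv_mem hx) ((mem_normalizer_iff.1 haN x).1 hx)

section
variable [Finite S] [Fact p.Prime]

/-- friendlier form of `key` -/
theorem key' (hS : IsPGroup p S) (F : FusionSystem S) (hF : F.IsSaturated p)
    {A : Subgroup Ω} (h : UAb S A p) {P : Subgroup Ω} (hP : F.IsEssential p P)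
    {γ : MulAut ↥P} (hγ : γ ∈ F.autGroup P) {b₁ : P} (hb₁ : (b₁ : Ω) ∈ A)
    (hx : ((γ b₁ : P) : Ω) ∉ A) {a : Ω} (ha : a ∈ A) (haN : a ∈ normalizer (P : Set Ω))
    (d : P) (hd : (d : Ω) = DD ((γ b₁ : P) : Ω) a) (hdA : ((γ⁻¹ d : P) : Ω) ∈ A) : a ∈ P := by
  apply key hS F hF h hP hγ hb₁ hx ha haN
  have : (γ b₁)⁻¹ * P.normalizerMonoidHom ⟨a, haN⟩ (γ b₁) = d := by
    apply Subtype.ext
    rw [hd]
    show ((γ b₁ : P) : Ω)⁻¹ * (a * ((γ b₁ : P) : Ω) * a⁻¹) = DD ((γ b₁ : P) : Ω) a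
    unfold DD; group
  rw [this]
  exact hdA

/-- an essential subgroup not inside `A` has index `p` in its normalizer -/
theorem index_eq (hS : IsPGroup p S) (F : FusionSystem S) (hF : F.IsSaturated p)
    {A : Subgroup Ω} (h : UAb S A p) {P : Subgroup Ω} (hP : F.IsEssential p P)
    {γ : MulAut ↥P} (hγ : γ ∈ F.autGroup P) {b₁ : P} (hb₁ : (b₁ : Ω) ∈ A)
    (hx : ((γ b₁ : P) : Ω) ∉ A) :
    (P.subgroupOf (S ⊓ normalizer (P : Set Ω))).index = p := by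
  have hp : p.Prime := Fact.out
  have hPS : P ≤ S := hP.1.1
  have hne : P ≠ S := ne_of_isEssential hS F hF hP
  obtain ⟨x, hxdef⟩ : ∃ x : P, x = γ b₁ := ⟨_, rfl⟩
  rw [← hxdef] at hx
  have hxS : (x : Ω) ∈ S := hPS x.2
  -- an element of `N_A(P)` outside `P`
  obtain ⟨n, hn, hnP⟩ := exists_mem_normalizerIn_not_mem hS (lt_of_le_of_ne hPS hne)
  have hnS : n ∈ S := hn.1
  have hnN : n ∈ normalizer (P : Set Ω) := hn.2
  obtain ⟨k₀, hk₀⟩ := h.gen' hxS hx hnS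
  obtain ⟨a₀, ha₀def⟩ : ∃ a₀ : Ω, a₀ = n * (x : Ω) ^ k₀ := ⟨_, rfl⟩
  rw [← ha₀def] at hk₀
  have ha₀N : a₀ ∈ normalizer (P : Set Ω) := by
    rw [ha₀def]
    exact mul_mem hnN (le_normalizer (P.pow_mem x.2 k₀))
  have ha₀P : a₀ ∉ P := by
    intro hcon
    apply hnP
    have : n = a₀ * ((x : Ω) ^ k₀)⁻¹ := by rw [ha₀def]; group
    rw [this]
    exact P.mul_mem hcon (P.inv_mem (P.pow_mem x.2 k₀))
  -- the elements `d a`
  have hdP : ∀ a : Ω, a ∈ normalizer (P : Set Ω) → DD (x : Ω) a ∈ P := fun a haN =>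
    DD_mem_P x.2 haN
  have hkey : ∀ a ∈ A, ∀ haN : a ∈ normalizer (P : Set Ω),
      ((γ⁻¹ ⟨DD (x : Ω) a, hdP a haN⟩ : P) : Ω) ∈ A → a ∈ P := by
    intro a ha haN hd
    exact key' hS F hF h hP hγ hb₁ (hxdef ▸ hx) ha haN ⟨DD (x : Ω) a, hdP a haN⟩
      (by rw [← hxdef]) hd
  obtain ⟨x'', hx''⟩ : ∃ x'' : P, x'' = γ⁻¹ ⟨DD (x : Ω) a₀, hdP a₀ ha₀N⟩ := ⟨_, rfl⟩
  have hx''A : (x'' : Ω) ∉ A := by
    intro hcon
    apply ha₀P
    apply hkey a₀ hk₀ ha₀N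
    rw [← hx'']
    exact hcon
  have hx''S : (x'' : Ω) ∈ S := hPS x''.2
  -- `N_A(P) = (P ∩ A) ⟨a₀⟩`
  have hgenA : ∀ a ∈ A, a ∈ normalizer (P : Set Ω) → ∃ k : ℕ, a * a₀ ^ k ∈ P := by
    intro a ha haN
    obtain ⟨k, hk⟩ := h.gen' hx''S hx''A (hPS (γ⁻¹ ⟨DD (x : Ω) a, hdP a haN⟩ : P).2)
    refine ⟨k, ?_⟩
    have hN' : a * a₀ ^ k ∈ normalizer (P : Set Ω) := mul_mem haN (pow_mem ha₀N k)
    apply hkey _ (A.mul_mem ha (A.pow_mem hk₀ k)) hN'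
    have e : (⟨DD (x : Ω) (a * a₀ ^ k), hdP _ hN'⟩ : P) =
        ⟨DD (x : Ω) a, hdP a haN⟩ * ⟨DD (x : Ω) a₀, hdP a₀ ha₀N⟩ ^ k := by
      apply Subtype.ext
      rw [Subgroup.coe_mul, SubgroupClass.coe_pow]
      show DD (x : Ω) (a * a₀ ^ k) = DD (x : Ω) a * DD (x : Ω) a₀ ^ k
      rw [DD_mul h hxS ha (A.pow_mem hk₀ k), DD_pow h hxS hk₀]
    rw [e, map_mul, map_pow, ← hx'', Subgroup.coe_mul, SubgroupClass.coe_pow]
    exact hk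
  have ha₀p : a₀ ^ p ∈ P := by
    have hN' : a₀ ^ p ∈ normalizer (P : Set Ω) := pow_mem ha₀N p
    apply hkey _ (A.pow_mem hk₀ p) hN'
    have e : (⟨DD (x : Ω) (a₀ ^ p), hdP _ hN'⟩ : P) = ⟨DD (x : Ω) a₀, hdP a₀ ha₀N⟩ ^ p := by
      apply Subtype.ext
      rw [SubgroupClass.coe_pow]
      show DD (x : Ω) (a₀ ^ p) = DD (x : Ω) a₀ ^ p
      rw [DD_pow h hxS hk₀]
    rw [e, map_pow, ← hx'', SubgroupClass.coe_pow]
    exact h.pow_mem _ hx''S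
  have ha₀NS : a₀ ∈ S ⊓ normalizer (P : Set Ω) := Subgroup.mem_inf.2 ⟨h.le hk₀, ha₀N⟩
  have hdvd : (P.subgroupOf (S ⊓ normalizer (P : Set Ω))).index ∣ p := by
    apply index_dvd_of_gen inf_le_right p ha₀NS ha₀p
    intro m hm
    obtain ⟨j, hj⟩ := h.gen' hxS hx hm.1
    have hmN : m * (x : Ω) ^ j ∈ normalizer (P : Set Ω) :=
      mul_mem hm.2 (le_normalizer (P.pow_mem x.2 j))
    obtain ⟨k, hk⟩ := hgenA _ hj hmN
    refine ⟨k, ?_⟩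
    have e : a₀ ^ k * m = (m * (x : Ω) ^ j * a₀ ^ k) * ((x : Ω) ^ j)⁻¹ := by
      rw [h.comm _ hj _ (A.pow_mem hk₀ k)]; group
    rw [e]
    exact P.mul_mem hk (P.inv_mem (P.pow_mem x.2 j))
  rcases (Nat.dvd_prime hp).1 hdvd with h1 | h1
  · exfalso
    rw [index_eq_one, subgroupOf_eq_top] at h1
    exact ha₀P (h1 ha₀NS)
  · exact h1

end

end Cfsg.Agent.Lib.Helper11.UAc
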