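import Mathlib
import Cfsg.Agent.Lib.Helper11.UAd

/-!
Structure of an essential subgroup not contained in the abelian subgroup of index `p` (helper11),
for S5254.
-/
set_option autoImplicit false

namespace Cfsg.Agent.Lib.Helper11.UAc

open Subgroup Cfsg Cfsg.Agent.Lib.Helper29 Cfsg.Agent.Lib.Helper11.UAa Cfsg.Agent.Lib.Helper11.UAb
  Cfsg.Agent.Lib.Helper11.ESe

variable {Ω : Type*} [Group Ω] {S : Subgroup Ω} {p : ℕ}

/-- `Z₂(S)` as a subgroup of `Ω` -/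
abbrev Z2 (S : Subgroup Ω) : Subgroup Ω := (Subgroup.upperCentralSeries ↥S 2).map S.subtype

theorem mem_Z2 {y : Ω} : y ∈ Z2 S ↔ y ∈ S ∧ ∀ s ∈ S, y * s * y⁻¹ * s⁻¹ ∈ ZS S := by
  have hc : ∀ u : S, u ∈ center ↥S ↔ (u : Ω) ∈ ZS S := by
    intro u
    rw [mem_center_iff, mem_ZS]
    constructor
    · intro hu
      exact ⟨u.2, fun s hs => congrArg Subtype.val (hu ⟨s, hs⟩)⟩
    · intro hu g
      exact Subtype.ext (hu.2 g g.2)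
  constructor
  · rintro ⟨u, hu, rfl⟩
    refine ⟨u.2, fun s hs => ?_⟩
    have h1 : u ∈ Subgroup.upperCentralSeries ↥S (1 + 1) := hu
    rw [Subgroup.mem_upperCentralSeries_succ_iff] at h1
    have h2 := h1 ⟨s, hs⟩
    rw [Subgroup.upperCentralSeries_one, hc] at h2
    exact h2
  · rintro ⟨hy, hall⟩
    refine ⟨⟨y, hy⟩, ?_, rfl⟩
    show (⟨y, hy⟩ : S) ∈ Subgroup.upperCentralSeries ↥S (1 + 1)
    rw [Subgroup.mem_upperCentralSeries_succ_iff]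
    intro s
    rw [Subgroup.upperCentralSeries_one, hc]
    exact hall s s.2

section
variable [Finite S] [Fact p.Prime]

theorem struct (hS : IsPGroup p S) (F : FusionSystem S) (hF : F.IsSaturated p)
    {A : Subgroup Ω} (h : UAb S A p) {P : Subgroup Ω} (hP : F.IsEssential p P)
    {γ : MulAut ↥P} (hγ : γ ∈ F.autGroup P) {b₁ : P} (hb₁ : (b₁ : Ω) ∈ A)
    (hx : ((γ b₁ : P) : Ω) ∉ A) :
    P = ZS S ⊔ zpowers ((γ b₁ : P) : Ω) ∨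
      (Z2 S ≤ A ∧ P = Z2 S ⊔ zpowers ((γ b₁ : P) : Ω)) := by
  have hPS : P ≤ S := hP.1.1
  have hne : P ≠ S := ne_of_isEssential hS F hF hP
  obtain ⟨x, hxdef⟩ : ∃ x : P, x = γ b₁ := ⟨_, rfl⟩
  rw [← hxdef] at hx ⊢
  have hxS : (x : Ω) ∈ S := hPS x.2
  -- decomposition of `P`
  have hdec : ∀ y ∈ P, ∃ k : ℕ, ∃ b ∈ A, b ∈ P ∧ y = b * (x : Ω) ^ k := by
    intro y hy
    obtain ⟨k, b, hb, hk⟩ := h.gen _ hxS hx y (hPS hy)
    refine ⟨k, b, hb, ?_, hk⟩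
    have : b = y * ((x : Ω) ^ k)⁻¹ := by rw [hk]; group
    rw [this]
    exact P.mul_mem hy (P.inv_mem (P.pow_mem x.2 k))
  have hsup : ∀ Q : Subgroup Ω, Q ≤ P → (∀ b ∈ A, b ∈ P → b ∈ Q) → P = Q ⊔ zpowers (x : Ω) := by
    intro Q hQP hQ
    apply le_antisymm
    · intro y hy
      obtain ⟨k, b, hb, hbP, rfl⟩ := hdec y hy
      exact mul_mem_sup (hQ b hb hbP) (pow_mem (mem_zpowers _) k)
    · exact sup_le hQP (zpowers_le.2 x.2)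
  by_cases hZ : ∀ b ∈ A, b ∈ P → b ∈ ZS S
  · left
    exact hsup _ (ZS_le_P F hP) hZ
  right
  push Not at hZ
  obtain ⟨b₀, hb₀A, hb₀P, hb₀Z⟩ := hZ
  -- `γ⁻¹` maps `Z(S)` into `A`
  have hZA : ∀ z : P, (z : Ω) ∈ ZS S → ((γ⁻¹ z : P) : Ω) ∈ A := by
    intro z hz
    by_contra hcon
    apply hb₀Z
    apply h.mem_ZS_of_commute (hPS (γ⁻¹ z : P).2) hcon hb₀A
    have h1 : γ ⟨b₀, hb₀P⟩ * z = z * γ ⟨b₀, hb₀P⟩ :=
      Subtype.ext ((mem_ZS.1 hz).2 _ (hPS (γ ⟨b₀, hb₀P⟩ : P).2))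
    have h2 := congrArg (γ⁻¹ : MulAut P) h1
    rw [map_mul, map_mul, MulAut.inv_apply_self] at h2
    exact congrArg Subtype.val h2
  -- `Z₂(S) ∩ A ≤ P`
  have hZ2P : ∀ a ∈ Z2 S, a ∈ A → a ∈ P := by
    intro a ha2 ha
    have ha2' := mem_Z2.1 ha2
    have haN : a ∈ normalizer (P : Set Ω) := by
      rw [mem_normalizer_iff]
      intro y
      constructor
      · intro hy
        have hc := ha2'.2 y (hPS hy)
        have : a * y * a⁻¹ = (a * y * a⁻¹ * y⁻¹) * y := by group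
        rw [this]
        exact P.mul_mem (ZS_le_P F hP hc) hy
      · intro hy
        have hyS : y ∈ S := by
          have : y = a⁻¹ * (a * y * a⁻¹) * a := by group
          rw [this]
          exact S.mul_mem (S.mul_mem (S.inv_mem ha2'.1) (hPS hy)) ha2'.1
        have hc := ha2'.2 y hyS
        have : y = (a * y * a⁻¹ * y⁻¹)⁻¹ * (a * y * a⁻¹) := by group
        rw [this]
        exact P.mul_mem (P.inv_mem (ZS_le_P F hP hc)) hy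
    have hdZ : DD (x : Ω) a ∈ ZS S := by
      have hc := ha2'.2 _ (S.inv_mem hxS)
      have : DD (x : Ω) a = ((a * (x : Ω)⁻¹ * a⁻¹ * ((x : Ω)⁻¹)⁻¹)⁻¹) := by
        unfold DD
        -- `x⁻¹ a x a⁻¹ = (a x⁻¹ a⁻¹ x)⁻¹`
        group
      rw [this]
      exact (ZS S).inv_mem hc
    exact key' hS F hF h hP hγ hb₁ (hxdef ▸ hx) ha haN ⟨DD (x : Ω) a, ZS_le_P F hP hdZ⟩
      (by rw [← hxdef]) (hZA _ hdZ)
  -- `P ∩ A ≤ Z₂(S)`
  have hPZ2 : ∀ b ∈ A, b ∈ P → b ∈ Z2 S := by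
    intro b hb hbP
    rw [mem_Z2]
    refine ⟨h.le hb, fun s hs => ?_⟩
    obtain ⟨k, a', ha', rfl⟩ := h.gen _ hxS hx s hs
    -- `z = b x b⁻¹ x⁻¹`
    obtain ⟨z, hzdef⟩ : ∃ z : P, z = ⟨b, hbP⟩ * x * ⟨b, hbP⟩⁻¹ * x⁻¹ := ⟨_, rfl⟩
    have hzc : (z : Ω) = b * x * b⁻¹ * (x : Ω)⁻¹ := by rw [hzdef]; rfl
    have hzA : (z : Ω) ∈ A := by
      have : b * (x : Ω) * b⁻¹ * (x : Ω)⁻¹ = b * ((x : Ω) * b⁻¹ * (x : Ω)⁻¹) := by group
      rw [hzc, this]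
      exact A.mul_mem hb (h.norm _ hxS _ (A.inv_mem hb))
    have hzA' : ((γ⁻¹ z : P) : Ω) ∈ A := by
      rw [hzdef, map_mul, map_mul, map_mul, map_inv, map_inv]
      exact h.comm_mem _ (hPS (γ⁻¹ ⟨b, hbP⟩ : P).2) _ (hPS (γ⁻¹ x : P).2)
    have hzZ : (z : Ω) ∈ ZS S := by
      have := mem_ZS_of_moved h hPS γ hb₁ (hxdef ▸ hx) (b := γ⁻¹ z) hzA' (by
        rw [MulAut.apply_inv_self]; exact hzA)
      rwa [MulAut.apply_inv_self] at this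
    have hcomm : Commute (z : Ω) (x : Ω) := ((mem_ZS.1 hzZ).2 _ hxS).symm
    have h1 : b * (x : Ω) * b⁻¹ = z * x := by rw [hzc]; group
    have h2 : b * (x : Ω) ^ k * b⁻¹ = (z : Ω) ^ k * (x : Ω) ^ k := by
      rw [← hcomm.mul_pow, ← h1, conj_pow]
    have hzk : (z : Ω) ^ k ∈ ZS S := (ZS S).pow_mem hzZ k
    have h3 : b * (a' * (x : Ω) ^ k) * b⁻¹ * (a' * (x : Ω) ^ k)⁻¹ = (z : Ω) ^ k := by
      calc b * (a' * (x : Ω) ^ k) * b⁻¹ * (a' * (x : Ω) ^ k)⁻¹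
          = (b * a') * b⁻¹ * (b * (x : Ω) ^ k * b⁻¹) * ((x : Ω) ^ k)⁻¹ * a'⁻¹ := by group
        _ = (a' * b) * b⁻¹ * ((z : Ω) ^ k * (x : Ω) ^ k) * ((x : Ω) ^ k)⁻¹ * a'⁻¹ := by
            rw [h.comm b hb a' ha', h2]
        _ = a' * (z : Ω) ^ k * a'⁻¹ := by group
        _ = (z : Ω) ^ k := by
            rw [(mem_ZS.1 hzk).2 a' (h.le ha'), mul_inv_cancel_right]
    rw [h3]
    exact hzk
  -- `Z₂(S) ≤ A`
  have hZ2A : Z2 S ≤ A := by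
    intro y hy
    by_contra hyA
    have hy' := mem_Z2.1 hy
    apply hne
    apply h.eq_top_of_le hPS _ x.2 hx
    intro a ha
    apply hZ2P a _ ha
    rw [mem_Z2]
    refine ⟨h.le ha, fun s hs => ?_⟩
    obtain ⟨k, a', ha', rfl⟩ := h.gen y hy'.1 hyA s hs
    have hyk : y ^ k ∈ Z2 S := (Z2 S).pow_mem hy k
    have hc := (mem_Z2.1 hyk).2 a (h.le ha)
    have hc' : a * y ^ k * a⁻¹ * (y ^ k)⁻¹ ∈ ZS S := by
      have : a * y ^ k * a⁻¹ * (y ^ k)⁻¹ = (y ^ k * a * (y ^ k)⁻¹ * a⁻¹)⁻¹ := by group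
      rw [this]
      exact (ZS S).inv_mem hc
    have h3 : a * (a' * y ^ k) * a⁻¹ * (a' * y ^ k)⁻¹ = a * y ^ k * a⁻¹ * (y ^ k)⁻¹ := by
      calc a * (a' * y ^ k) * a⁻¹ * (a' * y ^ k)⁻¹
          = (a * a') * y ^ k * a⁻¹ * (y ^ k)⁻¹ * a'⁻¹ := by group
        _ = a' * (a * y ^ k * a⁻¹ * (y ^ k)⁻¹) * a'⁻¹ := by rw [h.comm a ha a' ha']; group
        _ = a * y ^ k * a⁻¹ * (y ^ k)⁻¹ := by
            rw [(mem_ZS.1 hc').2 a' (h.le ha'), mul_inv_cancel_right]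
    rw [h3]
    exact hc'
  refine ⟨hZ2A, hsup _ (fun y hy => hZ2P y hy (hZ2A hy)) hPZ2⟩

end

end Cfsg.Agent.Lib.Helper11.UAc
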