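import Mathlib
import Cfsg.Agent.Lib.Helper11.UAe

/-!
More on essential subgroups not contained in the abelian subgroup `A` of index `p` (helper11):
`Z₂(S) ≤ A` and `|Z₂(S) : Z(S)| = p`, for S5257.
-/
set_option autoImplicit false

namespace Cfsg.Agent.Lib.Helper11.UAc

open Subgroup Cfsg Cfsg.Agent.Lib.Helper29 Cfsg.Agent.Lib.Helper11.UAa Cfsg.Agent.Lib.Helper11.UAb
  Cfsg.Agent.Lib.Helper11.ESe

variable {Ω : Type*} [Group Ω] {S : Subgroup Ω} {p : ℕ}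

theorem DD_eq_one_iff {x a : Ω} : DD x a = 1 ↔ a * x = x * a := by
  unfold DD
  constructor
  · intro h1
    have : a * x = x * (x⁻¹ * a * x * a⁻¹) * a := by group
    rw [this, h1, mul_one]
  · intro h1
    have : x⁻¹ * a * x * a⁻¹ = x⁻¹ * (a * x) * a⁻¹ := by group
    rw [this, h1]; group

/-- for `a ∈ A`: `a ∈ Z₂(S)` iff `[x, a] ∈ Z(S)` -/
theorem mem_Z2_iff_DD {A : Subgroup Ω} (h : UAb S A p) {x : Ω} (hxS : x ∈ S) (hxA : x ∉ A)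
    {a : Ω} (ha : a ∈ A) : a ∈ Z2 S ↔ DD x a ∈ ZS S := by
  constructor
  · intro ha2
    have hc := (mem_Z2.1 ha2).2 _ (S.inv_mem hxS)
    have : DD x a = ((a * x⁻¹ * a⁻¹ * (x⁻¹)⁻¹)⁻¹) := by unfold DD; group
    rw [this]
    exact (ZS S).inv_mem hc
  · intro hz
    rw [mem_Z2]
    refine ⟨h.le ha, fun s hs => ?_⟩
    obtain ⟨k, a', ha', rfl⟩ := h.gen x hxS hxA s hs
    have hcomm : Commute x (DD x a) := (mem_ZS.1 hz).2 x hxS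
    have h1 : a * x * a⁻¹ = x * DD x a := by unfold DD; group
    have h2 : a * x ^ k * a⁻¹ = x ^ k * DD x a ^ k := by
      rw [← hcomm.mul_pow, ← h1, conj_pow]
    have hzk : DD x a ^ k ∈ ZS S := (ZS S).pow_mem hz k
    have h3 : a * (a' * x ^ k) * a⁻¹ * (a' * x ^ k)⁻¹ = DD x a ^ k := by
      calc a * (a' * x ^ k) * a⁻¹ * (a' * x ^ k)⁻¹
          = (a * a') * a⁻¹ * (a * x ^ k * a⁻¹) * (x ^ k)⁻¹ * a'⁻¹ := by group
        _ = (a' * a) * a⁻¹ * (x ^ k * DD x a ^ k) * (x ^ k)⁻¹ * a'⁻¹ := by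
            rw [h.comm a ha a' ha', h2]
        _ = a' * (x ^ k * DD x a ^ k * (x ^ k)⁻¹) * a'⁻¹ := by group
        _ = a' * DD x a ^ k * a'⁻¹ := by
            rw [(mem_ZS.1 hzk).2 _ (S.pow_mem hxS k), mul_inv_cancel_right]
        _ = DD x a ^ k := by
            rw [(mem_ZS.1 hzk).2 a' (h.le ha'), mul_inv_cancel_right]
    rw [h3]
    exact hzk

section
variable [Finite S] [Fact p.Prime]

/-- `Z₂(S)` normalizes an essential subgroup -/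
theorem Z2_le_normalizer (F : FusionSystem S) {P : Subgroup Ω} (hP : F.IsEssential p P) :
    Z2 S ≤ normalizer (P : Set Ω) := by
  have hPS : P ≤ S := hP.1.1
  intro a ha2
  have ha2' := mem_Z2.1 ha2
  rw [mem_normalizer_iff]
  intro y
  constructor
  · intro hy
    have hc := ha2'.2 y (hPS hy)
    have : a * y * a⁻¹ = (a * y * a⁻¹ * y⁻¹) * y := by group
    rw [this]
    exact P.mul_mem (ZS_le_P F hP hc) hy
  · intro hy
    have hyS : y ∈ S := by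
      have : y = a⁻¹ * (a * y * a⁻¹) * a := by group
      rw [this]
      exact S.mul_mem (S.mul_mem (S.inv_mem ha2'.1) (hPS hy)) ha2'.1
    have hc := ha2'.2 y hyS
    have : y = (a * y * a⁻¹ * y⁻¹)⁻¹ * (a * y * a⁻¹) := by group
    rw [this]
    exact P.mul_mem (P.inv_mem (ZS_le_P F hP hc)) hy

/-- `N_A(P) = (P ∩ A) ⟨a₀⟩` with `a₀ ^ p ∈ P`, `a₀ ∉ P` -/
theorem exists_gen_NA (hS : IsPGroup p S) (F : FusionSystem S) (hF : F.IsSaturated p)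
    {A : Subgroup Ω} (h : UAb S A p) {P : Subgroup Ω} (hP : F.IsEssential p P)
    {γ : MulAut ↥P} (hγ : γ ∈ F.autGroup P) {b₁ : P} (hb₁ : (b₁ : Ω) ∈ A)
    (hx : ((γ b₁ : P) : Ω) ∉ A) :
    ∃ a₀ ∈ A, a₀ ∈ normalizer (P : Set Ω) ∧ a₀ ∉ P ∧ a₀ ^ p ∈ P ∧
      ∀ a ∈ A, a ∈ normalizer (P : Set Ω) → ∃ k : ℕ, a * a₀ ^ k ∈ P := by
  have hp : p.Prime := Fact.out
  have hPS : P ≤ S := hP.1.1
  have hne : P ≠ S := ne_of_isEssential hS F hF hP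
  obtain ⟨x, hxdef⟩ : ∃ x : P, x = γ b₁ := ⟨_, rfl⟩
  rw [← hxdef] at hx
  have hxS : (x : Ω) ∈ S := hPS x.2
  obtain ⟨n, hn, hnP⟩ := exists_mem_normalizerIn_not_mem hS (lt_of_le_of_ne hPS hne)
  have hnS : n ∈ S := hn.1
  have hnN : n ∈ normalizer (P : Set Ω) := hn.2
  obtain ⟨k₀, hk₀⟩ := h.gen' hxS hx hnS
  obtain ⟨a₀, ha₀def⟩ : ∃ a₀ : Ω, a₀ = n * (x : Ω) ^ k₀ := ⟨_, rfl⟩
  rw [← ha₀def] at hk₀
  have ha₀N : a₀ ∈ normalizer (P : Set Ω) := by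
    rw [ha₀def]
    exact mul_mem hnN (le_normalizer (P.pow_mem x.2 k₀))
  have ha₀P : a₀ ∉ P := by
    intro hcon
    apply hnP
    have : n = a₀ * ((x : Ω) ^ k₀)⁻¹ := by rw [ha₀def]; group
    rw [this]
    exact P.mul_mem hcon (P.inv_mem (P.pow_mem x.2 k₀))
  have hdP : ∀ a : Ω, a ∈ normalizer (P : Set Ω) → DD (x : Ω) a ∈ P := fun a haN =>
    DD_mem_P x.2 haN
  have hkey : ∀ a ∈ A, ∀ haN : a ∈ normalizer (P : Set Ω),
      ((γ⁻¹ ⟨DD (x : Ω) a, hdP a haN⟩ : P) : Ω) ∈ A → a ∈ P := by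
    intro a ha haN hd
    exact key' hS F hF h hP hγ hb₁ (hxdef ▸ hx) ha haN ⟨DD (x : Ω) a, hdP a haN⟩
      (by rw [← hxdef]) hd
  obtain ⟨x'', hx''⟩ : ∃ x'' : P, x'' = γ⁻¹ ⟨DD (x : Ω) a₀, hdP a₀ ha₀N⟩ := ⟨_, rfl⟩
  have hx''A : (x'' : Ω) ∉ A := by
    intro hcon
    apply ha₀P
    apply hkey a₀ hk₀ ha₀N
    rw [← hx'']
    exact hcon
  have hx''S : (x'' : Ω) ∈ S := hPS x''.2
  refine ⟨a₀, hk₀, ha₀N, ha₀P, ?_, ?_⟩
  · have hN' : a₀ ^ p ∈ normalizer (P : Set Ω) := pow_mem ha₀N p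
    apply hkey _ (A.pow_mem hk₀ p) hN'
    have e : (⟨DD (x : Ω) (a₀ ^ p), hdP _ hN'⟩ : P) = ⟨DD (x : Ω) a₀, hdP a₀ ha₀N⟩ ^ p := by
      apply Subtype.ext
      rw [SubgroupClass.coe_pow]
      show DD (x : Ω) (a₀ ^ p) = DD (x : Ω) a₀ ^ p
      rw [DD_pow h hxS hk₀]
    rw [e, map_pow, ← hx'', SubgroupClass.coe_pow]
    exact h.pow_mem _ hx''S
  · intro a ha haN
    obtain ⟨k, hk⟩ := h.gen' hx''S hx''A (hPS (γ⁻¹ ⟨DD (x : Ω) a, hdP a haN⟩ : P).2)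
    refine ⟨k, ?_⟩
    have hN' : a * a₀ ^ k ∈ normalizer (P : Set Ω) := mul_mem haN (pow_mem ha₀N k)
    apply hkey _ (A.mul_mem ha (A.pow_mem hk₀ k)) hN'
    have e : (⟨DD (x : Ω) (a * a₀ ^ k), hdP _ hN'⟩ : P) =
        ⟨DD (x : Ω) a, hdP a haN⟩ * ⟨DD (x : Ω) a₀, hdP a₀ ha₀N⟩ ^ k := by
      apply Subtype.ext
      rw [Subgroup.coe_mul, SubgroupClass.coe_pow]
      show DD (x : Ω) (a * a₀ ^ k) = DD (x : Ω) a * DD (x : Ω) a₀ ^ k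
      rw [DD_mul h hxS ha (A.pow_mem hk₀ k), DD_pow h hxS hk₀]
    rw [e, map_mul, map_pow, ← hx'', Subgroup.coe_mul, SubgroupClass.coe_pow]
    exact hk

end

end Cfsg.Agent.Lib.Helper11.UAc
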