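import Mathlib

/-!
Kernels of the iterates of an endomorphism of a finite abelian group (helper11), for S5257.
-/
set_option autoImplicit false

namespace Cfsg.Agent.Lib.Helper11.UAi

open Subgroup

variable {B : Type*} [CommGroup B]

/-- kernel of the `i`-th iterate -/
def KK (ψ : B →* B) : ℕ → Subgroup B
  | 0 => ⊥
  | i + 1 => (KK ψ i).comap ψ

theorem KK_zero (ψ : B →* B) : KK ψ 0 = ⊥ := rfl

theorem KK_succ (ψ : B →* B) (i : ℕ) : KK ψ (i + 1) = (KK ψ i).comap ψ := rfl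

theorem KK_one (ψ : B →* B) : KK ψ 1 = ψ.ker := by
  rw [KK_succ, KK_zero, MonoidHom.comap_bot]

theorem mem_KK_succ (ψ : B →* B) (i : ℕ) {a : B} : a ∈ KK ψ (i + 1) ↔ ψ a ∈ KK ψ i := by
  rw [KK_succ, mem_comap]

theorem mem_KK (ψ : B →* B) (i : ℕ) {a : B} : a ∈ KK ψ i ↔ (ψ^[i]) a = 1 := by
  induction i generalizing a with
  | zero => rw [KK_zero, mem_bot]; rfl
  | succ i ih => rw [mem_KK_succ, ih, Function.iterate_succ_apply]

theorem KK_mono (ψ : B →* B) (i : ℕ) : KK ψ i ≤ KK ψ (i + 1) := by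
  induction i with
  | zero => rw [KK_zero]; exact bot_le
  | succ i ih => rw [KK_succ, KK_succ ψ (i + 1)]; exact comap_mono ih

theorem KK_le (ψ : B →* B) {i j : ℕ} (hij : i ≤ j) : KK ψ i ≤ KK ψ j := by
  induction j, hij using Nat.le_induction with
  | base => exact le_rfl
  | succ j _ ih => exact ih.trans (KK_mono ψ j)

variable [Finite B]

theorem relIndex_KK_anti (ψ : B →* B) (i : ℕ) :
    (KK ψ (i + 1)).relIndex (KK ψ (i + 2)) ≤ (KK ψ i).relIndex (KK ψ (i + 1)) := by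
  have h1 : (KK ψ (i + 1)).relIndex (KK ψ (i + 2)) =
      (KK ψ i).relIndex ((KK ψ (i + 2)).map ψ) := by
    rw [KK_succ ψ i, relIndex_comap]
  rw [h1]
  apply relIndex_le_of_le_right
  · rw [KK_succ ψ (i + 1)]
    exact map_comap_le _ _
  · unfold relIndex
    exact index_ne_zero_of_finite

theorem relIndex_KK_le (ψ : B →* B) {p : ℕ} (h2 : (KK ψ 1).relIndex (KK ψ 2) ≤ p) (i : ℕ) :
    (KK ψ (i + 1)).relIndex (KK ψ (i + 2)) ≤ p := by
  induction i with
  | zero => exact h2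
  | succ i ih => exact (relIndex_KK_anti ψ (i + 1)).trans ih

theorem relIndex_KK_one_le (ψ : B →* B) {p : ℕ} (h2 : (KK ψ 1).relIndex (KK ψ 2) ≤ p) (n : ℕ) :
    (KK ψ 1).relIndex (KK ψ (n + 1)) ≤ p ^ n := by
  induction n with
  | zero => rw [relIndex_self, pow_zero]
  | succ n ih =>
    rw [← relIndex_mul_relIndex (KK ψ 1) (KK ψ (n + 1)) (KK ψ (n + 2))
      (KK_le ψ (by omega)) (KK_mono ψ (n + 1)), pow_succ]
    exact Nat.mul_le_mul ih (relIndex_KK_le ψ h2 n)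

/-- if the `(n+1)`-st iterate is trivial then `|B : ker ψ| ≤ pⁿ` -/
theorem index_ker_le (ψ : B →* B) {p : ℕ} (h2 : (KK ψ 1).relIndex (KK ψ 2) ≤ p) (n : ℕ)
    (htop : ∀ a : B, (ψ^[n + 1]) a = 1) : ψ.ker.index ≤ p ^ n := by
  have h1 : KK ψ (n + 1) = ⊤ := by
    rw [eq_top_iff]
    intro a _
    exact (mem_KK ψ (n + 1)).2 (htop a)
  have := relIndex_KK_one_le ψ h2 n
  rwa [h1, relIndex_top_right, KK_one] at this

/-- `|B : ker ψ · im ψ| = |ker ψ ∩ im ψ|` -/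
theorem index_ker_sup_range (ψ : B →* B) :
    (ψ.ker ⊔ ψ.range).index = Nat.card ↥(ψ.ker ⊓ ψ.range) := by
  have h1 : (ψ.range.map ψ).relIndex ψ.range = (ψ.ker ⊔ ψ.range).index := by
    have := relIndex_map_map ψ ψ.range ⊤
    rw [← MonoidHom.range_eq_map, top_sup_eq, relIndex_top_right, sup_comm] at this
    exact this
  have hle : ψ.range.map ψ ≤ ψ.range := by
    rintro _ ⟨a, _, rfl⟩
    exact ⟨a, rfl⟩
  have h2 : Nat.card ↥(ψ.range.map ψ) * (ψ.range.map ψ).relIndex ψ.range = Nat.card ψ.range := by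
    rw [← relIndex_bot_left, ← relIndex_bot_left (H := ψ.range)]
    exact relIndex_mul_relIndex ⊥ _ _ bot_le hle
  have h3 : Nat.card ↥(ψ.range.map ψ) = (ψ.ker ⊓ ψ.range).relIndex ψ.range := by
    rw [inf_relIndex_right, relIndex_ker]
  have h4 : Nat.card ↥(ψ.ker ⊓ ψ.range) * (ψ.ker ⊓ ψ.range).relIndex ψ.range =
      Nat.card ψ.range := by
    rw [← relIndex_bot_left, ← relIndex_bot_left (H := ψ.range)]
    exact relIndex_mul_relIndex ⊥ _ _ bot_le inf_le_right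
  rw [← h1]
  have hne : (ψ.ker ⊓ ψ.range).relIndex ψ.range ≠ 0 := by
    unfold relIndex
    exact index_ne_zero_of_finite
  have h5 : (ψ.ker ⊓ ψ.range).relIndex ψ.range * (ψ.range.map ψ).relIndex ψ.range =
      (ψ.ker ⊓ ψ.range).relIndex ψ.range * Nat.card ↥(ψ.ker ⊓ ψ.range) := by
    calc (ψ.ker ⊓ ψ.range).relIndex ψ.range * (ψ.range.map ψ).relIndex ψ.range
        = Nat.card ↥(ψ.range.map ψ) * (ψ.range.map ψ).relIndex ψ.range := by rw [h3]
      _ = Nat.card ψ.range := h2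
      _ = Nat.card ↥(ψ.ker ⊓ ψ.range) * (ψ.ker ⊓ ψ.range).relIndex ψ.range := h4.symm
      _ = _ := mul_comm _ _
  exact Nat.eq_of_mul_eq_mul_left (Nat.pos_of_ne_zero hne) h5

omit [Finite B] in
/-- `ker ψ ∩ im ψ = ψ (ker ψ²)` -/
theorem ker_inf_range (ψ : B →* B) : ψ.ker ⊓ ψ.range = (KK ψ 2).map ψ := by
  ext c
  rw [Subgroup.mem_inf, mem_map]
  constructor
  · rintro ⟨hc, a, rfl⟩
    refine ⟨a, ?_, rfl⟩
    rw [mem_KK_succ, KK_one]
    exact hc
  · rintro ⟨a, ha, rfl⟩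
    rw [mem_KK_succ, KK_one] at ha
    exact ⟨ha, a, rfl⟩

theorem card_ker_inf_range (ψ : B →* B) :
    Nat.card ↥(ψ.ker ⊓ ψ.range) = (KK ψ 1).relIndex (KK ψ 2) := by
  rw [ker_inf_range, KK_one, relIndex_ker]

end Cfsg.Agent.Lib.Helper11.UAi
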