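import Mathlib
import Cfsg.Agent.Lib.Helper11.UAf
import Cfsg.Agent.Lib.Helper11.UAi

/-!
The commutator endomorphism `a ↦ [x, a]` of the abelian subgroup `A` of index `p` (helper11),
for S5257.
-/
set_option autoImplicit false

namespace Cfsg.Agent.Lib.Helper11.UAc

open Subgroup Cfsg Cfsg.Agent.Lib.Helper11.UAa Cfsg.Agent.Lib.Helper11.UAb
  Cfsg.Agent.Lib.Helper11.ESe Cfsg.Agent.Lib.Helper11.UAi
open scoped commutatorElement

variable {Ω : Type*} [Group Ω] {S : Subgroup Ω} {p : ℕ}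

/-- `a ↦ x⁻¹ a x a⁻¹` as an endomorphism of `A` -/
def psi {A : Subgroup Ω} (h : UAb S A p) {x : Ω} (hxS : x ∈ S) : ↥A →* ↥A where
  toFun a := ⟨DD x a, DD_mem h hxS a.2⟩
  map_one' := Subtype.ext (by simp [DD])
  map_mul' a b := Subtype.ext (DD_mul h hxS a.2 b.2)

theorem psi_coe {A : Subgroup Ω} (h : UAb S A p) {x : Ω} (hxS : x ∈ S) (a : A) :
    ((psi h hxS a : A) : Ω) = DD x a := rfl

theorem ker_psi {A : Subgroup Ω} (h : UAb S A p) {x : Ω} (hxS : x ∈ S) (hxA : x ∉ A) :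
    (psi h hxS).ker = (ZS S).subgroupOf A := by
  ext a
  rw [MonoidHom.mem_ker, mem_subgroupOf, Subtype.ext_iff, psi_coe, OneMemClass.coe_one,
    DD_eq_one_iff]
  constructor
  · intro h1
    exact h.mem_ZS_of_commute hxS hxA a.2 h1
  · intro h1
    exact ((mem_ZS.1 h1).2 x hxS).symm

theorem KK_two_psi {A : Subgroup Ω} (h : UAb S A p) {x : Ω} (hxS : x ∈ S) (hxA : x ∉ A) :
    @KK _ (abInst A h.comm) (psi h hxS) 2 = (Z2 S).subgroupOf A := by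
  letI := abInst A h.comm
  ext a
  rw [mem_KK_succ, KK_one, ker_psi h hxS hxA, mem_subgroupOf, mem_subgroupOf, psi_coe,
    mem_Z2_iff_DD h hxS hxA a.2]

/-- the image of `psi`, in `Ω` -/
def Bx {A : Subgroup Ω} (h : UAb S A p) {x : Ω} (hxS : x ∈ S) : Subgroup Ω :=
  (psi h hxS).range.map A.subtype

theorem mem_Bx {A : Subgroup Ω} (h : UAb S A p) {x : Ω} (hxS : x ∈ S) {c : Ω} :
    c ∈ Bx h hxS ↔ ∃ a ∈ A, c = DD x a := by
  unfold Bx
  constructor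
  · rintro ⟨_, ⟨a, rfl⟩, rfl⟩
    exact ⟨a, a.2, rfl⟩
  · rintro ⟨a, ha, rfl⟩
    exact ⟨psi h hxS ⟨a, ha⟩, ⟨⟨a, ha⟩, rfl⟩, rfl⟩

theorem Bx_le {A : Subgroup Ω} (h : UAb S A p) {x : Ω} (hxS : x ∈ S) : Bx h hxS ≤ A := by
  intro c hc
  obtain ⟨a, ha, rfl⟩ := (mem_Bx h hxS).1 hc
  exact DD_mem h hxS ha

theorem DD_pow_mem_Bx {A : Subgroup Ω} (h : UAb S A p) {x : Ω} (hxS : x ∈ S) (k : ℕ) :
    ∀ a ∈ A, DD (x ^ k) a ∈ Bx h hxS := by
  induction k with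
  | zero =>
    intro a _
    have : DD (x ^ 0) a = 1 := by unfold DD; simp
    rw [this]
    exact one_mem _
  | succ k ih =>
    intro a ha
    have hak : (x ^ k)⁻¹ * a * x ^ k ∈ A := h.norm' (S.pow_mem hxS k) ha
    have e : DD (x ^ (k + 1)) a = DD x ((x ^ k)⁻¹ * a * x ^ k) * DD (x ^ k) a := by
      rw [pow_succ]
      generalize x ^ k = y
      unfold DD
      group
    rw [e]
    exact mul_mem ((mem_Bx h hxS).2 ⟨_, hak, rfl⟩) (ih a ha)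

theorem DD_mem_Bx {A : Subgroup Ω} (h : UAb S A p) {x : Ω} (hxS : x ∈ S) (hxA : x ∉ A)
    {y : Ω} (hy : y ∈ S) {a : Ω} (ha : a ∈ A) : DD y a ∈ Bx h hxS := by
  obtain ⟨k, a', ha', rfl⟩ := h.gen x hxS hxA y hy
  have e : DD (a' * x ^ k) a = DD (x ^ k) a := by
    unfold DD
    calc (a' * x ^ k)⁻¹ * a * (a' * x ^ k) * a⁻¹
        = (x ^ k)⁻¹ * (a'⁻¹ * (a * a')) * x ^ k * a⁻¹ := by group
      _ = (x ^ k)⁻¹ * a * x ^ k * a⁻¹ := by rw [h.comm a ha a' ha', inv_mul_cancel_left]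
  rw [e]
  exact DD_pow_mem_Bx h hxS k a ha

/-- the image of `psi` is the commutator subgroup of `S` -/
theorem Bx_eq {A : Subgroup Ω} (h : UAb S A p) {x : Ω} (hxS : x ∈ S) (hxA : x ∉ A) :
    Bx h hxS = (commutator ↥S).map S.subtype := by
  apply le_antisymm
  · intro c hc
    obtain ⟨a, ha, rfl⟩ := (mem_Bx h hxS).1 hc
    refine ⟨⁅(⟨x⁻¹, S.inv_mem hxS⟩ : S), (⟨a, h.le ha⟩ : S)⁆, ?_, ?_⟩
    · rw [_root_.commutator_def]
      exact commutator_mem_commutator (mem_top _) (mem_top _)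
    · rw [commutatorElement_def]
      show x⁻¹ * a * (x⁻¹)⁻¹ * a⁻¹ = DD x a
      unfold DD
      rw [inv_inv]
  · rw [map_le_iff_le_comap, _root_.commutator_def, commutator_le]
    intro s _ t _
    rw [mem_comap, commutatorElement_def]
    show (s : Ω) * t * (s : Ω)⁻¹ * (t : Ω)⁻¹ ∈ Bx h hxS
    obtain ⟨i, a, ha, hs⟩ := h.gen x hxS hxA s s.2
    obtain ⟨j, b, hb, ht⟩ := h.gen x hxS hxA t t.2
    have h1 : DD ((s : Ω)⁻¹) b ∈ Bx h hxS := DD_mem_Bx h hxS hxA (S.inv_mem s.2) hb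
    have h2 : (DD ((x ^ j)⁻¹) a)⁻¹ ∈ Bx h hxS :=
      inv_mem (DD_mem_Bx h hxS hxA (S.inv_mem (S.pow_mem hxS j)) ha)
    have he : (s : Ω) * x ^ j * (s : Ω)⁻¹ * (x ^ j)⁻¹ = (DD ((x ^ j)⁻¹) a)⁻¹ := by
      rw [hs]; unfold DD; group
    have hcomm := h.comm _ (Bx_le h hxS h2) _ (A.inv_mem hb)
    have e : (s : Ω) * t * (s : Ω)⁻¹ * (t : Ω)⁻¹ = DD ((s : Ω)⁻¹) b * (DD ((x ^ j)⁻¹) a)⁻¹ := by
      calc (s : Ω) * t * (s : Ω)⁻¹ * (t : Ω)⁻¹
          = (s : Ω) * b * (s : Ω)⁻¹ * (((s : Ω) * x ^ j * (s : Ω)⁻¹ * (x ^ j)⁻¹) * b⁻¹) := by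
            rw [ht]; group
        _ = (s : Ω) * b * (s : Ω)⁻¹ * (b⁻¹ * (DD ((x ^ j)⁻¹) a)⁻¹) := by rw [he, hcomm]
        _ = DD ((s : Ω)⁻¹) b * (DD ((x ^ j)⁻¹) a)⁻¹ := by unfold DD; group
    rw [e]
    exact mul_mem h1 h2

/-- iterates of `psi` land in the lower central series -/
theorem iterate_psi_mem {A : Subgroup Ω} (h : UAb S A p) {x : Ω} (hxS : x ∈ S) (i : ℕ) (a : A) :
    (((psi h hxS)^[i] a : A) : Ω) ∈ Subgroup.lowerCentralSeries S i := by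
  induction i with
  | zero => exact h.le a.2
  | succ i ih =>
    rw [Function.iterate_succ_apply', psi_coe, Subgroup.lowerCentralSeries_succ, commutator_comm]
    have e : DD x (((psi h hxS)^[i] a : A) : Ω) =
        ⁅x⁻¹, (((psi h hxS)^[i] a : A) : Ω)⁆ := by
      rw [commutatorElement_def, inv_inv]; rfl
    rw [e]
    exact commutator_mem_commutator (S.inv_mem hxS) ih

end Cfsg.Agent.Lib.Helper11.UAc
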