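import Mathlib
import Cfsg.Agent.Lib.Helper11.UAj

/-!
Consequences of `|Z₂(S) : Z(S)| = p` for a `p`-group with an abelian subgroup of index `p`
(helper11), for S5257.
-/
set_option autoImplicit false

namespace Cfsg.Agent.Lib.Helper11.UAc

open Subgroup Cfsg Cfsg.Agent.Lib.Helper11.UAa Cfsg.Agent.Lib.Helper11.UAb
  Cfsg.Agent.Lib.Helper11.ESe Cfsg.Agent.Lib.Helper11.UAi

variable {Ω : Type*} [Group Ω] {S : Subgroup Ω} {p : ℕ}

theorem main5257 [Finite S] [Fact p.Prime] {A : Subgroup Ω} (h : UAb S A p)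
    (hna : ¬ IsMulCommutative ↥S) (hAidx : (A.subgroupOf S).index = p)
    {x : Ω} (hxS : x ∈ S) (hxA : x ∉ A) (hZ2A : Z2 S ≤ A)
    (hidx : ((ZS S).subgroupOf (Z2 S)).index = p) :
    Nat.card ↥(ZS S ⊓ (commutator ↥S).map S.subtype) = p ∧
    ((ZS S ⊔ (commutator ↥S).map S.subtype).subgroupOf A).index = p ∧
    ∀ m : ℕ, ((ZS S).subgroupOf S).index = p ^ m → 3 ≤ m →
      ¬ Subgroup.lowerCentralSeries S (m - 2) ≤ ZS S := by
  have hp : p.Prime := Fact.out
  letI := abInst A h.comm
  haveI : Finite A := Finite.of_injective (Subgroup.inclusion h.le) (Subgroup.inclusion_injective h.le)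
  have hZA : ZS S ≤ A := h.ZS_le hna
  have hK12 : (KK (psi h hxS) 1).relIndex (KK (psi h hxS) 2) = p := by
    rw [KK_two_psi h hxS hxA, KK_one, ker_psi h hxS hxA, relIndex_subgroupOf hZ2A]
    exact hidx
  have hcard : Nat.card ↥((psi h hxS).ker ⊓ (psi h hxS).range) = p := by
    rw [card_ker_inf_range, hK12]
  have hB : (psi h hxS).range.map A.subtype = (commutator ↥S).map S.subtype := Bx_eq h hxS hxA
  have hBA : (commutator ↥S).map S.subtype ≤ A := by rw [← hB]; exact Bx_le h hxS
  have hker : (psi h hxS).ker.map A.subtype = ZS S := by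
    rw [ker_psi h hxS hxA, subgroupOf_map_subtype, inf_eq_left.2 hZA]
  refine ⟨?_, ?_, ?_⟩
  · have h1 : ((psi h hxS).ker ⊓ (psi h hxS).range).map A.subtype =
        ZS S ⊓ (commutator ↥S).map S.subtype := by
      rw [Subgroup.map_inf _ _ _ (Subgroup.subtype_injective A), hker, hB]
    rw [← h1, Subgroup.card_map_of_injective (Subgroup.subtype_injective A)]
    exact hcard
  · have h1 : (ZS S ⊔ (commutator ↥S).map S.subtype).subgroupOf A =
        (psi h hxS).ker ⊔ (psi h hxS).range := by
      rw [subgroupOf_sup hZA hBA, ker_psi h hxS hxA, ← hB]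
      congr 1
      exact comap_map_eq_self_of_injective (Subgroup.subtype_injective A) _
    rw [h1, index_ker_sup_range]
    exact hcard
  · intro m hm h3 hle
    have h1 : (psi h hxS).ker.index * p = p ^ m := by
      rw [ker_psi h hxS hxA, ← hm, ← hAidx]
      exact relIndex_mul_relIndex (ZS S) A S hZA h.le
    have h2 : (psi h hxS).ker.index ≤ p ^ (m - 2) := by
      apply index_ker_le (psi h hxS) hK12.le (m - 2)
      intro a
      rw [Function.iterate_succ_apply']
      have hmem := hle (iterate_psi_mem h hxS (m - 2) a)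
      have : ((psi h hxS)^[m - 2] a) ∈ (psi h hxS).ker := by
        rw [ker_psi h hxS hxA, mem_subgroupOf]
        exact hmem
      exact this
    have h4 : p ^ m = p ^ (m - 2) * p * p := by
      rw [mul_assoc, ← pow_two, ← pow_add]
      congr 1
      omega
    have h5 : p ^ (m - 2) * p * p ≤ p ^ (m - 2) * p := by
      rw [← h4, ← h1]
      exact Nat.mul_le_mul_right p h2
    have hpos : 0 < p ^ (m - 2) * p := Nat.mul_pos (pow_pos hp.pos _) hp.pos
    have : p ≤ 1 := by
      by_contra hcon
      push Not at hcon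
      have : p ^ (m - 2) * p * 1 < p ^ (m - 2) * p * p := Nat.mul_lt_mul_of_pos_left hcon hpos
      omega
    exact absurd hp.one_lt (not_lt.2 this)

end Cfsg.Agent.Lib.Helper11.UAc
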