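import Mathlib
import Cfsg.Agent.Lib.Helper11.ESe
import Cfsg.Agent.Lib.Lead.UniqueOrderP
import Cfsg.Prelude.Def_Transfer

/-!
A finite `p`-group `S` with an extraspecial subgroup `Q` of index `p` (helper11): elementary
facts, for S5178.
-/
set_option autoImplicit false

namespace Cfsg.Agent.Lib.Helper11.XSa

open Subgroup Cfsg Cfsg.Agent.Lib.Helper11.ESe
open scoped commutatorElement

variable {Ω : Type*} [Group Ω]

/-- the data of an extraspecial subgroup of index `p`, in elementwise form -/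
structure XS (S Q : Subgroup Ω) (p : ℕ) : Prop where
  le : Q ≤ S
  norm : ∀ s ∈ S, ∀ a ∈ Q, s * a * s⁻¹ ∈ Q
  gen : ∀ x ∈ S, x ∉ Q → ∀ s ∈ S, ∃ k : ℕ, ∃ a ∈ Q, s = a * x ^ k
  cardW : Nat.card (Zc Q) = p
  comm : ∀ a ∈ Q, ∀ b ∈ Q, a * b * a⁻¹ * b⁻¹ ∈ Zc Q
  nonab : ∃ a ∈ Q, ∃ b ∈ Q, a * b * a⁻¹ * b⁻¹ ≠ 1
  WZ : Zc Q ≤ Zc S

theorem xs_of_extraspecial {S Q : Subgroup Ω} [Finite S] {p : ℕ} [Fact p.Prime]
    (hS : IsPGroup p S) (hQS : Q ≤ S) (hQ : Cfsg.IsExtraspecial p ↥Q)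
    (hidx : (Q.subgroupOf S).index = p) : XS S Q p := by
  have hp : p.Prime := Fact.out
  haveI hN : (Q.subgroupOf S).Normal := by
    apply normal_of_index_eq_minFac_card
    rw [hidx]
    obtain ⟨n, hn⟩ := IsPGroup.iff_card.1 hS
    have hn0 : n ≠ 0 := by
      rintro rfl
      have h1 : (Q.subgroupOf S).index ∣ Nat.card S := index_dvd_card _
      rw [hidx, hn, pow_zero] at h1
      exact hp.one_lt.ne' (Nat.dvd_one.1 h1)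
    rw [hn, hp.pow_minFac hn0]
  have hcard : Nat.card (↥S ⧸ Q.subgroupOf S) = p := by rw [← index_eq_card, hidx]
  have hnorm : ∀ s ∈ S, ∀ a ∈ Q, s * a * s⁻¹ ∈ Q := by
    intro s hs a ha
    have := hN.conj_mem ⟨a, hQS ha⟩ (mem_subgroupOf.2 ha) ⟨s, hs⟩
    exact mem_subgroupOf.1 this
  have hmk : ∀ s (hs : s ∈ S), (QuotientGroup.mk (⟨s, hs⟩ : S) : ↥S ⧸ Q.subgroupOf S) = 1 ↔ s ∈ Q := by
    intro s hs
    rw [QuotientGroup.eq_one_iff, mem_subgroupOf]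
  have hcardW : Nat.card (Zc Q) = p := by
    rw [Zc_eq_map, Nat.card_congr
      ((center ↥Q).equivMapOfInjective Q.subtype Q.subtype_injective).toEquiv.symm]
    exact hQ.2
  have hcomm : ∀ a ∈ Q, ∀ b ∈ Q, a * b * a⁻¹ * b⁻¹ ∈ Zc Q := by
    intro a ha b hb
    rw [Zc_eq_map]
    have h1 : ⁅(⟨a, ha⟩ : Q), ⟨b, hb⟩⁆ ∈ _root_.commutator ↥Q :=
      commutator_mem_commutator (mem_top _) (mem_top _)
    rw [hQ.1.2.2] at h1
    refine ⟨_, h1, ?_⟩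
    rw [commutatorElement_def]
    rfl
  have hnonab : ∃ a ∈ Q, ∃ b ∈ Q, a * b * a⁻¹ * b⁻¹ ≠ 1 := by
    by_contra hcon
    push Not at hcon
    have h1 : _root_.commutator ↥Q = ⊥ := by
      rw [eq_bot_iff]
      unfold _root_.commutator
      rw [commutator_le]
      intro a _ b _
      rw [mem_bot, commutatorElement_def]
      apply Subtype.ext
      exact hcon a a.2 b b.2
    have h2 : Nat.card (center ↥Q) = 1 := by
      rw [← hQ.1.2.2, h1]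
      exact card_bot
    rw [hQ.2] at h2
    exact hp.one_lt.ne' h2
  have hWQ : Zc Q ≤ Q := fun w hw => (mem_Zc.1 hw).1
  have hWS : Zc Q ≤ S := hWQ.trans hQS
  -- `W` is normal in `S`
  haveI hWN : ((Zc Q).subgroupOf S).Normal := by
    refine ⟨fun w hw s => ?_⟩
    rw [mem_subgroupOf] at hw ⊢
    obtain ⟨hwQ, hwc⟩ := mem_Zc.1 hw
    refine mem_Zc.2 ⟨hnorm s s.2 w hwQ, fun q hq => ?_⟩
    have h1 : (s : Ω)⁻¹ * q * s ∈ Q := by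
      have := hnorm (s : Ω)⁻¹ (S.inv_mem s.2) q hq
      rwa [inv_inv] at this
    have h2 := hwc _ h1
    show q * ((s : Ω) * w * (s : Ω)⁻¹) = (s : Ω) * w * (s : Ω)⁻¹ * q
    calc q * ((s : Ω) * w * (s : Ω)⁻¹) = (s : Ω) * (((s : Ω)⁻¹ * q * s) * w) * (s : Ω)⁻¹ := by group
      _ = (s : Ω) * (w * ((s : Ω)⁻¹ * q * s)) * (s : Ω)⁻¹ := by rw [h2]
      _ = (s : Ω) * w * (s : Ω)⁻¹ * q := by group
  have hcardW' : Nat.card ((Zc Q).subgroupOf S) = p := by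
    rw [Nat.card_congr (subgroupOfEquivOfLe hWS).toEquiv, hcardW]
  have hWZ : Zc Q ≤ Zc S := by
    have hne : (Zc Q).subgroupOf S ≠ ⊥ := by
      intro hcon
      rw [hcon, card_bot] at hcardW'
      exact hp.one_lt.ne hcardW'
    obtain ⟨z, hzN, hz1, hzc⟩ :=
      Cfsg.Agent.Lib.Lead.UniqueOrderP.exists_central_of_normal hS ((Zc Q).subgroupOf S) hne
    intro w hw
    have hz1' : (⟨z, hzN⟩ : (Zc Q).subgroupOf S) ≠ 1 := by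
      intro hcon
      exact hz1 (congrArg Subtype.val hcon)
    have hmem : (⟨⟨w, hWS hw⟩, mem_subgroupOf.2 hw⟩ : (Zc Q).subgroupOf S) ∈
        zpowers (⟨z, hzN⟩ : (Zc Q).subgroupOf S) := mem_zpowers_of_prime_card hcardW' hz1'
    obtain ⟨k, hk⟩ := hmem
    have hk' : z ^ k = ⟨w, hWS hw⟩ := by
      have := congrArg Subtype.val hk
      simpa using this
    have hwc : (⟨w, hWS hw⟩ : S) ∈ center ↥S := by
      rw [← hk']
      exact zpow_mem hzc k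
    rw [Zc_eq_map]
    exact ⟨_, hwc, rfl⟩
  refine ⟨hQS, hnorm, ?_, hcardW, hcomm, hnonab, hWZ⟩
  intro x hx hxQ s hs
  have hne : (QuotientGroup.mk (⟨x, hx⟩ : S) : ↥S ⧸ Q.subgroupOf S) ≠ 1 := by
    rw [Ne, hmk]; exact hxQ
  have htop := zpowers_eq_top_of_prime_card hcard hne
  have hmem : (QuotientGroup.mk (⟨s, hs⟩ : S) : ↥S ⧸ Q.subgroupOf S) ∈
      zpowers (QuotientGroup.mk (⟨x, hx⟩ : S) : ↥S ⧸ Q.subgroupOf S) := htop ▸ mem_top _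
  haveI : Finite (↥S ⧸ Q.subgroupOf S) := inferInstance
  rw [← mem_powers_iff_mem_zpowers] at hmem
  obtain ⟨k, hk⟩ := hmem
  refine ⟨k, s * (x ^ k)⁻¹, ?_, by group⟩
  have h1 : (QuotientGroup.mk ((⟨s, hs⟩ : S) * (⟨x, hx⟩ ^ k)⁻¹) : ↥S ⧸ Q.subgroupOf S) = 1 := by
    rw [QuotientGroup.mk_mul, QuotientGroup.mk_inv, QuotientGroup.mk_pow]
    dsimp only at hk
    rw [hk, mul_inv_cancel]
  have h2 := (hmk (s * (x ^ k)⁻¹) (S.mul_mem hs (S.inv_mem (S.pow_mem hx k)))).1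
  apply h2
  exact h1

variable {S Q : Subgroup Ω} {p : ℕ}

theorem XS.WQ (_h : XS S Q p) : Zc Q ≤ Q := fun _ hw => (mem_Zc.1 hw).1

theorem XS.WS (h : XS S Q p) : Zc Q ≤ S := h.WQ.trans h.le

/-- if `Z(S) ≤ Q` then `Z(S) ≤ Z(Q)` -/
theorem XS.ZS_le_of_le (h : XS S Q p) (hle : Zc S ≤ Q) : Zc S ≤ Zc Q := by
  intro z hz
  obtain ⟨-, hzc⟩ := mem_Zc.1 hz
  exact mem_Zc.2 ⟨hle hz, fun q hq => hzc q (h.le hq)⟩

/-- if `Z(S) ≰ Q` then all commutators of `S` lie in `Z(Q)` -/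
theorem XS.commS (h : XS S Q p) {z₀ : Ω} (hz₀ : z₀ ∈ Zc S) (hz₀Q : z₀ ∉ Q) :
    ∀ s ∈ S, ∀ t ∈ S, s * t * s⁻¹ * t⁻¹ ∈ Zc Q := by
  obtain ⟨hz₀S, -⟩ := mem_Zc.1 hz₀
  intro s hs t ht
  obtain ⟨k, a, ha, rfl⟩ := h.gen z₀ hz₀S hz₀Q s hs
  obtain ⟨l, b, hb, rfl⟩ := h.gen z₀ hz₀S hz₀Q t ht
  have hu : ∀ m : ℕ, ∀ x ∈ S, x * z₀ ^ m = z₀ ^ m * x := fun m x hx =>
    (mem_Zc.1 ((Zc S).pow_mem hz₀ m)).2 x hx
  have e : a * z₀ ^ k * (b * z₀ ^ l) * (a * z₀ ^ k)⁻¹ * (b * z₀ ^ l)⁻¹ = a * b * a⁻¹ * b⁻¹ := by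
    have h1 := hu k b (h.le hb)
    have h2 := hu l a⁻¹ (S.inv_mem (h.le ha))
    have h3 := hu l b⁻¹ (S.inv_mem (h.le hb))
    calc a * z₀ ^ k * (b * z₀ ^ l) * (a * z₀ ^ k)⁻¹ * (b * z₀ ^ l)⁻¹
        = a * (z₀ ^ k * b) * z₀ ^ l * (z₀ ^ k)⁻¹ * a⁻¹ * (z₀ ^ l)⁻¹ * b⁻¹ := by group
      _ = a * (b * z₀ ^ k) * z₀ ^ l * (z₀ ^ k)⁻¹ * a⁻¹ * (z₀ ^ l)⁻¹ * b⁻¹ := by rw [h1]
      _ = a * b * (z₀ ^ (k + l) * (z₀ ^ k)⁻¹) * a⁻¹ * (z₀ ^ l)⁻¹ * b⁻¹ := by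
          rw [pow_add]; group
      _ = a * b * (z₀ ^ l) * a⁻¹ * (z₀ ^ l)⁻¹ * b⁻¹ := by
          rw [add_comm, pow_add, mul_inv_cancel_right]
      _ = a * b * (z₀ ^ l * a⁻¹) * (z₀ ^ l)⁻¹ * b⁻¹ := by group
      _ = a * b * (a⁻¹ * z₀ ^ l) * (z₀ ^ l)⁻¹ * b⁻¹ := by rw [h2]
      _ = a * b * a⁻¹ * b⁻¹ := by group
  rw [e]
  exact h.comm a ha b hb

/-- a nontrivial element of `Z(Q)` generates it -/
theorem XS.mem_zpowers [Fact p.Prime] (h : XS S Q p) {w : Ω} (hw : w ∈ Zc Q) (hw1 : w ≠ 1)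
    {w' : Ω} (hw' : w' ∈ Zc Q) : ∃ k : ℤ, w' = w ^ k := by
  have hw1' : (⟨w, hw⟩ : Zc Q) ≠ 1 := fun hcon => hw1 (congrArg Subtype.val hcon)
  have hmem : (⟨w', hw'⟩ : Zc Q) ∈ zpowers (⟨w, hw⟩ : Zc Q) :=
    mem_zpowers_of_prime_card h.cardW hw1'
  obtain ⟨k, hk⟩ := hmem
  refine ⟨k, ?_⟩
  have := congrArg Subtype.val hk
  simpa using this.symm

theorem XS.W_ne_bot [Fact p.Prime] (h : XS S Q p) : Zc Q ≠ ⊥ := by
  have hp : p.Prime := Fact.out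
  intro hcon
  have := h.cardW
  rw [hcon, card_bot] at this
  exact hp.one_lt.ne this

/-- index of a centralizer, relative to a subgroup `H` of `S` -/
theorem index_cent_dvd {S K : Subgroup Ω} [Finite S] {p : ℕ} (hK : Nat.card K = p) (hKZ : K ≤ Zc S)
    (hcomm : ∀ g ∈ S, ∀ h ∈ S, g * h * g⁻¹ * h⁻¹ ∈ K) {y : Ω} (hy : y ∈ S) (H : Subgroup Ω)
    (hH : H ≤ S) : ((centralizer ({y} : Set Ω)).subgroupOf H).index ∣ p := by
  haveI : Finite H := Finite.of_injective (inclusion hH) (inclusion_injective hH)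
  haveI : Finite K := by
    have hKS : K ≤ S := fun k hk => (mem_Zc.1 (hKZ hk)).1
    exact Finite.of_injective (inclusion hKS) (inclusion_injective hKS)
  let ψ : ↥H →* ↥K := MonoidHom.mk' (fun a => ⟨(a : Ω) * y * (a : Ω)⁻¹ * y⁻¹, hcomm a (hH a.2) y hy⟩)
    (by
      intro a b
      apply Subtype.ext
      have hc := (mem_Zc.1 (hKZ (hcomm b (hH b.2) y hy))).2
      show ((a : Ω) * b) * y * ((a : Ω) * b)⁻¹ * y⁻¹ =
        ((a : Ω) * y * (a : Ω)⁻¹ * y⁻¹) * ((b : Ω) * y * (b : Ω)⁻¹ * y⁻¹)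
      have h1 : ((a : Ω) * b) * y * ((a : Ω) * b)⁻¹ * y⁻¹ =
          (a : Ω) * ((b : Ω) * y * (b : Ω)⁻¹ * y⁻¹) * y * (a : Ω)⁻¹ * y⁻¹ := by group
      rw [h1, hc a (hH a.2)]
      have h2 := hc ((a : Ω) * y * (a : Ω)⁻¹ * y⁻¹)
        (S.mul_mem (S.mul_mem (S.mul_mem (hH a.2) hy) (S.inv_mem (hH a.2))) (S.inv_mem hy))
      rw [h2]
      group)
  have hker : ψ.ker = (centralizer ({y} : Set Ω)).subgroupOf H := by
    ext a
    rw [MonoidHom.mem_ker, mem_subgroupOf, mem_centralizer_singleton_iff, Subtype.ext_iff]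
    show (a : Ω) * y * (a : Ω)⁻¹ * y⁻¹ = 1 ↔ _
    constructor
    · intro h1
      have : (a : Ω) * y = ((a : Ω) * y * (a : Ω)⁻¹ * y⁻¹) * y * a := by group
      rw [this, h1, one_mul]
    · intro h1
      rw [h1]; group
  rw [← hker, index_ker, ← hK]
  exact card_subgroup_dvd_card _

end Cfsg.Agent.Lib.Helper11.XSa
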