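import Mathlib
import Cfsg.Agent.Lib.Helper11.XSa
import Cfsg.Agent.Lib.Helper11.UAc
import Cfsg.Agent.Lib.Helper11.ESj

/-!
Saturated fusion systems with trivial core over a `p`-group with an extraspecial subgroup of
index `p`, `p` odd (helper11): `Z(S) = Z(Q)`, for S5178.
-/
set_option autoImplicit false

namespace Cfsg.Agent.Lib.Helper11.XSb

open Subgroup Cfsg Cfsg.Agent.Lib.Helper29 Cfsg.Agent.Lib.Helper11.UAa Cfsg.Agent.Lib.Helper11.UAb
  Cfsg.Agent.Lib.Helper11.ESe Cfsg.Agent.Lib.Helper11.XSa Cfsg.Agent.Lib.Helper11.UAc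

variable {Ω : Type*} [Group Ω] {S : Subgroup Ω} {p : ℕ}

/-- `K` is central of prime order and contains all commutators of `S` -/
structure CB (S K : Subgroup Ω) (p : ℕ) : Prop where
  hK : Nat.card K = p
  hKZ : K ≤ Zc S
  hcomm : ∀ g ∈ S, ∀ h ∈ S, g * h * g⁻¹ * h⁻¹ ∈ K
  gen : ∀ w ∈ K, w ≠ 1 → ∀ w' ∈ K, ∃ k : ℤ, w' = w ^ k

/-- the subgroup of fixed points of an automorphism -/
def fixS {P : Type*} [Group P] (β : MulAut P) : Subgroup P where
  carrier := {y | β y = y}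
  mul_mem' := by
    intro a b ha hb
    simp only [Set.mem_setOf_eq] at *
    rw [map_mul, ha, hb]
  one_mem' := map_one β
  inv_mem' := by
    intro a ha
    simp only [Set.mem_setOf_eq] at *
    rw [map_inv, ha]

theorem mem_fixS {P : Type*} [Group P] {β : MulAut P} {y : P} : y ∈ fixS β ↔ β y = y := Iff.rfl

variable {K : Subgroup Ω}

/-- a subgroup with a nontrivial commutator: `K` is invariant under its automorphisms -/
theorem CB.inv_of_comm (c : CB S K p) {P : Subgroup Ω} (hPS : P ≤ S) {a b : Ω} (ha : a ∈ P)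
    (hb : b ∈ P) (hab : a * b * a⁻¹ * b⁻¹ ≠ 1) (α : MulAut ↥P) (x : P) (hx : (x : Ω) ∈ K) :
    ((α x : P) : Ω) ∈ K := by
  obtain ⟨cc, hcc⟩ : ∃ cc : P, cc = ⟨a, ha⟩ * ⟨b, hb⟩ * (⟨a, ha⟩ : P)⁻¹ * (⟨b, hb⟩ : P)⁻¹ := ⟨_, rfl⟩
  have hccv : (cc : Ω) = a * b * a⁻¹ * b⁻¹ := by rw [hcc]; rfl
  have hccK : (cc : Ω) ∈ K := by rw [hccv]; exact c.hcomm a (hPS ha) b (hPS hb)
  have hcc1 : (cc : Ω) ≠ 1 := by rw [hccv]; exact hab
  obtain ⟨k, hk⟩ := c.gen _ hccK hcc1 _ hx
  have hxk : x = cc ^ k := Subtype.ext (by rw [hk, SubgroupClass.coe_zpow])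
  rw [hxk, map_zpow, SubgroupClass.coe_zpow]
  apply K.zpow_mem
  rw [hcc, map_mul, map_mul, map_mul, map_inv, map_inv]
  exact c.hcomm _ (hPS (α ⟨a, ha⟩).2) _ (hPS (α ⟨b, hb⟩).2)

/-- every subgroup of `S` containing `K` is normal in `S` -/
theorem CB.mem_normalizer (c : CB S K p) {P : Subgroup Ω} (hPS : P ≤ S) (hKP : K ≤ P) {s : Ω}
    (hs : s ∈ S) : s ∈ normalizer (P : Set Ω) := by
  have key : ∀ u ∈ S, ∀ y ∈ P, u * y * u⁻¹ ∈ P := by
    intro u hu y hy
    have : u * y * u⁻¹ = (u * y * u⁻¹ * y⁻¹) * y := by group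
    rw [this]
    exact P.mul_mem (hKP (c.hcomm u hu y (hPS hy))) hy
  rw [mem_normalizer_iff]
  intro y
  constructor
  · exact key s hs y
  · intro hy
    have := key s⁻¹ (S.inv_mem hs) _ hy
    have e : s⁻¹ * (s * y * s⁻¹) * s⁻¹⁻¹ = y := by group
    rwa [e] at this

section
variable [Finite S] [Fact p.Prime]

/-- the key claim: the centralizer in `S` of a moved central element lies in `P` -/
theorem CB.cent_le (c : CB S K p) (hS : IsPGroup p S) (F : FusionSystem S) (hF : F.IsSaturated p)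
    {P : Subgroup Ω} (hP : F.IsEssential p P) {γ : MulAut ↥P} (hγ : γ ∈ F.autGroup P) {w₁ : P}
    (hw₁ : (w₁ : Ω) ∈ K) (hγw₁ : ((γ w₁ : P) : Ω) ∉ K) {s : Ω} (hs : s ∈ S)
    (hsw : s * ((γ w₁ : P) : Ω) = ((γ w₁ : P) : Ω) * s) : s ∈ P := by
  have hPS : P ≤ S := hP.1.1
  haveI : Finite P := finite_of_le hPS
  have hPp : IsPGroup p P := hS.to_le hPS
  have hKP : K ≤ P := fun k hk => ZS_le_P F hP (c.hKZ hk)
  have hsN : s ∈ normalizer (P : Set Ω) := c.mem_normalizer hPS hKP hs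
  obtain ⟨t, htdef⟩ : ∃ t : MulAut P, t = P.normalizerMonoidHom ⟨s, hsN⟩ := ⟨_, rfl⟩
  have htcoe : ∀ y : P, ((t y : P) : Ω) = s * y * s⁻¹ := fun y => by rw [htdef]; rfl
  have htG : t ∈ F.autGroup P :=
    autInducedBy_le_autGroup F hPS (mem_autInducedBy_iff.2 ⟨s, hs, hsN, htdef⟩)
  have hw₁1 : (w₁ : Ω) ≠ 1 := by
    intro hcon
    apply hγw₁
    have : w₁ = 1 := Subtype.ext hcon
    rw [this, map_one]
    exact K.one_mem
  -- conjugation by elements of `S` fixes `K` pointwise and has commutators in `K`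
  have hfixK : ∀ (n : Ω) (hn : n ∈ S) (hnN : n ∈ normalizer (P : Set Ω)) (y : P), (y : Ω) ∈ K →
      P.normalizerMonoidHom ⟨n, hnN⟩ y = y := by
    intro n hn hnN y hy
    apply Subtype.ext
    show n * (y : Ω) * n⁻¹ = y
    rw [(mem_Zc.1 (c.hKZ hy)).2 n hn, mul_inv_cancel_right]
  have hcommK : ∀ (n : Ω) (hn : n ∈ S) (hnN : n ∈ normalizer (P : Set Ω)) (y : P),
      ((y⁻¹ * P.normalizerMonoidHom ⟨n, hnN⟩ y : P) : Ω) ∈ K := by
    intro n hn hnN y
    show (y : Ω)⁻¹ * (n * (y : Ω) * n⁻¹) ∈ K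
    have := c.hcomm _ (S.inv_mem (hPS y.2)) _ hn
    simpa [mul_assoc] using this
  have htK : ∀ y : P, (y : Ω) ∈ K → t y = y := fun y hy => by
    rw [htdef]; exact hfixK s hs hsN y hy
  have htc : ∀ y : P, ((y⁻¹ * t y : P) : Ω) ∈ K := fun y => by
    rw [htdef]; exact hcommK s hs hsN y
  -- `t` fixes `γ w` for `w ∈ K`
  have htγ : ∀ w : P, (w : Ω) ∈ K → t (γ w) = γ w := by
    intro w hw
    obtain ⟨k, hk⟩ := c.gen _ hw₁ hw₁1 _ hw
    have hwk : w = w₁ ^ k := Subtype.ext (by rw [hk, SubgroupClass.coe_zpow])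
    have h1 : t (γ w₁) = γ w₁ := by
      apply Subtype.ext
      rw [htcoe, hsw, mul_inv_cancel_right]
    rw [hwk, map_zpow, map_zpow, h1]
  obtain ⟨t'', ht''⟩ : ∃ t'' : MulAut P, t'' = γ⁻¹ * t * γ := ⟨_, rfl⟩
  have ht''a : ∀ y : P, t'' y = γ⁻¹ (t (γ y)) := fun y => by rw [ht'']; rfl
  have ht''G : t'' ∈ F.autGroup P := by
    rw [ht'']; exact mul_mem (mul_mem (inv_mem hγ) htG) hγ
  -- `t''` fixes `K`
  have ht''K : ∀ w : P, (w : Ω) ∈ K → t'' w = w := by
    intro w hw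
    rw [ht''a, htγ w hw, MulAut.inv_apply_self]
  -- the commutator `y⁻¹ t''(y)` is `γ⁻¹` of an element of `K`
  have ht''c : ∀ y : P, y⁻¹ * t'' y = γ⁻¹ ((γ y)⁻¹ * t (γ y)) := by
    intro y
    rw [ht''a, map_mul, map_inv, MulAut.inv_apply_self]
  have hW'le : K.subgroupOf P ≤ fixS t'' := by
    intro w hw
    exact mem_fixS.2 (ht''K w (mem_subgroupOf.1 hw))
  have hstabT : ∀ τ ∈ autInducedBy S P, Stab3 (K.subgroupOf P) (fixS t'') τ := by
    intro τ hτ
    obtain ⟨n, hnS, hnN, rfl⟩ := mem_autInducedBy_iff.1 hτ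
    refine ⟨?_, ?_, ?_⟩
    · intro w hw
      exact hfixK n hnS hnN w (mem_subgroupOf.1 hw)
    · intro y _
      exact mem_subgroupOf.2 (hcommK n hnS hnN y)
    · intro y
      exact hW'le (mem_subgroupOf.2 (hcommK n hnS hnN y))
  have hstab : Stab3 (K.subgroupOf P) (fixS t'') t'' := by
    refine ⟨?_, ?_, ?_⟩
    · intro w hw
      exact ht''K w (mem_subgroupOf.1 hw)
    · intro y hy
      rw [mem_fixS.1 hy, inv_mul_cancel]
      exact one_mem _
    · intro y
      rw [mem_fixS, ht''c, ht''a, MulAut.apply_inv_self, htK _ (htc (γ y))]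
  have hmem : t'' ∈ autInducedBy S P :=
    mem_of_stab3 hPp (F.autGroup P) (autInducedBy S P) (sylow_max hS F hF hP)
      (autInducedBy_le_autGroup F hPS) (K.subgroupOf P) (fixS t'') hW'le hstabT ht''G hstab
  obtain ⟨n, hnS, hnN, hn⟩ := mem_autInducedBy_iff.1 hmem
  -- `t''` is trivial
  have htriv : ∀ y : P, t'' y = y := by
    intro y
    obtain ⟨v, hv⟩ : ∃ v : P, v = y⁻¹ * t'' y := ⟨_, rfl⟩
    have hvK : (v : Ω) ∈ K := by
      rw [hv, hn]; exact hcommK n hnS hnN y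
    have hγvK : ((γ v : P) : Ω) ∈ K := by
      rw [hv, ht''c, MulAut.apply_inv_self]
      exact htc (γ y)
    have hv1 : v = 1 := by
      by_contra hcon
      have hcon' : (v : Ω) ≠ 1 := fun h => hcon (Subtype.ext h)
      apply hγw₁
      obtain ⟨k, hk⟩ := c.gen _ hvK hcon' _ hw₁
      have hwk : w₁ = v ^ k := Subtype.ext (by rw [hk, SubgroupClass.coe_zpow])
      rw [hwk, map_zpow, SubgroupClass.coe_zpow]
      exact K.zpow_mem hγvK k
    rw [hv1] at hv
    have : t'' y = y * (y⁻¹ * t'' y) := by group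
    rw [this, ← hv, mul_one]
  have htriv' : ∀ y : P, t y = y := by
    intro y
    have h1 := htriv (γ⁻¹ y)
    rw [ht''a, MulAut.apply_inv_self] at h1
    have h2 := congrArg γ h1
    rwa [MulAut.apply_inv_self, MulAut.apply_inv_self] at h2
  apply cen_le F hP
  refine Subgroup.mem_inf.2 ⟨hs, mem_centralizer_iff.2 fun y hy => ?_⟩
  have h1 := congrArg Subtype.val (htriv' ⟨y, hy⟩)
  rw [htcoe] at h1
  show y * s = s * y
  calc y * s = (s * y * s⁻¹) * s := by rw [h1]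
    _ = s * y := by group

/-- main theorem -/
theorem main (hp2 : p ≠ 2) (hS : IsPGroup p S) {Q : Subgroup Ω} (h : XS S Q p)
    (F : FusionSystem S) (hF : F.IsSaturated p) (hO : F.core = ⊥) : Zc S = Zc Q := by
  have hp : p.Prime := Fact.out
  apply le_antisymm _ h.WZ
  by_contra hnot
  have hB : ∃ z₀ ∈ Zc S, z₀ ∉ Q := by
    by_contra hcon
    push Not at hcon
    exact hnot (h.ZS_le_of_le hcon)
  obtain ⟨z₀, hz₀, hz₀Q⟩ := hB
  have c : CB S (Zc Q) p :=
    ⟨h.cardW, h.WZ, h.commS hz₀ hz₀Q, fun w hw hw1 w' hw' => h.mem_zpowers hw hw1 hw'⟩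
  obtain ⟨a, ha, b, hb, hab⟩ := h.nonab
  by_cases hinv : ∀ P, F.IsEssential p P → ∀ α ∈ F.autGroup P, ∀ x : P,
      (x : Ω) ∈ Zc Q → ((α x : P) : Ω) ∈ Zc Q
  · apply h.W_ne_bot
    apply eq_bot_of_isNormal F hO
    apply isNormal_of_invariant hS F hF (Zc Q) h.WS
    · intro P hP k hk
      exact ZS_le_P F hP (h.WZ hk)
    · intro P hP α hα x hx
      rcases hP with hP | hP
      · subst hP
        exact c.inv_of_comm le_rfl (h.le ha) (h.le hb) hab α x hx
      · exact hinv P hP α hα x hx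
  · push Not at hinv
    obtain ⟨P, hP, γ, hγ, w₁, hw₁, hγw₁⟩ := hinv
    have hPS : P ≤ S := hP.1.1
    have hPab : ∀ a ∈ P, ∀ b ∈ P, a * b = b * a := by
      by_contra hcon
      push Not at hcon
      obtain ⟨a', ha', b', hb', hab'⟩ := hcon
      apply hγw₁
      apply c.inv_of_comm hPS ha' hb' _ γ w₁ hw₁
      intro h1
      apply hab'
      calc a' * b' = (a' * b' * a'⁻¹ * b'⁻¹) * b' * a' := by group
        _ = b' * a' := by rw [h1, one_mul]
    have hne : P ≠ S := ne_of_isEssential hS F hF hP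
    obtain ⟨w₂, hw₂⟩ : ∃ w₂ : P, w₂ = γ w₁ := ⟨_, rfl⟩
    have hcent : ∀ s ∈ S, s * (w₂ : Ω) = w₂ * s → s ∈ P := fun s hs hsw =>
      c.cent_le hS F hF hP hγ hw₁ hγw₁ hs (hw₂ ▸ hsw)
    have hidx1 : (P.subgroupOf S).index = p := by
      have h1 := index_cent_dvd c.hK c.hKZ c.hcomm (hPS w₂.2) S le_rfl
      have h2 : (centralizer ({(w₂ : Ω)} : Set Ω)).subgroupOf S = P.subgroupOf S := by
        ext s
        rw [mem_subgroupOf, mem_subgroupOf, mem_centralizer_singleton_iff]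
        constructor
        · intro hs; exact hcent s s.2 hs
        · intro hs; exact hPab _ hs _ w₂.2
      rw [h2] at h1
      rcases (Nat.dvd_prime hp).1 h1 with h3 | h3
      · exfalso
        apply hne
        rw [index_eq_one, subgroupOf_eq_top] at h3
        exact le_antisymm hPS h3
      · exact h3
    have hu : UAb S P p :=
      uab_of_index hS hPS ⟨⟨fun a b => Subtype.ext (hPab a a.2 b b.2)⟩⟩ hidx1
    obtain ⟨a₀, ha₀S, ha₀P⟩ : ∃ a₀ ∈ S, a₀ ∉ P := by
      by_contra hcon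
      push Not at hcon
      exact hne (le_antisymm hPS hcon)
    have hZP : Zc S ≤ P := ZS_le_P F hP
    have hidx2 : ((Zc S).subgroupOf P).index = p := by
      have h1 := index_cent_dvd c.hK c.hKZ c.hcomm ha₀S P hPS
      have h2 : (centralizer ({a₀} : Set Ω)).subgroupOf P = (Zc S).subgroupOf P := by
        ext a
        rw [mem_subgroupOf, mem_subgroupOf, mem_centralizer_singleton_iff]
        constructor
        · intro ha; exact hu.mem_ZS_of_commute ha₀S ha₀P a.2 ha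
        · intro ha; exact (mem_Zc.1 ha).2 a₀ ha₀S |>.symm
      rw [h2] at h1
      rcases (Nat.dvd_prime hp).1 h1 with h3 | h3
      · exfalso
        rw [index_eq_one, subgroupOf_eq_top] at h3
        apply hne
        apply le_antisymm hPS
        intro s hs
        exact hcent s hs ((mem_Zc.1 (h3 w₂.2)).2 s hs)
      · exact h3
    haveI : Finite P := finite_of_le hPS
    have hc1 : Nat.card S = p * Nat.card P := by
      have := (P.subgroupOf S).index_mul_card
      rw [hidx1, Nat.card_congr (subgroupOfEquivOfLe hPS).toEquiv] at this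
      exact this.symm
    have hc2 : Nat.card P = p * Nat.card (Zc S) := by
      have := ((Zc S).subgroupOf P).index_mul_card
      rw [hidx2, Nat.card_congr (subgroupOfEquivOfLe hZP).toEquiv] at this
      exact this.symm
    have ctx : Ctx S p (Zc Q) := ⟨c.hK, c.hKZ, c.hcomm, by rw [hc1, hc2]; ring⟩
    have hS1 : S ≠ ⊥ := by
      intro hcon
      apply h.W_ne_bot
      rw [eq_bot_iff, ← hcon]
      exact h.WS
    have hfin := (odd_main ctx hS F hF hp2 hO hS1).1
    apply hz₀Q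
    apply h.WQ
    rw [← hfin]
    exact hz₀

end

end Cfsg.Agent.Lib.Helper11.XSb
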