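import Mathlib
import Cfsg.Agent.Lib.Helper11.UAk
import Cfsg.Agent.Lib.Helper11.XSb

/-!
Subgroups `Z(S)⟨x⟩` and `Z₂(S)⟨x⟩` of a `p`-group `S` with an abelian subgroup `A` of index `p`
(helper11): elementary facts, for S5244.
-/
set_option autoImplicit false

namespace Cfsg.Agent.Lib.Helper11.OL

open Subgroup Cfsg Cfsg.Agent.Lib.Helper29 Cfsg.Agent.Lib.Helper11.UAa Cfsg.Agent.Lib.Helper11.UAb
  Cfsg.Agent.Lib.Helper11.ESe Cfsg.Agent.Lib.Helper11.UAc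

variable {Ω : Type*} [Group Ω]

/-- elements of `K ⊔ ⟨x⟩` when `x` normalizes `K` -/
theorem mem_sup_zpowers {K : Subgroup Ω} {x : Ω} (hx : x ∈ normalizer (K : Set Ω)) {u : Ω} :
    u ∈ K ⊔ zpowers x ↔ ∃ k ∈ K, ∃ i : ℤ, u = k * x ^ i := by
  constructor
  · intro hu
    have hxi : ∀ i : ℤ, x ^ i ∈ normalizer (K : Set Ω) := fun i => zpow_mem hx i
    have hconj : ∀ (i : ℤ) (k : Ω), k ∈ K → x ^ i * k * (x ^ i)⁻¹ ∈ K := fun i k hk =>
      (mem_normalizer_iff.1 (hxi i) k).1 hk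
    let M : Subgroup Ω :=
      { carrier := {u | ∃ k ∈ K, ∃ i : ℤ, u = k * x ^ i}
        one_mem' := ⟨1, K.one_mem, 0, by simp⟩
        mul_mem' := by
          rintro _ _ ⟨k, hk, i, rfl⟩ ⟨k', hk', j, rfl⟩
          refine ⟨k * (x ^ i * k' * (x ^ i)⁻¹), K.mul_mem hk (hconj i k' hk'), i + j, ?_⟩
          rw [zpow_add]; group
        inv_mem' := by
          rintro _ ⟨k, hk, i, rfl⟩
          refine ⟨x ^ (-i) * k⁻¹ * (x ^ (-i))⁻¹, hconj (-i) _ (K.inv_mem hk), -i, ?_⟩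
          rw [zpow_neg]; group }
    have hle : K ⊔ zpowers x ≤ M := by
      apply sup_le
      · intro k hk
        exact ⟨k, hk, 0, by simp⟩
      · rw [zpowers_le]
        exact ⟨1, K.one_mem, 1, by simp⟩
    exact hle hu
  · rintro ⟨k, hk, i, rfl⟩
    exact mul_mem_sup hk (zpow_mem (mem_zpowers x) i)

variable {S A : Subgroup Ω} {p : ℕ}

theorem mem_normalizer_ZS {x : Ω} (hxS : x ∈ S) : x ∈ normalizer ((ZS S : Subgroup Ω) : Set Ω) := by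
  rw [mem_normalizer_iff]
  intro z
  constructor
  · intro hz
    have := (mem_ZS.1 hz).2 x hxS
    rw [this, mul_inv_cancel_right]
    exact hz
  · intro hz
    have h1 := (mem_ZS.1 hz).2 x⁻¹ (S.inv_mem hxS)
    have e : z = x⁻¹ * (x * z * x⁻¹) * x := by group
    rw [e, h1]
    have e2 : x * z * x⁻¹ * x⁻¹ * x = x * z * x⁻¹ := by group
    rw [e2]
    exact hz

theorem mem_normalizer_Z2 {x : Ω} (hxS : x ∈ S) : x ∈ normalizer ((Z2 S : Subgroup Ω) : Set Ω) := by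
  have key : ∀ u ∈ S, ∀ y ∈ Z2 S, u * y * u⁻¹ ∈ Z2 S := by
    intro u hu y hy
    obtain ⟨hyS, hyc⟩ := mem_Z2.1 hy
    refine mem_Z2.2 ⟨S.mul_mem (S.mul_mem hu hyS) (S.inv_mem hu), fun s hs => ?_⟩
    have hs' : u⁻¹ * s * u ∈ S := S.mul_mem (S.mul_mem (S.inv_mem hu) hs) hu
    have hc := hyc _ hs'
    have hcu := (mem_ZS.1 hc).2 u hu
    have e : u * y * u⁻¹ * s * (u * y * u⁻¹)⁻¹ * s⁻¹ =
        u * (y * (u⁻¹ * s * u) * y⁻¹ * (u⁻¹ * s * u)⁻¹) * u⁻¹ := by group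
    rw [e, hcu, mul_inv_cancel_right]
    exact hc
  rw [mem_normalizer_iff]
  intro y
  constructor
  · exact key x hxS y
  · intro hy
    have := key x⁻¹ (S.inv_mem hxS) _ hy
    have e : x⁻¹ * (x * y * x⁻¹) * x⁻¹⁻¹ = y := by group
    rwa [e] at this

section types
variable (h : UAb S A p) {x : Ω} (hxS : x ∈ S) (hxA : x ∉ A)
include h hxS hxA

theorem zpow_mem_ZS {i : ℤ} (hi : x ^ i ∈ A) : x ^ i ∈ ZS S := by
  apply h.mem_ZS_of_commute hxS hxA hi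
  exact ((Commute.refl x).zpow_left i).eq

theorem pow_p_mem_ZS : x ^ p ∈ ZS S := by
  apply h.mem_ZS_of_commute hxS hxA (h.pow_mem x hxS)
  exact ((Commute.refl x).pow_left p).eq

theorem not_mem_ZS (hna : ¬ IsMulCommutative ↥S) : x ∉ ZS S := fun hx => hxA (h.ZS_le hna hx)

theorem mem_H {u : Ω} : u ∈ ZS S ⊔ zpowers x ↔ ∃ z ∈ ZS S, ∃ i : ℤ, u = z * x ^ i :=
  mem_sup_zpowers (mem_normalizer_ZS hxS)

theorem mem_B {u : Ω} : u ∈ Z2 S ⊔ zpowers x ↔ ∃ y ∈ Z2 S, ∃ i : ℤ, u = y * x ^ i :=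
  mem_sup_zpowers (mem_normalizer_Z2 hxS)

theorem H_le : ZS S ⊔ zpowers x ≤ S :=
  sup_le inf_le_left (zpowers_le.2 hxS)

theorem B_le : Z2 S ⊔ zpowers x ≤ S := by
  apply sup_le
  · intro y hy
    exact (mem_Z2.1 hy).1
  · exact zpowers_le.2 hxS

theorem H_comm : ∀ a ∈ ZS S ⊔ zpowers x, ∀ b ∈ ZS S ⊔ zpowers x, a * b = b * a := by
  intro a ha b hb
  obtain ⟨z, hz, i, rfl⟩ := (mem_H h hxS hxA).1 ha
  obtain ⟨z', hz', j, rfl⟩ := (mem_H h hxS hxA).1 hb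
  have hxi : x ^ i ∈ S := S.zpow_mem hxS i
  have hxj : x ^ j ∈ S := S.zpow_mem hxS j
  have h1 := (mem_ZS.1 hz').2 _ hxi
  have h2 := (mem_ZS.1 hz).2 _ hxj
  have h3 := (mem_ZS.1 hz).2 _ (mem_ZS.1 hz').1
  have h4 : x ^ i * x ^ j = x ^ j * x ^ i := by rw [← zpow_add, ← zpow_add, add_comm]
  calc z * x ^ i * (z' * x ^ j) = z * (x ^ i * z') * x ^ j := by group
    _ = z * (z' * x ^ i) * x ^ j := by rw [h1]
    _ = (z * z') * (x ^ i * x ^ j) := by group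
    _ = (z' * z) * (x ^ j * x ^ i) := by rw [h3, h4]
    _ = z' * (z * x ^ j) * x ^ i := by group
    _ = z' * (x ^ j * z) * x ^ i := by rw [← h2]
    _ = z' * x ^ j * (z * x ^ i) := by group

theorem H_inf_A (hna : ¬ IsMulCommutative ↥S) {u : Ω} (hu : u ∈ ZS S ⊔ zpowers x) (huA : u ∈ A) :
    u ∈ ZS S := by
  obtain ⟨z, hz, i, rfl⟩ := (mem_H h hxS hxA).1 hu
  have hzA : z ∈ A := h.ZS_le hna hz
  have hxi : x ^ i ∈ A := by
    have : x ^ i = z⁻¹ * (z * x ^ i) := by group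
    rw [this]
    exact A.mul_mem (A.inv_mem hzA) huA
  exact (ZS S).mul_mem hz (zpow_mem_ZS h hxS hxA hxi)

theorem B_inf_A (hZ2A : Z2 S ≤ A) {u : Ω} (hu : u ∈ Z2 S ⊔ zpowers x) (huA : u ∈ A) :
    u ∈ Z2 S := by
  obtain ⟨y, hy, i, rfl⟩ := (mem_B h hxS hxA).1 hu
  have hxi : x ^ i ∈ A := by
    have : x ^ i = y⁻¹ * (y * x ^ i) := by group
    rw [this]
    exact A.mul_mem (A.inv_mem (hZ2A hy)) huA
  have hz := zpow_mem_ZS h hxS hxA hxi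
  have hzZ2 : x ^ i ∈ Z2 S := by
    refine mem_Z2.2 ⟨hz.1, fun s hs => ?_⟩
    have := (mem_ZS.1 hz).2 s hs
    have e : x ^ i * s * (x ^ i)⁻¹ * s⁻¹ = 1 := by
      rw [← this]; group
    rw [e]
    exact one_mem _
  exact (Z2 S).mul_mem hy hzZ2

/-- the centre of `Z₂(S)⟨x⟩` is `Z(S)` -/
theorem B_center (hZ2A : Z2 S ≤ A) {y₀ : Ω} (hy₀ : y₀ ∈ Z2 S) (hy₀Z : y₀ ∉ ZS S) {u : Ω}
    (hu : u ∈ Z2 S ⊔ zpowers x) (hc : ∀ r ∈ Z2 S ⊔ zpowers x, r * u = u * r) : u ∈ ZS S := by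
  obtain ⟨y, hy, i, rfl⟩ := (mem_B h hxS hxA).1 hu
  have hxR : x ∈ Z2 S ⊔ zpowers x := mem_sup_right (mem_zpowers x)
  have hy₀R : y₀ ∈ Z2 S ⊔ zpowers x := mem_sup_left hy₀
  -- `y` commutes with `x`
  have h1 := hc x hxR
  have hcomm : x * x ^ i = x ^ i * x := ((Commute.refl x).zpow_right i).eq
  have hyx : y * x = x * y := by
    have e : x * y = (x * (y * x ^ i)) * (x ^ i)⁻¹ := by group
    rw [e, h1]
    calc y * x = y * (x ^ i * x) * (x ^ i)⁻¹ := by rw [← hcomm]; group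
      _ = y * x ^ i * x * (x ^ i)⁻¹ := by group
  have hyZ : y ∈ ZS S := h.mem_ZS_of_commute hxS hxA (hZ2A hy) hyx
  -- `x ^ i` commutes with `y₀`
  have h2 := hc y₀ hy₀R
  have hxiS : x ^ i ∈ S := S.zpow_mem hxS i
  have hy₀S : y₀ ∈ S := (mem_Z2.1 hy₀).1
  have h3 : y₀ * x ^ i = x ^ i * y₀ := by
    have hy' := (mem_ZS.1 hyZ).2 y₀ hy₀S
    calc y₀ * x ^ i = y⁻¹ * (y₀ * (y * x ^ i)) := by
          rw [← mul_assoc y₀, hy']; group
      _ = y⁻¹ * (y * x ^ i * y₀) := by rw [h2]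
      _ = x ^ i * y₀ := by group
  have hxiA : x ^ i ∈ A := by
    by_contra hcon
    exact hy₀Z (h.mem_ZS_of_commute hxiS hcon (hZ2A hy₀) h3)
  exact (ZS S).mul_mem hyZ (zpow_mem_ZS h hxS hxA hxiA)

/-- commutators of `Z₂(S)⟨x⟩` are central -/
theorem B_comm_mem {a b : Ω} (ha : a ∈ Z2 S ⊔ zpowers x) (hb : b ∈ Z2 S ⊔ zpowers x) :
    a * b * a⁻¹ * b⁻¹ ∈ ZS S := by
  let N : Subgroup Ω :=
    { carrier := {u | u ∈ S ∧ ∀ v ∈ Z2 S ⊔ zpowers x, u * v * u⁻¹ * v⁻¹ ∈ ZS S}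
      one_mem' := ⟨S.one_mem, fun v _ => by simp⟩
      mul_mem' := by
        rintro u u' ⟨hu, hu'⟩ ⟨hv, hv'⟩
        refine ⟨S.mul_mem hu hv, fun v hvR => ?_⟩
        have c1 := hu' v hvR
        have c2 := hv' v hvR
        have hc2 := (mem_ZS.1 c2).2 u hu
        have e : u * u' * v * (u * u')⁻¹ * v⁻¹ =
            u * (u' * v * u'⁻¹ * v⁻¹) * u⁻¹ * (u * v * u⁻¹ * v⁻¹) := by group
        rw [e, hc2, mul_inv_cancel_right]
        exact (ZS S).mul_mem c2 c1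
      inv_mem' := by
        rintro u ⟨hu, hu'⟩
        refine ⟨S.inv_mem hu, fun v hvR => ?_⟩
        have c1 := hu' v hvR
        have hc1 := (mem_ZS.1 c1).2 u⁻¹ (S.inv_mem hu)
        have e : u⁻¹ * v * u⁻¹⁻¹ * v⁻¹ = (u⁻¹ * (u * v * u⁻¹ * v⁻¹) * u⁻¹⁻¹)⁻¹ := by group
        rw [e, hc1, mul_inv_cancel_right]
        exact (ZS S).inv_mem c1 }
  have hZ2N : Z2 S ≤ N := by
    intro y hy
    obtain ⟨hyS, hyc⟩ := mem_Z2.1 hy
    exact ⟨hyS, fun v hv => hyc v (B_le h hxS hxA hv)⟩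
  have hxN : x ∈ N := by
    refine ⟨hxS, fun v hv => ?_⟩
    obtain ⟨y, hy, i, rfl⟩ := (mem_B h hxS hxA).1 hv
    have hc := (mem_Z2.1 hy).2 x hxS
    have hcomm : x * x ^ i = x ^ i * x := ((Commute.refl x).zpow_right i).eq
    have h5 : x ^ i * x⁻¹ = x⁻¹ * x ^ i := by
      calc x ^ i * x⁻¹ = x⁻¹ * (x * x ^ i) * x⁻¹ := by group
        _ = x⁻¹ * (x ^ i * x) * x⁻¹ := by rw [hcomm]
        _ = x⁻¹ * x ^ i := by group
    have h6 : x ^ i * x⁻¹ * (x ^ i)⁻¹ = x⁻¹ := by rw [h5]; group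
    have e : x * (y * x ^ i) * x⁻¹ * (y * x ^ i)⁻¹ = (y * x * y⁻¹ * x⁻¹)⁻¹ := by
      calc x * (y * x ^ i) * x⁻¹ * (y * x ^ i)⁻¹ = x * y * (x ^ i * x⁻¹ * (x ^ i)⁻¹) * y⁻¹ := by group
        _ = x * y * x⁻¹ * y⁻¹ := by rw [h6]
        _ = (y * x * y⁻¹ * x⁻¹)⁻¹ := by group
    rw [e]
    exact (ZS S).inv_mem hc
  have hRN : Z2 S ⊔ zpowers x ≤ N := sup_le hZ2N (zpowers_le.2 hxN)
  exact (hRN ha).2 b hb

end types

theorem isOfFinOrder_of_mem [Finite S] {x : Ω} (hxS : x ∈ S) : IsOfFinOrder x := by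
  rw [isOfFinOrder_iff_pow_eq_one]
  refine ⟨Nat.card S, Nat.card_pos, ?_⟩
  have h1 := pow_card_eq_one' (G := S) (x := ⟨x, hxS⟩)
  have h2 := congrArg Subtype.val h1
  rw [SubgroupClass.coe_pow] at h2
  exact h2

section card
variable [Finite S] [Fact p.Prime] (h : UAb S A p) {x : Ω} (hxS : x ∈ S) (hxA : x ∉ A)
include h hxS hxA

theorem H_card (hna : ¬ IsMulCommutative ↥S) :
    Nat.card ↥(ZS S ⊔ zpowers x) = p * Nat.card ↥(ZS S) := by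
  have hp : p.Prime := Fact.out
  have hle : ZS S ≤ ZS S ⊔ zpowers x := le_sup_left
  have hN : ZS S ⊔ zpowers x ≤ normalizer ((ZS S : Subgroup Ω) : Set Ω) :=
    fun u hu => mem_normalizer_ZS (H_le h hxS hxA hu)
  have hxN : x ∈ ZS S ⊔ zpowers x := mem_sup_right (mem_zpowers x)
  have h1 : ((ZS S).subgroupOf (ZS S ⊔ zpowers x)).index ∣ p := by
    apply index_dvd_of_gen hN p hxN (pow_p_mem_ZS h hxS hxA)
    intro n hn
    obtain ⟨z, hz, i, rfl⟩ := (mem_H h hxS hxA).1 hn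
    -- choose `k` with `x ^ k * x ^ i ∈ Z`
    obtain ⟨k, hk⟩ : ∃ k : ℕ, x ^ k * x ^ i ∈ ZS S := by
      have hfin : IsOfFinOrder x := isOfFinOrder_of_mem hxS
      have hmem : (x ^ i)⁻¹ ∈ zpowers x := inv_mem (zpow_mem (mem_zpowers x) i)
      rw [← hfin.mem_powers_iff_mem_zpowers] at hmem
      obtain ⟨k, hk⟩ := hmem
      refine ⟨k, ?_⟩
      dsimp only at hk
      rw [hk, inv_mul_cancel]
      exact one_mem _
    refine ⟨k, ?_⟩
    have hzc := (mem_ZS.1 hz).2 _ (S.pow_mem hxS k)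
    have e : x ^ k * (z * x ^ i) = z * (x ^ k * x ^ i) := by
      rw [← mul_assoc, hzc, mul_assoc]
    rw [e]
    exact (ZS S).mul_mem hz hk
  have h2 : ((ZS S).subgroupOf (ZS S ⊔ zpowers x)).index = p := by
    rcases (Nat.dvd_prime hp).1 h1 with h3 | h3
    · exfalso
      rw [index_eq_one, subgroupOf_eq_top] at h3
      exact not_mem_ZS h hxS hxA hna (h3 hxN)
    · exact h3
  haveI : Finite ↥(ZS S ⊔ zpowers x) := finite_of_le (H_le h hxS hxA)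
  have := ((ZS S).subgroupOf (ZS S ⊔ zpowers x)).index_mul_card
  rw [h2, Nat.card_congr (subgroupOfEquivOfLe hle).toEquiv] at this
  exact this.symm

theorem B_card (hZ2A : Z2 S ≤ A) :
    Nat.card ↥(Z2 S ⊔ zpowers x) = p * Nat.card ↥(Z2 S) := by
  have hp : p.Prime := Fact.out
  have hle : Z2 S ≤ Z2 S ⊔ zpowers x := le_sup_left
  have hN : Z2 S ⊔ zpowers x ≤ normalizer ((Z2 S : Subgroup Ω) : Set Ω) :=
    fun u hu => mem_normalizer_Z2 (B_le h hxS hxA hu)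
  have hxN : x ∈ Z2 S ⊔ zpowers x := mem_sup_right (mem_zpowers x)
  have hZZ2 : ZS S ≤ Z2 S := by
    intro z hz
    refine mem_Z2.2 ⟨hz.1, fun s hs => ?_⟩
    have := (mem_ZS.1 hz).2 s hs
    have e : z * s * z⁻¹ * s⁻¹ = 1 := by rw [← this]; group
    rw [e]; exact one_mem _
  have h1 : ((Z2 S).subgroupOf (Z2 S ⊔ zpowers x)).index ∣ p := by
    apply index_dvd_of_gen hN p hxN (hZZ2 (pow_p_mem_ZS h hxS hxA))
    intro n hn
    obtain ⟨y, hy, i, rfl⟩ := (mem_B h hxS hxA).1 hn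
    obtain ⟨k, hk⟩ : ∃ k : ℕ, x ^ k * x ^ i = 1 := by
      have hfin : IsOfFinOrder x := isOfFinOrder_of_mem hxS
      have hmem : (x ^ i)⁻¹ ∈ zpowers x := inv_mem (zpow_mem (mem_zpowers x) i)
      rw [← hfin.mem_powers_iff_mem_zpowers] at hmem
      obtain ⟨k, hk⟩ := hmem
      refine ⟨k, ?_⟩
      dsimp only at hk
      rw [hk, inv_mul_cancel]
    refine ⟨k, ?_⟩
    have hconj := (mem_normalizer_iff.1 (pow_mem (mem_normalizer_Z2 (S := S) hxS) k) y).1 hy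
    have e : x ^ k * (y * x ^ i) = (x ^ k * y * (x ^ k)⁻¹) * (x ^ k * x ^ i) := by group
    rw [e, hk, mul_one]
    exact hconj
  have h2 : ((Z2 S).subgroupOf (Z2 S ⊔ zpowers x)).index = p := by
    rcases (Nat.dvd_prime hp).1 h1 with h3 | h3
    · exfalso
      rw [index_eq_one, subgroupOf_eq_top] at h3
      exact hxA (hZ2A (h3 hxN))
    · exact h3
  haveI : Finite ↥(Z2 S ⊔ zpowers x) := finite_of_le (B_le h hxS hxA)
  have := ((Z2 S).subgroupOf (Z2 S ⊔ zpowers x)).index_mul_card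
  rw [h2, Nat.card_congr (subgroupOfEquivOfLe hle).toEquiv] at this
  exact this.symm

end card

end Cfsg.Agent.Lib.Helper11.OL
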