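import Mathlib
import Cfsg.Agent.Lib.Helper29.FusionAlperin
import Cfsg.Agent.Lib.Helper29.FusionInner
import Cfsg.Agent.Lib.Helper29.FusionCentric
import Cfsg.Agent.Lib.Helper29.FusionEssential

/-!
A consequence of the Alperin–Goldschmidt theorem (helper11): if no essential subgroup contains an
`F`-conjugate of `P₀`, every `F`-map on `P₀` is the restriction of an `F`-automorphism of `S`.
For S5244.
-/
set_option autoImplicit false

namespace Cfsg.Agent.Lib.Helper11.OL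

open Subgroup Cfsg Cfsg.Agent.Lib.Helper29

variable {Ω : Type*} [Group Ω] {S : Subgroup Ω}

/-- `Q` contains an `F`-conjugate of `P₀` -/
def Big (F : FusionSystem S) (P₀ Q : Subgroup Ω) : Prop :=
  ∃ R₀ : Subgroup Ω, R₀ ≤ Q ∧ F.IsConj P₀ R₀

theorem Big.map {F : FusionSystem S} {P₀ P Q : Subgroup Ω} (hb : Big F P₀ P) {φ : P →* Ω}
    (hφ : φ ∈ F.Hom P) (h : ∀ x : P, φ x ∈ Q) : Big F P₀ Q := by
  obtain ⟨R₀, hR₀P, hconj⟩ := hb
  refine ⟨(R₀.subgroupOf P).map φ, ?_, isConj_trans F hconj (isConj_map F hR₀P hφ)⟩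
  rintro _ ⟨x, -, rfl⟩
  exact h x

/-- `φ` is the restriction of an `F`-automorphism of `S` -/
def IsRestr (F : FusionSystem S) {Q : Subgroup Ω} (φ : Q →* Ω) : Prop :=
  ∃ α ∈ F.autGroup S, ∀ (x : Q) (hx : (x : Ω) ∈ S), φ x = ((α ⟨x, hx⟩ : S) : Ω)

/-- the subsystem of `F` whose maps on subgroups containing a conjugate of `P₀` are restrictions
of automorphisms of `S` -/
def restrSys (F : FusionSystem S) (P₀ : Subgroup Ω) : FusionSystem S where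
  Hom Q := {φ | φ ∈ F.Hom Q ∧ (Big F P₀ Q → IsRestr F φ)}
  le_of_mem := fun h => F.le_of_mem h.1
  injective_of_mem := fun h => F.injective_of_mem h.1
  conj_mem := by
    intro P g hP hg
    refine ⟨F.conj_mem hP hg, fun _ => ?_⟩
    refine ⟨MulAut.conj ⟨g, hg⟩, inn_le_autGroup F le_rfl ⟨⟨g, hg⟩, rfl⟩, fun x hx => rfl⟩
  comp_mem := by
    intro P Q φ ψ hφ hψ h
    refine ⟨F.comp_mem hφ.1 hψ.1 h, fun hb => ?_⟩
    obtain ⟨α, hα, hαφ⟩ := hφ.2 hb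
    have hbQ : Big F P₀ Q := hb.map hφ.1 h
    obtain ⟨β, hβ, hβψ⟩ := hψ.2 hbQ
    refine ⟨β * α, mul_mem hβ hα, fun x hx => ?_⟩
    show ψ ⟨φ x, h x⟩ = β (α ⟨x, hx⟩)
    have h1 := hβψ ⟨φ x, h x⟩ ((F.le_of_mem hφ.1).2 x)
    rw [h1]
    have e : (⟨φ x, (F.le_of_mem hφ.1).2 x⟩ : S) = α ⟨x, hx⟩ := Subtype.ext (hαφ x hx)
    rw [e]
  inv_mem := by
    intro P φ hφ
    obtain ⟨ψ, hψ, hinv⟩ := F.inv_mem hφ.1
    refine ⟨ψ, ⟨hψ, fun hb => ?_⟩, hinv⟩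
    have hPS : P ≤ S := (F.le_of_mem hφ.1).1
    have hbP : Big F P₀ P := by
      apply hb.map hψ
      rintro ⟨_, x, rfl⟩
      rw [hinv x]
      exact x.2
    obtain ⟨α, hα, hαφ⟩ := hφ.2 hbP
    refine ⟨α⁻¹, inv_mem hα, ?_⟩
    rintro ⟨_, x, rfl⟩ hy
    rw [hinv x]
    have e : (⟨φ x, hy⟩ : S) = α ⟨x, hPS x.2⟩ := Subtype.ext (hαφ x (hPS x.2))
    show (x : Ω) = ((α⁻¹ ⟨φ x, hy⟩ : S) : Ω)
    rw [e, MulAut.inv_apply_self]

theorem exists_restr [Finite S] (p : ℕ) [Fact p.Prime] (hS : IsPGroup p S) (F : FusionSystem S)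
    (hF : F.IsSaturated p) (P₀ : Subgroup Ω) (hP₀ : P₀ ≤ S)
    (hno : ∀ R, F.IsEssential p R → ¬ Big F P₀ R) {φ : P₀ →* Ω} (hφ : φ ∈ F.Hom P₀) :
    IsRestr F φ := by
  have hle : F ≤ restrSys F P₀ := by
    apply alperin p hS F hF (restrSys F P₀)
    intro P hP
    unfold FusionSystem.autGroup
    apply Subgroup.closure_mono
    intro α hα
    refine ⟨hα, fun hb => ?_⟩
    rcases hP with hP | hP
    · subst hP
      exact ⟨α, Subgroup.subset_closure hα, fun x hx => rfl⟩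
    · exact absurd hb (hno P hP)
  exact (hle P₀ hφ).2 ⟨P₀, le_rfl, isConj_refl F hP₀⟩

end Cfsg.Agent.Lib.Helper11.OL
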