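import Mathlib
import Cfsg.Agent.Lib.Helper29.ExtendableAut
import Cfsg.Agent.Lib.Helper29.FusionChain2
import Cfsg.Agent.S5077

/-!
Extending an `F`-automorphism of `R` that normalizes `Aut_S(R)` to `N_S(R)` when `|N_S(R) : R| = p`
(helper11), for S5244.
-/
set_option autoImplicit false

namespace Cfsg.Agent.Lib.Helper11.OL

open Subgroup Cfsg Cfsg.Agent.Lib.Helper29

variable {Ω : Type*} [Group Ω] {S : Subgroup Ω} {p : ℕ} [Finite S] [Fact p.Prime]

theorem exists_ext_normalizer (hS : IsPGroup p S) (F : FusionSystem S) (hF : F.IsSaturated p)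
    {R : Subgroup Ω} (hRS : R ≤ S) (hRfn : F.IsFullyNormalized R)
    (hidx : (R.subgroupOf (S ⊓ normalizer (R : Set Ω))).index = p)
    {g b : MulAut ↥R} (hg : g ∈ F.autGroup R) (hb : b ∈ autInducedBy S R) (hbI : b ∉ Inn ↥R)
    (hc : g * b * g⁻¹ ∈ autInducedBy S R) :
    ∃ g₁ ∈ F.autGroup (FusionSystem.normalizerIn S R), ∀ (x : Ω) (hx : x ∈ R)
      (hxN : x ∈ FusionSystem.normalizerIn S R),
      ((g₁ ⟨x, hxN⟩ : ↥(FusionSystem.normalizerIn S R)) : Ω) = ((g ⟨x, hx⟩ : R) : Ω) := by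
  have hp : p.Prime := Fact.out
  have hsat := (Cfsg.Agent.S5077.result p hS F).1 hF
  have hrec : F.IsReceptive R := hsat.2 R (hsat.1 R hRfn).1
  obtain ⟨Q, hRQ, φ, hφ, hφg⟩ := mem_extGen_of_conj F hrec hg hb hbI hc
  have hQS : Q ≤ S := (F.le_of_mem hφ).1
  haveI : Finite Q := finite_of_le hQS
  obtain ⟨n, hn, hnR⟩ := exists_mem_normalizerIn_not_mem (S := Q) (hS.to_le hQS) hRQ
  -- `N_S(R) ≤ Q`
  have hRN : R ≤ FusionSystem.normalizerIn S R := le_normalizerIn hRS
  have hNQ : FusionSystem.normalizerIn S R ≤ Q := by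
    set R' : Subgroup Ω := Q ⊓ FusionSystem.normalizerIn S R with hR'
    have hRR' : R ≤ R' := le_inf hRQ.le hRN
    have hR'N : R' ≤ FusionSystem.normalizerIn S R := inf_le_right
    have h1 := relIndex_mul_relIndex R R' (FusionSystem.normalizerIn S R) hRR' hR'N
    have h2 : R.relIndex (FusionSystem.normalizerIn S R) = p := hidx
    rw [h2] at h1
    have h3 : R.relIndex R' ≠ 1 := by
      intro hcon
      rw [relIndex_eq_one] at hcon
      apply hnR
      exact hcon (Subgroup.mem_inf.2 ⟨hn.1, hQS hn.1, hn.2⟩)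
    have h4 : R.relIndex R' = p := by
      rcases (Nat.dvd_prime hp).1 (Dvd.intro _ h1) with h5 | h5
      · exact absurd h5 h3
      · exact h5
    rw [h4] at h1
    have h5 : R'.relIndex (FusionSystem.normalizerIn S R) = 1 := by
      have : p * R'.relIndex (FusionSystem.normalizerIn S R) = p * 1 := by rw [h1, mul_one]
      exact Nat.eq_of_mul_eq_mul_left hp.pos this
    rw [relIndex_eq_one] at h5
    exact h5.trans inf_le_left
  have hψ : φ.comp (inclusion hNQ) ∈ F.Hom (FusionSystem.normalizerIn S R) :=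
    restrict_mem F hNQ hφ
  have hT : R = (R.subgroupOf Q).map φ := by
    ext y
    constructor
    · intro hy
      refine ⟨inclusion hRQ.le (g⁻¹ ⟨y, hy⟩), ?_, ?_⟩
      · rw [SetLike.mem_coe, mem_subgroupOf]
        exact (g⁻¹ ⟨y, hy⟩).2
      · rw [hφg, MulAut.apply_inv_self]
    · rintro ⟨x, hx, rfl⟩
      rw [SetLike.mem_coe, mem_subgroupOf] at hx
      have : φ x = g ⟨x, hx⟩ := by
        rw [← hφg]
        rfl
      rw [this]
      exact (g ⟨x, hx⟩).2
  have hval : ∀ m : ↥(FusionSystem.normalizerIn S R),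
      (φ.comp (inclusion hNQ)) m ∈ FusionSystem.normalizerIn S R := by
    intro m
    have := hom_mem_normalizerIn F hφ hT (n := inclusion hNQ m) m.2.2
    exact this
  haveI : Finite ↥(FusionSystem.normalizerIn S R) := finite_normalizerIn R
  obtain ⟨g₁, hg₁, hg₁v⟩ := exists_aut_of_hom F hψ hval
  refine ⟨g₁, hg₁, fun x hx hxN => ?_⟩
  rw [hg₁v]
  show φ (inclusion hNQ ⟨x, hxN⟩) = _
  rw [← hφg]
  rfl

end Cfsg.Agent.Lib.Helper11.OL
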