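import Mathlib
import Cfsg.Agent.Lib.Helper11.UAf

/-!
`Z₂(S) ≤ A` and `|Z₂(S) : Z(S)| = p` when some essential subgroup is different from `A`
(helper11), for S5257.
-/
set_option autoImplicit false

namespace Cfsg.Agent.Lib.Helper11.UAc

open Subgroup Cfsg Cfsg.Agent.Lib.Helper29 Cfsg.Agent.Lib.Helper11.UAa Cfsg.Agent.Lib.Helper11.UAb
  Cfsg.Agent.Lib.Helper11.ESe

variable {Ω : Type*} [Group Ω] {S : Subgroup Ω} {p : ℕ}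

/-- if `Z₂(S)` is not inside `A` then `A ≤ Z₂(S)` -/
theorem A_le_Z2_of {A : Subgroup Ω} (h : UAb S A p) {y : Ω} (hy : y ∈ Z2 S) (hyA : y ∉ A) :
    A ≤ Z2 S := by
  intro a ha
  have hy' := mem_Z2.1 hy
  rw [mem_Z2]
  refine ⟨h.le ha, fun s hs => ?_⟩
  obtain ⟨k, a', ha', rfl⟩ := h.gen y hy'.1 hyA s hs
  have hyk : y ^ k ∈ Z2 S := (Z2 S).pow_mem hy k
  have hc := (mem_Z2.1 hyk).2 a (h.le ha)
  have hc' : a * y ^ k * a⁻¹ * (y ^ k)⁻¹ ∈ ZS S := by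
    have : a * y ^ k * a⁻¹ * (y ^ k)⁻¹ = (y ^ k * a * (y ^ k)⁻¹ * a⁻¹)⁻¹ := by group
    rw [this]
    exact (ZS S).inv_mem hc
  have h3 : a * (a' * y ^ k) * a⁻¹ * (a' * y ^ k)⁻¹ = a * y ^ k * a⁻¹ * (y ^ k)⁻¹ := by
    calc a * (a' * y ^ k) * a⁻¹ * (a' * y ^ k)⁻¹
        = (a * a') * y ^ k * a⁻¹ * (y ^ k)⁻¹ * a'⁻¹ := by group
      _ = a' * (a * y ^ k * a⁻¹ * (y ^ k)⁻¹) * a'⁻¹ := by rw [h.comm a ha a' ha']; group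
      _ = a * y ^ k * a⁻¹ * (y ^ k)⁻¹ := by
          rw [(mem_ZS.1 hc').2 a' (h.le ha'), mul_inv_cancel_right]
  rw [h3]
  exact hc'

section
variable [Finite S] [Fact p.Prime]

/-- an essential subgroup inside `A` is `A` -/
theorem eq_of_le (F : FusionSystem S) {A : Subgroup Ω} (h : UAb S A p) {P : Subgroup Ω}
    (hP : F.IsEssential p P) (hPA : P ≤ A) : P = A := by
  apply le_antisymm hPA
  refine le_trans ?_ (cen_le F hP)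
  intro a ha
  refine Subgroup.mem_inf.2 ⟨h.le ha, ?_⟩
  rw [Subgroup.mem_centralizer_iff]
  intro y hy
  exact h.comm y (hPA hy) a ha

/-- the case `P ∩ A ≰ Z(S)` -/
theorem case2 (hS : IsPGroup p S) (F : FusionSystem S) (hF : F.IsSaturated p)
    {A : Subgroup Ω} (h : UAb S A p) {P : Subgroup Ω} (hP : F.IsEssential p P)
    {γ : MulAut ↥P} (hγ : γ ∈ F.autGroup P) {b₁ : P} (hb₁ : (b₁ : Ω) ∈ A)
    (hx : ((γ b₁ : P) : Ω) ∉ A) {b₀ : Ω} (hb₀A : b₀ ∈ A) (hb₀P : b₀ ∈ P) (hb₀Z : b₀ ∉ ZS S) :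
    (∀ a ∈ Z2 S, a ∈ A ∧ a ∈ P) ∧ ∀ b ∈ A, b ∈ P → b ∈ Z2 S := by
  have hPS : P ≤ S := hP.1.1
  have hne : P ≠ S := ne_of_isEssential hS F hF hP
  obtain ⟨x, hxdef⟩ : ∃ x : P, x = γ b₁ := ⟨_, rfl⟩
  rw [← hxdef] at hx
  have hxS : (x : Ω) ∈ S := hPS x.2
  have hZA : ∀ z : P, (z : Ω) ∈ ZS S → ((γ⁻¹ z : P) : Ω) ∈ A := by
    intro z hz
    by_contra hcon
    apply hb₀Z
    apply h.mem_ZS_of_commute (hPS (γ⁻¹ z : P).2) hcon hb₀A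
    have h1 : γ ⟨b₀, hb₀P⟩ * z = z * γ ⟨b₀, hb₀P⟩ :=
      Subtype.ext ((mem_ZS.1 hz).2 _ (hPS (γ ⟨b₀, hb₀P⟩ : P).2))
    have h2 := congrArg (γ⁻¹ : MulAut P) h1
    rw [map_mul, map_mul, MulAut.inv_apply_self] at h2
    exact congrArg Subtype.val h2
  have hZ2P : ∀ a ∈ Z2 S, a ∈ A → a ∈ P := by
    intro a ha2 ha
    have haN : a ∈ normalizer (P : Set Ω) := Z2_le_normalizer F hP ha2
    have hdZ : DD (x : Ω) a ∈ ZS S := (mem_Z2_iff_DD h hxS hx ha).1 ha2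
    exact key' hS F hF h hP hγ hb₁ (hxdef ▸ hx) ha haN ⟨DD (x : Ω) a, ZS_le_P F hP hdZ⟩
      (by rw [← hxdef]) (hZA _ hdZ)
  have hPZ2 : ∀ b ∈ A, b ∈ P → b ∈ Z2 S := by
    intro b hb hbP
    rw [mem_Z2_iff_DD h hxS hx hb]
    obtain ⟨z, hzdef⟩ : ∃ z : P, z = x⁻¹ * ⟨b, hbP⟩ * x * ⟨b, hbP⟩⁻¹ := ⟨_, rfl⟩
    have hzc : (z : Ω) = DD (x : Ω) b := by rw [hzdef]; rfl
    have hzA : (z : Ω) ∈ A := by rw [hzc]; exact DD_mem h hxS hb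
    have hzA' : ((γ⁻¹ z : P) : Ω) ∈ A := by
      have e : γ⁻¹ (x⁻¹ * ⟨b, hbP⟩ * x * ⟨b, hbP⟩⁻¹) =
          (γ⁻¹ x)⁻¹ * γ⁻¹ ⟨b, hbP⟩ * ((γ⁻¹ x)⁻¹)⁻¹ * (γ⁻¹ ⟨b, hbP⟩)⁻¹ := by
        rw [map_mul, map_mul, map_mul, map_inv, map_inv, inv_inv]
      rw [hzdef, e]
      exact h.comm_mem _ (hPS (γ⁻¹ x : P)⁻¹.2) _ (hPS (γ⁻¹ ⟨b, hbP⟩ : P).2)
    have := mem_ZS_of_moved h hPS γ hb₁ (hxdef ▸ hx) (b := γ⁻¹ z) hzA' (by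
      rw [MulAut.apply_inv_self]; exact hzA)
    rw [MulAut.apply_inv_self, hzc] at this
    exact this
  have hZ2A : Z2 S ≤ A := by
    intro y hy
    by_contra hyA
    apply hne
    apply h.eq_top_of_le hPS _ x.2 hx
    intro a ha
    exact hZ2P a (A_le_Z2_of h hy hyA ha) ha
  exact ⟨fun a ha => ⟨hZ2A ha, hZ2P a ha (hZ2A ha)⟩, hPZ2⟩

end

end Cfsg.Agent.Lib.Helper11.UAc
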