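import Mathlib
import Cfsg.Agent.Lib.Helper11.UAg

/-!
`Z₂(S) ≤ A` and `|Z₂(S) : Z(S)| = p` when some essential subgroup is different from `A`
(helper11), for S5257.
-/
set_option autoImplicit false

namespace Cfsg.Agent.Lib.Helper11.UAc

open Subgroup Cfsg Cfsg.Agent.Lib.Helper29 Cfsg.Agent.Lib.Helper11.UAa Cfsg.Agent.Lib.Helper11.UAb
  Cfsg.Agent.Lib.Helper11.ESe

variable {Ω : Type*} [Group Ω] {S : Subgroup Ω} {p : ℕ}

section
variable [Finite S] [Fact p.Prime]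

theorem Z2_facts (hS : IsPGroup p S) (F : FusionSystem S) (hF : F.IsSaturated p)
    {A : Subgroup Ω} (h : UAb S A p)
    (huniq : ∀ B : Subgroup Ω, B ≤ S → IsMulCommutative ↥B → (B.subgroupOf S).index = p → B = A)
    {P : Subgroup Ω} (hP : F.IsEssential p P) (hPA : P ≠ A) :
    Z2 S ≤ A ∧ ((ZS S).subgroupOf (Z2 S)).index = p := by
  have hp : p.Prime := Fact.out
  have hPS : P ≤ S := hP.1.1
  have hPnle : ¬ P ≤ A := fun hle => hPA (eq_of_le F h hP hle)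
  obtain ⟨x₀, hx₀P, hx₀A⟩ := SetLike.not_le_iff_exists.1 hPnle
  obtain ⟨γ, hγ, b₁, hb₁, hx⟩ := exists_moved hS F hF h hP hx₀P hx₀A
  obtain ⟨x, hxdef⟩ : ∃ x : P, x = γ b₁ := ⟨_, rfl⟩
  have hx' : (x : Ω) ∉ A := by rw [hxdef]; exact hx
  have hxS : (x : Ω) ∈ S := hPS x.2
  have hdec : ∀ y ∈ P, ∃ k : ℕ, ∃ b ∈ A, b ∈ P ∧ y = b * (x : Ω) ^ k := by
    intro y hy
    obtain ⟨k, b, hb, hk⟩ := h.gen _ hxS hx' y (hPS hy)
    refine ⟨k, b, hb, ?_, hk⟩
    have : b = y * ((x : Ω) ^ k)⁻¹ := by rw [hk]; group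
    rw [this]
    exact P.mul_mem hy (P.inv_mem (P.pow_mem x.2 k))
  have hZN : Z2 S ≤ normalizer ((ZS S : Subgroup Ω) : Set Ω) := by
    intro y hy
    have hyS := (mem_Z2.1 hy).1
    rw [mem_normalizer_iff]
    intro z
    constructor
    · intro hz
      rw [(mem_ZS.1 hz).2 y hyS, mul_inv_cancel_right]
      exact hz
    · intro hz
      have h1 := (mem_ZS.1 hz).2 y⁻¹ (S.inv_mem hyS)
      have h2 : z = y⁻¹ * (y * z * y⁻¹) * y := by group
      rw [h2, h1, mul_assoc, inv_mul_cancel, mul_one]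
      exact hz
  by_cases hZ : ∀ b ∈ A, b ∈ P → b ∈ ZS S
  · -- `P = Z(S)⟨x⟩`
    have hZ2A : Z2 S ≤ A := by
      intro y hy
      by_contra hyA
      have hAZ2 := A_le_Z2_of h hy hyA
      have hSN : S ≤ normalizer (P : Set Ω) := by
        intro s hs
        obtain ⟨k, a, ha, rfl⟩ := h.gen _ hxS hx' s hs
        exact mul_mem (Z2_le_normalizer F hP (hAZ2 ha)) (le_normalizer (P.pow_mem x.2 k))
      have hN : S ⊓ normalizer (P : Set Ω) = S := inf_eq_left.2 hSN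
      have hidx := index_eq hS F hF h hP hγ hb₁ hx
      rw [hN] at hidx
      have hcomm : IsMulCommutative ↥P := by
        refine ⟨⟨fun u v => Subtype.ext ?_⟩⟩
        obtain ⟨k, b, hb, hbP, hu⟩ := hdec u u.2
        obtain ⟨j, b', hb', hbP', hv⟩ := hdec v v.2
        have hbZ := mem_ZS.1 (hZ b hb hbP)
        have hbZ' := mem_ZS.1 (hZ b' hb' hbP')
        show (u : Ω) * v = v * u
        rw [hu, hv]
        have e1 : (x : Ω) ^ k * b' = b' * (x : Ω) ^ k := hbZ'.2 _ (S.pow_mem hxS k)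
        have e2 : (x : Ω) ^ j * b = b * (x : Ω) ^ j := hbZ.2 _ (S.pow_mem hxS j)
        calc b * (x : Ω) ^ k * (b' * (x : Ω) ^ j) = b * ((x : Ω) ^ k * b') * (x : Ω) ^ j := by group
          _ = b * (b' * (x : Ω) ^ k) * (x : Ω) ^ j := by rw [e1]
          _ = (b * b') * ((x : Ω) ^ k * (x : Ω) ^ j) := by group
          _ = (b' * b) * ((x : Ω) ^ j * (x : Ω) ^ k) := by
              rw [hbZ'.2 b hbZ.1, ← pow_add, ← pow_add, add_comm]
          _ = b' * (b * (x : Ω) ^ j) * (x : Ω) ^ k := by group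
          _ = b' * ((x : Ω) ^ j * b) * (x : Ω) ^ k := by rw [e2]
          _ = b' * (x : Ω) ^ j * (b * (x : Ω) ^ k) := by group
      exact hPA (huniq P hPS hcomm hidx)
    refine ⟨hZ2A, ?_⟩
    obtain ⟨a₀, ha₀A, ha₀N, ha₀P, ha₀p, hgen⟩ := exists_gen_NA hS F hF h hP hγ hb₁ hx
    have ha₀2 : a₀ ∈ Z2 S := by
      rw [mem_Z2_iff_DD h hxS hx' ha₀A]
      exact hZ _ (DD_mem h hxS ha₀A) (DD_mem_P x.2 ha₀N)
    have hdvd : ((ZS S).subgroupOf (Z2 S)).index ∣ p := by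
      apply index_dvd_of_gen hZN p ha₀2 (hZ _ (A.pow_mem ha₀A p) ha₀p)
      intro n hn
      obtain ⟨k, hk⟩ := hgen n (hZ2A hn) (Z2_le_normalizer F hP hn)
      refine ⟨k, ?_⟩
      rw [h.comm _ (A.pow_mem ha₀A k) _ (hZ2A hn)]
      exact hZ _ (A.mul_mem (hZ2A hn) (A.pow_mem ha₀A k)) hk
    rcases (Nat.dvd_prime hp).1 hdvd with h1 | h1
    · exfalso
      rw [index_eq_one, subgroupOf_eq_top] at h1
      exact ha₀P (ZS_le_P F hP (h1 ha₀2))
    · exact h1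
  · push Not at hZ
    obtain ⟨b₀, hb₀A, hb₀P, hb₀Z⟩ := hZ
    obtain ⟨h1, h2⟩ := case2 hS F hF h hP hγ hb₁ hx hb₀A hb₀P hb₀Z
    have hZ2A : Z2 S ≤ A := fun a ha => (h1 a ha).1
    refine ⟨hZ2A, ?_⟩
    have hb₀2 : b₀ ∈ Z2 S := h2 b₀ hb₀A hb₀P
    obtain ⟨x'', hx''⟩ : ∃ x'' : P, x'' = γ⁻¹ ⟨b₀, hb₀P⟩ := ⟨_, rfl⟩
    -- an element `c` of `P ∩ A` with `γ⁻¹ c ∈ A` is central
    have hcen : ∀ c : P, (c : Ω) ∈ A → ((γ⁻¹ c : P) : Ω) ∈ A → (c : Ω) ∈ ZS S := by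
      intro c hc hc'
      have := mem_ZS_of_moved h hPS γ hb₁ hx (b := γ⁻¹ c) hc' (by
        rw [MulAut.apply_inv_self]; exact hc)
      rwa [MulAut.apply_inv_self] at this
    have hx''A : (x'' : Ω) ∉ A := by
      intro hcon
      apply hb₀Z
      exact hcen ⟨b₀, hb₀P⟩ hb₀A (hx'' ▸ hcon)
    have hx''S : (x'' : Ω) ∈ S := hPS x''.2
    have hdvd : ((ZS S).subgroupOf (Z2 S)).index ∣ p := by
      apply index_dvd_of_gen hZN p hb₀2
      · have := hcen (⟨b₀, hb₀P⟩ ^ p) (A.pow_mem hb₀A p) (by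
          rw [map_pow, ← hx'', SubgroupClass.coe_pow]
          exact h.pow_mem _ hx''S)
        exact this
      · intro n hn
        obtain ⟨hnA, hnP⟩ := h1 n hn
        obtain ⟨k, hk⟩ := h.gen' hx''S hx''A (hPS (γ⁻¹ ⟨n, hnP⟩ : P).2)
        refine ⟨k, ?_⟩
        rw [h.comm _ (A.pow_mem hb₀A k) _ hnA]
        have := hcen (⟨n, hnP⟩ * ⟨b₀, hb₀P⟩ ^ k) (A.mul_mem hnA (A.pow_mem hb₀A k)) (by
          rw [map_mul, map_pow, ← hx'', Subgroup.coe_mul, SubgroupClass.coe_pow]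
          exact hk)
        exact this
    rcases (Nat.dvd_prime hp).1 hdvd with h3 | h3
    · exfalso
      rw [index_eq_one, subgroupOf_eq_top] at h3
      exact hb₀Z (h3 hb₀2)
    · exact h3

end

end Cfsg.Agent.Lib.Helper11.UAc
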