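import Mathlib
import Cfsg.Agent.Lib.Helper11.OLa
import Cfsg.Agent.Lib.Helper11.UAh
import Cfsg.Agent.Lib.Helper11.ESj

/-!
The standing context for S5244 (helper11) and the existence of an essential subgroup `Z(S)⟨x⟩`.
-/
set_option autoImplicit false

namespace Cfsg.Agent.Lib.Helper11.OL

open Subgroup Cfsg Cfsg.Agent.Lib.Helper29 Cfsg.Agent.Lib.Helper11.UAa Cfsg.Agent.Lib.Helper11.UAb
  Cfsg.Agent.Lib.Helper11.ESe Cfsg.Agent.Lib.Helper11.UAc Cfsg.Agent.Lib.Helper11.XSb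
open scoped commutatorElement

variable {Ω : Type*} [Group Ω] {S A : Subgroup Ω} {p : ℕ}

/-- `Z(S) ∩ S'` -/
abbrev Z0 (S : Subgroup Ω) : Subgroup Ω := ZS S ⊓ (_root_.commutator ↥S).map S.subtype

theorem comm_mem_S' {g h : Ω} (hg : g ∈ S) (hh : h ∈ S) :
    g * h * g⁻¹ * h⁻¹ ∈ (_root_.commutator ↥S).map S.subtype := by
  refine ⟨⁅(⟨g, hg⟩ : S), ⟨h, hh⟩⁆, commutator_mem_commutator (mem_top _) (mem_top _), ?_⟩
  rw [commutatorElement_def]
  rfl

theorem gen_of_card_prime [Fact p.Prime] {K : Subgroup Ω} (hK : Nat.card K = p) :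
    ∀ w ∈ K, w ≠ 1 → ∀ w' ∈ K, ∃ k : ℤ, w' = w ^ k := by
  intro w hw hw1 w' hw'
  have hw1' : (⟨w, hw⟩ : K) ≠ 1 := fun hcon => hw1 (congrArg Subtype.val hcon)
  have hmem : (⟨w', hw'⟩ : K) ∈ zpowers (⟨w, hw⟩ : K) := mem_zpowers_of_prime_card hK hw1'
  obtain ⟨k, hk⟩ := hmem
  refine ⟨k, ?_⟩
  have := congrArg Subtype.val hk
  simpa using this.symm

theorem ZS_le_Z2 : ZS S ≤ Z2 S := by
  intro z hz
  refine mem_Z2.2 ⟨hz.1, fun s hs => ?_⟩
  have := (mem_ZS.1 hz).2 s hs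
  have e : z * s * z⁻¹ * s⁻¹ = 1 := by rw [← this]; group
  rw [e]; exact one_mem _

/-- automorphisms of `S` preserve `S'` -/
theorem char_S' (γ : MulAut ↥S) {x : S} (hx : (x : Ω) ∈ (_root_.commutator ↥S).map S.subtype) :
    ((γ x : S) : Ω) ∈ (_root_.commutator ↥S).map S.subtype := by
  obtain ⟨y, hy, hyx⟩ := hx
  have hxy : y = x := Subtype.ext hyx
  rw [← hxy]
  refine ⟨γ y, ?_, rfl⟩
  have h1 := (Subgroup.characteristic_iff_map_eq.1
    (inferInstance : (_root_.commutator ↥S).Characteristic)) γ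
  rw [SetLike.mem_coe, ← h1]
  exact ⟨y, hy, rfl⟩

section
variable [Finite S] [Fact p.Prime]

/-- the possible essential subgroups -/
theorem classify (hS : IsPGroup p S) (F : FusionSystem S) (hF : F.IsSaturated p) (h : UAb S A p)
    {P : Subgroup Ω} (hP : F.IsEssential p P) (hPA : P ≠ A) :
    ((∃ x ∈ S, x ∉ A ∧ P = ZS S ⊔ zpowers x) ∨ (Z2 S ≤ A ∧ ∃ x ∈ S, x ∉ A ∧ P = Z2 S ⊔ zpowers x)) ∧
      (P.subgroupOf (S ⊓ normalizer (P : Set Ω))).index = p := by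
  have hPS : P ≤ S := hP.1.1
  have hPnle : ¬ P ≤ A := fun hle => hPA (eq_of_le F h hP hle)
  obtain ⟨x, hxP, hxA⟩ := SetLike.not_le_iff_exists.1 hPnle
  obtain ⟨γ, hγ, b₁, hb₁, hγb₁⟩ := exists_moved hS F hF h hP hxP hxA
  refine ⟨?_, index_eq hS F hF h hP hγ hb₁ hγb₁⟩
  rcases struct hS F hF h hP hγ hb₁ hγb₁ with h1 | ⟨h1, h2⟩
  · exact Or.inl ⟨_, hPS (γ b₁).2, hγb₁, h1⟩
  · exact Or.inr ⟨h1, _, hPS (γ b₁).2, hγb₁, h2⟩

end

/-- the standing context -/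
structure OC (S A : Subgroup Ω) (p : ℕ) : Prop where
  h : UAb S A p
  hna : ¬ IsMulCommutative ↥S
  Z2A : Z2 S ≤ A
  idxZ : ((ZS S).subgroupOf (Z2 S)).index = p
  cardZ0 : Nat.card ↥(Z0 S) = p
  big : ¬ A ≤ Z2 S

theorem OC.exists_y0 [Fact p.Prime] (c : OC S A p) : ∃ y₀ ∈ Z2 S, y₀ ∉ ZS S := by
  have hp : p.Prime := Fact.out
  by_contra hcon
  push Not at hcon
  have h1 : (ZS S).subgroupOf (Z2 S) = ⊤ := by
    rw [subgroupOf_eq_top]
    exact hcon
  have h2 := c.idxZ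
  rw [h1, index_top] at h2
  exact hp.one_lt.ne h2

theorem OC.ZA (c : OC S A p) : ZS S ≤ A := c.h.ZS_le c.hna

theorem OC.Z0_ne_bot [Fact p.Prime] (c : OC S A p) : Z0 S ≠ ⊥ := by
  have hp : p.Prime := Fact.out
  intro hcon
  have := c.cardZ0
  rw [hcon, card_bot] at this
  exact hp.one_lt.ne this

section
variable [Finite S] [Fact p.Prime]

theorem mk_OC (hS : IsPGroup p S) (F : FusionSystem S) (hF : F.IsSaturated p)
    (hna : ¬ IsMulCommutative ↥S)
    (hA : A ≤ S ∧ IsMulCommutative ↥A ∧ (A.subgroupOf S).index = p)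
    (huniq : ∀ B : Subgroup Ω, B ≤ S → IsMulCommutative ↥B → (B.subgroupOf S).index = p → B = A)
    {P : Subgroup Ω} (hP : F.IsEssential p P) (hPA : P ≠ A) : OC S A p := by
  have h : UAb S A p := uab_of_index hS hA.1 hA.2.1 hA.2.2
  have hPS : P ≤ S := hP.1.1
  obtain ⟨hZ2A, hidx⟩ := Z2_facts hS F hF h huniq hP hPA
  have hPnle : ¬ P ≤ A := fun hle => hPA (eq_of_le F h hP hle)
  obtain ⟨x, hxP, hxA⟩ := SetLike.not_le_iff_exists.1 hPnle
  have hxS : x ∈ S := hPS hxP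
  obtain ⟨h2, -, -⟩ := main5257 h hna hA.2.2 hxS hxA hZ2A hidx
  refine ⟨h, hna, hZ2A, hidx, h2, ?_⟩
  intro hle
  have hAeq : A = Z2 S := le_antisymm hle hZ2A
  -- `Z(S)⟨x⟩` is another abelian subgroup of index `p`
  have hB : ZS S ⊔ zpowers x = A := by
    apply huniq _ (H_le h hxS hxA)
    · exact ⟨⟨fun a b => Subtype.ext (H_comm h hxS hxA a a.2 b b.2)⟩⟩
    · have hc1 := H_card h hxS hxA hna
      have hc2 : Nat.card ↥(Z2 S) = p * Nat.card ↥(ZS S) := by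
        have := ((ZS S).subgroupOf (Z2 S)).index_mul_card
        rw [hidx, Nat.card_congr (subgroupOfEquivOfLe (ZS_le_Z2 (S := S))).toEquiv] at this
        exact this.symm
      have hc3 : Nat.card S = p * Nat.card A := by
        have := (A.subgroupOf S).index_mul_card
        rw [hA.2.2, Nat.card_congr (subgroupOfEquivOfLe hA.1).toEquiv] at this
        exact this.symm
      have hle' : ZS S ⊔ zpowers x ≤ S := H_le h hxS hxA
      have hc4 := ((ZS S ⊔ zpowers x).subgroupOf S).index_mul_card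
      rw [Nat.card_congr (subgroupOfEquivOfLe hle').toEquiv, hc1, hc3, hAeq, hc2] at hc4
      haveI : Finite ↥(ZS S) := finite_of_le inf_le_left
      have hpos : 0 < p * Nat.card ↥(ZS S) := by
        have hp : p.Prime := Fact.out
        exact Nat.mul_pos hp.pos Nat.card_pos
      exact Nat.eq_of_mul_eq_mul_right hpos hc4
  apply hxA
  rw [← hB]
  exact mem_sup_right (mem_zpowers x)

/-- Step A: some `Z(S)⟨x⟩` is essential -/
theorem OC.exists_H_essential (c : OC S A p) (hS : IsPGroup p S) (F : FusionSystem S)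
    (hF : F.IsSaturated p) (hcore : F.core = ⊥) (hAe : ¬ F.IsEssential p A) :
    ∃ x ∈ S, x ∉ A ∧ F.IsEssential p (ZS S ⊔ zpowers x) := by
  by_contra hcon
  push Not at hcon
  apply c.Z0_ne_bot
  apply eq_bot_of_isNormal F hcore
  have hZ0S : Z0 S ≤ S := inf_le_left.trans inf_le_left
  apply isNormal_of_invariant hS F hF (Z0 S) hZ0S
  · intro P hP z hz
    exact ZS_le_P F hP hz.1
  · intro P hP α hα x hx
    rcases hP with hP | hP
    · subst hP
      exact Subgroup.mem_inf.2 ⟨char_Zc α hx.1, char_S' α hx.2⟩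
    · have hPA : P ≠ A := fun h => hAe (h ▸ hP)
      obtain ⟨hcl, -⟩ := classify hS F hF c.h hP hPA
      rcases hcl with ⟨x₁, hx₁S, hx₁A, rfl⟩ | ⟨-, x₁, hx₁S, hx₁A, rfl⟩
      · exact absurd hP (hcon x₁ hx₁S hx₁A)
      · obtain ⟨y₀, hy₀, hy₀Z⟩ := c.exists_y0
        have hRS : Z2 S ⊔ zpowers x₁ ≤ S := B_le c.h hx₁S hx₁A
        have cb : CB (Z2 S ⊔ zpowers x₁) (Z0 S) p := by
          refine ⟨c.cardZ0, ?_, ?_, gen_of_card_prime c.cardZ0⟩
          · intro z hz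
            refine mem_Zc.2 ⟨mem_sup_left (ZS_le_Z2 hz.1), fun r hr => (mem_ZS.1 hz.1).2 r (hRS hr)⟩
          · intro g hg k hk
            exact Subgroup.mem_inf.2 ⟨B_comm_mem c.h hx₁S hx₁A hg hk, comm_mem_S' (hRS hg) (hRS hk)⟩
        apply cb.inv_of_comm le_rfl (mem_sup_left hy₀) (mem_sup_right (mem_zpowers x₁)) _ α x hx
        intro h1
        apply hy₀Z
        apply c.h.mem_ZS_of_commute hx₁S hx₁A (c.Z2A hy₀)
        calc y₀ * x₁ = (y₀ * x₁ * y₀⁻¹ * x₁⁻¹) * x₁ * y₀ := by group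
          _ = x₁ * y₀ := by rw [h1, one_mul]

end

end Cfsg.Agent.Lib.Helper11.OL
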