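import Mathlib
import Cfsg.Agent.Lib.Helper11.OLb
import Cfsg.Agent.Lib.Helper11.OLc
import Cfsg.Agent.Lib.Helper11.OLd

/-!
If `Z(S)⟨x⟩` is essential, no essential subgroup contains a conjugate of `Z₂(S)⟨x⟩` (helper11),
for S5244.
-/
set_option autoImplicit false

namespace Cfsg.Agent.Lib.Helper11.OL

open Subgroup Cfsg Cfsg.Agent.Lib.Helper29 Cfsg.Agent.Lib.Helper11.UAa Cfsg.Agent.Lib.Helper11.UAb
  Cfsg.Agent.Lib.Helper11.ESe Cfsg.Agent.Lib.Helper11.UAc Cfsg.Agent.Lib.Helper11.XSb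

variable {Ω : Type*} [Group Ω] {S A : Subgroup Ω} {p : ℕ}

/-- conjugation by `s ∈ S` gives an `F`-conjugacy -/
theorem isConj_of_conj [Finite S] (F : FusionSystem S) {P Q : Subgroup Ω} (hPS : P ≤ S) (hQS : Q ≤ S)
    {s : Ω} (hs : s ∈ S) (hle : ∀ x ∈ P, s * x * s⁻¹ ∈ Q) (hcard : Nat.card Q ≤ Nat.card P) :
    F.IsConj P Q := by
  refine ⟨conjHom P s, F.conj_mem hPS hs, ?_⟩
  have hinj := F.injective_of_mem (F.conj_mem hPS hs)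
  have hle' : (conjHom P s).range ≤ Q := by
    rintro _ ⟨x, rfl⟩
    exact hle x x.2
  haveI : Finite Q := finite_of_le hQS
  apply Subgroup.eq_of_le_of_card_ge hle'
  rw [← Nat.card_congr (MonoidHom.ofInjective hinj).toEquiv]
  exact hcard

theorem OC.card_Z2 [Finite S] (c : OC S A p) : Nat.card ↥(Z2 S) = p * Nat.card ↥(ZS S) := by
  have := ((ZS S).subgroupOf (Z2 S)).index_mul_card
  rw [c.idxZ, Nat.card_congr (subgroupOfEquivOfLe (ZS_le_Z2 (S := S))).toEquiv] at this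
  exact this.symm

/-- `Z₂(S) = Z(S)⟨c₁⟩` for `c₁ ∈ Z₂(S) ∖ Z(S)` -/
theorem OC.Z2_gen [Finite S] [Fact p.Prime] (c : OC S A p) {c₁ : Ω} (hc₁ : c₁ ∈ Z2 S)
    (hc₁Z : c₁ ∉ ZS S) {y : Ω} (hy : y ∈ Z2 S) : ∃ z ∈ ZS S, ∃ m : ℕ, y = z * c₁ ^ m := by
  have hp : p.Prime := Fact.out
  have hc₁S : c₁ ∈ S := (mem_Z2.1 hc₁).1
  have hZQ : ZS S ≤ ZS S ⊔ zpowers c₁ := le_sup_left
  have hQZ2 : ZS S ⊔ zpowers c₁ ≤ Z2 S := sup_le ZS_le_Z2 (zpowers_le.2 hc₁)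
  have h1 := relIndex_mul_relIndex (ZS S) (ZS S ⊔ zpowers c₁) (Z2 S) hZQ hQZ2
  have h2 : (ZS S).relIndex (Z2 S) = p := c.idxZ
  rw [h2] at h1
  have h3 : (ZS S).relIndex (ZS S ⊔ zpowers c₁) ≠ 1 := by
    intro hcon
    rw [relIndex_eq_one] at hcon
    exact hc₁Z (hcon (mem_sup_right (mem_zpowers c₁)))
  have h4 : (ZS S).relIndex (ZS S ⊔ zpowers c₁) = p := by
    rcases (Nat.dvd_prime hp).1 (Dvd.intro _ h1) with h5 | h5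
    · exact absurd h5 h3
    · exact h5
  rw [h4] at h1
  have h5 : (ZS S ⊔ zpowers c₁).relIndex (Z2 S) = 1 := by
    have : p * (ZS S ⊔ zpowers c₁).relIndex (Z2 S) = p * 1 := by rw [h1, mul_one]
    exact Nat.eq_of_mul_eq_mul_left hp.pos this
  rw [relIndex_eq_one] at h5
  obtain ⟨z, hz, i, hi⟩ := (mem_sup_zpowers (mem_normalizer_ZS hc₁S)).1 (h5 hy)
  have hfin : IsOfFinOrder c₁ := isOfFinOrder_of_mem hc₁S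
  have hmem : c₁ ^ i ∈ zpowers c₁ := zpow_mem (mem_zpowers c₁) i
  rw [← hfin.mem_powers_iff_mem_zpowers] at hmem
  obtain ⟨m, hm⟩ := hmem
  dsimp only at hm
  exact ⟨z, hz, m, by rw [hm]; exact hi⟩

/-- the subgroups `Z(S)⟨u⟩` inside `Z₂(S)⟨x₁⟩` are `S`-conjugate -/
theorem OC.conj_H [Finite S] [Fact p.Prime] (c : OC S A p) {x₁ : Ω} (hx₁S : x₁ ∈ S) (hx₁A : x₁ ∉ A)
    {n : Ω} (hnS : n ∈ S) (hnN : n ∈ normalizer ((Z2 S ⊔ zpowers x₁ : Subgroup Ω) : Set Ω))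
    (hnR : n ∉ Z2 S ⊔ zpowers x₁) {u : Ω} (huR : u ∈ Z2 S ⊔ zpowers x₁) (huA : u ∉ A) :
    ∃ s ∈ S, s * x₁ * s⁻¹ ∈ ZS S ⊔ zpowers u := by
  have h := c.h
  have hRS : Z2 S ⊔ zpowers x₁ ≤ S := B_le h hx₁S hx₁A
  have hx₁R : x₁ ∈ Z2 S ⊔ zpowers x₁ := mem_sup_right (mem_zpowers x₁)
  have huS : u ∈ S := hRS huR
  obtain ⟨k, hk⟩ := h.gen' hx₁S hx₁A hnS
  obtain ⟨a₁, ha₁⟩ : ∃ a₁, a₁ = n * x₁ ^ k := ⟨_, rfl⟩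
  have ha₁A : a₁ ∈ A := ha₁ ▸ hk
  have ha₁S : a₁ ∈ S := h.le ha₁A
  have hxkR : x₁ ^ k ∈ Z2 S ⊔ zpowers x₁ := pow_mem hx₁R k
  have ha₁N : a₁ ∈ normalizer ((Z2 S ⊔ zpowers x₁ : Subgroup Ω) : Set Ω) := by
    rw [ha₁]
    exact mul_mem hnN (le_normalizer hxkR)
  have ha₁R : a₁ ∉ Z2 S ⊔ zpowers x₁ := by
    intro hcon
    apply hnR
    have e : n = a₁ * (x₁ ^ k)⁻¹ := by rw [ha₁]; group
    rw [e]
    exact mul_mem hcon (inv_mem hxkR)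
  obtain ⟨c₁, hc₁⟩ : ∃ c₁, c₁ = a₁ * x₁ * a₁⁻¹ * x₁⁻¹ := ⟨_, rfl⟩
  have hc₁R : c₁ ∈ Z2 S ⊔ zpowers x₁ := by
    rw [hc₁]
    exact mul_mem ((mem_normalizer_iff.1 ha₁N x₁).1 hx₁R) (inv_mem hx₁R)
  have hc₁A : c₁ ∈ A := hc₁ ▸ h.comm_mem a₁ ha₁S x₁ hx₁S
  have hc₁Z2 : c₁ ∈ Z2 S := B_inf_A h hx₁S hx₁A c.Z2A hc₁R hc₁A
  have hc₁Z : c₁ ∉ ZS S := by
    intro hz
    apply ha₁R
    apply mem_sup_left
    rw [mem_Z2_iff_DD h hx₁S hx₁A ha₁A]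
    have e : DD x₁ a₁ = x₁⁻¹ * c₁ * x₁ := by
      rw [hc₁]; unfold DD; group
    rw [e]
    have h1 := (mem_ZS.1 hz).2 x₁⁻¹ (S.inv_mem hx₁S)
    rw [h1, inv_mul_cancel_right]
    exact hz
  -- conjugating `x₁` by powers of `a₁`
  have hpow : ∀ m : ℕ, a₁ ^ m * x₁ * (a₁ ^ m)⁻¹ = c₁ ^ m * x₁ := by
    intro m
    induction m with
    | zero => simp
    | succ m ih =>
      have hcm : c₁ ^ m ∈ A := A.pow_mem hc₁A m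
      have hcomm := h.comm a₁ ha₁A (c₁ ^ m) hcm
      calc a₁ ^ (m + 1) * x₁ * (a₁ ^ (m + 1))⁻¹
          = a₁ * (a₁ ^ m * x₁ * (a₁ ^ m)⁻¹) * a₁⁻¹ := by rw [pow_succ']; group
        _ = a₁ * (c₁ ^ m * x₁) * a₁⁻¹ := by rw [ih]
        _ = (a₁ * c₁ ^ m) * x₁ * a₁⁻¹ := by group
        _ = (c₁ ^ m * a₁) * x₁ * a₁⁻¹ := by rw [hcomm]
        _ = c₁ ^ m * (a₁ * x₁ * a₁⁻¹ * x₁⁻¹) * x₁ := by group
        _ = c₁ ^ (m + 1) * x₁ := by rw [← hc₁, pow_succ]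
  obtain ⟨k', hk'⟩ := h.gen' huS huA hx₁S
  obtain ⟨a', ha'⟩ : ∃ a', a' = x₁ * u ^ k' := ⟨_, rfl⟩
  have ha'A : a' ∈ A := ha' ▸ hk'
  have ha'R : a' ∈ Z2 S ⊔ zpowers x₁ := by
    rw [ha']
    exact mul_mem hx₁R (pow_mem huR k')
  have ha'Z2 : a' ∈ Z2 S := B_inf_A h hx₁S hx₁A c.Z2A ha'R ha'A
  obtain ⟨z, hz, m, hm⟩ := c.Z2_gen hc₁Z2 hc₁Z ((Z2 S).inv_mem ha'Z2)
  refine ⟨a₁ ^ m, S.pow_mem ha₁S m, ?_⟩
  rw [hpow m]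
  have hcm : c₁ ^ m = z⁻¹ * a'⁻¹ := by rw [hm]; group
  have hx₁ : x₁ = a' * (u ^ k')⁻¹ := by rw [ha']; group
  have e : c₁ ^ m * x₁ = z⁻¹ * (u ^ k')⁻¹ := by
    rw [hcm, hx₁]
    group
  rw [e]
  exact mul_mem_sup ((ZS S).inv_mem hz) (inv_mem (pow_mem (mem_zpowers u) k'))

end Cfsg.Agent.Lib.Helper11.OL
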