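import Mathlib
import Cfsg.Agent.Lib.Helper11.OLe

/-!
If `Z(S)⟨x⟩` is essential, no essential subgroup contains a conjugate of `Z₂(S)⟨x⟩` (helper11),
for S5244: the main argument.
-/
set_option autoImplicit false

namespace Cfsg.Agent.Lib.Helper11.OL

open Subgroup Cfsg Cfsg.Agent.Lib.Helper29 Cfsg.Agent.Lib.Helper11.UAa Cfsg.Agent.Lib.Helper11.UAb
  Cfsg.Agent.Lib.Helper11.ESe Cfsg.Agent.Lib.Helper11.UAc Cfsg.Agent.Lib.Helper11.XSb

variable {Ω : Type*} [Group Ω] {S A : Subgroup Ω} {p : ℕ}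

theorem conj_H_le (h : UAb S A p) {x₁ : Ω} (hx₁S : x₁ ∈ S) (hx₁A : x₁ ∉ A) {s : Ω} (hs : s ∈ S)
    {Q : Subgroup Ω} (hZQ : ZS S ≤ Q) (hsx : s * x₁ * s⁻¹ ∈ Q) :
    ∀ w ∈ ZS S ⊔ zpowers x₁, s * w * s⁻¹ ∈ Q := by
  intro w hw
  obtain ⟨z, hz, i, rfl⟩ := (mem_H h hx₁S hx₁A).1 hw
  have e : s * (z * x₁ ^ i) * s⁻¹ = z * (s * x₁ * s⁻¹) ^ i := by
    rw [conj_zpow]
    have := (mem_ZS.1 hz).2 s hs
    calc s * (z * x₁ ^ i) * s⁻¹ = (s * z) * x₁ ^ i * s⁻¹ := by group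
      _ = (z * s) * x₁ ^ i * s⁻¹ := by rw [this]
      _ = z * (s * x₁ ^ i * s⁻¹) := by group
  rw [e]
  exact Q.mul_mem (hZQ hz) (Q.zpow_mem hsx i)

variable [Finite S] [Fact p.Prime]

theorem OC.no_big (c : OC S A p) (hS : IsPGroup p S) (F : FusionSystem S) (hF : F.IsSaturated p)
    (hAe : ¬ F.IsEssential p A) {x : Ω} (hxS : x ∈ S) (hxA : x ∉ A)
    (hP : F.IsEssential p (ZS S ⊔ zpowers x)) :
    ∀ R, F.IsEssential p R → ¬ Big F (Z2 S ⊔ zpowers x) R := by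
  rintro R hR ⟨R₀, hR₀R, hconj⟩
  have hp : p.Prime := Fact.out
  have h := c.h
  have hRA : R ≠ A := fun e => hAe (e ▸ hR)
  haveI : Finite ↥(ZS S) := finite_of_le inf_le_left
  have hZ2S : Z2 S ≤ S := fun y hy => (mem_Z2.1 hy).1
  haveI : Finite ↥(Z2 S) := finite_of_le hZ2S
  have hZpos : 0 < Nat.card ↥(ZS S) := Nat.card_pos
  have hcardP' : Nat.card ↥(Z2 S ⊔ zpowers x) = p * (p * Nat.card ↥(ZS S)) := by
    rw [B_card h hxS hxA c.Z2A, c.card_Z2]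
  have hcardR₀ : Nat.card R₀ = p * (p * Nat.card ↥(ZS S)) := by
    rw [← card_eq_of_isConj F hconj, hcardP']
  have hRS : R ≤ S := hR.1.1
  haveI : Finite R := finite_of_le hRS
  have hle : Nat.card R₀ ≤ Nat.card R := Subgroup.card_le_of_le hR₀R
  obtain ⟨hcl, -⟩ := classify hS F hF h hR hRA
  rcases hcl with ⟨x₁, hx₁S, hx₁A, rfl⟩ | ⟨-, x₁, hx₁S, hx₁A, rfl⟩
  · rw [hcardR₀, H_card h hx₁S hx₁A c.hna] at hle
    have h2 : 1 * (p * Nat.card ↥(ZS S)) < p * (p * Nat.card ↥(ZS S)) :=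
      Nat.mul_lt_mul_of_pos_right hp.one_lt (Nat.mul_pos hp.pos hZpos)
    rw [one_mul] at h2
    omega
  · have hcardR : Nat.card ↥(Z2 S ⊔ zpowers x₁) = p * (p * Nat.card ↥(ZS S)) := by
      rw [B_card h hx₁S hx₁A c.Z2A, c.card_Z2]
    have hR₀ : R₀ = Z2 S ⊔ zpowers x₁ :=
      Subgroup.eq_of_le_of_card_ge hR₀R (by rw [hcardR, hcardR₀])
    subst hR₀
    obtain ⟨θ, hθ, hθr⟩ := hconj
    have hPP' : ZS S ⊔ zpowers x ≤ Z2 S ⊔ zpowers x := sup_le_sup_right ZS_le_Z2 _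
    obtain ⟨M, hM⟩ : ∃ M, M = ((ZS S ⊔ zpowers x).subgroupOf (Z2 S ⊔ zpowers x)).map θ := ⟨_, rfl⟩
    have hPM : F.IsConj (ZS S ⊔ zpowers x) M := hM ▸ isConj_map F hPP' hθ
    have hMR : M ≤ Z2 S ⊔ zpowers x₁ := by
      rw [hM]
      rintro _ ⟨y, -, rfl⟩
      rw [← hθr]
      exact ⟨y, rfl⟩
    have hcardM : Nat.card M = p * Nat.card ↥(ZS S) := by
      rw [← card_eq_of_isConj F hPM, H_card h hxS hxA c.hna]
    have hMcen : FusionSystem.centralizerIn S M ≤ M := hP.1.2 M hPM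
    have hMS : M ≤ S := hMR.trans hRS
    haveI : Finite M := finite_of_le hMS
    have hZM : ZS S ≤ M := fun z hz =>
      hMcen ⟨hz.1, mem_centralizer_iff.2 fun m hm => (mem_ZS.1 hz).2 m (hMS hm)⟩
    have key : F.IsConj M (Z2 S) := by
      by_cases hMA : M ≤ A
      · have hMZ2 : M ≤ Z2 S := fun m hm => B_inf_A h hx₁S hx₁A c.Z2A (hMR hm) (hMA hm)
        have : M = Z2 S := Subgroup.eq_of_le_of_card_ge hMZ2 (by rw [hcardM, c.card_Z2])
        rw [this]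
        exact isConj_refl F hZ2S
      · obtain ⟨u, huM, huA⟩ := SetLike.not_le_iff_exists.1 hMA
        have huR := hMR huM
        have huS := hRS huR
        have hMu : ZS S ⊔ zpowers u = M :=
          Subgroup.eq_of_le_of_card_ge (sup_le hZM (zpowers_le.2 huM))
            (by rw [hcardM, H_card h huS huA c.hna])
        obtain ⟨γ, hγ, b, hbA, hγbA⟩ :=
          exists_moved hS F hF h hR (mem_sup_right (mem_zpowers x₁)) hx₁A
        have hbZ2 : (b : Ω) ∈ Z2 S := B_inf_A h hx₁S hx₁A c.Z2A b.2 hbA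
        have hφ : (Z2 S ⊔ zpowers x₁).subtype.comp γ.toMonoidHom ∈ F.Hom (Z2 S ⊔ zpowers x₁) :=
          (mem_autGroup_iff F hRS).1 hγ
        obtain ⟨M₂, hM₂⟩ : ∃ M₂, M₂ = ((Z2 S).subgroupOf (Z2 S ⊔ zpowers x₁)).map
          ((Z2 S ⊔ zpowers x₁).subtype.comp γ.toMonoidHom) := ⟨_, rfl⟩
        have hZ2M₂ : F.IsConj (Z2 S) M₂ := hM₂ ▸ isConj_map F le_sup_left hφ
        have hM₂R : M₂ ≤ Z2 S ⊔ zpowers x₁ := by
          rw [hM₂]
          rintro _ ⟨y, -, rfl⟩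
          exact (γ y).2
        have hM₂S : M₂ ≤ S := hM₂R.trans hRS
        haveI : Finite M₂ := finite_of_le hM₂S
        have hcardM₂ : Nat.card M₂ = p * Nat.card ↥(ZS S) := by
          rw [← card_eq_of_isConj F hZ2M₂, c.card_Z2]
        have hu₂M₂ : ((γ b : ↥(Z2 S ⊔ zpowers x₁)) : Ω) ∈ M₂ := by
          rw [hM₂]
          exact ⟨b, mem_subgroupOf.2 hbZ2, rfl⟩
        have hZM₂ : ZS S ≤ M₂ := by
          intro z hz
          have hzR : z ∈ Z2 S ⊔ zpowers x₁ := mem_sup_left (ZS_le_Z2 hz)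
          rw [hM₂]
          obtain ⟨γi, hγi⟩ : ∃ γi : MulAut ↥(Z2 S ⊔ zpowers x₁), γi = γ⁻¹ := ⟨_, rfl⟩
          refine ⟨γi ⟨z, hzR⟩, ?_, ?_⟩
          · rw [SetLike.mem_coe, mem_subgroupOf]
            apply ZS_le_Z2
            obtain ⟨y₀, hy₀, hy₀Z⟩ := c.exists_y0
            apply B_center h hx₁S hx₁A c.Z2A hy₀ hy₀Z (γi ⟨z, hzR⟩).2
            intro r hr
            have h2 : γ ⟨r, hr⟩ * ⟨z, hzR⟩ = ⟨z, hzR⟩ * γ ⟨r, hr⟩ :=
              Subtype.ext ((mem_ZS.1 hz).2 _ (hRS (γ ⟨r, hr⟩).2))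
            have h3 := congrArg γi h2
            have h4 : γi (γ ⟨r, hr⟩) = ⟨r, hr⟩ := by rw [hγi, MulAut.inv_apply_self]
            rw [map_mul, map_mul, h4] at h3
            exact congrArg Subtype.val h3
          · show ((γ (γi ⟨z, hzR⟩) : ↥(Z2 S ⊔ zpowers x₁)) : Ω) = z
            rw [hγi, MulAut.apply_inv_self]
        have hM₂u : ZS S ⊔ zpowers ((γ b : ↥(Z2 S ⊔ zpowers x₁)) : Ω) = M₂ :=
          Subgroup.eq_of_le_of_card_ge (sup_le hZM₂ (zpowers_le.2 hu₂M₂))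
            (by rw [hcardM₂, H_card h (hRS (γ b).2) hγbA c.hna])
        have hRlt : Z2 S ⊔ zpowers x₁ < S := lt_of_le_of_ne hRS (ne_of_isEssential hS F hF hR)
        obtain ⟨n, hn, hnR⟩ := exists_mem_normalizerIn_not_mem hS hRlt
        obtain ⟨s, hs, hsu⟩ := c.conj_H hx₁S hx₁A hn.1 hn.2 hnR huR huA
        obtain ⟨s₂, hs₂, hsu₂⟩ := c.conj_H hx₁S hx₁A hn.1 hn.2 hnR (γ b).2 hγbA
        have hH₁ : F.IsConj (ZS S ⊔ zpowers x₁) (ZS S ⊔ zpowers u) :=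
          isConj_of_conj F (H_le h hx₁S hx₁A) (H_le h huS huA) hs
            (conj_H_le h hx₁S hx₁A hs le_sup_left hsu)
            (by rw [H_card h hx₁S hx₁A c.hna, H_card h huS huA c.hna])
        have hH₂ : F.IsConj (ZS S ⊔ zpowers x₁)
            (ZS S ⊔ zpowers ((γ b : ↥(Z2 S ⊔ zpowers x₁)) : Ω)) :=
          isConj_of_conj F (H_le h hx₁S hx₁A) (H_le h (hRS (γ b).2) hγbA) hs₂
            (conj_H_le h hx₁S hx₁A hs₂ le_sup_left hsu₂)
            (by rw [H_card h hx₁S hx₁A c.hna, H_card h (hRS (γ b).2) hγbA c.hna])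
        rw [← hMu]
        rw [hM₂u] at hH₂
        exact isConj_trans F (isConj_symm F hH₁) (isConj_trans F hH₂ (isConj_symm F hZ2M₂))
    have hcen : FusionSystem.centralizerIn S (Z2 S) ≤ Z2 S :=
      hP.1.2 (Z2 S) (isConj_trans F hPM key)
    apply c.big
    intro a ha
    exact hcen ⟨h.le ha, mem_centralizer_iff.2 fun y hy => h.comm y (c.Z2A hy) a ha⟩

end Cfsg.Agent.Lib.Helper11.OL
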