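import Mathlib
import Cfsg.Agent.Lib.Helper11.XSb
import Cfsg.Agent.Lib.Helper29.EssentialNeeded
import Cfsg.Agent.Lib.Helper29.GroupFusion

/-!
No proper subgroup of an extraspecial subgroup `Q` of index `p` (with `|S| ≥ p⁶`) is essential
(helper11), for S5179.
-/
set_option autoImplicit false

namespace Cfsg.Agent.Lib.Helper11.XSc

open Subgroup Cfsg Cfsg.Agent.Lib.Helper29 Cfsg.Agent.Lib.Helper11.UAa Cfsg.Agent.Lib.Helper11.UAb
  Cfsg.Agent.Lib.Helper11.ESe Cfsg.Agent.Lib.Helper11.XSa Cfsg.Agent.Lib.Helper11.UAc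
  Cfsg.Agent.Lib.Helper11.XSb Cfsg.Agent.Lib.Helper11.ESa

section stab
variable {P : Type*} [Group P]

/-- automorphisms stabilizing a chain `1 ≤ W ≤ P₀ ≤ P` generate a `p`-group -/
theorem isPGroup_closure_stab3 [Finite P] {p : ℕ} [Fact p.Prime] (hP : IsPGroup p P)
    (W P₀ : Subgroup P) (hW : W ≤ P₀) : IsPGroup p (closure {β : MulAut P | Stab3 W P₀ β}) := by
  set B : ℕ → Subgroup P := fun i => if i = 0 then ⊥ else if i = 1 then W else if i = 2 then P₀ else ⊤
    with hB
  apply isPGroup_closure_of_chain hP _ 3 B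
  · simp [hB]
  · simp [hB]
  · intro i hi
    interval_cases i
    · simp [hB]
    · simpa [hB] using hW
    · simp [hB]
  · intro α hα i hi x hx
    obtain ⟨h1, h2, h3⟩ := hα
    interval_cases i
    · have hx' : x ∈ W := by simpa [hB] using hx
      have : x⁻¹ * α x = 1 := by rw [h1 x hx', inv_mul_cancel]
      rw [this]
      exact one_mem _
    · have hx' : x ∈ P₀ := by simpa [hB] using hx
      have := h2 x hx'
      simpa [hB] using this
    · have := h3 x
      simpa [hB] using this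

end stab

variable {Ω : Type*} [Group Ω] {S : Subgroup Ω} {p : ℕ}

section
variable [Finite S] [Fact p.Prime]

/-- in `Q` (of order at least `p⁵`), every element of an abelian subgroup `E < Q` containing
`Z(Q)` commutes with some element of `Q` outside `E` -/
theorem claimA (hS : IsPGroup p S) {Q : Subgroup Ω} (h : XS S Q p)
    (hQi : (Q.subgroupOf S).index = p) (h6 : p ^ 6 ≤ Nat.card S) {E : Subgroup Ω} (hEQ : E ≤ Q)
    (hne : E ≠ Q) (hEab : ∀ a ∈ E, ∀ b ∈ E, a * b = b * a) {v : Ω}
    (hv : v ∈ E) : ∃ x ∈ Q, x ∉ E ∧ x * v = v * x := by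
  have hp : p.Prime := Fact.out
  by_contra hcon
  push Not at hcon
  have hcon' : ∀ x ∈ Q, x * v = v * x → x ∈ E := fun x hx hxv => by
    by_contra hxE
    exact hcon x hx hxE hxv
  haveI : Finite Q := finite_of_le h.le
  haveI : Finite E := finite_of_le (hEQ.trans h.le)
  have hQp : IsPGroup p Q := hS.to_le h.le
  have h1 := index_cent_dvd (S := Q) h.cardW le_rfl h.comm (hEQ hv) Q le_rfl
  have hle : (centralizer ({v} : Set Ω)).subgroupOf Q ≤ E.subgroupOf Q := by
    intro x hx
    rw [mem_subgroupOf, mem_centralizer_singleton_iff] at hx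
    exact mem_subgroupOf.2 (hcon' x x.2 hx)
  have h2 : (E.subgroupOf Q).index ∣ p := (index_dvd_of_le hle).trans h1
  have hidx : (E.subgroupOf Q).index = p := by
    rcases (Nat.dvd_prime hp).1 h2 with h3 | h3
    · exfalso
      apply hne
      rw [index_eq_one, subgroupOf_eq_top] at h3
      exact le_antisymm hEQ h3
    · exact h3
  have hu : UAb Q E p :=
    uab_of_index hQp hEQ ⟨⟨fun a b => Subtype.ext (hEab a a.2 b b.2)⟩⟩ hidx
  obtain ⟨a₀, ha₀Q, ha₀E⟩ : ∃ a₀ ∈ Q, a₀ ∉ E := by
    by_contra hcon2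
    push Not at hcon2
    exact hne (le_antisymm hEQ hcon2)
  have h3 := index_cent_dvd (S := Q) h.cardW le_rfl h.comm ha₀Q E hEQ
  have h4 : (centralizer ({a₀} : Set Ω)).subgroupOf E ≤ (Zc Q).subgroupOf E := by
    intro a ha
    rw [mem_subgroupOf, mem_centralizer_singleton_iff] at ha
    exact mem_subgroupOf.2 (hu.mem_ZS_of_commute ha₀Q ha₀E a.2 ha)
  have h5 : ((Zc Q).subgroupOf E).index ∣ p := (index_dvd_of_le h4).trans h3
  have hc0 : Nat.card S = p * Nat.card Q := by
    have := (Q.subgroupOf S).index_mul_card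
    rw [hQi, Nat.card_congr (subgroupOfEquivOfLe h.le).toEquiv] at this
    exact this.symm
  have hc1 : Nat.card Q = p * Nat.card E := by
    have := (E.subgroupOf Q).index_mul_card
    rw [hidx, Nat.card_congr (subgroupOfEquivOfLe hEQ).toEquiv] at this
    exact this.symm
  have hc2 : Nat.card E ∣ p * p := by
    have := ((Zc Q).subgroupOf E).index_mul_card
    rw [← this]
    apply Nat.mul_dvd_mul h5
    have hle2 : (Zc Q).subgroupOf E ≤ (Zc Q).subgroupOf E := le_rfl
    have hcard : Nat.card ((Zc Q).subgroupOf E) ∣ Nat.card (Zc Q) := by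
      have hinj : Function.Injective ((Zc Q).subgroupOf E).subtype := Subtype.val_injective
      -- `(Zc Q).subgroupOf E` embeds into `Zc Q`
      let f : ((Zc Q).subgroupOf E) →* (Zc Q) :=
        { toFun := fun a => ⟨(a : E), mem_subgroupOf.1 a.2⟩
          map_one' := rfl
          map_mul' := fun _ _ => rfl }
      have hf : Function.Injective f := by
        intro a b hab
        apply Subtype.ext
        apply Subtype.ext
        exact congrArg (fun z : ↥(Zc Q) => (z : Ω)) hab
      haveI : Finite (Zc Q) := finite_of_le h.WS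
      exact Subgroup.card_dvd_of_injective f hf
    rw [h.cardW] at hcard
    exact hcard
  have hle3 : Nat.card E ≤ p * p := Nat.le_of_dvd (Nat.mul_pos hp.pos hp.pos) hc2
  have : Nat.card S ≤ p ^ 4 := by
    rw [hc0, hc1]
    calc p * (p * Nat.card E) ≤ p * (p * (p * p)) := by
          apply Nat.mul_le_mul_left
          apply Nat.mul_le_mul_left
          exact hle3
      _ = p ^ 4 := by ring
  have hlt : p ^ 4 < p ^ 6 := Nat.pow_lt_pow_right hp.one_lt (by norm_num)
  omega

/-- Sylow conjugation inside `Aut_F(E)` -/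
theorem exists_conj_mem (hS : IsPGroup p S) (F : FusionSystem S) (hF : F.IsSaturated p)
    {E : Subgroup Ω} (hE : F.IsEssential p E) (U : Subgroup (MulAut ↥E)) (hUG : U ≤ F.autGroup E)
    (hU : IsPGroup p U) : ∃ δ ∈ F.autGroup E, ∀ u ∈ U, δ * u * δ⁻¹ ∈ autInducedBy S E := by
  haveI : Finite E := finite_of_le hE.1.1
  obtain ⟨-, R, hR⟩ := (((Cfsg.Agent.S5077.result p hS F).1 hF).1 E hE.2.1).2
  obtain ⟨g, hg⟩ := exists_cj_le_sylow R
    (hU.comap_subtype : IsPGroup p (U.subgroupOf (F.autGroup E)))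
  refine ⟨g.1, g.2, fun u hu => ?_⟩
  have h1 : g * ⟨u, hUG hu⟩ * g⁻¹ ∈ cj g (U.subgroupOf (F.autGroup E)) :=
    conj_mem_cj (mem_subgroupOf.2 hu)
  have h2 := hg h1
  rw [hR] at h2
  exact mem_subgroupOf.1 h2

end

end Cfsg.Agent.Lib.Helper11.XSc
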