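import Mathlib
import Cfsg.Agent.Lib.Helper11.OLf
import Cfsg.Agent.Lib.Helper11.XSc

/-!
The transvections induced by `Z₂(S)` on an essential subgroup `Z(S)⟨x⟩` (helper11), for S5244.
-/
set_option autoImplicit false

namespace Cfsg.Agent.Lib.Helper11.OL

open Subgroup Cfsg Cfsg.Agent.Lib.Helper29 Cfsg.Agent.Lib.Helper11.UAa Cfsg.Agent.Lib.Helper11.UAb
  Cfsg.Agent.Lib.Helper11.ESe Cfsg.Agent.Lib.Helper11.UAc Cfsg.Agent.Lib.Helper11.XSb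
  Cfsg.Agent.Lib.Helper11.ESa

variable {Ω : Type*} [Group Ω] {S A : Subgroup Ω} {p : ℕ} {x : Ω}

theorem H_le' (hxS : x ∈ S) : ZS S ⊔ zpowers x ≤ S := sup_le inf_le_left (zpowers_le.2 hxS)

/-- `Z₂(S)` normalizes `Z(S)⟨x⟩` -/
theorem Z2_le_normalizer_H (hxS : x ∈ S) :
    Z2 S ≤ normalizer ((ZS S ⊔ zpowers x : Subgroup Ω) : Set Ω) := by
  apply le_normalizer_of_conj_mem
  intro y hy u hu
  have huS : u ∈ S := H_le' hxS hu
  have h1 := (mem_Z2.1 hy).2 u huS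
  have e : y * u * y⁻¹ = (y * u * y⁻¹ * u⁻¹) * u := by group
  rw [e]
  exact mul_mem (mem_sup_left h1) hu

/-- conjugation by `y ∈ Z₂(S)` on `Z(S)⟨x⟩` -/
noncomputable def tauH (hxS : x ∈ S) (y : Ω) (hy : y ∈ Z2 S) : MulAut ↥(ZS S ⊔ zpowers x) :=
  (ZS S ⊔ zpowers x).normalizerMonoidHom ⟨y, Z2_le_normalizer_H hxS hy⟩

theorem tauH_coe (hxS : x ∈ S) (y : Ω) (hy : y ∈ Z2 S) (a : ↥(ZS S ⊔ zpowers x)) :
    ((tauH hxS y hy a : ↥(ZS S ⊔ zpowers x)) : Ω) = y * a * y⁻¹ := rfl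

theorem tauH_mem (hxS : x ∈ S) (y : Ω) (hy : y ∈ Z2 S) :
    tauH hxS y hy ∈ autInducedBy S (ZS S ⊔ zpowers x) :=
  subset_closure ⟨y, (mem_Z2.1 hy).1, fun _ => rfl⟩

theorem tauH_eq_one (hxS : x ∈ S) {y : Ω} (hy : y ∈ ZS S) : tauH hxS y (ZS_le_Z2 hy) = 1 := by
  ext a
  show y * a * y⁻¹ = a
  have := (mem_ZS.1 hy).2 a (H_le' hxS a.2)
  rw [← this, mul_inv_cancel_right]

theorem tauH_fix_ZS (hxS : x ∈ S) (y : Ω) (hy : y ∈ Z2 S) {a : ↥(ZS S ⊔ zpowers x)}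
    (ha : (a : Ω) ∈ ZS S) : tauH hxS y hy a = a := by
  apply Subtype.ext
  show y * a * y⁻¹ = a
  rw [(mem_ZS.1 ha).2 y (mem_Z2.1 hy).1, mul_inv_cancel_right]

theorem fixg_tauH (h : UAb S A p) (hxS : x ∈ S) (hxA : x ∉ A) (hna : ¬ IsMulCommutative ↥S)
    (hZ2A : Z2 S ≤ A) {y : Ω} (hy : y ∈ Z2 S) (hyZ : y ∉ ZS S) :
    @fixg _ (abInst _ (H_comm h hxS hxA)) (tauH hxS y hy) =
      (ZS S).subgroupOf (ZS S ⊔ zpowers x) := by
  letI := abInst _ (H_comm h hxS hxA)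
  ext a
  rw [mem_fixg, mem_subgroupOf]
  constructor
  · intro hfix
    have h' : y * a * y⁻¹ = a := congrArg Subtype.val hfix
    by_contra haZ
    have haA : (a : Ω) ∉ A := fun haA => haZ (H_inf_A h hxS hxA hna a.2 haA)
    apply hyZ
    apply h.mem_ZS_of_commute (H_le h hxS hxA a.2) haA (hZ2A hy)
    calc y * a = (y * a * y⁻¹) * y := by group
      _ = a * y := by rw [h']
  · exact fun ha => tauH_fix_ZS hxS y hy ha

/-- elements of `N_S(Z(S)⟨x⟩)` -/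
theorem mem_normalizer_H (h : UAb S A p) (hxS : x ∈ S) (hxA : x ∉ A) (hna : ¬ IsMulCommutative ↥S)
    {g : Ω} (hgS : g ∈ S) (hgN : g ∈ normalizer ((ZS S ⊔ zpowers x : Subgroup Ω) : Set Ω)) :
    ∃ y ∈ Z2 S, ∃ k : ℕ, g = y * x ^ k := by
  obtain ⟨k, a, ha, hk⟩ := h.gen x hxS hxA g hgS
  refine ⟨a, ?_, k, hk⟩
  have hxP : x ∈ ZS S ⊔ zpowers x := mem_sup_right (mem_zpowers x)
  have haN : a ∈ normalizer ((ZS S ⊔ zpowers x : Subgroup Ω) : Set Ω) := by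
    have e : a = g * (x ^ k)⁻¹ := by rw [hk]; group
    rw [e]
    exact mul_mem hgN (inv_mem (le_normalizer (pow_mem hxP k)))
  have h1 : a * x * a⁻¹ ∈ ZS S ⊔ zpowers x := (mem_normalizer_iff.1 haN x).1 hxP
  have h2 : a * x * a⁻¹ * x⁻¹ ∈ ZS S ⊔ zpowers x := mul_mem h1 (inv_mem hxP)
  have h3 : a * x * a⁻¹ * x⁻¹ ∈ A := h.comm_mem a (h.le ha) x hxS
  have h4 : a * x * a⁻¹ * x⁻¹ ∈ ZS S := H_inf_A h hxS hxA hna h2 h3
  have hxi : x⁻¹ ∈ S := S.inv_mem hxS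
  have hxiA : x⁻¹ ∉ A := fun hc => hxA (by simpa using A.inv_mem hc)
  rw [mem_Z2_iff_DD h hxi hxiA ha]
  have e : DD x⁻¹ a = (a * x * a⁻¹ * x⁻¹)⁻¹ := by unfold DD; group
  rw [e]
  exact (ZS S).inv_mem h4

theorem exists_tauH (h : UAb S A p) (hxS : x ∈ S) (hxA : x ∉ A) (hna : ¬ IsMulCommutative ↥S)
    {β : MulAut ↥(ZS S ⊔ zpowers x)} (hβ : β ∈ autInducedBy S (ZS S ⊔ zpowers x)) :
    ∃ (y : Ω) (hy : y ∈ Z2 S), β = tauH hxS y hy := by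
  obtain ⟨g, hgS, hgN, rfl⟩ := mem_autInducedBy_iff.1 hβ
  obtain ⟨y, hy, k, hk⟩ := mem_normalizer_H h hxS hxA hna hgS hgN
  refine ⟨y, hy, ?_⟩
  ext a
  show g * a * g⁻¹ = y * a * y⁻¹
  have hxk : x ^ k ∈ ZS S ⊔ zpowers x := pow_mem (mem_sup_right (mem_zpowers x)) k
  have := H_comm h hxS hxA (x ^ k) hxk a a.2
  rw [hk]
  calc y * x ^ k * a * (y * x ^ k)⁻¹ = y * (x ^ k * a) * (x ^ k)⁻¹ * y⁻¹ := by group
    _ = y * (a * x ^ k) * (x ^ k)⁻¹ * y⁻¹ := by rw [this]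
    _ = y * a * y⁻¹ := by group

/-- `N_S(Z(S)⟨x⟩) = Z₂(S)⟨x⟩` -/
theorem normalizerIn_H (h : UAb S A p) (hxS : x ∈ S) (hxA : x ∉ A) (hna : ¬ IsMulCommutative ↥S) :
    FusionSystem.normalizerIn S (ZS S ⊔ zpowers x) = Z2 S ⊔ zpowers x := by
  apply le_antisymm
  · rintro g ⟨hgS, hgN⟩
    obtain ⟨y, hy, k, rfl⟩ := mem_normalizer_H h hxS hxA hna hgS hgN
    exact mul_mem_sup hy (pow_mem (mem_zpowers x) k)
  · apply sup_le
    · intro y hy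
      exact ⟨(mem_Z2.1 hy).1, Z2_le_normalizer_H hxS hy⟩
    · rw [zpowers_le]
      exact ⟨hxS, le_normalizer (mem_sup_right (mem_zpowers x))⟩

section
variable [Finite S] [Fact p.Prime]

theorem range_tauH (c : OC S A p) (hxS : x ∈ S) (hxA : x ∉ A) {y : Ω} (hy : y ∈ Z2 S)
    (hyZ : y ∉ ZS S) :
    (@dlt _ (abInst _ (H_comm c.h hxS hxA)) (tauH hxS y hy)).range =
      (Z0 S).subgroupOf (ZS S ⊔ zpowers x) := by
  letI := abInst _ (H_comm c.h hxS hxA)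
  have hp : p.Prime := Fact.out
  haveI : Finite ↥(ZS S ⊔ zpowers x) := finite_of_le (H_le' hxS)
  haveI : Finite ↥(ZS S) := finite_of_le inf_le_left
  have hZP : ZS S ≤ ZS S ⊔ zpowers x := le_sup_left
  have hZ0P : Z0 S ≤ ZS S ⊔ zpowers x := inf_le_left.trans hZP
  have hle : (dlt (tauH hxS y hy)).range ≤ (Z0 S).subgroupOf (ZS S ⊔ zpowers x) := by
    rintro _ ⟨a, rfl⟩
    rw [mem_subgroupOf]
    have haS : (a : Ω) ∈ S := H_le' hxS a.2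
    have hz := (mem_Z2.1 hy).2 a haS
    have h1 := (mem_ZS.1 hz).2 (a : Ω)⁻¹ (S.inv_mem haS)
    have e : ((dlt (tauH hxS y hy) a : ↥(ZS S ⊔ zpowers x)) : Ω) = y * a * y⁻¹ * (a : Ω)⁻¹ := by
      show (a : Ω)⁻¹ * (y * a * y⁻¹) = _
      have e1 : (a : Ω)⁻¹ * (y * a * y⁻¹) = (a : Ω)⁻¹ * (y * a * y⁻¹ * (a : Ω)⁻¹) * a := by group
      rw [e1, h1, inv_mul_cancel_right]
    rw [e]
    exact Subgroup.mem_inf.2 ⟨hz, comm_mem_S' (mem_Z2.1 hy).1 haS⟩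
  apply eq_of_le_of_card_ge hle
  rw [Nat.card_congr (subgroupOfEquivOfLe hZ0P).toEquiv, c.cardZ0,
    ← Nat.card_congr (QuotientGroup.quotientKerEquivRange (dlt (tauH hxS y hy))).toEquiv]
  have hker : (dlt (tauH hxS y hy)).ker = (ZS S).subgroupOf (ZS S ⊔ zpowers x) :=
    fixg_tauH c.h hxS hxA c.hna c.Z2A hy hyZ
  have h1 := ((dlt (tauH hxS y hy)).ker).index_mul_card
  rw [hker, Nat.card_congr (subgroupOfEquivOfLe hZP).toEquiv, H_card c.h hxS hxA c.hna] at h1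
  have hZpos : 0 < Nat.card ↥(ZS S) := Nat.card_pos
  have h2 : ((ZS S).subgroupOf (ZS S ⊔ zpowers x)).index = p :=
    Nat.eq_of_mul_eq_mul_right hZpos h1
  have h3 : Nat.card (↥(ZS S ⊔ zpowers x) ⧸ (dlt (tauH hxS y hy)).ker) =
      ((dlt (tauH hxS y hy)).ker).index := rfl
  rw [h3, hker, h2]

theorem isTv_tauH (c : OC S A p) (hxS : x ∈ S) (hxA : x ∉ A) {y : Ω} (hy : y ∈ Z2 S)
    (hyZ : y ∉ ZS S) : @IsTv _ (abInst _ (H_comm c.h hxS hxA)) p (tauH hxS y hy) := by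
  letI := abInst _ (H_comm c.h hxS hxA)
  have hZ0P : Z0 S ≤ ZS S ⊔ zpowers x := inf_le_left.trans le_sup_left
  refine ⟨?_, ?_⟩
  · rw [range_tauH c hxS hxA hy hyZ, Nat.card_congr (subgroupOfEquivOfLe hZ0P).toEquiv, c.cardZ0]
  · rw [range_tauH c hxS hxA hy hyZ, fixg_tauH c.h hxS hxA c.hna c.Z2A hy hyZ]
    intro a ha
    rw [mem_subgroupOf] at ha ⊢
    exact ha.1

theorem tauH_ne_one (c : OC S A p) (hxS : x ∈ S) (hxA : x ∉ A) {y : Ω} (hy : y ∈ Z2 S)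
    (hyZ : y ∉ ZS S) : tauH hxS y hy ≠ 1 := by
  letI := abInst _ (H_comm c.h hxS hxA)
  intro h
  have h1 := (isTv_tauH c hxS hxA hy hyZ).1
  rw [h] at h1
  have h2 : (dlt (1 : MulAut ↥(ZS S ⊔ zpowers x))).range = ⊥ := by
    rw [eq_bot_iff]
    rintro _ ⟨a, rfl⟩
    rw [mem_bot, dlt_eq_one]
    rfl
  rw [h2, Subgroup.card_bot] at h1
  exact (Fact.out : p.Prime).one_lt.ne h1

/-- Sylow's theorem in `Aut_F(Z(S)⟨x⟩)` -/
theorem sylow_conj_H (c : OC S A p) (hS : IsPGroup p S) (F : FusionSystem S)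
    (hF : F.IsSaturated p) (hxS : x ∈ S) (hxA : x ∉ A)
    (hP : F.IsEssential p (ZS S ⊔ zpowers x)) (U : Subgroup (MulAut ↥(ZS S ⊔ zpowers x)))
    (hU : U ≤ F.autGroup (ZS S ⊔ zpowers x)) (hUp : IsPGroup p U) :
    ∃ g ∈ F.autGroup (ZS S ⊔ zpowers x), ∀ b ∈ U, ∃ (y : Ω) (hy : y ∈ Z2 S),
      b = g * tauH hxS y hy * g⁻¹ := by
  obtain ⟨δ, hδ, hδU⟩ := XSc.exists_conj_mem hS F hF hP U hU hUp
  refine ⟨δ⁻¹, inv_mem hδ, fun b hb => ?_⟩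
  obtain ⟨y, hy, hyb⟩ := exists_tauH c.h hxS hxA c.hna (hδU b hb)
  refine ⟨y, hy, ?_⟩
  rw [← hyb, inv_inv]
  group

/-- a nontrivial `p`-element of `Aut_F(Z(S)⟨x⟩)` is a transvection -/
theorem isTv_of_pel_H (c : OC S A p) (hS : IsPGroup p S) (F : FusionSystem S)
    (hF : F.IsSaturated p) (hxS : x ∈ S) (hxA : x ∉ A)
    (hP : F.IsEssential p (ZS S ⊔ zpowers x)) {ρ : MulAut ↥(ZS S ⊔ zpowers x)}
    (hρ : ρ ∈ F.autGroup (ZS S ⊔ zpowers x)) {k : ℕ} (hk : ρ ^ (p ^ k) = 1) (hρ1 : ρ ≠ 1) :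
    @IsTv _ (abInst _ (H_comm c.h hxS hxA)) p ρ := by
  letI := abInst _ (H_comm c.h hxS hxA)
  obtain ⟨g, hg, hb⟩ := sylow_conj_H c hS F hF hxS hxA hP (zpowers ρ) (zpowers_le.2 hρ)
    (isPGroup_zpowers hk)
  obtain ⟨y, hy, hρy⟩ := hb ρ (mem_zpowers ρ)
  have hyZ : y ∉ ZS S := by
    intro hyZ
    apply hρ1
    rw [hρy, tauH_eq_one hxS hyZ, mul_one, mul_inv_cancel]
  rw [hρy]
  exact (isTv_tauH c hxS hxA hy hyZ).conj g

/-- a `p`-element of `Aut_F(Z(S)⟨x⟩)` forms a non-degenerate pair with `τ_y` or fixes `Z(S)` -/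
theorem pel_cases_H (c : OC S A p) (hS : IsPGroup p S) (F : FusionSystem S)
    (hF : F.IsSaturated p) (hxS : x ∈ S) (hxA : x ∉ A)
    (hP : F.IsEssential p (ZS S ⊔ zpowers x)) {y : Ω} (hy : y ∈ Z2 S) (hyZ : y ∉ ZS S)
    {ρ : MulAut ↥(ZS S ⊔ zpowers x)} (hρ : ρ ∈ F.autGroup (ZS S ⊔ zpowers x)) {k : ℕ}
    (hk : ρ ^ (p ^ k) = 1) :
    @NDPair _ (abInst _ (H_comm c.h hxS hxA)) p (tauH hxS y hy) ρ ∨
      ∀ a : ↥(ZS S ⊔ zpowers x), (a : Ω) ∈ ZS S → ρ a = a := by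
  letI := abInst _ (H_comm c.h hxS hxA)
  have hPS : ZS S ⊔ zpowers x ≤ S := H_le' hxS
  haveI : Finite ↥(ZS S ⊔ zpowers x) := finite_of_le hPS
  have hPp : IsPGroup p ↥(ZS S ⊔ zpowers x) := hS.to_le hPS
  by_cases hρ1 : ρ = 1
  · right
    intro a _
    rw [hρ1]
    rfl
  by_cases hpg : IsPGroup p (closure {tauH hxS y hy, ρ})
  · right
    have hle : closure {tauH hxS y hy, ρ} ≤ F.autGroup (ZS S ⊔ zpowers x) := by
      rw [closure_le]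
      rintro t (rfl | ht)
      · exact autInducedBy_le_autGroup F hPS (tauH_mem hxS y hy)
      · rw [Set.mem_singleton_iff.1 ht]; exact hρ
    obtain ⟨g, hg, hb⟩ := sylow_conj_H c hS F hF hxS hxA hP _ hle hpg
    obtain ⟨s₁, hs₁, e₁⟩ := hb _ (subset_closure (Set.mem_insert _ _))
    obtain ⟨s₂, hs₂, e₂⟩ := hb ρ (subset_closure (Set.mem_insert_of_mem _ rfl))
    have hs₁Z : s₁ ∉ ZS S := by
      intro h
      apply tauH_ne_one c hxS hxA hy hyZ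
      rw [e₁, tauH_eq_one hxS h, mul_one, mul_inv_cancel]
    intro a ha
    have h1 : a ∈ fixg (tauH hxS y hy) := by
      rw [fixg_tauH c.h hxS hxA c.hna c.Z2A hy hyZ, mem_subgroupOf]; exact ha
    rw [e₁, mem_fixg_conj, fixg_tauH c.h hxS hxA c.hna c.Z2A hs₁ hs₁Z, mem_subgroupOf] at h1
    rw [e₂, MulAut.mul_apply, MulAut.mul_apply, tauH_fix_ZS hxS s₂ hs₂ h1, MulAut.apply_inv_self]
  · left
    exact ndPair_of_not_isPGroup hPp (isTv_tauH c hxS hxA hy hyZ)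
      (isTv_of_pel_H c hS F hF hxS hxA hP hρ hk hρ1) hpg

end

end Cfsg.Agent.Lib.Helper11.OL
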