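import Mathlib
import Cfsg.Agent.Lib.Helper11.OLg

/-!
Partners and the inverting automorphisms of `S` (helper11), for S5244.
-/
set_option autoImplicit false

namespace Cfsg.Agent.Lib.Helper11.OL

open Subgroup Cfsg Cfsg.Agent.Lib.Helper29 Cfsg.Agent.Lib.Helper11.UAa Cfsg.Agent.Lib.Helper11.UAb
  Cfsg.Agent.Lib.Helper11.ESe Cfsg.Agent.Lib.Helper11.UAc Cfsg.Agent.Lib.Helper11.XSb
  Cfsg.Agent.Lib.Helper11.ESa

variable {Ω : Type*} [Group Ω] {S A : Subgroup Ω} {p : ℕ} {x : Ω}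

section inv
variable {K : Subgroup Ω}

theorem isInv_conj' (hKinv : ∀ (β : MulAut ↥S) (k : S), (k : Ω) ∈ K → ((β k : S) : Ω) ∈ K)
    {γ β : MulAut ↥S} (i : IsInv K γ) : IsInv K (β⁻¹ * γ * β) := by
  constructor
  · intro k hk hkS
    have h1 : ((β ⟨k, hkS⟩ : S) : Ω) ∈ K := hKinv β ⟨k, hkS⟩ hk
    have h2 : γ (β ⟨k, hkS⟩) = (β ⟨k, hkS⟩)⁻¹ := Subtype.ext (i.inv _ h1 (β ⟨k, hkS⟩).2)
    have : (β⁻¹ * γ * β) ⟨k, hkS⟩ = (⟨k, hkS⟩ : S)⁻¹ := by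
      rw [MulAut.mul_apply, MulAut.mul_apply, h2, map_inv, MulAut.inv_apply_self]
    exact congrArg Subtype.val this
  · intro x hx
    have h1 : ((β ⟨x, hx.1⟩ : S) : Ω) ∈ Zc S := char_Zc β hx
    have h2 := i.mod _ h1
    have h3 := hKinv β⁻¹ ((β ⟨x, hx.1⟩)⁻¹ * γ (β ⟨x, hx.1⟩)) h2
    have e : β⁻¹ ((β ⟨x, hx.1⟩)⁻¹ * γ (β ⟨x, hx.1⟩)) =
        (⟨x, hx.1⟩ : S)⁻¹ * (β⁻¹ * γ * β) ⟨x, hx.1⟩ := by
      rw [map_mul, map_inv, MulAut.inv_apply_self, MulAut.mul_apply, MulAut.mul_apply]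
    rw [e] at h3
    exact h3

variable [Finite S] [Fact p.Prime]

theorem fix_of_chain' (hK : Nat.card K = p) (hS : IsPGroup p S) (F : FusionSystem S)
    (hF : F.IsSaturated p) {δ : MulAut ↥S} (hδ : δ ∈ F.autGroup S)
    (hKfix : ∀ k : S, (k : Ω) ∈ K → δ k = k)
    (hZ : ∀ x : S, (x : Ω) ∈ Zc S → ((x⁻¹ * δ x : S) : Ω) ∈ K)
    {x : S} (hx : (x : Ω) ∈ Zc S) : δ x = x := by
  have hp : p.Prime := Fact.out
  have h1 : (δ ^ p) x = x := by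
    have := pow_fix_step' (M₀ := K.subgroupOf S) δ x (mem_subgroupOf.2 (hZ x hx))
      (fun z hz => hKfix z (mem_subgroupOf.1 hz)) p
    rw [this]
    have h2 : ((x⁻¹ * δ x : S)) ^ p = 1 := by
      apply Subtype.ext
      have h3 := pow_card_eq_one' (G := K) (x := ⟨_, hZ x hx⟩)
      rw [hK] at h3
      have h4 := congrArg Subtype.val h3
      simpa using h4
    rw [h2, mul_one]
  obtain ⟨m, hm, hinn⟩ := exists_pow_mem_inn hS F hF hδ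
  have h2 : (δ ^ m) x = x := by
    obtain ⟨h, hh⟩ := hinn
    rw [← hh]
    apply Subtype.ext
    show (h : Ω) * x * (h : Ω)⁻¹ = x
    rw [(mem_Zc.1 hx).2 h h.2, mul_inv_cancel_right]
  have hcop : IsCoprime (p : ℤ) (m : ℤ) :=
    Nat.isCoprime_iff_coprime.2 ((Nat.Prime.coprime_iff_not_dvd hp).2 hm)
  obtain ⟨a, b, hab⟩ := hcop
  have e : δ = (δ ^ p) ^ a * (δ ^ m) ^ b := by
    rw [← zpow_natCast, ← zpow_natCast, ← zpow_mul, ← zpow_mul, ← zpow_add, mul_comm (p : ℤ),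
      mul_comm (m : ℤ), hab, zpow_one]
  rw [e, MulAut.mul_apply, zpow_fix h2, zpow_fix h1]

/-- two inverting `F`-automorphisms of `S` agree on `Z(S)` -/
theorem isInv_agree' (hK : Nat.card K = p) (hS : IsPGroup p S) (F : FusionSystem S)
    (hF : F.IsSaturated p) {γ₁ γ₂ : MulAut ↥S} (h₁ : γ₁ ∈ F.autGroup S) (h₂ : γ₂ ∈ F.autGroup S)
    (i₁ : IsInv K γ₁) (i₂ : IsInv K γ₂) {x : S} (hx : (x : Ω) ∈ Zc S) : γ₁ x = γ₂ x := by
  have inv2 : ∀ k : S, (k : Ω) ∈ K → γ₂⁻¹ k = k⁻¹ := by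
    intro k hk
    rw [MulAut.inv_apply, MulEquiv.symm_apply_eq, map_inv]
    have := i₂.inv k hk k.2
    have e : γ₂ k = k⁻¹ := Subtype.ext this
    rw [e, inv_inv]
  have hδ : γ₂⁻¹ * γ₁ ∈ F.autGroup S := mul_mem (inv_mem h₂) h₁
  have key := fix_of_chain' hK hS F hF hδ (x := x) ?_ ?_ hx
  · rw [MulAut.mul_apply, MulAut.inv_apply, MulEquiv.symm_apply_eq] at key
    exact key
  · intro k hk
    rw [MulAut.mul_apply]
    have e : γ₁ k = k⁻¹ := Subtype.ext (i₁.inv k hk k.2)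
    rw [e, map_inv, inv2 k hk, inv_inv]
  · intro u hu
    have hk₁ : ((u⁻¹ * γ₁ u : S) : Ω) ∈ K := i₁.mod u hu
    have hu' : ((γ₂⁻¹ u : S) : Ω) ∈ Zc S := char_Zc _ hu
    have hk₂ : (((γ₂⁻¹ u)⁻¹ * γ₂ (γ₂⁻¹ u) : S) : Ω) ∈ K := i₂.mod _ hu'
    rw [MulAut.apply_inv_self] at hk₂
    have e : u⁻¹ * (γ₂⁻¹ * γ₁) u = (u⁻¹ * γ₂⁻¹ u) * γ₂⁻¹ (u⁻¹ * γ₁ u) := by
      rw [MulAut.mul_apply, map_mul, map_inv]
      group
    rw [e, inv2 _ hk₁]
    have h5 : ((u⁻¹ * γ₂⁻¹ u : S) : Ω) ∈ K := by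
      have : (u⁻¹ * γ₂⁻¹ u : S) = ((γ₂⁻¹ u)⁻¹ * u)⁻¹ := by group
      rw [this]
      exact K.inv_mem hk₂
    exact K.mul_mem h5 (K.inv_mem hk₁)

end inv

theorem Z0_inv (β : MulAut ↥S) (k : S) (hk : (k : Ω) ∈ Z0 S) : ((β k : S) : Ω) ∈ Z0 S :=
  Subgroup.mem_inf.2 ⟨char_Zc β hk.1, char_S' β hk.2⟩

variable [Finite S] [Fact p.Prime]

/-- an essential `Z(S)⟨x⟩` has a non-degenerate pair `(τ_y, σ)` in its automizer -/
theorem exists_partner_H (c : OC S A p) (hS : IsPGroup p S) (F : FusionSystem S)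
    (hF : F.IsSaturated p) (hxS : x ∈ S) (hxA : x ∉ A)
    (hP : F.IsEssential p (ZS S ⊔ zpowers x)) :
    ∃ (y : Ω) (hy : y ∈ Z2 S), y ∉ ZS S ∧ ∃ σ ∈ F.autGroup (ZS S ⊔ zpowers x),
      @NDPair _ (abInst _ (H_comm c.h hxS hxA)) p (tauH hxS y hy) σ := by
  classical
  letI := abInst _ (H_comm c.h hxS hxA)
  have hPS : ZS S ⊔ zpowers x ≤ S := H_le' hxS
  haveI : Finite ↥(ZS S ⊔ zpowers x) := finite_of_le hPS
  have hPp : IsPGroup p ↥(ZS S ⊔ zpowers x) := hS.to_le hPS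
  have hP' := hP
  obtain ⟨-, -, hNn, E, hE⟩ := hP
  have hN : (Inn ↥(ZS S ⊔ zpowers x)).subgroupOf (F.autGroup (ZS S ⊔ zpowers x)) = ⊥ := by
    rw [eq_bot_iff]
    rintro ⟨α, hα⟩ hmem
    rw [mem_subgroupOf] at hmem
    obtain ⟨h, hh⟩ := hmem
    rw [mem_bot]
    apply Subtype.ext
    show α = 1
    have hh' : MulAut.conj h = α := hh
    rw [← hh']
    ext u
    show ((h * u * h⁻¹ : ↥(ZS S ⊔ zpowers x)) : Ω) = u
    rw [mul_comm h u, mul_inv_cancel_right]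
  obtain ⟨a', b', ha', hb', hnp'⟩ :=
    Cfsg.Agent.Lib.Helper9.EssentialPSq.exists_pair_of_stronglyPEmbedded p E hE
  obtain ⟨a, rfl⟩ := QuotientGroup.mk'_surjective _ a'
  obtain ⟨b, rfl⟩ := QuotientGroup.mk'_surjective _ b'
  have hinj : ∀ t : F.autGroup (ZS S ⊔ zpowers x),
      QuotientGroup.mk' ((Inn ↥(ZS S ⊔ zpowers x)).subgroupOf (F.autGroup (ZS S ⊔ zpowers x))) t
        = 1 → t = 1 := by
    intro t ht
    have : t ∈ (QuotientGroup.mk'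
        ((Inn ↥(ZS S ⊔ zpowers x)).subgroupOf (F.autGroup (ZS S ⊔ zpowers x)))).ker := ht
    rw [QuotientGroup.ker_mk', hN, mem_bot] at this
    exact this
  obtain ⟨ka, hka⟩ : ∃ k : ℕ, a ^ (p ^ k) = 1 := by
    obtain ⟨k, hk⟩ := ha'
    exact ⟨k, hinj _ (by rw [map_pow]; exact hk)⟩
  obtain ⟨kb, hkb⟩ : ∃ k : ℕ, b ^ (p ^ k) = 1 := by
    obtain ⟨k, hk⟩ := hb'
    exact ⟨k, hinj _ (by rw [map_pow]; exact hk)⟩
  have hnp : ¬ IsPGroup p (closure {a, b}) := by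
    intro h
    apply hnp'
    have h1 := h.map (QuotientGroup.mk'
      ((Inn ↥(ZS S ⊔ zpowers x)).subgroupOf (F.autGroup (ZS S ⊔ zpowers x))))
    rw [MonoidHom.map_closure, Set.image_pair] at h1
    exact h1
  have hka' : (a : MulAut ↥(ZS S ⊔ zpowers x)) ^ (p ^ ka) = 1 := by
    have := congrArg Subtype.val hka
    simpa using this
  have hkb' : (b : MulAut ↥(ZS S ⊔ zpowers x)) ^ (p ^ kb) = 1 := by
    have := congrArg Subtype.val hkb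
    simpa using this
  have hnp2 : ¬ IsPGroup p (closure {(a : MulAut ↥(ZS S ⊔ zpowers x)),
      (b : MulAut ↥(ZS S ⊔ zpowers x))}) := by
    intro h
    apply hnp
    have e : (closure {a, b}).map (F.autGroup (ZS S ⊔ zpowers x)).subtype =
        closure {(a : MulAut ↥(ZS S ⊔ zpowers x)), (b : MulAut ↥(ZS S ⊔ zpowers x))} := by
      rw [MonoidHom.map_closure, Set.image_pair]
      rfl
    rw [← e] at h
    exact h.of_equiv ((closure {a, b}).equivMapOfInjective _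
      (F.autGroup (ZS S ⊔ zpowers x)).subtype_injective).symm
  obtain ⟨g, hg, hgb⟩ := sylow_conj_H c hS F hF hxS hxA hP'
    (zpowers (a : MulAut ↥(ZS S ⊔ zpowers x))) (zpowers_le.2 a.2) (isPGroup_zpowers hka')
  obtain ⟨s, hs, has⟩ := hgb _ (mem_zpowers _)
  obtain ⟨σ, hσ⟩ : ∃ σ : MulAut ↥(ZS S ⊔ zpowers x), σ = g⁻¹ * b * g := ⟨_, rfl⟩
  have hσmem : σ ∈ F.autGroup (ZS S ⊔ zpowers x) := by
    rw [hσ]
    exact mul_mem (mul_mem (inv_mem hg) b.2) hg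
  have hnp3 : ¬ IsPGroup p (closure {tauH hxS s hs, σ}) := by
    intro h
    apply hnp2
    have h1 := h.map (MulAut.conj g).toMonoidHom
    rw [MonoidHom.map_closure, Set.image_pair] at h1
    have e1 : (MulAut.conj g).toMonoidHom (tauH hxS s hs) = a := by
      show g * tauH hxS s hs * g⁻¹ = a
      exact has.symm
    have e2 : (MulAut.conj g).toMonoidHom σ = b := by
      show g * σ * g⁻¹ = b
      rw [hσ]; group
    rw [e1, e2] at h1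
    exact h1
  have hσk : σ ^ (p ^ kb) = 1 := by
    have : σ = g⁻¹ * b * g⁻¹⁻¹ := by rw [hσ, inv_inv]
    rw [this, conj_pow, hkb', mul_one, mul_inv_cancel]
  have hsZ : s ∉ ZS S := by
    intro hsZ
    apply hnp3
    rw [tauH_eq_one hxS hsZ]
    exact isPGroup_closure_one_left hσk
  have hσ1 : σ ≠ 1 := by
    intro h1
    apply hnp3
    rw [h1]
    apply isPGroup_closure_one_right (k := 1)
    rw [pow_one]
    exact (isTv_tauH c hxS hxA hs hsZ).pow_p_eq_one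
  exact ⟨s, hs, hsZ, σ, hσmem, ndPair_of_not_isPGroup hPp (isTv_tauH c hxS hxA hs hsZ)
    (isTv_of_pel_H c hS F hF hxS hxA hP' hσmem hσk hσ1) hnp3⟩

/-- the torus involution of a non-degenerate pair is induced by an inverting automorphism of `S` -/
theorem exists_inv_aut_H (c : OC S A p) (hS : IsPGroup p S) (F : FusionSystem S)
    (hF : F.IsSaturated p) (hAe : ¬ F.IsEssential p A) (hxS : x ∈ S) (hxA : x ∉ A)
    (hP : F.IsEssential p (ZS S ⊔ zpowers x)) {y : Ω} (hy : y ∈ Z2 S) (hyZ : y ∉ ZS S)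
    {ρ : MulAut ↥(ZS S ⊔ zpowers x)} (hρ : ρ ∈ F.autGroup (ZS S ⊔ zpowers x))
    (nd : @NDPair _ (abInst _ (H_comm c.h hxS hxA)) p (tauH hxS y hy) ρ) :
    ∃ γ ∈ F.autGroup S, IsInv (Z0 S) γ ∧
      (∀ v : ↥(ZS S ⊔ zpowers x),
        v ∈ @fixg _ (abInst _ (H_comm c.h hxS hxA)) (tauH hxS y hy) ⊓
          @fixg _ (abInst _ (H_comm c.h hxS hxA)) ρ →
        ((γ ⟨v, H_le' hxS v.2⟩ : S) : Ω) = v) ∧
      (p ≠ 2 → ∀ v : ↥(ZS S ⊔ zpowers x), (v : Ω) ∈ ZS S →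
        ((γ ⟨v, H_le' hxS v.2⟩ : S) : Ω) = v →
        v ∈ @fixg _ (abInst _ (H_comm c.h hxS hxA)) (tauH hxS y hy) ⊓
          @fixg _ (abInst _ (H_comm c.h hxS hxA)) ρ) := by
  letI := abInst _ (H_comm c.h hxS hxA)
  have hPS : ZS S ⊔ zpowers x ≤ S := H_le' hxS
  haveI : Finite ↥(ZS S ⊔ zpowers x) := finite_of_le hPS
  have hp : p.Prime := Fact.out
  have hPA : ZS S ⊔ zpowers x ≠ A := fun e => hAe (e ▸ hP)
  obtain ⟨z, z', w, fr⟩ := nd.exists_frame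
  obtain ⟨ι, hιmem, hιτ, hιv, hιd⟩ := fr.exists_torus
  have hτmem : tauH hxS y hy ∈ F.autGroup (ZS S ⊔ zpowers x) :=
    autInducedBy_le_autGroup F hPS (tauH_mem hxS y hy)
  have hιG : ι ∈ F.autGroup (ZS S ⊔ zpowers x) := closure_pair_le hτmem hρ hιmem
  have hc : ι * tauH hxS y hy * ι⁻¹ ∈ autInducedBy S (ZS S ⊔ zpowers x) := by
    rw [hιτ, mul_inv_cancel_right]
    exact tauH_mem hxS y hy
  have hbI : tauH hxS y hy ∉ Inn ↥(ZS S ⊔ zpowers x) := by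
    rintro ⟨h', hh⟩
    apply tauH_ne_one c hxS hxA hy hyZ
    rw [← hh]
    ext u
    show ((h' * u * h'⁻¹ : ↥(ZS S ⊔ zpowers x)) : Ω) = u
    rw [mul_comm h' u, mul_inv_cancel_right]
  have hidx := (classify hS F hF c.h hP hPA).2
  obtain ⟨ι₁, hι₁, hι₁ι⟩ := exists_ext_normalizer hS F hF hPS hP.2.1 hidx hιG
    (tauH_mem hxS y hy) hbI hc
  have hNS : FusionSystem.normalizerIn S (ZS S ⊔ zpowers x) ≤ S := inf_le_left
  have hφ₁ : (FusionSystem.normalizerIn S (ZS S ⊔ zpowers x)).subtype.comp ι₁.toMonoidHom ∈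
      F.Hom (FusionSystem.normalizerIn S (ZS S ⊔ zpowers x)) := (mem_autGroup_iff F hNS).1 hι₁
  have hno : ∀ R, F.IsEssential p R →
      ¬ Big F (FusionSystem.normalizerIn S (ZS S ⊔ zpowers x)) R := by
    rw [normalizerIn_H c.h hxS hxA c.hna]
    exact c.no_big hS F hF hAe hxS hxA hP
  obtain ⟨γ, hγ, hγφ⟩ := exists_restr p hS F hF _ hNS hno hφ₁
  have hγι' : ∀ v : ↥(ZS S ⊔ zpowers x), ((γ ⟨v, hPS v.2⟩ : S) : Ω) = ι v := by
    intro v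
    have hvN : (v : Ω) ∈ FusionSystem.normalizerIn S (ZS S ⊔ zpowers x) :=
      le_normalizerIn hPS v.2
    have := hγφ ⟨v, hvN⟩ (hPS v.2)
    rw [← this]
    exact hι₁ι v v.2 hvN
  have hrange := range_tauH c hxS hxA hy hyZ
  have hfixg := fixg_tauH c.h hxS hxA c.hna c.Z2A hy hyZ
  have hZ0P : Z0 S ≤ ZS S ⊔ zpowers x := inf_le_left.trans le_sup_left
  have hdec : ∀ u : ↥(ZS S ⊔ zpowers x), (u : Ω) ∈ ZS S →
      ∃ v ∈ fixg (tauH hxS y hy) ⊓ fixg ρ,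
      ∃ d ∈ (dlt (tauH hxS y hy)).range, u = v * d ∧ ι u = v * d⁻¹ := by
    intro u hu
    have hu' : u ∈ fixg (tauH hxS y hy) := by rw [hfixg, mem_subgroupOf]; exact hu
    obtain ⟨v, hv, i, hi⟩ := fr.decomp_fix hu'
    have hd : z ^ i ∈ (dlt (tauH hxS y hy)).range := zpow_mem fr.hz i
    refine ⟨v, hv, z ^ i, hd, hi, ?_⟩
    rw [hi, map_mul, hιv v hv, hιd _ hd]
  refine ⟨γ, hγ, ⟨?_, ?_⟩, ?_, ?_⟩
  · intro k hk hkS
    have hkP : k ∈ ZS S ⊔ zpowers x := hZ0P hk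
    have h1 : (⟨k, hkP⟩ : ↥(ZS S ⊔ zpowers x)) ∈ (dlt (tauH hxS y hy)).range := by
      rw [hrange, mem_subgroupOf]; exact hk
    have h2 := hιd _ h1
    have h3 := hγι' ⟨k, hkP⟩
    rw [h2] at h3
    exact h3
  · intro u hu
    have huZ : u ∈ ZS S := hu
    have huP : u ∈ ZS S ⊔ zpowers x := mem_sup_left huZ
    obtain ⟨v, hv, d, hd, hud, hιu⟩ := hdec ⟨u, huP⟩ huZ
    have h3 := hγι' ⟨u, huP⟩
    have h4 : (⟨u, huP⟩ : ↥(ZS S ⊔ zpowers x))⁻¹ * ι ⟨u, huP⟩ ∈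
        (dlt (tauH hxS y hy)).range := by
      rw [hιu]
      have e : (⟨u, huP⟩ : ↥(ZS S ⊔ zpowers x))⁻¹ * (v * d⁻¹) = d⁻¹ * d⁻¹ := by
        rw [hud, mul_inv, mul_mul_mul_comm, inv_mul_cancel, one_mul]
      rw [e]
      exact mul_mem (inv_mem hd) (inv_mem hd)
    rw [hrange, mem_subgroupOf] at h4
    have e2 : u⁻¹ * ((γ ⟨u, hu.1⟩ : S) : Ω) =
        (((⟨u, huP⟩ : ↥(ZS S ⊔ zpowers x))⁻¹ * ι ⟨u, huP⟩ : ↥(ZS S ⊔ zpowers x)) : Ω) := by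
      rw [Subgroup.coe_mul, ← h3]
      rfl
    rw [e2]
    exact h4
  · intro v hv
    rw [hγι' v, hιv v hv]
  · intro hp2 v hvZ hγv
    obtain ⟨u, hu, d, hd, hvd, hιv'⟩ := hdec v hvZ
    have h1 : ι v = v := by
      apply Subtype.ext
      rw [← hγι' v]
      exact hγv
    rw [hιv', hvd] at h1
    have h2 : d⁻¹ = d := mul_left_cancel h1
    have hd2 : d ^ 2 = 1 := by
      rw [pow_two]
      nth_rewrite 1 [← h2]
      exact inv_mul_cancel d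
    have hdp : d ^ p = 1 := pow_card_range fr.hτ hd
    have h3 : orderOf d ∣ Nat.gcd p 2 := Nat.dvd_gcd (orderOf_dvd_of_pow_eq_one hdp)
      (orderOf_dvd_of_pow_eq_one hd2)
    have h4 : Nat.gcd p 2 = 1 := (Nat.coprime_primes hp Nat.prime_two).2 hp2
    rw [h4, Nat.dvd_one, orderOf_eq_one_iff] at h3
    rw [hvd, h3, mul_one]
    exact hu

end Cfsg.Agent.Lib.Helper11.OL
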