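import Mathlib
import Cfsg.Agent.Lib.Helper11.OLh

/-!
Frattini argument: automorphisms of an essential subgroup act on `Z(S)` like automorphisms of `S`
(helper11), for S5244.
-/
set_option autoImplicit false

namespace Cfsg.Agent.Lib.Helper11.OL

open Subgroup Cfsg Cfsg.Agent.Lib.Helper29 Cfsg.Agent.Lib.Helper11.UAa Cfsg.Agent.Lib.Helper11.UAb
  Cfsg.Agent.Lib.Helper11.ESe Cfsg.Agent.Lib.Helper11.UAc Cfsg.Agent.Lib.Helper11.XSb
  Cfsg.Agent.Lib.Helper11.ESa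

variable {Ω : Type*} [Group Ω] {S A : Subgroup Ω} {p : ℕ} [Finite S] [Fact p.Prime]

theorem restr_of_frattini (hS : IsPGroup p S) (F : FusionSystem S) (hF : F.IsSaturated p)
    {R : Subgroup Ω} (hR : F.IsEssential p R)
    (hRcen : ∀ (θ : MulAut ↥R) (z : R), (z : Ω) ∈ ZS S → ((θ z : R) : Ω) ∈ ZS S)
    (hidx : (R.subgroupOf (S ⊓ normalizer (R : Set Ω))).index = p)
    (hno : ∀ R', F.IsEssential p R' → ¬ Big F (FusionSystem.normalizerIn S R) R')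
    {α : MulAut ↥R} (hα : α ∈ F.autGroup R) :
    ∃ β ∈ F.autGroup S, ∀ v : R, (v : Ω) ∈ ZS S →
      ((α v : R) : Ω) = ((β ⟨v, hR.1.1 v.2⟩ : S) : Ω) := by
  classical
  have hRS : R ≤ S := hR.1.1
  haveI : Finite R := finite_of_le hRS
  obtain ⟨-, Q, hQ⟩ := (((Cfsg.Agent.S5077.result p hS F).1 hF).1 R hR.2.1).2
  let N₀ : Subgroup (MulAut ↥R) :=
    { carrier := {θ | ∀ z : R, (z : Ω) ∈ ZS S → θ z = z}
      one_mem' := fun z _ => rfl
      mul_mem' := by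
        intro θ θ' hθ hθ' z hz
        rw [MulAut.mul_apply, hθ' z hz, hθ z hz]
      inv_mem' := by
        intro θ hθ z hz
        rw [MulAut.inv_apply, MulEquiv.symm_apply_eq, hθ z hz] }
  have hN₀ : ∀ θ, θ ∈ N₀ ↔ ∀ z : R, (z : Ω) ∈ ZS S → θ z = z := fun θ => Iff.rfl
  haveI hNn : (N₀.subgroupOf (F.autGroup R)).Normal := by
    constructor
    intro n hn g
    rw [mem_subgroupOf] at hn ⊢
    have e : ((g * n * g⁻¹ : ↥(F.autGroup R)) : MulAut ↥R) =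
        (g : MulAut ↥R) * n * (g : MulAut ↥R)⁻¹ := rfl
    rw [e, hN₀]
    intro z hz
    have h1 := hRcen (g : MulAut ↥R)⁻¹ z hz
    rw [MulAut.mul_apply, MulAut.mul_apply, (hN₀ _).1 hn _ h1, MulAut.apply_inv_self]
  have hTN : ∀ t ∈ autInducedBy S R, t ∈ N₀ := by
    intro t ht
    obtain ⟨s, hs, hsN, rfl⟩ := mem_autInducedBy_iff.1 ht
    intro z hz
    apply Subtype.ext
    show s * z * s⁻¹ = z
    rw [(mem_ZS.1 hz).2 s hs, mul_inv_cancel_right]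
  have hQN : (Q : Subgroup ↥(F.autGroup R)) ≤ N₀.subgroupOf (F.autGroup R) := by
    rw [hQ]
    intro t ht
    rw [mem_subgroupOf] at ht ⊢
    exact hTN _ ht
  have hfr := Sylow.normalizer_sup_eq_top' Q hQN
  have hmem0 : (⟨α, hα⟩ : ↥(F.autGroup R)) ∈ (⊤ : Subgroup ↥(F.autGroup R)) := mem_top _
  rw [← hfr] at hmem0
  have hmem := SetLike.mem_coe.2 hmem0
  rw [Subgroup.mul_normal] at hmem
  obtain ⟨g, hg, n, hn, hgn⟩ := Set.mem_mul.1 hmem
  have hRlt : R < S := lt_of_le_of_ne hRS (ne_of_isEssential hS F hF hR)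
  obtain ⟨n₀, hn₀, hn₀R⟩ := exists_mem_normalizerIn_not_mem hS hRlt
  obtain ⟨b, hbdef⟩ : ∃ b : MulAut ↥R, b = R.normalizerMonoidHom ⟨n₀, hn₀.2⟩ := ⟨_, rfl⟩
  have hb : b ∈ autInducedBy S R := mem_autInducedBy_iff.2 ⟨n₀, hn₀.1, hn₀.2, hbdef⟩
  have hbI : b ∉ Inn ↥R := by
    rintro ⟨r, hr⟩
    apply hn₀R
    have hr' : ∀ u : R, (r : Ω) * u * (r : Ω)⁻¹ = n₀ * u * n₀⁻¹ := by
      intro u
      have h1 : (MulAut.conj r) u = b u := by
        have hr2 : MulAut.conj r = b := hr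
        rw [hr2]
      rw [hbdef] at h1
      exact congrArg Subtype.val h1
    have hcen : (r : Ω)⁻¹ * n₀ ∈ FusionSystem.centralizerIn S R := by
      refine ⟨S.mul_mem (S.inv_mem (hRS r.2)) hn₀.1, mem_centralizer_iff.2 fun u hu => ?_⟩
      have h := hr' ⟨u, hu⟩
      calc u * ((r : Ω)⁻¹ * n₀) = (r : Ω)⁻¹ * ((r : Ω) * u * (r : Ω)⁻¹) * n₀ := by group
        _ = (r : Ω)⁻¹ * (n₀ * u * n₀⁻¹) * n₀ := by rw [h]
        _ = (r : Ω)⁻¹ * n₀ * u := by group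
    have h2 := cen_le F hR hcen
    have e : n₀ = (r : Ω) * ((r : Ω)⁻¹ * n₀) := by group
    rw [e]
    exact R.mul_mem r.2 h2
  have hbG : b ∈ F.autGroup R := autInducedBy_le_autGroup F hRS hb
  have hc : (g : MulAut ↥R) * b * (g : MulAut ↥R)⁻¹ ∈ autInducedBy S R := by
    have hbQ : (⟨b, hbG⟩ : ↥(F.autGroup R)) ∈ (Q : Subgroup ↥(F.autGroup R)) := by
      rw [hQ, mem_subgroupOf]
      exact hb
    have h' : g * ⟨b, hbG⟩ * g⁻¹ ∈ (Q : Subgroup ↥(F.autGroup R)) :=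
      (mem_normalizer_iff.1 hg ⟨b, hbG⟩).1 hbQ
    rw [hQ, mem_subgroupOf] at h'
    exact h'
  obtain ⟨g₁, hg₁, hg₁g⟩ := exists_ext_normalizer hS F hF hRS hR.2.1 hidx g.2 hb hbI hc
  have hNS : FusionSystem.normalizerIn S R ≤ S := inf_le_left
  have hφ₁ : (FusionSystem.normalizerIn S R).subtype.comp g₁.toMonoidHom ∈
      F.Hom (FusionSystem.normalizerIn S R) := (mem_autGroup_iff F hNS).1 hg₁
  obtain ⟨β, hβ, hβφ⟩ := exists_restr p hS F hF _ hNS hno hφ₁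
  refine ⟨β, hβ, fun v hv => ?_⟩
  have e : α = (g : MulAut ↥R) * (n : MulAut ↥R) := by
    have := congrArg Subtype.val hgn
    exact this.symm
  have hn' : (n : MulAut ↥R) v = v := (hN₀ _).1 (mem_subgroupOf.1 hn) v hv
  rw [e, MulAut.mul_apply, hn']
  have hvN : (v : Ω) ∈ FusionSystem.normalizerIn S R := le_normalizerIn hRS v.2
  have := hβφ ⟨v, hvN⟩ (hRS v.2)
  rw [← this]
  exact (hg₁g v v.2 hvN).symm

/-- for an essential subgroup `Z₂(S)⟨x₁⟩` -/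
theorem OC.B_restr (c : OC S A p) (hS : IsPGroup p S) (F : FusionSystem S) (hF : F.IsSaturated p)
    (hAe : ¬ F.IsEssential p A) {x₁ : Ω} (hx₁S : x₁ ∈ S) (hx₁A : x₁ ∉ A)
    (hR : F.IsEssential p (Z2 S ⊔ zpowers x₁)) {α : MulAut ↥(Z2 S ⊔ zpowers x₁)}
    (hα : α ∈ F.autGroup (Z2 S ⊔ zpowers x₁)) :
    ∃ β ∈ F.autGroup S, ∀ v : ↥(Z2 S ⊔ zpowers x₁), (v : Ω) ∈ ZS S →
      ((α v : ↥(Z2 S ⊔ zpowers x₁)) : Ω) = ((β ⟨v, hR.1.1 v.2⟩ : S) : Ω) := by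
  have hp : p.Prime := Fact.out
  have h := c.h
  have hRS : Z2 S ⊔ zpowers x₁ ≤ S := hR.1.1
  have hRA : Z2 S ⊔ zpowers x₁ ≠ A := fun e => hAe (e ▸ hR)
  haveI : Finite ↥(ZS S) := finite_of_le inf_le_left
  have hZpos : 0 < Nat.card ↥(ZS S) := Nat.card_pos
  have hidx := (classify hS F hF h hR hRA).2
  apply restr_of_frattini hS F hF hR _ hidx _ hα
  · -- the centre of `R` is `Z(S)`
    intro θ z hz
    obtain ⟨y₀, hy₀, hy₀Z⟩ := c.exists_y0
    apply B_center h hx₁S hx₁A c.Z2A hy₀ hy₀Z (θ z).2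
    intro r hr
    obtain ⟨r', hr'⟩ := θ.surjective ⟨r, hr⟩
    have h2 : r' * z = z * r' := Subtype.ext ((mem_ZS.1 hz).2 _ (hRS r'.2))
    have h3 := congrArg θ h2
    rw [map_mul, map_mul, hr'] at h3
    exact congrArg Subtype.val h3
  · -- no essential subgroup is large enough
    rintro R' hR' ⟨R₀, hR₀R', hconj⟩
    have hR'A : R' ≠ A := fun e => hAe (e ▸ hR')
    have hR'S : R' ≤ S := hR'.1.1
    haveI : Finite R' := finite_of_le hR'S
    have hcardR : Nat.card ↥(Z2 S ⊔ zpowers x₁) = p * (p * Nat.card ↥(ZS S)) := by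
      rw [B_card h hx₁S hx₁A c.Z2A, c.card_Z2]
    have hRN : Z2 S ⊔ zpowers x₁ ≤ FusionSystem.normalizerIn S (Z2 S ⊔ zpowers x₁) :=
      le_normalizerIn hRS
    have hcardN : Nat.card ↥(FusionSystem.normalizerIn S (Z2 S ⊔ zpowers x₁)) =
        p * (p * (p * Nat.card ↥(ZS S))) := by
      have h1 := ((Z2 S ⊔ zpowers x₁).subgroupOf
        (FusionSystem.normalizerIn S (Z2 S ⊔ zpowers x₁))).index_mul_card
      have h2 : ((Z2 S ⊔ zpowers x₁).subgroupOf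
        (FusionSystem.normalizerIn S (Z2 S ⊔ zpowers x₁))).index = p := hidx
      rw [h2, Nat.card_congr (subgroupOfEquivOfLe hRN).toEquiv, hcardR] at h1
      exact h1.symm
    have hcardR₀ : Nat.card R₀ = p * (p * (p * Nat.card ↥(ZS S))) := by
      rw [← card_eq_of_isConj F hconj, hcardN]
    have hle : Nat.card R₀ ≤ Nat.card R' := Subgroup.card_le_of_le hR₀R'
    have hlt1 : p * Nat.card ↥(ZS S) < p * (p * Nat.card ↥(ZS S)) := by
      have h2 : 1 * (p * Nat.card ↥(ZS S)) < p * (p * Nat.card ↥(ZS S)) :=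
        Nat.mul_lt_mul_of_pos_right hp.one_lt (Nat.mul_pos hp.pos hZpos)
      rwa [one_mul] at h2
    have hlt2 : p * (p * Nat.card ↥(ZS S)) < p * (p * (p * Nat.card ↥(ZS S))) := by
      have h2 : 1 * (p * (p * Nat.card ↥(ZS S))) < p * (p * (p * Nat.card ↥(ZS S))) :=
        Nat.mul_lt_mul_of_pos_right hp.one_lt
          (Nat.mul_pos hp.pos (Nat.mul_pos hp.pos hZpos))
      rwa [one_mul] at h2
    obtain ⟨hcl, -⟩ := classify hS F hF h hR' hR'A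
    rcases hcl with ⟨x₂, hx₂S, hx₂A, rfl⟩ | ⟨-, x₂, hx₂S, hx₂A, rfl⟩
    · rw [hcardR₀, H_card h hx₂S hx₂A c.hna] at hle
      omega
    · rw [hcardR₀, B_card h hx₂S hx₂A c.Z2A, c.card_Z2] at hle
      omega

end Cfsg.Agent.Lib.Helper11.OL
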