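import Mathlib
import Cfsg.Agent.Lib.Helper11.OLi

/-!
`Z(S) ≤ [S,S]` when `A` is not essential (helper11), for S5244.
-/
set_option autoImplicit false

namespace Cfsg.Agent.Lib.Helper11.OL

open Subgroup Cfsg Cfsg.Agent.Lib.Helper29 Cfsg.Agent.Lib.Helper11.UAa Cfsg.Agent.Lib.Helper11.UAb
  Cfsg.Agent.Lib.Helper11.ESe Cfsg.Agent.Lib.Helper11.UAc Cfsg.Agent.Lib.Helper11.XSb
  Cfsg.Agent.Lib.Helper11.ESa

variable {Ω : Type*} [Group Ω] {S A : Subgroup Ω} {p : ℕ} [Finite S] [Fact p.Prime]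

theorem OC.center_le_commutator (c : OC S A p) (hS : IsPGroup p S) (F : FusionSystem S)
    (hF : F.IsSaturated p) (hp2 : p ≠ 2) (hcore : F.core = ⊥) (hAe : ¬ F.IsEssential p A) :
    ZS S ≤ (_root_.commutator ↥S).map S.subtype := by
  obtain ⟨x₀, hx₀S, hx₀A, hP₀⟩ := c.exists_H_essential hS F hF hcore hAe
  obtain ⟨y₀, hy₀, hy₀Z, σ₀, hσ₀, nd₀⟩ := exists_partner_H c hS F hF hx₀S hx₀A hP₀
  obtain ⟨γ₀, hγ₀, i₀, -, -⟩ := exists_inv_aut_H c hS F hF hAe hx₀S hx₀A hP₀ hy₀ hy₀Z hσ₀ nd₀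
  have agree : ∀ (x : Ω) (hxS : x ∈ S) (hxA : x ∉ A) (_ : F.IsEssential p (ZS S ⊔ zpowers x))
      (y : Ω) (hy : y ∈ Z2 S) (_ : y ∉ ZS S)
      (ρ : MulAut ↥(ZS S ⊔ zpowers x)) (_ : ρ ∈ F.autGroup (ZS S ⊔ zpowers x))
      (_ : @NDPair _ (abInst _ (H_comm c.h hxS hxA)) p (tauH hxS y hy) ρ)
      (v : ↥(ZS S ⊔ zpowers x)),
      (v : Ω) ∈ fixZ γ₀ ↔ v ∈ @fixg _ (abInst _ (H_comm c.h hxS hxA)) (tauH hxS y hy) ⊓
        @fixg _ (abInst _ (H_comm c.h hxS hxA)) ρ := by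
    intro x hxS hxA hP y hy hyZ ρ hρ nd v
    letI := abInst _ (H_comm c.h hxS hxA)
    obtain ⟨γ, hγ, i, hfix, hconv⟩ := exists_inv_aut_H c hS F hF hAe hxS hxA hP hy hyZ hρ nd
    constructor
    · intro hv
      obtain ⟨hvZ, hv0⟩ := mem_fixZ.1 hv
      apply hconv hp2 v hvZ
      have h1 : γ ⟨v, H_le' hxS v.2⟩ = γ₀ ⟨v, H_le' hxS v.2⟩ :=
        isInv_agree' c.cardZ0 hS F hF hγ hγ₀ i i₀ (x := ⟨v, H_le' hxS v.2⟩) hvZ
      rw [h1]
      exact congrArg Subtype.val hv0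
    · intro hv
      have hvZ : (v : Ω) ∈ Zc S := by
        have h0 : v ∈ fixg (tauH hxS y hy) := (Subgroup.mem_inf.1 hv).1
        rw [fixg_tauH c.h hxS hxA c.hna c.Z2A hy hyZ] at h0
        exact mem_subgroupOf.1 h0
      refine mem_fixZ.2 ⟨hvZ, ?_⟩
      have h1 : γ₀ ⟨v, H_le' hxS v.2⟩ = γ ⟨v, H_le' hxS v.2⟩ :=
        isInv_agree' c.cardZ0 hS F hF hγ₀ hγ i₀ i (x := ⟨v, H_le' hxS v.2⟩) hvZ
      rw [h1]
      exact Subtype.ext (hfix v hv)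
  have hinvS : ∀ α ∈ F.autGroup S, ∀ x : S, (x : Ω) ∈ fixZ γ₀ → ((α x : S) : Ω) ∈ fixZ γ₀ := by
    intro α hα x hx
    obtain ⟨hxZ, hx0⟩ := mem_fixZ.1 hx
    have hαx : ((α x : S) : Ω) ∈ Zc S := char_Zc α hxZ
    refine mem_fixZ.2 ⟨hαx, ?_⟩
    have hconj : IsInv (Z0 S) (α⁻¹ * γ₀ * α) := isInv_conj' Z0_inv i₀
    have hmem : α⁻¹ * γ₀ * α ∈ F.autGroup S := mul_mem (mul_mem (inv_mem hα) hγ₀) hα
    have h1 := isInv_agree' c.cardZ0 hS F hF hmem hγ₀ hconj i₀ (x := x) hxZ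
    have hx0' : γ₀ x = x := hx0
    rw [hx0', MulAut.mul_apply, MulAut.mul_apply, MulAut.inv_apply,
      MulEquiv.symm_apply_eq] at h1
    exact h1
  have hnormal : F.IsNormal (fixZ γ₀) := by
    apply isNormal_of_invariant hS F hF
    · exact (fixZ_le γ₀).trans inf_le_left
    · intro P hPe v hv
      exact ZS_le_P F hPe (fixZ_le γ₀ hv)
    · intro P hP α hα x hx
      rcases hP with hP | hPe
      · subst hP
        exact hinvS α hα x hx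
      · have hPA : P ≠ A := fun e => hAe (e ▸ hPe)
        obtain ⟨hcl, -⟩ := classify hS F hF c.h hPe hPA
        rcases hcl with ⟨x₁, hx₁S, hx₁A, rfl⟩ | ⟨-, x₁, hx₁S, hx₁A, rfl⟩
        · letI := abInst _ (H_comm c.h hx₁S hx₁A)
          haveI : Finite ↥(ZS S ⊔ zpowers x₁) := finite_of_le (H_le' hx₁S)
          obtain ⟨y, hy, hyZ, σ, hσ, nd⟩ := exists_partner_H c hS F hF hx₁S hx₁A hPe
          have hxV := (agree x₁ hx₁S hx₁A hPe y hy hyZ σ hσ nd x).1 hx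
          have hxZ : (x : Ω) ∈ ZS S := (mem_fixZ.1 hx).1
          have hτmem : tauH hx₁S y hy ∈ F.autGroup (ZS S ⊔ zpowers x₁) :=
            autInducedBy_le_autGroup F (H_le' hx₁S) (tauH_mem hx₁S y hy)
          have fixall : ∀ ρ ∈ F.autGroup (ZS S ⊔ zpowers x₁), ρ ^ (p ^ 1) = 1 → ρ x = x := by
            intro ρ hρ hρp
            rcases pel_cases_H c hS F hF hx₁S hx₁A hPe hy hyZ hρ hρp with nd' | hfix
            · exact mem_fixg.1 ((agree x₁ hx₁S hx₁A hPe y hy hyZ ρ hρ nd' x).1 hx).2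
            · exact hfix x hxZ
          have hconjfix : ∀ μ ∈ F.autGroup (ZS S ⊔ zpowers x₁), μ ^ p = 1 →
              μ (α x) = α x := by
            intro μ hμ hμp
            have h1 : (α⁻¹ * μ * α) ^ (p ^ 1) = 1 := by
              have : α⁻¹ * μ * α = α⁻¹ * μ * α⁻¹⁻¹ := by rw [inv_inv]
              rw [pow_one, this, conj_pow, hμp, mul_one, mul_inv_cancel]
            have h2 := fixall _ (mul_mem (mul_mem (inv_mem hα) hμ) hα) h1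
            rw [MulAut.mul_apply, MulAut.mul_apply, MulAut.inv_apply,
              MulEquiv.symm_apply_eq] at h2
            exact h2
          apply (agree x₁ hx₁S hx₁A hPe y hy hyZ σ hσ nd (α x)).2
          refine Subgroup.mem_inf.2 ⟨mem_fixg.2 ?_, mem_fixg.2 ?_⟩
          · exact hconjfix _ hτmem (isTv_tauH c hx₁S hx₁A hy hyZ).pow_p_eq_one
          · exact hconjfix _ hσ nd.hσ.pow_p_eq_one
        · obtain ⟨β, hβ, hβα⟩ := c.B_restr hS F hF hAe hx₁S hx₁A hPe hα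
          have hxZ : (x : Ω) ∈ ZS S := (mem_fixZ.1 hx).1
          rw [hβα x hxZ]
          exact hinvS β hβ ⟨x, hPe.1.1 x.2⟩ hx
  have hVbot : fixZ γ₀ = ⊥ := eq_bot_of_isNormal F hcore hnormal
  letI := abInst _ (H_comm c.h hx₀S hx₀A)
  haveI : Finite ↥(ZS S ⊔ zpowers x₀) := finite_of_le (H_le' hx₀S)
  obtain ⟨z, z', w, fr⟩ := nd₀.exists_frame
  intro u hu
  have huP : u ∈ ZS S ⊔ zpowers x₀ := mem_sup_left hu
  have hu' : (⟨u, huP⟩ : ↥(ZS S ⊔ zpowers x₀)) ∈ fixg (tauH hx₀S y₀ hy₀) := by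
    rw [fixg_tauH c.h hx₀S hx₀A c.hna c.Z2A hy₀ hy₀Z, mem_subgroupOf]
    exact hu
  obtain ⟨v, hv, i, hi⟩ := fr.decomp_fix hu'
  have hv1 : v = 1 := by
    have := (agree x₀ hx₀S hx₀A hP₀ y₀ hy₀ hy₀Z σ₀ hσ₀ nd₀ v).2 hv
    rw [hVbot, mem_bot] at this
    exact Subtype.ext this
  rw [hv1, one_mul] at hi
  have hmem : (⟨u, huP⟩ : ↥(ZS S ⊔ zpowers x₀)) ∈ (dlt (tauH hx₀S y₀ hy₀)).range :=
    hi ▸ zpow_mem fr.hz i
  rw [range_tauH c hx₀S hx₀A hy₀ hy₀Z, mem_subgroupOf] at hmem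
  exact hmem.2

end Cfsg.Agent.Lib.Helper11.OL
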