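import Mathlib
import Cfsg.Agent.Lib.Helper11.OLj

/-!
Maximal class when `Z(S) ≤ [S,S]` (helper11), for S5244.
-/
set_option autoImplicit false

namespace Cfsg.Agent.Lib.Helper11.OL

open Cfsg Cfsg.Agent.Lib.Helper29 Cfsg.Agent.Lib.Helper11.UAa Cfsg.Agent.Lib.Helper11.UAb
  Cfsg.Agent.Lib.Helper11.ESe Cfsg.Agent.Lib.Helper11.UAc
open scoped commutatorElement

variable {Ω : Type*} [Group Ω] {S A : Subgroup Ω} {p : ℕ} [Finite S] [Fact p.Prime]

theorem OC.maxClass (c : OC S A p) (hAidx : (A.subgroupOf S).index = p)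
    (hZ : ZS S ≤ (_root_.commutator ↥S).map S.subtype) {x₀ : Ω} (hx₀S : x₀ ∈ S) (hx₀A : x₀ ∉ A) :
    ∀ n : ℕ, Nat.card S = p ^ n → 3 ≤ n → Subgroup.lowerCentralSeries S (n - 2) ≠ ⊥ := by
  intro n hn h3 hbot
  have hp : p.Prime := Fact.out
  have hZ0 : Z0 S = ZS S := inf_eq_left.2 hZ
  have hcardZ : Nat.card ↥(ZS S) = p := by rw [← hZ0]; exact c.cardZ0
  have hidx : ((ZS S).subgroupOf S).index = p ^ (n - 1) := by
    have h1 := ((ZS S).subgroupOf S).index_mul_card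
    rw [Nat.card_congr (Subgroup.subgroupOfEquivOfLe (inf_le_left : ZS S ≤ S)).toEquiv, hcardZ,
      hn] at h1
    have : p ^ n = p ^ (n - 1) * p := by
      rw [← pow_succ]
      congr 1
      omega
    rw [this] at h1
    exact Nat.eq_of_mul_eq_mul_right hp.pos h1
  obtain ⟨-, -, h3rd⟩ := main5257 c.h c.hna hAidx hx₀S hx₀A c.Z2A c.idxZ
  by_cases h4 : n = 3
  · subst h4
    apply c.hna
    have hb : ⁅S, S⁆ = ⊥ := hbot
    refine ⟨⟨fun a b => ?_⟩⟩
    have : ⁅(a : Ω), (b : Ω)⁆ ∈ ⁅S, S⁆ := Subgroup.commutator_mem_commutator a.2 b.2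
    rw [hb, Subgroup.mem_bot, commutatorElement_eq_one_iff_mul_comm] at this
    exact Subtype.ext this
  · have hm : 3 ≤ n - 1 := by omega
    apply h3rd (n - 1) hidx hm
    have e : n - 2 = (n - 1 - 2) + 1 := by omega
    rw [e, Subgroup.lowerCentralSeries_succ, Subgroup.commutator_eq_bot_iff_le_centralizer] at hbot
    exact le_inf (S.lowerCentralSeries_antitone (Nat.zero_le _)) hbot

end Cfsg.Agent.Lib.Helper11.OL
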