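import Mathlib
import Cfsg.Agent.Lib.Helper11.AG6

/-!
The main induction of the Alperin–Goldschmidt theorem for an abstract chain relation (helper11).
-/

set_option autoImplicit false

namespace Cfsg.Agent.Lib.Helper11.PAG

open Cfsg Cfsg.Agent.Lib.Helper29 Cfsg.Agent.Lib.Helper1 Cfsg.Agent.Lib.Helper2
open Cfsg.Agent.Lib.Helper11.AG

variable {G : Type*} [Group G]

/-- An abstract chain relation: `W A g` says that conjugation by `g` on `A` is realised by an
admissible chain (up to an element centralizing `A`). -/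
structure ChainRel (W : Set G → G → Prop) : Prop where
  mono : ∀ {A B : Set G} {g : G}, W A g → B ⊆ A → W B g
  cmul : ∀ {A : Set G} {g c : G}, c ∈ Subgroup.centralizer A → W A g → W A (c * g)
  trans : ∀ {A : Set G} {g k : G}, W A g → W (rcs g A) k → W A (g * k)
  symm : ∀ {A : Set G} {g : G}, W A g → W (rcs g A) g⁻¹

variable [Finite G] {p : ℕ} [Fact p.Prime]

theorem local_step_rel (P : Sylow p G) (W : Set G → G → Prop) (hW : ChainRel W) {U : Subgroup G}
    (hUP : U ≤ (P : Subgroup G))
    (hUsyl : ¬ p ∣ ((P : Subgroup G) ⊓ Subgroup.normalizer (U : Set G)).relIndex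
      (Subgroup.normalizer (U : Set G)))
    (hstep : U ∈ AGFam p (P : Subgroup G) → ∀ m ∈ Subgroup.normalizer (U : Set G), W (U : Set G) m)
    (ih : ∀ T : Subgroup G, T ≤ (P : Subgroup G) → Nat.card U < Nat.card T →
      ∀ g : G, cj g⁻¹ T ≤ (P : Subgroup G) → W (T : Set G) g)
    (m : G) (hm : m ∈ Subgroup.normalizer (U : Set G)) :
    W (U : Set G) m := by
  have hR := isSylowSub_nP P hUsyl
  have hUp : IsPGroup p U := P.isPGroup'.to_le hUP
  have hUN : U ≤ Subgroup.normalizer (U : Set G) := Subgroup.le_normalizer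
  have hUL : U ≤ oppp p (Subgroup.normalizer (U : Set G)) := le_oppp hUN le_rfl hUp
  have hKcent := opp_le_centralizer hUp
  have hcover := oppp_le_sup hR inf_le_right
  by_cases h1 : ((P : Subgroup G) ⊓ Subgroup.normalizer (U : Set G)) ⊓
      Subgroup.centralizer (U : Set G) ≤ U
  · by_cases h2 : ((P : Subgroup G) ⊓ Subgroup.normalizer (U : Set G)) ⊓
        oppp p (Subgroup.normalizer (U : Set G)) ≤ U
    · exact hstep (mem_AGFam P hUP hUsyl h1 h2) m hm
    · obtain ⟨l, hl, n, hn, rfl⟩ := frattini_sub hR inf_le_right (oppp_le p _)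
        (le_normalizer_oppp p _) m hm
      have hnn : ((P : Subgroup G) ⊓ Subgroup.normalizer (U : Set G)) ⊓
          oppp p (Subgroup.normalizer (U : Set G)) ≤
          Subgroup.normalizer ((opp p (Subgroup.normalizer (U : Set G)) : Subgroup G) : Set G) :=
        (inf_le_right.trans (oppp_le p _)).trans (le_normalizer_opp p _)
      obtain ⟨q, hq, k, hk, rfl⟩ := mem_sup_of_le_normalizer hnn (hcover hl)
      have hqN : q ∈ Subgroup.normalizer (U : Set G) := (oppp_le p _) hq.2
      have hk' : q * k * q⁻¹ ∈ Subgroup.centralizer (U : Set G) := by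
        apply hKcent
        exact (Subgroup.mem_normalizer_iff.mp ((le_normalizer_opp p _) hqN) k).mp hk
      have hUQ : U ≤ ((P : Subgroup G) ⊓ Subgroup.normalizer (U : Set G)) ⊓
          oppp p (Subgroup.normalizer (U : Set G)) := le_inf (le_inf hUP hUN) hUL
      have hcard := card_lt_of_le_of_not_le hUQ h2
      have hqn : q * n ∈ Subgroup.normalizer ((((P : Subgroup G) ⊓
          Subgroup.normalizer (U : Set G)) ⊓ oppp p (Subgroup.normalizer (U : Set G)) :
          Subgroup G) : Set G) := mul_mem (Subgroup.le_normalizer hq) hn.2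
      have hch := ih _ (inf_le_left.trans inf_le_left) hcard (q * n)
        (by rw [cj_inv_eq_of_mem_normalizer hqn]; exact inf_le_left.trans inf_le_left)
      have := hW.cmul hk' (hW.mono hch (SetLike.coe_subset_coe.mpr hUQ))
      have e : q * k * n = q * k * q⁻¹ * (q * n) := by group
      rw [e]
      exact this
  · obtain ⟨c, hc, n, hn, rfl⟩ := frattini_sub hR inf_le_right
      (Subgroup.centralizer_le_normalizer _) (normalizer_le_normalizer_centralizer U) m hm
    have hnD : n ∈ Subgroup.normalizer ((U ⊔ (((P : Subgroup G) ⊓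
        Subgroup.normalizer (U : Set G)) ⊓ Subgroup.centralizer (U : Set G)) : Subgroup G) :
        Set G) :=
      le_normalizer_sup (L := Subgroup.normalizer (U : Set G) ⊓ Subgroup.normalizer
        (((((P : Subgroup G) ⊓ Subgroup.normalizer (U : Set G)) ⊓
          Subgroup.centralizer (U : Set G)) : Subgroup G) : Set G)) inf_le_left inf_le_right hn
    have hcard := card_lt_of_le_of_not_le (le_sup_left : U ≤ U ⊔ (((P : Subgroup G) ⊓
        Subgroup.normalizer (U : Set G)) ⊓ Subgroup.centralizer (U : Set G)))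
      (fun h => h1 (le_sup_right.trans h))
    have hDP : U ⊔ (((P : Subgroup G) ⊓ Subgroup.normalizer (U : Set G)) ⊓
        Subgroup.centralizer (U : Set G)) ≤ (P : Subgroup G) :=
      sup_le hUP (inf_le_left.trans inf_le_left)
    have hch := ih _ hDP hcard n (by rw [cj_inv_eq_of_mem_normalizer hnD]; exact hDP)
    exact hW.cmul hc (hW.mono hch (SetLike.coe_subset_coe.mpr le_sup_left))


theorem main_rel (P : Sylow p G) (W : Set G → G → Prop) (hW : ChainRel W)
    (hstep : ∀ U : Subgroup G, U ∈ AGFam p (P : Subgroup G) →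
      (∀ T : Subgroup G, T ≤ (P : Subgroup G) → Nat.card U < Nat.card T →
        ∀ g : G, cj g⁻¹ T ≤ (P : Subgroup G) → W (T : Set G) g) →
      ∀ m ∈ Subgroup.normalizer (U : Set G), W (U : Set G) m) :
    ∀ (k : ℕ) (T : Subgroup G), T ≤ (P : Subgroup G) →
    Nat.card P - Nat.card T = k → ∀ g : G, cj g⁻¹ T ≤ (P : Subgroup G) →
    W (T : Set G) g := by
  intro k
  induction k using Nat.strong_induction_on with
  | _ k ih =>
    intro T hTP hk g hg
    have hcardT : Nat.card T ≤ Nat.card P := Subgroup.card_le_of_le hTP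
    -- the induction hypothesis in the form used by `local_step`
    have ih' : ∀ U : Subgroup G, Nat.card U = Nat.card T → ∀ T' : Subgroup G,
        T' ≤ (P : Subgroup G) → Nat.card U < Nat.card T' →
        ∀ g' : G, cj g'⁻¹ T' ≤ (P : Subgroup G) →
          W (T' : Set G) g' := by
      intro U hU T' hT'P hlt g' hg'
      have hle : Nat.card T' ≤ Nat.card P := Subgroup.card_le_of_le hT'P
      exact ih (Nat.card P - Nat.card T') (by omega) T' hT'P rfl g' hg'
    by_cases hTeq : T = (P : Subgroup G)
    · have hgN : g ∈ Subgroup.normalizer (((P : Subgroup G) : Subgroup G) : Set G) := by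
        have heq : cj g⁻¹ (P : Subgroup G) = P := by
          apply Subgroup.eq_of_le_of_card_ge (hTeq ▸ hg)
          rw [card_cj]
        have := mem_normalizer_of_cj_eq heq
        simpa using inv_mem this
      rw [hTeq]
      exact local_step_rel P W hW le_rfl (not_dvd_relIndex_sylow_normalizer P)
        (fun hmem => hstep _ hmem
          (fun T' hT'P hlt => absurd (Subgroup.card_le_of_le hT'P) (not_le.mpr hlt)))
        (fun T' hT'P hlt => absurd (Subgroup.card_le_of_le hT'P) (not_le.mpr hlt)) g hgN
    · have hlt : T < (P : Subgroup G) := lt_of_le_of_ne hTP hTeq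
      have hTp : IsPGroup p T := P.isPGroup'.to_le hTP
      obtain ⟨g₀, hg₀P, hg₀syl⟩ := exists_cj_sylCond P T T Subgroup.le_normalizer hTp
      rw [sylCond_iff] at hg₀syl
      set U := cj g₀ T with hU
      have hUcard : Nat.card U = Nat.card T := card_cj g₀ T
      obtain ⟨c₁, hc₁U, hc₁N⟩ := exists_cj_normalizer_le P T U g₀ rfl hg₀syl
      set Tg := cj g⁻¹ T with hTg
      have hg₀g : cj (g₀ * g) Tg = U := by
        rw [hTg, cj_cj, mul_assoc, mul_inv_cancel, mul_one]
      obtain ⟨c₂, hc₂U, hc₂N⟩ := exists_cj_normalizer_le P Tg U (g₀ * g) hg₀g hg₀syl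
      have hTglt : Tg < (P : Subgroup G) := by
        refine lt_of_le_of_ne hg ?_
        intro heq
        have : Nat.card T = Nat.card P := by rw [← card_cj g⁻¹ T, ← hTg, heq]
        exact hTeq (Subgroup.eq_of_le_of_card_ge hTP this.ge)
      have hN1 := lt_inf_normalizer_of_lt P.isPGroup' hlt
      have hN2 := lt_inf_normalizer_of_lt P.isPGroup' hTglt
      have hcard1 : Nat.card T < Nat.card ((P : Subgroup G) ⊓
          Subgroup.normalizer (T : Set G) : Subgroup G) := by
        by_contra hcon
        exact hN1.ne (Subgroup.eq_of_le_of_card_ge hN1.le (not_lt.mp hcon))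
      have hcard2 : Nat.card T < Nat.card ((P : Subgroup G) ⊓
          Subgroup.normalizer (Tg : Set G) : Subgroup G) := by
        have e : Nat.card Tg = Nat.card T := card_cj g⁻¹ T
        rw [← e]
        by_contra hcon
        exact hN2.ne (Subgroup.eq_of_le_of_card_ge hN2.le (not_lt.mp hcon))
      have ch1 : W (T : Set G) c₁⁻¹ := by
        have := ih' T rfl _ inf_le_left hcard1 c₁⁻¹
          (by rw [inv_inv]; exact hc₁N.trans inf_le_left)
        exact hW.mono this (SetLike.coe_subset_coe.mpr hN1.le)
      have ch2 : W (Tg : Set G) c₂⁻¹ := by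
        have := ih' T rfl _ inf_le_left hcard2 c₂⁻¹
          (by rw [inv_inv]; exact hc₂N.trans inf_le_left)
        exact hW.mono this (SetLike.coe_subset_coe.mpr hN2.le)
      have ch2' : W (U : Set G) c₂ := by
        have := hW.symm ch2
        rw [rcs_coe, inv_inv, hc₂U] at this
        exact this
      set m := c₁ * g * c₂⁻¹ with hm
      have hmU : cj m⁻¹ U = U := by
        have : m⁻¹ = c₂ * (g⁻¹ * c₁⁻¹) := by rw [hm]; group
        rw [this, ← cj_cj, ← cj_cj, ← hc₁U, cj_inv_cj, ← hTg, hc₂U, hc₁U]
      have hmN : m ∈ Subgroup.normalizer (U : Set G) := by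
        have := mem_normalizer_of_cj_eq hmU
        simpa using inv_mem this
      have hUP : U ≤ (P : Subgroup G) := hg₀P
      have chm : W (U : Set G) m :=
        local_step_rel P W hW hUP hg₀syl (fun hmem => hstep U hmem (ih' U hUcard))
          (ih' U hUcard) m hmN
      have e1 : rcs c₁⁻¹ (T : Set G) = (U : Set G) := by rw [rcs_coe, inv_inv, hc₁U]
      have e2 : rcs m (U : Set G) = (U : Set G) := by rw [rcs_coe, hmU]
      have ch12 : W (T : Set G) (c₁⁻¹ * m) :=
        hW.trans ch1 (e1 ▸ chm)
      have e3 : rcs (c₁⁻¹ * m) (T : Set G) = (U : Set G) := by rw [rcs_mul, e1, e2]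
      have ch123 : W (T : Set G) (c₁⁻¹ * m * c₂) :=
        hW.trans ch12 (e3 ▸ ch2')
      have : c₁⁻¹ * m * c₂ = g := by rw [hm]; group
      rwa [this] at ch123


end Cfsg.Agent.Lib.Helper11.PAG
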