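import Mathlib
import Cfsg.Agent.Lib.Helper11.PAG1

/-!
Chains with prescribed step subgroups (helper11): a pair `(T, L)` allows the steps `x ∈ L` on sets
`A ⊆ T`; `L` is supposed to normalize `T`.
-/

set_option autoImplicit false

namespace Cfsg.Agent.Lib.Helper11.PAG

open Cfsg Cfsg.Agent.Lib.Helper29 Cfsg.Agent.Lib.Helper1 Cfsg.Agent.Lib.Helper2
open Cfsg.Agent.Lib.Helper11.AG

variable {G : Type*} [Group G]

/-- Chains of conjugations with steps in prescribed subgroups. -/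
inductive PChain (𝓟 : Set (Subgroup G × Subgroup G)) : Set G → G → Prop
  | nil (A : Set G) : PChain 𝓟 A 1
  | cons (A : Set G) (T L : Subgroup G) (x g : G) (hT : (T, L) ∈ 𝓟)
      (hx : x ∈ L) (hA : A ⊆ (T : Set G))
      (h : PChain 𝓟 (rcs x A) g) : PChain 𝓟 A (x * g)

theorem PChain.mono {𝓟 : Set (Subgroup G × Subgroup G)} {A : Set G} {g : G} (h : PChain 𝓟 A g) :
    ∀ B : Set G, B ⊆ A → PChain 𝓟 B g := by
  induction h with
  | nil A => intro B _; exact PChain.nil B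
  | cons A T L x g hT hx hA _ ih =>
    intro B hB
    exact PChain.cons B T L x g hT hx (hB.trans hA) (ih _ (rcs_mono x hB))

theorem PChain.trans {𝓟 : Set (Subgroup G × Subgroup G)} {A : Set G} {g : G} (h : PChain 𝓟 A g) :
    ∀ k : G, PChain 𝓟 (rcs g A) k → PChain 𝓟 A (g * k) := by
  induction h with
  | nil A => intro k hk; rw [rcs_one] at hk; rwa [one_mul]
  | cons A T L x g hT hx hA _ ih =>
    intro k hk
    rw [rcs_mul] at hk
    rw [mul_assoc]
    exact PChain.cons A T L x (g * k) hT hx hA (ih k hk)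

theorem PChain.single {𝓟 : Set (Subgroup G × Subgroup G)} {A : Set G} {T L : Subgroup G} {x : G}
    (hT : (T, L) ∈ 𝓟) (hx : x ∈ L) (hA : A ⊆ (T : Set G)) : PChain 𝓟 A x := by
  have := PChain.cons A T L x 1 hT hx hA (PChain.nil _)
  rwa [mul_one] at this

theorem PChain.symm {𝓟 : Set (Subgroup G × Subgroup G)}
    (hN : ∀ T L : Subgroup G, (T, L) ∈ 𝓟 → L ≤ Subgroup.normalizer (T : Set G))
    {A : Set G} {g : G} (h : PChain 𝓟 A g) :
    PChain 𝓟 (rcs g A) g⁻¹ := by
  induction h with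
  | nil A => rw [inv_one]; exact PChain.nil _
  | cons A T L x g hT hx hA _ ih =>
    rw [mul_inv_rev, rcs_mul]
    apply PChain.trans ih
    rw [rcs_inv_rcs]
    exact PChain.single hT (inv_mem hx) (rcs_subset_of_mem_normalizer (hN T L hT hx) hA)

/-- Chains up to an element centralizing the starting set. -/
def WPChain (𝓟 : Set (Subgroup G × Subgroup G)) (A : Set G) (g : G) : Prop :=
  ∃ c ∈ Subgroup.centralizer A, ∃ y : G, PChain 𝓟 A y ∧ g = c * y

theorem WPChain.of_pchain {𝓟 : Set (Subgroup G × Subgroup G)} {A : Set G} {g : G}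
    (h : PChain 𝓟 A g) : WPChain 𝓟 A g := ⟨1, one_mem _, g, h, (one_mul g).symm⟩

theorem WPChain.mono {𝓟 : Set (Subgroup G × Subgroup G)} {A B : Set G} {g : G}
    (h : WPChain 𝓟 A g) (hB : B ⊆ A) : WPChain 𝓟 B g := by
  obtain ⟨c, hc, y, hy, rfl⟩ := h
  exact ⟨c, Subgroup.centralizer_le hB hc, y, hy.mono B hB, rfl⟩

theorem WPChain.centralizer_mul {𝓟 : Set (Subgroup G × Subgroup G)} {A : Set G} {g c : G}
    (hc : c ∈ Subgroup.centralizer A) (h : WPChain 𝓟 A g) : WPChain 𝓟 A (c * g) := by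
  obtain ⟨c', hc', y, hy, rfl⟩ := h
  exact ⟨c * c', mul_mem hc hc', y, hy, (mul_assoc _ _ _).symm⟩

theorem WPChain.trans {𝓟 : Set (Subgroup G × Subgroup G)} {A : Set G} {g k : G}
    (h : WPChain 𝓟 A g) (hk : WPChain 𝓟 (rcs g A) k) : WPChain 𝓟 A (g * k) := by
  obtain ⟨c, hc, y, hy, rfl⟩ := h
  obtain ⟨c', hc', y', hy', rfl⟩ := hk
  have e : rcs (c * y) A = rcs y A := by rw [rcs_mul, rcs_eq_of_mem_centralizer hc]
  rw [e] at hc' hy'
  refine ⟨c * (y * c' * y⁻¹), mul_mem hc (conj_mem_centralizer_of_rcs hc'), y * y',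
    hy.trans y' hy', by group⟩

theorem WPChain.symm {𝓟 : Set (Subgroup G × Subgroup G)}
    (hN : ∀ T L : Subgroup G, (T, L) ∈ 𝓟 → L ≤ Subgroup.normalizer (T : Set G))
    {A : Set G} {g : G} (h : WPChain 𝓟 A g) :
    WPChain 𝓟 (rcs g A) g⁻¹ := by
  obtain ⟨c, hc, y, hy, rfl⟩ := h
  have e : rcs (c * y) A = rcs y A := by rw [rcs_mul, rcs_eq_of_mem_centralizer hc]
  rw [e]
  refine ⟨y⁻¹ * c⁻¹ * y, ?_, y⁻¹, hy.symm hN, by group⟩
  have h1 : c⁻¹ ∈ Subgroup.centralizer (rcs y⁻¹ (rcs y A)) := by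
    rw [rcs_inv_rcs]; exact inv_mem hc
  have := conj_mem_centralizer_of_rcs h1
  simpa using this

theorem chainRel_WPChain {𝓟 : Set (Subgroup G × Subgroup G)}
    (hN : ∀ T L : Subgroup G, (T, L) ∈ 𝓟 → L ≤ Subgroup.normalizer (T : Set G)) :
    ChainRel (WPChain 𝓟) where
  mono := fun h hB => h.mono hB
  cmul := fun hc h => h.centralizer_mul hc
  trans := fun h hk => h.trans hk
  symm := fun h => h.symm hN

/-- The elements of `N_G(U)` realised by chains form a subgroup. -/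
def chainSubgroup [Finite G] (W : Set G → G → Prop) (hW : ChainRel W) (U : Subgroup G)
    (h1 : W (U : Set G) 1) : Subgroup G where
  carrier := {m | m ∈ Subgroup.normalizer (U : Set G) ∧ W (U : Set G) m}
  one_mem' := ⟨one_mem _, h1⟩
  mul_mem' := by
    rintro a b ⟨ha, hWa⟩ ⟨hb, hWb⟩
    refine ⟨mul_mem ha hb, hW.trans hWa ?_⟩
    have e : rcs a (U : Set G) = (U : Set G) := by
      rw [rcs_coe, cj_inv_eq_of_mem_normalizer ha]
    rw [e]; exact hWb
  inv_mem' := by
    rintro a ⟨ha, hWa⟩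
    refine ⟨inv_mem ha, ?_⟩
    have e : rcs a (U : Set G) = (U : Set G) := by
      rw [rcs_coe, cj_inv_eq_of_mem_normalizer ha]
    have := hW.symm hWa
    rwa [e] at this

theorem mem_chainSubgroup [Finite G] {W : Set G → G → Prop} {hW : ChainRel W} {U : Subgroup G}
    {h1 : W (U : Set G) 1} {m : G} :
    m ∈ chainSubgroup W hW U h1 ↔ m ∈ Subgroup.normalizer (U : Set G) ∧ W (U : Set G) m :=
  Iff.rfl

theorem chainSubgroup_le [Finite G] {W : Set G → G → Prop} {hW : ChainRel W} {U : Subgroup G}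
    {h1 : W (U : Set G) 1} : chainSubgroup W hW U h1 ≤ Subgroup.normalizer (U : Set G) :=
  fun _ hm => hm.1

end Cfsg.Agent.Lib.Helper11.PAG
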