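import Mathlib
import Cfsg.Agent.Lib.Helper11.PAG2
import Cfsg.Agent.S3056

/-!
A subgroup containing the normalizers of all nontrivial subgroups of a Sylow `p`-subgroup is the
whole group or strongly `p`-embedded (helper11).  Consequence: chain-connected Sylow subgroups force
generation by these normalizers.
-/

set_option autoImplicit false

namespace Cfsg.Agent.Lib.Helper11.PAG

open Cfsg Cfsg.Agent.Lib.Helper29 Cfsg.Agent.Lib.Helper1 Cfsg.Agent.Lib.Helper2
open Cfsg.Agent.Lib.Helper11.AG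

variable {Γ : Type*} [Group Γ] [Finite Γ] {p : ℕ} [Fact p.Prime]

theorem isSylowSub_of_sylow_le (S : Sylow p Γ) {M : Subgroup Γ} (hSM : (S : Subgroup Γ) ≤ M) :
    IsSylowSub p (S : Subgroup Γ) M :=
  ⟨S.subtype hSM, Sylow.coe_subtype S hSM⟩

theorem cj_ne_bot {g : Γ} {D : Subgroup Γ} (h : D ≠ ⊥) : cj g D ≠ ⊥ := by
  intro h0
  apply h
  have := cj_inv_cj g D
  rw [h0] at this
  rw [← this]
  exact Subgroup.map_bot _

section
variable (S : Sylow p Γ) (M : Subgroup Γ) (hSM : (S : Subgroup Γ) ≤ M)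
  (hM : ∀ R : Subgroup Γ, R ≤ (S : Subgroup Γ) → R ≠ ⊥ → Subgroup.normalizer (R : Set Γ) ≤ M)

include hSM hM

theorem normalizer_le_of_local {D : Subgroup Γ} (hDM : D ≤ M) (hDp : IsPGroup p D)
    (hD1 : D ≠ ⊥) : Subgroup.normalizer (D : Set Γ) ≤ M := by
  obtain ⟨m, hm, hmD⟩ := exists_cj_le_of_isSylowSub (isSylowSub_of_sylow_le S hSM) hDM hDp
  have h1 := hM (cj m D) hmD (cj_ne_bot hD1)
  rw [← cj_normalizer] at h1
  intro n hn
  have h2 : m * n * m⁻¹ ∈ M := h1 (conj_mem_cj hn)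
  have : n = m⁻¹ * (m * n * m⁻¹) * m := by group
  rw [this]
  exact M.mul_mem (M.mul_mem (M.inv_mem hm) h2) hm

theorem mem_of_cj_le_sylow : ∀ (k : ℕ) (D : Subgroup Γ), D ≤ (S : Subgroup Γ) → D ≠ ⊥ →
    Nat.card S - Nat.card D = k → ∀ h : Γ, cj h D ≤ (S : Subgroup Γ) → h ∈ M := by
  intro k
  induction k using Nat.strong_induction_on with
  | _ k ih =>
    intro D hDS hD1 hk h hh
    by_cases hDeq : D = (S : Subgroup Γ)
    · have heq : cj h (S : Subgroup Γ) = S := by
        apply Subgroup.eq_of_le_of_card_ge (hDeq ▸ hh)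
        rw [card_cj]
      exact hM S le_rfl (hDeq ▸ hD1) (mem_normalizer_of_cj_eq heq)
    · have hlt : D < (S : Subgroup Γ) := lt_of_le_of_ne hDS hDeq
      have hN1 := Cfsg.Agent.Lib.Helper1.lt_inf_normalizer_of_lt S.isPGroup' hlt
      set D₁ := (S : Subgroup Γ) ⊓ Subgroup.normalizer (D : Set Γ) with hD₁
      have hD₁S : D₁ ≤ (S : Subgroup Γ) := inf_le_left
      have hD₁p : IsPGroup p D₁ := S.isPGroup'.to_le hD₁S
      have hD₁1 : D₁ ≠ ⊥ := by
        intro h0
        apply hD1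
        have := hN1.le
        rw [h0] at this
        exact le_bot_iff.mp this
      have hcard : Nat.card D < Nat.card D₁ := by
        by_contra hcon
        exact hN1.ne (Subgroup.eq_of_le_of_card_ge hN1.le (not_lt.mp hcon))
      have hcS : Nat.card D₁ ≤ Nat.card S := Subgroup.card_le_of_le hD₁S
      -- the conjugate of `D₁` lies in `M`
      have hcM : cj h D₁ ≤ M := by
        have h1 : cj h D₁ ≤ cj h (Subgroup.normalizer (D : Set Γ)) := cj_mono inf_le_right
        rw [cj_normalizer] at h1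
        exact h1.trans (normalizer_le_of_local S M hSM hM (hh.trans hSM)
          (isPGroup_cj (S.isPGroup'.to_le hDS)) (cj_ne_bot hD1))
      obtain ⟨m, hm, hmD⟩ := exists_cj_le_of_isSylowSub (isSylowSub_of_sylow_le S hSM) hcM
        (isPGroup_cj hD₁p)
      rw [cj_cj] at hmD
      have := ih (Nat.card S - Nat.card D₁) (by omega) D₁ hD₁S hD₁1 rfl (m * h) hmD
      have e : h = m⁻¹ * (m * h) := by group
      rw [e]
      exact M.mul_mem (M.inv_mem hm) this

theorem mem_of_cj_le {D : Subgroup Γ} (hDM : D ≤ M) (hDp : IsPGroup p D) (hD1 : D ≠ ⊥)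
    {g : Γ} (hg : cj g D ≤ M) : g ∈ M := by
  obtain ⟨m₁, hm₁, hm₁D⟩ := exists_cj_le_of_isSylowSub (isSylowSub_of_sylow_le S hSM) hDM hDp
  obtain ⟨m₂, hm₂, hm₂D⟩ := exists_cj_le_of_isSylowSub (isSylowSub_of_sylow_le S hSM) hg
    (isPGroup_cj hDp)
  have h1 : cj (m₂ * g * m₁⁻¹) (cj m₁ D) ≤ (S : Subgroup Γ) := by
    rw [cj_cj]
    have : m₂ * g * m₁⁻¹ * m₁ = m₂ * g := by group
    rw [this, ← cj_cj]
    exact hm₂D
  have h2 := mem_of_cj_le_sylow S M hSM hM _ (cj m₁ D) hm₁D (cj_ne_bot hD1) rfl _ h1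
  have e : g = m₂⁻¹ * (m₂ * g * m₁⁻¹) * m₁ := by group
  rw [e]
  exact M.mul_mem (M.mul_mem (M.inv_mem hm₂) h2) hm₁

theorem not_dvd_card_inf_of_not_mem {g : Γ} (hg : g ∉ M) :
    ¬ p ∣ Nat.card ↥(M ⊓ M.map (MulAut.conj g).toMonoidHom) := by
  intro hdvd
  apply hg
  obtain ⟨x, hx⟩ := exists_prime_orderOf_dvd_card' (G := ↥(M ⊓ M.map (MulAut.conj g).toMonoidHom))
    p hdvd
  set D : Subgroup Γ := Subgroup.zpowers (x : Γ) with hD
  have hxo : orderOf (x : Γ) = p := by rw [Subgroup.orderOf_coe]; exact hx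
  have hDle : D ≤ M ⊓ M.map (MulAut.conj g).toMonoidHom := by
    rw [hD, Subgroup.zpowers_le]; exact x.2
  have hDp : IsPGroup p D := by
    rw [hD]
    apply IsPGroup.of_card (n := 1)
    rw [Nat.card_zpowers, hxo, pow_one]
  have hD1 : D ≠ ⊥ := by
    intro h0
    have : (x : Γ) ∈ D := Subgroup.mem_zpowers _
    rw [h0, Subgroup.mem_bot] at this
    rw [this, orderOf_one] at hxo
    exact (Fact.out : p.Prime).one_lt.ne hxo
  have h1 : cj g⁻¹ D ≤ M := by
    have : D ≤ cj g M := hDle.trans inf_le_right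
    have := cj_mono (g := g⁻¹) this
    rwa [cj_inv_cj] at this
  have := mem_of_cj_le S M hSM hM (hDle.trans inf_le_left) hDp hD1 h1
  simpa using M.inv_mem this

end

/-- If the Sylow `p`-subgroups are chain-connected (and nontrivial), the normalizers of the
nontrivial subgroups of a Sylow `p`-subgroup generate the group. -/
theorem eq_top_of_connected (hconn : Cfsg.IsSylowChainConnected p Γ) (S : Sylow p Γ)
    (hS1 : (S : Subgroup Γ) ≠ ⊥) (M : Subgroup Γ)
    (hM : ∀ R : Subgroup Γ, R ≤ (S : Subgroup Γ) → R ≠ ⊥ →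
      Subgroup.normalizer (R : Set Γ) ≤ M) : M = ⊤ := by
  by_contra hne
  have hSM : (S : Subgroup Γ) ≤ M := Subgroup.le_normalizer.trans (hM S le_rfl hS1)
  have hpM : p ∣ Nat.card M := by
    have h1 : Nat.card (S : Subgroup Γ) ∣ Nat.card M := Subgroup.card_dvd_of_le hSM
    have h2 : p ∣ Nat.card (S : Subgroup Γ) := by
      obtain ⟨n, hn⟩ := S.isPGroup'.exists_card_eq
      rw [hn]
      rcases Nat.eq_zero_or_pos n with h0 | hpos
      · exfalso
        rw [h0, pow_zero] at hn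
        exact hS1 ((Subgroup.card_eq_one).mp hn)
      · exact dvd_pow_self p hpos.ne'
    exact h2.trans h1
  have := (Cfsg.Agent.S3056.result (G := Γ) p).mpr
    ⟨M, hne, hpM, fun g hg => not_dvd_card_inf_of_not_mem S M hSM hM hg⟩
  exact this hconn

end Cfsg.Agent.Lib.Helper11.PAG
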