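import Mathlib
import Cfsg.Agent.Lib.Helper11.PAG3

/-!
The chain-connected case of the strong Alperin–Goldschmidt theorem (helper11): if the Sylow
`p`-subgroups of `N_G(U)/U` are chain-connected, then `N_G(U)` is generated by the subgroups
`N_G(U) ∩ N_G(R)` with `U < R ≤ N_P(U)`.
-/

set_option autoImplicit false

namespace Cfsg.Agent.Lib.Helper11.PAG

open Cfsg Cfsg.Agent.Lib.Helper29 Cfsg.Agent.Lib.Helper1 Cfsg.Agent.Lib.Helper2
open Cfsg.Agent.Lib.Helper11.AG

variable {G : Type*} [Group G] [Finite G] {p : ℕ} [Fact p.Prime]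

theorem connected_gen (P : Sylow p G) {U : Subgroup G} (hUP : U ≤ (P : Subgroup G))
    (hUne : U ≠ (P : Subgroup G))
    (hUsyl : ¬ p ∣ ((P : Subgroup G) ⊓ Subgroup.normalizer (U : Set G)).relIndex
      (Subgroup.normalizer (U : Set G)))
    (hconn : Cfsg.IsSylowChainConnected p
      (↥(Subgroup.normalizer (U : Set G)) ⧸ U.subgroupOf (Subgroup.normalizer (U : Set G))))
    (K : Subgroup G)
    (hK : ∀ R : Subgroup G, U < R → R ≤ (P : Subgroup G) ⊓ Subgroup.normalizer (U : Set G) →
      Subgroup.normalizer (U : Set G) ⊓ Subgroup.normalizer (R : Set G) ≤ K) :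
    Subgroup.normalizer (U : Set G) ≤ K := by
  obtain ⟨N, hNdef⟩ : ∃ N : Subgroup G, N = Subgroup.normalizer (U : Set G) := ⟨_, rfl⟩
  have hUN : U ≤ N := hNdef ▸ Subgroup.le_normalizer
  haveI hUn : (U.subgroupOf N).Normal := by
    rw [hNdef]; infer_instance
  have hR0 := isSylowSub_nP P hUsyl
  rw [← hNdef] at hR0 hK hUsyl ⊢
  -- restate `hconn` over `N`
  have hconn' : Cfsg.IsSylowChainConnected p (↥N ⧸ U.subgroupOf N) := by
    subst hNdef; exact hconn
  clear hconn
  set S : Subgroup G := (P : Subgroup G) ⊓ N with hS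
  have hSN : S ≤ N := inf_le_right
  have hlt : U < S := by
    have := Cfsg.Agent.Lib.Helper1.lt_inf_normalizer_of_lt P.isPGroup' (lt_of_le_of_ne hUP hUne)
    rwa [← hNdef] at this
  obtain ⟨S', hS'⟩ := hR0
  set π := QuotientGroup.mk' (U.subgroupOf N) with hπ
  have hπs : Function.Surjective π := QuotientGroup.mk'_surjective _
  set Sb : Sylow p (↥N ⧸ U.subgroupOf N) := S'.mapSurjective hπs with hSb
  have hSbc : (Sb : Subgroup (↥N ⧸ U.subgroupOf N)) = (S.subgroupOf N).map π := by
    rw [hSb, Sylow.coe_mapSurjective, hS']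
  have hker : π.ker = U.subgroupOf N := QuotientGroup.ker_mk' _
  have hUS' : U.subgroupOf N ≤ S.subgroupOf N := Subgroup.subgroupOf_mono N hlt.le
  -- `Sb` is nontrivial
  have hSb1 : (Sb : Subgroup (↥N ⧸ U.subgroupOf N)) ≠ ⊥ := by
    rw [hSbc]
    intro h0
    rw [Subgroup.map_eq_bot_iff, hker] at h0
    have : S ≤ U := by
      intro x hx
      have hxN : x ∈ N := hSN hx
      have : (⟨x, hxN⟩ : ↥N) ∈ S.subgroupOf N := Subgroup.mem_subgroupOf.mpr hx
      exact Subgroup.mem_subgroupOf.mp (h0 this)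
    exact hlt.not_ge this
  have hUK : U ≤ K := by
    have h1 : U ≤ N ⊓ Subgroup.normalizer (S : Set G) :=
      le_inf hUN (hlt.le.trans Subgroup.le_normalizer)
    exact h1.trans (hK S hlt le_rfl)
  -- the image of `K`
  have htop : (K.subgroupOf N).map π = ⊤ := by
    apply eq_top_of_connected hconn' Sb hSb1
    intro Rb hRb hRb1 nb hnb
    obtain ⟨n, rfl⟩ := hπs nb
    refine Subgroup.mem_map_of_mem π ?_
    rw [Subgroup.mem_subgroupOf]
    set R : Subgroup G := (Rb.comap π).map N.subtype with hR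
    have hUR : U ≤ R := by
      intro u hu
      refine ⟨⟨u, hUN hu⟩, ?_, rfl⟩
      show π ⟨u, hUN hu⟩ ∈ Rb
      have : (⟨u, hUN hu⟩ : ↥N) ∈ π.ker := by
        rw [hker]; exact Subgroup.mem_subgroupOf.mpr hu
      rw [MonoidHom.mem_ker] at this
      rw [this]; exact one_mem _
    have hURne : U ≠ R := by
      intro heq
      apply hRb1
      rw [eq_bot_iff]
      intro y hy
      obtain ⟨x, rfl⟩ := hπs y
      have hxR : (x : G) ∈ R := ⟨x, hy, rfl⟩
      rw [← heq] at hxR
      have : x ∈ π.ker := by rw [hker]; exact Subgroup.mem_subgroupOf.mpr hxR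
      rw [Subgroup.mem_bot]
      exact MonoidHom.mem_ker.mp this
    have hRS : R ≤ S := by
      rintro _ ⟨x, hx, rfl⟩
      have hx' : π x ∈ (S.subgroupOf N).map π := by
        rw [← hSbc]; exact hRb hx
      obtain ⟨s, hs, hsx⟩ := hx'
      have h1 : s⁻¹ * x ∈ π.ker := by
        rw [MonoidHom.mem_ker, map_mul, map_inv, hsx, inv_mul_cancel]
      rw [hker] at h1
      have h2 : s⁻¹ * x ∈ S.subgroupOf N := hUS' h1
      have h3 : x = s * (s⁻¹ * x) := by group
      have h4 : x ∈ S.subgroupOf N := by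
        rw [h3]; exact mul_mem hs h2
      exact Subgroup.mem_subgroupOf.mp h4
    have hnR : (n : G) ∈ Subgroup.normalizer (R : Set G) := by
      rw [Subgroup.mem_normalizer_iff]
      intro y
      have key : ∀ (k : ↥N), π k ∈ Subgroup.normalizer (Rb : Set _) → ∀ y : G, y ∈ R →
          (k : G) * y * (k : G)⁻¹ ∈ R := by
        intro k hk y hy
        obtain ⟨x, hx, rfl⟩ := hy
        refine ⟨k * x * k⁻¹, ?_, by simp⟩
        show π (k * x * k⁻¹) ∈ Rb
        rw [map_mul, map_mul, map_inv]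
        exact (Subgroup.mem_normalizer_iff.mp hk (π x)).mp hx
      constructor
      · exact key n hnb y
      · intro hy
        have hn' : π n⁻¹ ∈ Subgroup.normalizer (Rb : Set _) := by
          rw [map_inv]; exact inv_mem hnb
        have := key n⁻¹ hn' _ hy
        have e : ((n⁻¹ : ↥N) : G) * ((n : G) * y * (n : G)⁻¹) * ((n⁻¹ : ↥N) : G)⁻¹ = y := by
          simp only [Subgroup.coe_inv]; group
        rwa [e] at this
    exact hK R (lt_of_le_of_ne hUR hURne) hRS ⟨n.2, hnR⟩
  -- conclude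
  have h1 : (K.subgroupOf N) = ⊤ := by
    have := Subgroup.comap_map_eq_self (f := π) (H := K.subgroupOf N)
      (by rw [hker]; exact Subgroup.subgroupOf_mono N hUK)
    rw [← this, htop, Subgroup.comap_top]
  intro x hx
  have : (⟨x, hx⟩ : ↥N) ∈ K.subgroupOf N := by rw [h1]; exact Subgroup.mem_top _
  exact Subgroup.mem_subgroupOf.mp this

end Cfsg.Agent.Lib.Helper11.PAG
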