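import Mathlib
import Cfsg.Agent.Lib.Helper11.PAG4
import Cfsg.Agent.S3058
import Cfsg.Agent.Lib.Helper16.ResidualQuot

/-!
The essential case of the strong Alperin–Goldschmidt theorem (helper11): the smallest normal
subgroup `X` of `N_G(U)` over `U` with `p ∣ |X : U|`, and the Frattini decomposition
`N_G(U) = O^p(X) · (N_G(U) ∩ N_G(R))` with `R = N_P(U) ∩ X > U`.
-/

set_option autoImplicit false

namespace Cfsg.Agent.Lib.Helper11.PAG

open Cfsg Cfsg.Agent.Lib.Helper29 Cfsg.Agent.Lib.Helper1 Cfsg.Agent.Lib.Helper2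
open Cfsg.Agent.Lib.Helper11.AG

variable {G : Type*} [Group G] [Finite G] {p : ℕ} [Fact p.Prime]

/-- The defining property of the subgroup `X` attached to `U`. -/
def MinX (p : ℕ) (U X : Subgroup G) : Prop :=
  U ≤ X ∧ X ≤ Subgroup.normalizer (U : Set G) ∧
    (X.subgroupOf (Subgroup.normalizer (U : Set G))).Normal ∧ p ∣ U.relIndex X ∧
    ∀ Y : Subgroup G, U ≤ Y → Y ≤ Subgroup.normalizer (U : Set G) →
      (Y.subgroupOf (Subgroup.normalizer (U : Set G))).Normal → p ∣ U.relIndex Y → X ≤ Y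

theorem card_map_mk_eq_relIndex {U Y N : Subgroup G} [hn : (U.subgroupOf N).Normal]
    (hYN : Y ≤ N) :
    Nat.card ↥((Y.subgroupOf N).map (QuotientGroup.mk' (U.subgroupOf N))) = U.relIndex Y := by
  rw [← Subgroup.relIndex_ker, QuotientGroup.ker_mk', Subgroup.relIndex_subgroupOf hYN]

theorem card_mul_relIndex_of_le {U S : Subgroup G} (h : U ≤ S) :
    Nat.card U * U.relIndex S = Nat.card S := by
  have := Subgroup.relIndex_mul_relIndex ⊥ U S bot_le h
  rwa [Subgroup.relIndex_bot_left, Subgroup.relIndex_bot_left] at this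

theorem dvd_relIndex_of_lt_pgroup {U S : Subgroup G} (hS : IsPGroup p S) (hlt : U < S) :
    p ∣ U.relIndex S := by
  have hcard := card_mul_relIndex_of_le hlt.le
  obtain ⟨a, ha⟩ := hS.exists_card_eq
  have hdvd : U.relIndex S ∣ p ^ a := by
    rw [← ha, ← hcard]; exact dvd_mul_left _ _
  obtain ⟨b, -, hb⟩ := (Nat.dvd_prime_pow (Fact.out : p.Prime)).mp hdvd
  rw [hb]
  rcases Nat.eq_zero_or_pos b with h0 | hpos
  · exfalso
    rw [h0, pow_zero] at hb
    rw [hb, mul_one] at hcard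
    exact hlt.ne (Subgroup.eq_of_le_of_card_ge hlt.le hcard.ge)
  · exact dvd_pow_self p hpos.ne'

theorem le_normalizer_inf {N Y₁ Y₂ : Subgroup G} (h1 : N ≤ Subgroup.normalizer (Y₁ : Set G))
    (h2 : N ≤ Subgroup.normalizer (Y₂ : Set G)) :
    N ≤ Subgroup.normalizer ((Y₁ ⊓ Y₂ : Subgroup G) : Set G) := by
  intro n hn
  rw [Subgroup.mem_normalizer_iff]
  intro y
  rw [Subgroup.mem_inf, Subgroup.mem_inf, ← Subgroup.mem_normalizer_iff.mp (h1 hn) y,
    ← Subgroup.mem_normalizer_iff.mp (h2 hn) y]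

theorem exists_minX (P : Sylow p G) {U : Subgroup G} (hUP : U ≤ (P : Subgroup G))
    (hUne : U ≠ (P : Subgroup G))
    (hnc : ¬ Cfsg.IsSylowChainConnected p
      (↥(Subgroup.normalizer (U : Set G)) ⧸ U.subgroupOf (Subgroup.normalizer (U : Set G)))) :
    ∃ X : Subgroup G, MinX p U X := by
  obtain ⟨N, hNdef⟩ : ∃ N : Subgroup G, N = Subgroup.normalizer (U : Set G) := ⟨_, rfl⟩
  have hUN : U ≤ N := hNdef ▸ Subgroup.le_normalizer
  haveI hUn : (U.subgroupOf N).Normal := by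
    rw [hNdef]; infer_instance
  unfold MinX
  rw [← hNdef]
  have hnc' : ¬ Cfsg.IsSylowChainConnected p (↥N ⧸ U.subgroupOf N) := by
    subst hNdef; exact hnc
  clear hnc
  -- the family
  let 𝒴 : Set (Subgroup G) := {Y | U ≤ Y ∧ Y ≤ N ∧ (Y.subgroupOf N).Normal ∧ p ∣ U.relIndex Y}
  have hlt : U < (P : Subgroup G) ⊓ N := by
    have := Cfsg.Agent.Lib.Helper1.lt_inf_normalizer_of_lt P.isPGroup' (lt_of_le_of_ne hUP hUne)
    rwa [← hNdef] at this
  have hN𝒴 : N ∈ 𝒴 := by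
    refine ⟨hUN, le_rfl, ?_, ?_⟩
    · rw [Subgroup.subgroupOf_self]; infer_instance
    · have h1 : U.relIndex ((P : Subgroup G) ⊓ N) * ((P : Subgroup G) ⊓ N).relIndex N
          = U.relIndex N := Subgroup.relIndex_mul_relIndex _ _ _ hlt.le inf_le_right
      rw [← h1]
      apply Dvd.dvd.mul_right
      exact dvd_relIndex_of_lt_pgroup (P.isPGroup'.to_le inf_le_left) hlt
  have hinf : ∀ Y₁ ∈ 𝒴, ∀ Y₂ ∈ 𝒴, Y₁ ⊓ Y₂ ∈ 𝒴 := by
    rintro Y₁ ⟨h1U, h1N, h1n, h1p⟩ Y₂ ⟨h2U, h2N, h2n, h2p⟩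
    refine ⟨le_inf h1U h2U, inf_le_left.trans h1N, ?_, ?_⟩
    · rw [Subgroup.normal_subgroupOf_iff_le_normalizer (inf_le_left.trans h1N)]
      exact le_normalizer_inf ((Subgroup.normal_subgroupOf_iff_le_normalizer h1N).mp h1n)
        ((Subgroup.normal_subgroupOf_iff_le_normalizer h2N).mp h2n)
    · set π := QuotientGroup.mk' (U.subgroupOf N) with hπ
      have hπs : Function.Surjective π := QuotientGroup.mk'_surjective _
      haveI n1 : ((Y₁.subgroupOf N).map π).Normal := h1n.map π hπs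
      haveI n2 : ((Y₂.subgroupOf N).map π).Normal := h2n.map π hπs
      have c1 : p ∣ Nat.card ↥((Y₁.subgroupOf N).map π) := by
        rw [card_map_mk_eq_relIndex h1N]; exact h1p
      have c2 : p ∣ Nat.card ↥((Y₂.subgroupOf N).map π) := by
        rw [card_map_mk_eq_relIndex h2N]; exact h2p
      have key := Cfsg.Agent.S3058.result p hnc' _ _ c1 c2
      have hmap : (Y₁.subgroupOf N).map π ⊓ (Y₂.subgroupOf N).map π
          = ((Y₁ ⊓ Y₂).subgroupOf N).map π := by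
        apply le_antisymm
        · rintro y ⟨⟨a, ha, rfl⟩, ⟨b, hb, hab⟩⟩
          refine ⟨a, ?_, rfl⟩
          have h3 : b⁻¹ * a ∈ π.ker := by
            rw [MonoidHom.mem_ker, map_mul, map_inv, hab, inv_mul_cancel]
          rw [QuotientGroup.ker_mk'] at h3
          have h4 : b⁻¹ * a ∈ Y₂.subgroupOf N := Subgroup.subgroupOf_mono N h2U h3
          have h5 : a = b * (b⁻¹ * a) := by group
          have h6 : a ∈ Y₂.subgroupOf N := by rw [h5]; exact mul_mem hb h4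
          exact Subgroup.mem_subgroupOf.mpr
            ⟨Subgroup.mem_subgroupOf.mp ha, Subgroup.mem_subgroupOf.mp h6⟩
        · apply le_inf
          · exact Subgroup.map_mono (Subgroup.subgroupOf_mono N inf_le_left)
          · exact Subgroup.map_mono (Subgroup.subgroupOf_mono N inf_le_right)
      rw [hmap, card_map_mk_eq_relIndex (inf_le_left.trans h1N)] at key
      exact key
  -- a member of minimal order
  obtain ⟨X, hX𝒴, hXmin⟩ : ∃ X ∈ 𝒴, ∀ Y ∈ 𝒴, Nat.card X ≤ Nat.card Y := by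
    have hne : (Set.image (fun Y : Subgroup G => Nat.card Y) 𝒴).Nonempty := ⟨_, N, hN𝒴, rfl⟩
    obtain ⟨X, hX, hXe⟩ := Nat.sInf_mem hne
    refine ⟨X, hX, fun Y hY => ?_⟩
    show (fun Y : Subgroup G => Nat.card Y) X ≤ _
    rw [hXe]
    exact Nat.sInf_le ⟨Y, hY, rfl⟩
  refine ⟨X, hX𝒴.1, hX𝒴.2.1, hX𝒴.2.2.1, hX𝒴.2.2.2, ?_⟩
  intro Y hUY hYN hYn hYp
  have hY𝒴 : Y ∈ 𝒴 := ⟨hUY, hYN, hYn, hYp⟩
  have h1 := hXmin _ (hinf X hX𝒴 Y hY𝒴)
  have h2 : X ⊓ Y = X := Subgroup.eq_of_le_of_card_ge inf_le_left h1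
  rw [← h2]; exact inf_le_right

/-- The Frattini decomposition in the essential case. -/
theorem frattini_minX (P : Sylow p G) {U X : Subgroup G} (hUP : U ≤ (P : Subgroup G))
    (hUsyl : ¬ p ∣ ((P : Subgroup G) ⊓ Subgroup.normalizer (U : Set G)).relIndex
      (Subgroup.normalizer (U : Set G)))
    (hX : MinX p U X) :
    ∃ R : Subgroup G, U < R ∧ R ≤ (P : Subgroup G) ∧
      ∀ m ∈ Subgroup.normalizer (U : Set G),
        ∃ u ∈ (Cfsg.pResidual p ↥X).map X.subtype,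
        ∃ v ∈ Subgroup.normalizer (U : Set G) ⊓ Subgroup.normalizer (R : Set G), m = u * v := by
  obtain ⟨hUX, hXN, hXn, hXp, -⟩ := hX
  have hR0 := isSylowSub_nP P hUsyl
  have hnorm : Subgroup.normalizer (U : Set G) ≤ Subgroup.normalizer (X : Set G) :=
    (Subgroup.normal_subgroupOf_iff_le_normalizer hXN).mp hXn
  set S : Subgroup G := (P : Subgroup G) ⊓ Subgroup.normalizer (U : Set G) with hS
  have hRX : IsSylowSub p (S ⊓ X) X := isSylowSub_inf_of_normalized hR0 inf_le_right hXN hnorm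
  have hUR : U ≤ S ⊓ X := le_inf (le_inf hUP Subgroup.le_normalizer) hUX
  refine ⟨S ⊓ X, lt_of_le_of_ne hUR ?_, inf_le_left.trans inf_le_left, ?_⟩
  · intro heq
    rw [← heq] at hRX
    exact not_dvd_relIndex_of_isSylowSub hRX hXp
  · intro m hm
    obtain ⟨h, hh, n, hn, rfl⟩ := frattini_sub hR0 inf_le_right hXN hnorm m hm
    -- decompose `h ∈ X` as `u * r`
    obtain ⟨T, hT⟩ := hRX
    have htop := Cfsg.Agent.Lib.Helper16.pResidual_sup_sylow p T
    haveI := Cfsg.Agent.Lib.Helper16.pResidual_normal (G := ↥X) p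
    have hmem : (⟨h, hh⟩ : ↥X) ∈ Cfsg.pResidual p ↥X ⊔ (T : Subgroup ↥X) := by
      rw [htop]; exact Subgroup.mem_top _
    have hmem' : (⟨h, hh⟩ : ↥X) ∈ ((Cfsg.pResidual p ↥X ⊔ (T : Subgroup ↥X) : Subgroup ↥X) :
        Set ↥X) := hmem
    rw [Subgroup.normal_mul] at hmem'
    obtain ⟨u, hu, r, hr, hur⟩ := Set.mem_mul.mp hmem'
    have hr' : (r : G) ∈ S ⊓ X := by
      have : r ∈ (S ⊓ X).subgroupOf X := by rw [← hT]; exact hr
      exact Subgroup.mem_subgroupOf.mp this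
    refine ⟨(u : G), ⟨u, hu, rfl⟩, (r : G) * n, ?_, ?_⟩
    · refine ⟨mul_mem (hr'.1.2) hn.1, mul_mem (Subgroup.le_normalizer hr') hn.2⟩
    · have : h = (u : G) * (r : G) := by
        have := congrArg (Subtype.val) hur
        simpa using this.symm
      rw [this, mul_assoc]

end Cfsg.Agent.Lib.Helper11.PAG
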