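import Mathlib
import Cfsg.Agent.Lib.Helper11.PAG5

/-!
The strong Alperin–Goldschmidt theorem, chain form (helper11): every conjugation inside `P` is
realised, up to a centralizing element, by a chain whose steps are either elements of `N_G(P)` or
elements of `O^p(X)` for an essential subgroup `H` with attached subgroup `X`.
-/

set_option autoImplicit false

namespace Cfsg.Agent.Lib.Helper11.PAG

open Cfsg Cfsg.Agent.Lib.Helper29 Cfsg.Agent.Lib.Helper1 Cfsg.Agent.Lib.Helper2
open Cfsg.Agent.Lib.Helper11.AG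

variable {G : Type*} [Group G]

/-- Essential subgroups in the sense of the strong Alperin–Goldschmidt theorem. -/
def Ess (p : ℕ) (P H : Subgroup G) : Prop :=
  H ≤ P ∧
  ¬ p ∣ (P ⊓ Subgroup.normalizer (H : Set G)).relIndex (Subgroup.normalizer (H : Set G)) ∧
  P ⊓ Subgroup.centralizer (H : Set G) ≤ H ∧
  (Cfsg.pPrimePCore p ↥(Subgroup.normalizer (H : Set G))).map
      (Subgroup.normalizer (H : Set G)).subtype = H ⊔ Subgroup.centralizer (H : Set G) ∧
  ¬ Cfsg.IsSylowChainConnected p
      (↥(Subgroup.normalizer (H : Set G)) ⧸ H.subgroupOf (Subgroup.normalizer (H : Set G)))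

/-- The pure essential steps. -/
def essFam (p : ℕ) (P : Subgroup G) : Set (Subgroup G × Subgroup G) :=
  {TL | ∃ X : Subgroup G, Ess p P TL.1 ∧ MinX p TL.1 X ∧
    TL.2 = (Cfsg.pResidual p ↥X).map X.subtype}

/-- The admissible steps: normalizer of `P`, and `O^p(X)` at essential subgroups. -/
def stepFam (p : ℕ) (P : Subgroup G) : Set (Subgroup G × Subgroup G) :=
  {TL | (TL.1 = P ∧ TL.2 = Subgroup.normalizer (P : Set G))} ∪ essFam p P

theorem essFam_normalizes {p : ℕ} {P : Subgroup G} (T L : Subgroup G)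
    (h : (T, L) ∈ essFam p P) : L ≤ Subgroup.normalizer (T : Set G) := by
  obtain ⟨X, -, hX, hL⟩ := h
  simp only at hL hX
  rw [hL]
  exact (Subgroup.map_subtype_le _).trans hX.2.1

theorem stepFam_normalizes {p : ℕ} {P : Subgroup G} (T L : Subgroup G)
    (h : (T, L) ∈ stepFam p P) : L ≤ Subgroup.normalizer (T : Set G) := by
  rcases h with ⟨hT, hL⟩ | h
  · simp only at hT hL
    rw [hT, hL]
  · exact essFam_normalizes T L h

variable [Finite G] {p : ℕ} [Fact p.Prime]

theorem ess_of_mem_AGFam (P : Sylow p G) {D : Subgroup G}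
    (hD : D ∈ AGFam p (P : Subgroup G))
    (hnc : ¬ Cfsg.IsSylowChainConnected p
      (↥(Subgroup.normalizer (D : Set G)) ⧸ D.subgroupOf (Subgroup.normalizer (D : Set G)))) :
    Ess p (P : Subgroup G) D := by
  obtain ⟨hDP, hC, ⟨hKL, hDL, hcomm, hdisj, hsup⟩, hsyl⟩ := hD
  have hDp : IsPGroup p D := P.isPGroup'.to_le hDP
  refine ⟨hDP, hsyl, ?_, ?_, hnc⟩
  · intro x hx
    have hxL := hC hx.2
    rw [← hsup] at hxL
    have hnorm : opp p (Subgroup.normalizer (D : Set G)) ≤ Subgroup.normalizer (D : Set G) :=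
      opp_le p _
    obtain ⟨k, hk, d, hd, hxkd⟩ := mem_sup_of_le_normalizer hnorm hxL
    have hxp : IsPGroup p (P : Subgroup G) := P.isPGroup'
    obtain ⟨a, ha⟩ := hxp ⟨x, hx.1⟩
    have hxa : x ^ (p ^ a) = 1 := by
      have := congrArg Subtype.val ha
      simpa using this
    have hkd : Commute k d := hcomm k hk d hd
    have h1 : k ^ (p ^ a) * d ^ (p ^ a) = 1 := by rw [← hkd.mul_pow, ← hxkd, hxa]
    have h2 : k ^ (p ^ a) ∈ opp p (Subgroup.normalizer (D : Set G)) ⊓ D := by
      refine ⟨Subgroup.pow_mem _ hk _, ?_⟩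
      have : k ^ (p ^ a) = (d ^ (p ^ a))⁻¹ := eq_inv_of_mul_eq_one_left h1
      rw [this]
      exact Subgroup.inv_mem _ (Subgroup.pow_mem _ hd _)
    rw [hdisj, Subgroup.mem_bot] at h2
    have hk1 : k = 1 := by
      have hord : orderOf k ∣ p ^ a := orderOf_dvd_of_pow_eq_one h2
      have hcop : (orderOf k).Coprime (p ^ a) := by
        apply Nat.Coprime.pow_right
        have hd : orderOf k ∣ Nat.card (opp p (Subgroup.normalizer (D : Set G))) := by
          have := orderOf_dvd_natCard (⟨k, hk⟩ : ↥(opp p (Subgroup.normalizer (D : Set G))))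
          rwa [Subgroup.orderOf_mk] at this
        exact Nat.Coprime.coprime_dvd_left hd (opp_coprime p _)
      have : orderOf k = 1 := Nat.Coprime.eq_one_of_dvd hcop hord
      exact orderOf_eq_one_iff.mp this
    rw [hxkd, hk1, one_mul]
    exact hd
  · show oppp p (Subgroup.normalizer (D : Set G)) = D ⊔ Subgroup.centralizer (D : Set G)
    apply le_antisymm
    · rw [← hsup]
      exact sup_le ((opp_le_centralizer hDp).trans le_sup_right) le_sup_left
    · exact sup_le hDL hC

/-- The step at a member of the Alperin–Goldschmidt family. -/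
theorem step_AGFam (P : Sylow p G) (U : Subgroup G) (hU : U ∈ AGFam p (P : Subgroup G))
    (ih : ∀ T : Subgroup G, T ≤ (P : Subgroup G) → Nat.card U < Nat.card T →
      ∀ g : G, cj g⁻¹ T ≤ (P : Subgroup G) → WPChain (stepFam p (P : Subgroup G)) (T : Set G) g)
    (m : G) (hm : m ∈ Subgroup.normalizer (U : Set G)) :
    WPChain (stepFam p (P : Subgroup G)) (U : Set G) m := by
  have hW := chainRel_WPChain (𝓟 := stepFam p (P : Subgroup G)) stepFam_normalizes
  have hUP : U ≤ (P : Subgroup G) := hU.1
  have hUsyl := hU.2.2.2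
  by_cases hUeq : U = (P : Subgroup G)
  · subst hUeq
    exact WPChain.of_pchain (PChain.single (T := (P : Subgroup G))
      (L := Subgroup.normalizer (((P : Subgroup G) : Subgroup G) : Set G))
      (Or.inl ⟨rfl, rfl⟩) hm (subset_refl _))
  -- elements normalizing a bigger subgroup of `N_P(U)`
  have hbig : ∀ R : Subgroup G, U < R → R ≤ (P : Subgroup G) →
      ∀ n ∈ Subgroup.normalizer (R : Set G),
        WPChain (stepFam p (P : Subgroup G)) (U : Set G) n := by
    intro R hUR hRP n hn
    have hcard : Nat.card U < Nat.card R := by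
      by_contra hcon
      exact hUR.ne (Subgroup.eq_of_le_of_card_ge hUR.le (not_lt.mp hcon))
    have := ih R hRP hcard n (by rw [cj_inv_eq_of_mem_normalizer hn]; exact hRP)
    exact this.mono (SetLike.coe_subset_coe.mpr hUR.le)
  by_cases hconn : Cfsg.IsSylowChainConnected p
      (↥(Subgroup.normalizer (U : Set G)) ⧸ U.subgroupOf (Subgroup.normalizer (U : Set G)))
  · have h1 : WPChain (stepFam p (P : Subgroup G)) (U : Set G) 1 :=
      WPChain.of_pchain (PChain.nil _)
    have hle := connected_gen P hUP hUeq hUsyl hconn (chainSubgroup _ hW U h1) (by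
      intro R hUR hRS n hn
      exact ⟨hn.1, hbig R hUR (hRS.trans inf_le_left) n hn.2⟩)
    exact (hle hm).2
  · obtain ⟨X, hX⟩ := exists_minX P hUP hUeq hconn
    obtain ⟨R, hUR, hRP, hdec⟩ := frattini_minX P hUP hUsyl hX
    obtain ⟨u, hu, v, hv, rfl⟩ := hdec m hm
    have huN : u ∈ Subgroup.normalizer (U : Set G) :=
      hX.2.1 (Subgroup.map_subtype_le _ hu)
    have hWu : WPChain (stepFam p (P : Subgroup G)) (U : Set G) u :=
      WPChain.of_pchain (PChain.single (T := U) (L := (Cfsg.pResidual p ↥X).map X.subtype)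
        (Or.inr ⟨X, ess_of_mem_AGFam P hU hconn, hX, rfl⟩) hu (subset_refl _))
    have e : rcs u (U : Set G) = (U : Set G) := by
      rw [rcs_coe, cj_inv_eq_of_mem_normalizer huN]
    have hWv : WPChain (stepFam p (P : Subgroup G)) (rcs u (U : Set G)) v := by
      rw [e]; exact hbig R hUR hRP v hv.2
    exact hWu.trans hWv

/-- The strong Alperin–Goldschmidt theorem, chain form with normalizer steps anywhere. -/
theorem strong_chain (P : Sylow p G) (A : Set G) (hA : A ⊆ ((P : Subgroup G) : Set G)) (g : G)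
    (hAg : rcs g A ⊆ ((P : Subgroup G) : Set G)) :
    WPChain (stepFam p (P : Subgroup G)) A g := by
  have hW := chainRel_WPChain (𝓟 := stepFam p (P : Subgroup G)) stepFam_normalizes
  have hT : Subgroup.closure A ≤ (P : Subgroup G) := (Subgroup.closure_le _).mpr hA
  have hTg : cj g⁻¹ (Subgroup.closure A) ≤ (P : Subgroup G) := by
    rw [cj, MonoidHom.map_closure, Subgroup.closure_le]
    rintro _ ⟨a, ha, rfl⟩
    apply hAg
    exact ⟨a, ha, by simp⟩
  exact (main_rel P _ hW (fun U hU ih m hm => step_AGFam P U hU ih m hm) _ _ hT rfl g hTg).mono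
    Subgroup.subset_closure

end Cfsg.Agent.Lib.Helper11.PAG
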