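import Mathlib
import Cfsg.Agent.Lib.Helper11.PAG6
import Cfsg.Agent.Lib.Helper2.PLength
import Cfsg.Agent.Lib.Helper20.Transport
import Cfsg.Agent.Lib.Helper16.Residual

/-!
Transport of the essential data under conjugation (helper11).
-/

set_option autoImplicit false

namespace Cfsg.Agent.Lib.Helper11.PAG

open Cfsg Cfsg.Agent.Lib.Helper29 Cfsg.Agent.Lib.Helper1 Cfsg.Agent.Lib.Helper2
open Cfsg.Agent.Lib.Helper11.AG

section iso
variable {A B : Type*} [Group A] [Group B]

/-- `O_{p',p}` is transported by isomorphisms. -/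
theorem pPrimePCore_map_mulEquiv (p : ℕ) (e : A ≃* B) :
    (Cfsg.pPrimePCore p A).map e.toMonoidHom = Cfsg.pPrimePCore p B := by
  have hK : Cfsg.pPrimeCore p A = (Cfsg.pPrimeCore p B).comap e.toMonoidHom := by
    rw [← Cfsg.Agent.Lib.Helper2.pPrimeCore_map_mulEquiv p e]
    exact (Subgroup.comap_map_eq_self_of_injective e.injective _).symm
  have h := Cfsg.Agent.Lib.Helper2.comap_transport e.toMonoidHom e.surjective
    (Cfsg.pPrimeCore p B) (Cfsg.pPrimeCore p A) hK
    (Cfsg.pCore p (A ⧸ Cfsg.pPrimeCore p A)) (Cfsg.pCore p (B ⧸ Cfsg.pPrimeCore p B))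
    (fun e' => Cfsg.Agent.Lib.Helper20.pCore_map_mulEquiv p e')
  have h' : Cfsg.pPrimePCore p A = (Cfsg.pPrimePCore p B).comap e.toMonoidHom := h
  rw [h']
  exact Subgroup.map_comap_eq_self_of_surjective e.surjective _

/-- Chain-connectedness is transported by isomorphisms. -/
theorem chainConnected_of_mulEquiv [Finite A] [Finite B] {p : ℕ} [Fact p.Prime] (e : A ≃* B)
    (h : Cfsg.IsSylowChainConnected p B) : Cfsg.IsSylowChainConnected p A := by
  by_contra hA
  obtain ⟨H, hH, hpH, hemb⟩ := (Cfsg.Agent.S3056.result (G := A) p).mp hA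
  apply (Cfsg.Agent.S3056.result (G := B) p).mpr _ h
  refine ⟨H.map e.toMonoidHom, ?_, ?_, ?_⟩
  · intro htop
    apply hH
    have := congrArg (Subgroup.comap e.toMonoidHom) htop
    rwa [Subgroup.comap_map_eq_self_of_injective e.injective, Subgroup.comap_top] at this
  · rw [Subgroup.card_map_of_injective e.injective]; exact hpH
  · intro g' hg'
    obtain ⟨g, rfl⟩ := e.surjective g'
    have hg : g ∉ H := fun hg => hg' ⟨g, hg, rfl⟩
    have heq : H.map e.toMonoidHom ⊓ (H.map e.toMonoidHom).map (MulAut.conj (e g)).toMonoidHom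
        = (H ⊓ H.map (MulAut.conj g).toMonoidHom).map e.toMonoidHom := by
      rw [Subgroup.map_inf _ _ _ e.injective, Subgroup.map_map, Subgroup.map_map]
      congr 2
      ext x
      simp
    rw [heq, Subgroup.card_map_of_injective e.injective]
    exact hemb g hg

end iso

variable {G : Type*} [Group G]

/-- The conjugation isomorphism `N ≃* yNy⁻¹`. -/
noncomputable def cjEquiv (y : G) (N : Subgroup G) : ↥N ≃* ↥(cj y N) :=
  (MulAut.conj y).subgroupMap N

theorem cjEquiv_coe (y : G) (N : Subgroup G) (x : ↥N) :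
    ((cjEquiv y N x : ↥(cj y N)) : G) = y * x * y⁻¹ := rfl

theorem oppp_cj (p : ℕ) (y : G) (N : Subgroup G) : oppp p (cj y N) = cj y (oppp p N) := by
  unfold oppp
  rw [← pPrimePCore_map_mulEquiv p (cjEquiv y N)]
  show ((Cfsg.pPrimePCore p ↥N).map (cjEquiv y N).toMonoidHom).map (cj y N).subtype =
    ((Cfsg.pPrimePCore p ↥N).map N.subtype).map (MulAut.conj y).toMonoidHom
  rw [Subgroup.map_map, Subgroup.map_map]
  congr 1

theorem opUp_cj (p : ℕ) (y : G) (X : Subgroup G) :
    Cfsg.Agent.Lib.Helper16.opUp p (cj y X) = cj y (Cfsg.Agent.Lib.Helper16.opUp p X) := by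
  unfold Cfsg.Agent.Lib.Helper16.opUp
  show _ = Subgroup.map (MulAut.conj y).toMonoidHom _
  rw [MonoidHom.map_closure]
  congr 1
  ext g
  constructor
  · rintro ⟨hg, hcop⟩
    rw [mem_cj] at hg
    refine ⟨y⁻¹ * g * y, ⟨hg, ?_⟩, by simp [MulAut.conj_apply]; group⟩
    have : orderOf (y⁻¹ * g * y) = orderOf g := by
      have := (MulAut.conj y⁻¹).orderOf_eq g
      rwa [MulAut.conj_apply, inv_inv] at this
    rw [this]; exact hcop
  · rintro ⟨x, ⟨hx, hcop⟩, rfl⟩
    refine ⟨conj_mem_cj hx, ?_⟩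
    have : orderOf ((MulAut.conj y).toMonoidHom x) = orderOf x := (MulAut.conj y).orderOf_eq x
    rw [this]; exact hcop

theorem relIndex_cj (y : G) (A B : Subgroup G) : (cj y A).relIndex (cj y B) = A.relIndex B :=
  Subgroup.relIndex_map_map_of_injective A B (MulAut.conj y).injective

theorem cj_inv_le_iff {y : G} {A B : Subgroup G} : cj y⁻¹ A ≤ B ↔ A ≤ cj y B := by
  have := cj_le_iff (g := y⁻¹) (P := A) (Q := B)
  rwa [inv_inv] at this

/-- Transport of `MinX`. -/
theorem minX_cj {p : ℕ} {H X : Subgroup G} (h : MinX p H X) (y : G) :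
    MinX p (cj y H) (cj y X) := by
  obtain ⟨hHX, hXN, hXn, hXp, hmin⟩ := h
  have hXn' := (Subgroup.normal_subgroupOf_iff_le_normalizer hXN).mp hXn
  have hXN' : cj y X ≤ Subgroup.normalizer ((cj y H : Subgroup G) : Set G) := by
    rw [← cj_normalizer]; exact cj_mono hXN
  refine ⟨cj_mono hHX, hXN', ?_, ?_, ?_⟩
  · rw [Subgroup.normal_subgroupOf_iff_le_normalizer hXN', ← cj_normalizer, ← cj_normalizer]
    exact cj_mono hXn'
  · rw [relIndex_cj]; exact hXp
  · intro Y' hHY' hY'N hY'n hY'p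
    have hY'n' := (Subgroup.normal_subgroupOf_iff_le_normalizer hY'N).mp hY'n
    have hN : cj y⁻¹ (Subgroup.normalizer ((cj y H : Subgroup G) : Set G)) =
        Subgroup.normalizer (H : Set G) := by
      rw [cj_normalizer, cj_inv_cj]
    have hYN : cj y⁻¹ Y' ≤ Subgroup.normalizer (H : Set G) := by
      rw [← hN]; exact cj_mono hY'N
    have h1 : H ≤ cj y⁻¹ Y' := by
      have := cj_mono (g := y⁻¹) hHY'
      rwa [cj_inv_cj] at this
    have h2 : ((cj y⁻¹ Y').subgroupOf (Subgroup.normalizer (H : Set G))).Normal := by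
      rw [Subgroup.normal_subgroupOf_iff_le_normalizer hYN]
      have := cj_mono (g := y⁻¹) hY'n'
      rwa [cj_normalizer, cj_normalizer, cj_inv_cj] at this
    have h3 : p ∣ H.relIndex (cj y⁻¹ Y') := by
      have := relIndex_cj y H (cj y⁻¹ Y')
      rw [cj_cj_inv] at this
      rw [← this]; exact hY'p
    have := hmin _ h1 hYN h2 h3
    exact cj_le_iff.mpr this

end Cfsg.Agent.Lib.Helper11.PAG
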