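import Mathlib
import Cfsg.Agent.Lib.Helper11.PAG7

/-!
Normal form of the chains of the strong Alperin–Goldschmidt theorem (helper11): the normalizer
steps are moved to the end, and the chain is unpacked into indexed data.
-/

set_option autoImplicit false

namespace Cfsg.Agent.Lib.Helper11.PAG

open Cfsg Cfsg.Agent.Lib.Helper29 Cfsg.Agent.Lib.Helper1 Cfsg.Agent.Lib.Helper2
open Cfsg.Agent.Lib.Helper11.AG

variable {G : Type*} [Group G] [Finite G] {p : ℕ} [Fact p.Prime]

theorem conn_transport (y : G) (U N U' N' : Subgroup G) [hn : (U.subgroupOf N).Normal]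
    [hn' : (U'.subgroupOf N').Normal] (hU : U' = cj y U) (hN : N' = cj y N)
    (h : Cfsg.IsSylowChainConnected p (↥N' ⧸ U'.subgroupOf N')) :
    Cfsg.IsSylowChainConnected p (↥N ⧸ U.subgroupOf N) := by
  subst hU
  subst hN
  have he : (U.subgroupOf N).map (cjEquiv y N).toMonoidHom = (cj y U).subgroupOf (cj y N) := by
    ext ⟨x, hx⟩
    rw [Subgroup.mem_subgroupOf]
    constructor
    · rintro ⟨u, hu, hux⟩
      have h1 : ((cjEquiv y N u : ↥(cj y N)) : G) = x := congrArg Subtype.val hux
      rw [cjEquiv_coe] at h1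
      show x ∈ cj y U
      rw [← h1]
      exact conj_mem_cj (Subgroup.mem_subgroupOf.mp hu)
    · intro hxU
      have hxU' : x ∈ cj y U := hxU
      rw [mem_cj] at hxU'
      have hxN : y⁻¹ * x * y ∈ N := by
        have := hx
        rw [mem_cj] at this
        exact this
      refine ⟨⟨y⁻¹ * x * y, hxN⟩, Subgroup.mem_subgroupOf.mpr hxU', ?_⟩
      apply Subtype.ext
      show ((cjEquiv y N ⟨y⁻¹ * x * y, hxN⟩ : ↥(cj y N)) : G) = x
      rw [cjEquiv_coe]
      group
  exact chainConnected_of_mulEquiv (QuotientGroup.congr _ _ (cjEquiv y N) he) h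

theorem ess_cj {P : Sylow p G} {H : Subgroup G} (h : Ess p (P : Subgroup G) H) {y : G}
    (hy : y ∈ Subgroup.normalizer (((P : Subgroup G) : Subgroup G) : Set G)) :
    Ess p (P : Subgroup G) (cj y H) := by
  obtain ⟨h1, h2, h3, h4, h5⟩ := h
  have hP : cj y (P : Subgroup G) = P := cj_eq_of_mem_normalizer hy
  refine ⟨?_, ?_, ?_, ?_, ?_⟩
  · rw [← hP]; exact cj_mono h1
  · rw [← cj_normalizer]
    have : ((P : Subgroup G) ⊓ cj y (Subgroup.normalizer (H : Set G))) =
        cj y ((P : Subgroup G) ⊓ Subgroup.normalizer (H : Set G)) := by rw [cj_inf, hP]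
    rw [this, relIndex_cj]
    exact h2
  · rw [← cj_centralizer]
    have : ((P : Subgroup G) ⊓ cj y (Subgroup.centralizer (H : Set G))) =
        cj y ((P : Subgroup G) ⊓ Subgroup.centralizer (H : Set G)) := by rw [cj_inf, hP]
    rw [this]
    exact cj_mono h3
  · show oppp p (Subgroup.normalizer ((cj y H : Subgroup G) : Set G)) = _
    rw [← cj_normalizer, oppp_cj, ← cj_centralizer, ← cj_sup]
    congr 1
  · intro hc
    apply h5
    exact conn_transport y H (Subgroup.normalizer (H : Set G)) (cj y H)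
      (Subgroup.normalizer ((cj y H : Subgroup G) : Set G)) rfl (cj_normalizer y H).symm hc

theorem essFam_cj {P : Sylow p G} {T L : Subgroup G} (h : (T, L) ∈ essFam p (P : Subgroup G))
    {y : G} (hy : y ∈ Subgroup.normalizer (((P : Subgroup G) : Subgroup G) : Set G)) :
    (cj y T, cj y L) ∈ essFam p (P : Subgroup G) := by
  obtain ⟨X, hE, hX, hL⟩ := h
  refine ⟨cj y X, ess_cj hE hy, minX_cj hX y, ?_⟩
  simp only at hL ⊢
  rw [hL, Cfsg.Agent.Lib.Helper16.map_pResidual_eq_opUp,
    Cfsg.Agent.Lib.Helper16.map_pResidual_eq_opUp, opUp_cj]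

theorem rcs_inv_coe_subset {y : G} {A : Set G} {T : Subgroup G} (hA : A ⊆ (T : Set G)) :
    rcs y⁻¹ A ⊆ ((cj y T : Subgroup G) : Set G) := by
  rintro _ ⟨a, ha, rfl⟩
  have := conj_mem_cj (g := y) (hA ha)
  simpa using this

/-- Conjugating an essential chain by an element of `N_G(P)`. -/
theorem PChain.conj_normalizer {P : Sylow p G} {A : Set G} {w : G}
    (h : PChain (essFam p (P : Subgroup G)) A w) :
    ∀ y ∈ Subgroup.normalizer (((P : Subgroup G) : Subgroup G) : Set G),
      PChain (essFam p (P : Subgroup G)) (rcs y⁻¹ A) (y * w * y⁻¹) := by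
  induction h with
  | nil A =>
    intro y _
    have : y * 1 * y⁻¹ = 1 := by group
    rw [this]; exact PChain.nil _
  | cons A T L x g hT hx hA _ ih =>
    intro y hy
    have e : y * (x * g) * y⁻¹ = (y * x * y⁻¹) * (y * g * y⁻¹) := by group
    rw [e]
    refine PChain.cons _ (cj y T) (cj y L) _ _ (essFam_cj hT hy) (conj_mem_cj hx)
      (rcs_inv_coe_subset hA) ?_
    have e2 : rcs (y * x * y⁻¹) (rcs y⁻¹ A) = rcs y⁻¹ (rcs x A) := by
      rw [← rcs_mul, ← rcs_mul]
      congr 1
      group
    rw [e2]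
    exact ih y hy

theorem le_of_mem_stepFam {P : Sylow p G} {T L : Subgroup G}
    (h : (T, L) ∈ stepFam p (P : Subgroup G)) : T ≤ (P : Subgroup G) := by
  rcases h with ⟨hT, -⟩ | ⟨X, hE, -, -⟩
  · simp only at hT; rw [hT]
  · exact hE.1

/-- Normal form: essential steps first, then one element of `N_G(P)`. -/
theorem PChain.normalForm {P : Sylow p G} {A : Set G} {g : G}
    (h : PChain (stepFam p (P : Subgroup G)) A g) :
    ∃ w y : G, PChain (essFam p (P : Subgroup G)) A w ∧
      y ∈ Subgroup.normalizer (((P : Subgroup G) : Subgroup G) : Set G) ∧ g = w * y := by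
  induction h with
  | nil A => exact ⟨1, 1, PChain.nil _, one_mem _, (mul_one 1).symm⟩
  | cons A T L x g hT hx hA _ ih =>
    obtain ⟨w, y, hw, hy, rfl⟩ := ih
    rcases hT with ⟨hT1, hL1⟩ | hT
    · simp only at hT1 hL1
      rw [hL1] at hx
      refine ⟨x * w * x⁻¹, x * y, ?_, mul_mem hx hy, by group⟩
      have := hw.conj_normalizer x hx
      rwa [rcs_inv_rcs] at this
    · exact ⟨x * w, y, PChain.cons A T L x w hT hx hA hw, hy, by group⟩

/-- Unpacking an essential chain into indexed data. -/
theorem PChain.exists_data {P : Sylow p G} {A : Set G} {w : G}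
    (h : PChain (essFam p (P : Subgroup G)) A w) :
    ∃ (n : ℕ) (H X : Fin n → Subgroup G) (x : Fin n → G), (List.ofFn x).prod = w ∧
      ∀ i : Fin n, Ess p (P : Subgroup G) (H i) ∧ MinX p (H i) (X i) ∧
        x i ∈ (Cfsg.pResidual p ↥(X i)).map (X i).subtype ∧
        (fun a => (((List.ofFn x).take i.val).prod)⁻¹ * a * ((List.ofFn x).take i.val).prod) '' A
          ⊆ (H i : Set G) := by
  induction h with
  | nil A =>
    exact ⟨0, Fin.elim0, Fin.elim0, Fin.elim0, by simp, fun i => i.elim0⟩
  | cons A T₀ L₀ x₀ g hT hx hA _ ih =>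
    obtain ⟨n, H, X, x, hprod, hall⟩ := ih
    obtain ⟨X₀, hE, hX₀, hL₀⟩ := hT
    simp only at hE hX₀ hL₀
    refine ⟨n + 1, Fin.cons T₀ H, Fin.cons X₀ X, Fin.cons x₀ x, ?_, ?_⟩
    · rw [List.ofFn_cons, List.prod_cons, hprod]
    · intro i
      refine Fin.cases ?_ (fun j => ?_) i
      · refine ⟨by simpa using hE, by simpa using hX₀, ?_, ?_⟩
        · show x₀ ∈ (Cfsg.pResidual p ↥X₀).map X₀.subtype
          rw [← hL₀]; exact hx
        · simp only [Fin.val_zero, List.take_zero, List.prod_nil, inv_one, one_mul, mul_one,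
            Set.image_id', Fin.cons_zero]
          exact hA
      · obtain ⟨h1, h2, h3, h4⟩ := hall j
        refine ⟨by simpa using h1, by simpa using h2, h3, ?_⟩
        simp only [Fin.cons_succ, Fin.val_succ]
        rw [List.ofFn_cons, List.take_succ_cons, List.prod_cons]
        have himg : (fun a => (x₀ * ((List.ofFn x).take j.val).prod)⁻¹ * a *
            (x₀ * ((List.ofFn x).take j.val).prod)) '' A =
            (fun a => (((List.ofFn x).take j.val).prod)⁻¹ * a *
              ((List.ofFn x).take j.val).prod) '' (rcs x₀ A) := by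
          unfold rcs
          rw [Set.image_image]
          congr 1
          funext a
          group
        rw [himg]
        exact h4

end Cfsg.Agent.Lib.Helper11.PAG
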