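import Cfsg.Agent.S5059

/-!
Quadratic pairs (helper11), part a: basic calculus for the root subgroups `E(σ)`:
* `mem_class_of`: the minimality lemma (an element of `G` with commutator space inside `[M,σ]`,
  fixed space containing `C_M(σ)` and scalar family in `G` belongs to `E_σ`),
* `conj_mem_class`: an element of `G` commuting with one member of `E_σ` normalizes `E(σ)`,
* `comm_of_normalizer`: a quadratic element normalizing `E(τ)` centralizes it.
-/

set_option autoImplicit false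
universe u
open Cfsg Cfsg.Agent.S5059

namespace Cfsg.Agent.Lib.Helper11.QP

variable {k : Type u} [Field k] {M : Type u} [AddCommGroup M] [Module k M]

local notation "GLM" => LinearMap.GeneralLinearGroup k M

theorem val_inv_mul (g : GLM) : ((g⁻¹ : GLM) : M →ₗ[k] M) * (g : M →ₗ[k] M) = 1 := by
  rw [← Units.val_mul, inv_mul_cancel, Units.val_one]

theorem val_mul_inv (g : GLM) : (g : M →ₗ[k] M) * ((g⁻¹ : GLM) : M →ₗ[k] M) = 1 := by
  rw [← Units.val_mul, mul_inv_cancel, Units.val_one]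

theorem conj_val_sub_one (g x : GLM) :
    ((g * x * g⁻¹ : GLM) : M →ₗ[k] M) - 1 =
      (g : M →ₗ[k] M) * ((x : M →ₗ[k] M) - 1) * ((g⁻¹ : GLM) : M →ₗ[k] M) := by
  rw [Units.val_mul, Units.val_mul, mul_sub, sub_mul, mul_one, val_mul_inv]

theorem eq_one_of_val_sub_one {x : GLM} (h : (x : M →ₗ[k] M) - 1 = 0) : x = 1 := by
  apply Units.ext
  rw [Units.val_one]
  exact sub_eq_zero.mp h

theorem val_sub_one_ne_zero {x : GLM} (h : x ≠ 1) : (x : M →ₗ[k] M) - 1 ≠ 0 :=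
  fun h0 => h (eq_one_of_val_sub_one h0)

/-- the minimality lemma -/
theorem mem_class_of [FiniteDimensional k M] {G : Subgroup GLM} {σ : GLM}
    (hσ : σ ∈ Cfsg.minimalQuadraticElements G) {y : GLM} (hyG : y ∈ G) (hy1 : y ≠ 1)
    (hr : LinearMap.range ((y : M →ₗ[k] M) - 1) ≤ LinearMap.range ((σ : M →ₗ[k] M) - 1))
    (hk : LinearMap.ker ((σ : M →ₗ[k] M) - 1) ≤ LinearMap.ker ((y : M →ₗ[k] M) - 1))
    (hs : Cfsg.scalarFamily y ⊆ (G : Set GLM)) : y ∈ Cfsg.sameActionClass G σ := by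
  obtain ⟨⟨hσG, ⟨hσq, hσne⟩, hσs⟩, hσmin⟩ := hσ
  have hRC : LinearMap.range ((σ : M →ₗ[k] M) - 1) ≤ LinearMap.ker ((σ : M →ₗ[k] M) - 1) := by
    rintro _ ⟨m, rfl⟩
    rw [LinearMap.mem_ker]
    have := congrArg (fun f => f m) hσq
    simpa using this
  have hS : InSp (LinearMap.ker ((σ : M →ₗ[k] M) - 1)) (LinearMap.range ((σ : M →ₗ[k] M) - 1))
      ((y : M →ₗ[k] M) - 1) := ⟨hr, hk⟩
  have hNN := InSp.mul_eq_zero hRC hS hS
  have hyq : y ∈ Cfsg.quadraticElements G := ⟨hyG, ⟨hNN, val_sub_one_ne_zero hy1⟩, hs⟩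
  have hle : Cfsg.commutatorRank y ≤ Cfsg.commutatorRank σ := Submodule.finrank_mono hr
  have hge : Cfsg.commutatorRank σ ≤ Cfsg.commutatorRank y := hσmin y hyq
  have heq : Module.finrank k (LinearMap.range ((y : M →ₗ[k] M) - 1)) =
      Module.finrank k (LinearMap.range ((σ : M →ₗ[k] M) - 1)) := le_antisymm hle hge
  have hrange : LinearMap.range ((y : M →ₗ[k] M) - 1) = LinearMap.range ((σ : M →ₗ[k] M) - 1) :=
    Submodule.eq_of_le_of_finrank_eq hr heq
  have hker : LinearMap.ker ((y : M →ₗ[k] M) - 1) = LinearMap.ker ((σ : M →ₗ[k] M) - 1) := by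
    symm
    apply Submodule.eq_of_le_of_finrank_eq hk
    have e1 := LinearMap.finrank_range_add_finrank_ker ((y : M →ₗ[k] M) - 1)
    have e2 := LinearMap.finrank_range_add_finrank_ker ((σ : M →ₗ[k] M) - 1)
    rw [heq] at e1
    omega
  refine ⟨⟨hyq, ?_⟩, hker, hrange⟩
  intro τ' hτ'
  exact (le_of_eq (le_antisymm hle hge)).trans (hσmin τ' hτ')

/-- members of the class are quadratic -/
theorem sq_zero_of_mem_class {G : Subgroup GLM} {σ x : GLM} (hx : x ∈ Cfsg.sameActionClass G σ) :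
    ((x : M →ₗ[k] M) - 1) * ((x : M →ₗ[k] M) - 1) = 0 := hx.1.1.2.1.1

theorem ne_one_of_mem_class {G : Subgroup GLM} {σ x : GLM} (hx : x ∈ Cfsg.sameActionClass G σ) :
    x ≠ 1 := by
  intro h
  have := hx.1.1.2.1.2
  rw [h, Units.val_one, sub_self] at this
  exact this rfl

theorem mem_G_of_mem_class {G : Subgroup GLM} {σ x : GLM} (hx : x ∈ Cfsg.sameActionClass G σ) :
    x ∈ G := hx.1.1.1

theorem sigma_mem_class {G : Subgroup GLM} {σ : GLM} (hσ : σ ∈ Cfsg.minimalQuadraticElements G) :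
    σ ∈ Cfsg.sameActionClass G σ := ⟨hσ, rfl, rfl⟩

/-- an element of `G` commuting with one member of `E_σ` conjugates `E_σ` into itself -/
theorem conj_mem_class [FiniteDimensional k M] {G : Subgroup GLM} {σ : GLM}
    (hσ : σ ∈ Cfsg.minimalQuadraticElements G) {g x₀ : GLM} (hgG : g ∈ G)
    (hx₀ : x₀ ∈ Cfsg.sameActionClass G σ) (hcomm : g * x₀ = x₀ * g)
    {x : GLM} (hx : x ∈ Cfsg.sameActionClass G σ) : g * x * g⁻¹ ∈ Cfsg.sameActionClass G σ := by
  have hc1 : (g : M →ₗ[k] M) * ((x₀ : M →ₗ[k] M) - 1) = ((x₀ : M →ₗ[k] M) - 1) * (g : M →ₗ[k] M) := by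
    have := congrArg (fun u : GLM => (u : M →ₗ[k] M)) hcomm
    simp only [Units.val_mul] at this
    rw [mul_sub, sub_mul, this, mul_one, one_mul]
  have hcomm' : g⁻¹ * x₀ = x₀ * g⁻¹ := by
    have : x₀ = g⁻¹ * (x₀ * g) := by rw [← hcomm, inv_mul_cancel_left]
    calc g⁻¹ * x₀ = g⁻¹ * x₀ * g * g⁻¹ := by rw [mul_inv_cancel_right]
      _ = x₀ * g⁻¹ := by rw [mul_assoc g⁻¹ x₀ g, ← this]
  have hc2 : ((g⁻¹ : GLM) : M →ₗ[k] M) * ((x₀ : M →ₗ[k] M) - 1) =
      ((x₀ : M →ₗ[k] M) - 1) * ((g⁻¹ : GLM) : M →ₗ[k] M) := by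
    have := congrArg (fun u : GLM => (u : M →ₗ[k] M)) hcomm'
    simp only [Units.val_mul] at this
    rw [mul_sub, sub_mul, this, mul_one, one_mul]
  obtain ⟨hx₀m, hx₀k, hx₀r⟩ := hx₀
  obtain ⟨hxm, hxk, hxr⟩ := hx
  have hxNN : ((x : M →ₗ[k] M) - 1) * ((x : M →ₗ[k] M) - 1) = 0 := hxm.1.2.1.1
  have hx1 : (x : M →ₗ[k] M) - 1 ≠ 0 := hxm.1.2.1.2
  apply mem_class_of hσ
  · exact G.mul_mem (G.mul_mem hgG hxm.1.1) (G.inv_mem hgG)
  · intro h
    apply hx1
    have : x = 1 := by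
      have h2 : g * x = g := by
        have := congrArg (fun u => u * g) h
        simpa [mul_assoc] using this
      exact mul_eq_left.mp h2
    rw [this, Units.val_one, sub_self]
  · rintro _ ⟨m, rfl⟩
    rw [conj_val_sub_one]
    have h1 : ((x : M →ₗ[k] M) - 1) (((g⁻¹ : GLM) : M →ₗ[k] M) m) ∈
        LinearMap.range ((x₀ : M →ₗ[k] M) - 1) := by
      rw [hx₀r, ← hxr]
      exact LinearMap.mem_range_self _ _
    obtain ⟨m', hm'⟩ := h1
    rw [← hx₀r]
    refine ⟨(g : M →ₗ[k] M) m', ?_⟩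
    have := congrArg (fun f : M →ₗ[k] M => f m') hc1
    simp only [Module.End.mul_apply] at this
    rw [Module.End.mul_apply, Module.End.mul_apply, ← hm', this]
  · intro m hm
    rw [LinearMap.mem_ker, conj_val_sub_one, Module.End.mul_apply, Module.End.mul_apply]
    have h1 : ((g⁻¹ : GLM) : M →ₗ[k] M) m ∈ LinearMap.ker ((x : M →ₗ[k] M) - 1) := by
      rw [hxk, ← hx₀k, LinearMap.mem_ker]
      have := congrArg (fun f : M →ₗ[k] M => f m) hc2
      simp only [Module.End.mul_apply] at this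
      rw [← this]
      have hm0 : ((x₀ : M →ₗ[k] M) - 1) m = 0 := by
        rw [← hx₀k] at hm
        exact hm
      rw [hm0, map_zero]
    rw [LinearMap.mem_ker] at h1
    rw [h1, map_zero]
  · rintro υ ⟨c, hc⟩
    have hu : unitOf _ hxNN c ∈ G := hxm.1.2.2 ⟨c, rfl⟩
    have : υ = g * unitOf _ hxNN c * g⁻¹ := by
      apply Units.ext
      rw [hc, conj_val_sub_one, Units.val_mul, Units.val_mul, unitOf_val, mul_add, add_mul, mul_one,
        val_mul_inv, mul_smul_comm, smul_mul_assoc]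
    rw [this]
    exact G.mul_mem (G.mul_mem hgG hu) (G.inv_mem hgG)

end Cfsg.Agent.Lib.Helper11.QP
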