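import Cfsg.Agent.Lib.Helper11.QPa

/-!
Quadratic pairs (helper11), part b: a quadratic element normalizing a root subgroup `E(τ)`
centralizes it; commuting / normalizing members force `[E, F] = 1` (S5073).
-/

set_option autoImplicit false
universe u
open Cfsg Cfsg.Agent.S5059

namespace Cfsg.Agent.Lib.Helper11.QP

variable {k : Type u} [Field k] {M : Type u} [AddCommGroup M] [Module k M]

local notation "GLM" => LinearMap.GeneralLinearGroup k M

section

variable [FiniteDimensional k M] (hk2 : ringChar k ≠ 2) (hk3 : Nat.card k ≠ 3)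
  {G : Subgroup (LinearMap.GeneralLinearGroup k M)} (hG : Cfsg.IsQuadraticPair G)

include hk2 hk3 hG

theorem mem_E_iff {σ : GLM} (hσ : σ ∈ Cfsg.minimalQuadraticElements G) (x : GLM) :
    x ∈ Cfsg.sameActionSubgroup G σ ↔ x ∈ Cfsg.sameActionClass G σ ∨ x = 1 := by
  have h := (Cfsg.Agent.S5059.result hk2 hk3 hG hσ).1
  have := Set.ext_iff.mp h x
  rw [SetLike.mem_coe, Set.mem_union, Set.mem_singleton_iff] at this
  exact this

theorem range_le_ker {σ : GLM} (hσ : σ ∈ Cfsg.minimalQuadraticElements G) :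
    LinearMap.range ((σ : M →ₗ[k] M) - 1) ≤ LinearMap.ker ((σ : M →ₗ[k] M) - 1) := by
  obtain ⟨⟨hσG, ⟨hσq, hσne⟩, hσs⟩, hσmin⟩ := hσ
  rintro _ ⟨m, rfl⟩
  rw [LinearMap.mem_ker]
  have := congrArg (fun f => f m) hσq
  simpa using this

theorem inSp_of_mem_E {σ : GLM} (hσ : σ ∈ Cfsg.minimalQuadraticElements G) {x : GLM}
    (hx : x ∈ Cfsg.sameActionSubgroup G σ) :
    InSp (LinearMap.ker ((σ : M →ₗ[k] M) - 1)) (LinearMap.range ((σ : M →ₗ[k] M) - 1))
      ((x : M →ₗ[k] M) - 1) := by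
  rcases (mem_E_iff hk2 hk3 hG hσ x).mp hx with h | h
  · exact ⟨le_of_eq h.2.2, le_of_eq h.2.1.symm⟩
  · rw [h, Units.val_one, sub_self]
    exact InSp.zero _ _

theorem val_mul_E {σ : GLM} (hσ : σ ∈ Cfsg.minimalQuadraticElements G) {x y : GLM}
    (hx : x ∈ Cfsg.sameActionSubgroup G σ) (hy : y ∈ Cfsg.sameActionSubgroup G σ) :
    ((x * y : GLM) : M →ₗ[k] M) - 1 = ((x : M →ₗ[k] M) - 1) + ((y : M →ₗ[k] M) - 1) :=
  val_mul_sub_one (range_le_ker hk2 hk3 hG hσ) (inSp_of_mem_E hk2 hk3 hG hσ hx)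
    (inSp_of_mem_E hk2 hk3 hG hσ hy)

theorem val_inv_E {σ : GLM} (hσ : σ ∈ Cfsg.minimalQuadraticElements G) {x : GLM}
    (hx : x ∈ Cfsg.sameActionSubgroup G σ) :
    ((x⁻¹ : GLM) : M →ₗ[k] M) - 1 = -((x : M →ₗ[k] M) - 1) := by
  have h := val_mul_E hk2 hk3 hG hσ hx ((Cfsg.sameActionSubgroup G σ).inv_mem hx)
  rw [mul_inv_cancel, Units.val_one, sub_self] at h
  exact (neg_eq_of_add_eq_zero_right h.symm).symm

theorem E_le_G {σ : GLM} (hσ : σ ∈ Cfsg.minimalQuadraticElements G) :
    Cfsg.sameActionSubgroup G σ ≤ G := by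
  intro x hx
  rcases (mem_E_iff hk2 hk3 hG hσ x).mp hx with h | h
  · exact mem_G_of_mem_class h
  · rw [h]; exact G.one_mem

/-- a quadratic element normalizing `E(τ)` centralizes it -/
theorem comm_of_normalizer {τ : GLM} (hτ : τ ∈ Cfsg.minimalQuadraticElements G) {e : GLM}
    (he : ((e : M →ₗ[k] M) - 1) * ((e : M →ₗ[k] M) - 1) = 0)
    (hn : e ∈ Subgroup.normalizer ((Cfsg.sameActionSubgroup G τ : Subgroup GLM) : Set GLM))
    {f : GLM} (hf : f ∈ Cfsg.sameActionSubgroup G τ) : e * f = f * e := by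
  set F := Cfsg.sameActionSubgroup G τ with hF
  set a := (e : M →ₗ[k] M) - 1 with ha
  set b := (f : M →ₗ[k] M) - 1 with hb
  have hev : (e : M →ₗ[k] M) = 1 + a := by rw [ha]; abel
  have heinv : ((e⁻¹ : GLM) : M →ₗ[k] M) = 1 - a := by
    apply Units.inv_eq_of_mul_eq_one_right
    rw [hev, ring_aux1, he, sub_zero]
  have hfS := inSp_of_mem_E hk2 hk3 hG hτ hf
  have hτne : (τ : M →ₗ[k] M) - 1 ≠ 0 := hτ.1.2.1.2
  -- the two conjugates
  have hx₁ : e * f * e⁻¹ ∈ F := (Subgroup.mem_set_normalizer_iff.mp hn f).mp hf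
  have hx₂ : e⁻¹ * f * e ∈ F := (Subgroup.mem_set_normalizer_iff''.mp hn f).mp hf
  have v₁ : ((e * f * e⁻¹ : GLM) : M →ₗ[k] M) - 1 = b + a * b - b * a - a * b * a := by
    rw [conj_val_sub_one, ← hb, heinv, hev]
    noncomm_ring
  have v₂ : ((e⁻¹ * f * e : GLM) : M →ₗ[k] M) - 1 = b - a * b + b * a - a * b * a := by
    have := conj_val_sub_one e⁻¹ f
    rw [inv_inv] at this
    rw [this, ← hb, heinv, hev]
    noncomm_ring
  have hfi : f⁻¹ ∈ F := F.inv_mem hf
  have vfi : ((f⁻¹ : GLM) : M →ₗ[k] M) - 1 = -b := val_inv_E hk2 hk3 hG hτ hf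
  have two_ne : (2 : k) ≠ 0 := Ring.two_ne_zero hk2
  -- first: a b a = 0
  have haba : a * b * a = 0 := by
    set g := e * f * e⁻¹ * (e⁻¹ * f * e) * f⁻¹ * f⁻¹ with hg
    have hgF : g ∈ F := F.mul_mem (F.mul_mem (F.mul_mem hx₁ hx₂) hfi) hfi
    have vg : ((g : GLM) : M →ₗ[k] M) - 1 = -(a * b * a + a * b * a) := by
      rw [hg, val_mul_E hk2 hk3 hG hτ (F.mul_mem (F.mul_mem hx₁ hx₂) hfi) hfi,
        val_mul_E hk2 hk3 hG hτ (F.mul_mem hx₁ hx₂) hfi,
        val_mul_E hk2 hk3 hG hτ hx₁ hx₂, v₁, v₂, vfi]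
      abel
    have hg1 : g = 1 := by
      by_contra hne
      rcases (mem_E_iff hk2 hk3 hG hτ g).mp hgF with hc | hc
      · -- range of g - 1 is R, but it lies in a R
        have hR := hc.2.2
        have key : ∀ r ∈ LinearMap.range ((τ : M →ₗ[k] M) - 1),
            ∃ r' ∈ LinearMap.range ((τ : M →ₗ[k] M) - 1), r = a r' := by
          intro r hr
          rw [← hR] at hr
          obtain ⟨m, rfl⟩ := hr
          refine ⟨-(b (a m) + b (a m)), ?_, ?_⟩
          · apply Submodule.neg_mem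
            apply Submodule.add_mem
            · exact hfS.1 (LinearMap.mem_range_self _ _)
            · exact hfS.1 (LinearMap.mem_range_self _ _)
          · rw [vg]
            simp only [LinearMap.neg_apply, LinearMap.add_apply, Module.End.mul_apply, map_neg,
              map_add]
        have hbot : LinearMap.range ((τ : M →ₗ[k] M) - 1) = ⊥ := by
          rw [eq_bot_iff]
          intro r hr
          obtain ⟨r₁, hr₁, e₁⟩ := key r hr
          obtain ⟨r₂, _, e₂⟩ := key r₁ hr₁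
          rw [Submodule.mem_bot, e₁, e₂]
          have := congrArg (fun f : M →ₗ[k] M => f r₂) he
          simpa [Module.End.mul_apply] using this
        exact hτne (LinearMap.range_eq_bot.mp hbot)
      · exact hne hc
    have h0 : a * b * a + a * b * a = 0 := by
      have : ((g : GLM) : M →ₗ[k] M) - 1 = 0 := by rw [hg1, Units.val_one, sub_self]
      rw [vg, neg_eq_zero] at this
      exact this
    rw [← two_smul k (a * b * a)] at h0
    rcases smul_eq_zero.mp h0 with h | h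
    · exact absurd h two_ne
    · exact h
  -- second: the commutator is trivial
  set h := e * f * e⁻¹ * f⁻¹ with hh
  have hhF : h ∈ F := F.mul_mem hx₁ hfi
  have vh : ((h : GLM) : M →ₗ[k] M) - 1 = a * b - b * a := by
    rw [hh, val_mul_E hk2 hk3 hG hτ hx₁ hfi, v₁, vfi, haba]
    abel
  have hh1 : h = 1 := by
    by_contra hne
    rcases (mem_E_iff hk2 hk3 hG hτ h).mp hhF with hc | hc
    · have hK := hc.2.1
      have hR := hc.2.2
      rw [vh] at hK hR
      have aw : a * (a * b - b * a) = 0 := by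
        rw [mul_sub, ← mul_assoc, he, zero_mul, ← mul_assoc, haba, sub_zero]
      have wa : (a * b - b * a) * a = 0 := by
        rw [sub_mul, haba, mul_assoc b a a, he, mul_zero, sub_zero]
      have hRa : ∀ r ∈ LinearMap.range ((τ : M →ₗ[k] M) - 1), a r = 0 := by
        intro r hr
        rw [← hR] at hr
        obtain ⟨m, rfl⟩ := hr
        have := congrArg (fun f : M →ₗ[k] M => f m) aw
        simpa [Module.End.mul_apply] using this
      have haC : ∀ m, a m ∈ LinearMap.ker ((τ : M →ₗ[k] M) - 1) := by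
        intro m
        rw [← hK, LinearMap.mem_ker]
        have := congrArg (fun f : M →ₗ[k] M => f m) wa
        simpa [Module.End.mul_apply] using this
      have hab : a * b = 0 := by
        ext m
        rw [Module.End.mul_apply, LinearMap.zero_apply]
        exact hRa _ (hfS.1 (LinearMap.mem_range_self _ _))
      have hba : b * a = 0 := by
        ext m
        rw [Module.End.mul_apply, LinearMap.zero_apply]
        exact hfS.2 (haC m)
      apply hne
      apply eq_one_of_val_sub_one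
      rw [vh, hab, hba, sub_zero]
    · exact hne hc
  have : e * f * e⁻¹ = f := by
    have := mul_inv_eq_one.mp hh1
    exact this
  exact mul_inv_eq_iff_eq_mul.mp this

/-- conjugation by an element of `G` commuting with a member of `E_σ` maps `E(σ)` into itself -/
theorem conj_mem_E {σ : GLM} (hσ : σ ∈ Cfsg.minimalQuadraticElements G) {g x₀ : GLM} (hgG : g ∈ G)
    (hx₀ : x₀ ∈ Cfsg.sameActionClass G σ) (hcomm : g * x₀ = x₀ * g) {x : GLM}
    (hx : x ∈ Cfsg.sameActionSubgroup G σ) : g * x * g⁻¹ ∈ Cfsg.sameActionSubgroup G σ := by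
  rcases (mem_E_iff hk2 hk3 hG hσ x).mp hx with h | h
  · exact (mem_E_iff hk2 hk3 hG hσ _).mpr (Or.inl (conj_mem_class hσ hgG hx₀ hcomm h))
  · rw [h, mul_one, mul_inv_cancel]
    exact Subgroup.one_mem _

/-- an element of `G` commuting with a member of `E_σ` normalizes `E(σ)` -/
theorem mem_normalizer_of_comm {σ : GLM} (hσ : σ ∈ Cfsg.minimalQuadraticElements G) {g x₀ : GLM}
    (hgG : g ∈ G) (hx₀ : x₀ ∈ Cfsg.sameActionClass G σ) (hcomm : g * x₀ = x₀ * g) :
    g ∈ Subgroup.normalizer ((Cfsg.sameActionSubgroup G σ : Subgroup GLM) : Set GLM) := by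
  have hcomm' : g⁻¹ * x₀ = x₀ * g⁻¹ := by
    have : x₀ = g⁻¹ * (x₀ * g) := by rw [← hcomm, inv_mul_cancel_left]
    calc g⁻¹ * x₀ = g⁻¹ * x₀ * g * g⁻¹ := by rw [mul_inv_cancel_right]
      _ = x₀ * g⁻¹ := by rw [mul_assoc g⁻¹ x₀ g, ← this]
  rw [Subgroup.mem_set_normalizer_iff]
  intro x
  constructor
  · intro hx
    exact conj_mem_E hk2 hk3 hG hσ hgG hx₀ hcomm hx
  · intro hx
    have := conj_mem_E hk2 hk3 hG hσ (G.inv_mem hgG) hx₀ hcomm' hx
    rw [inv_inv] at this
    have e : g⁻¹ * (g * x * g⁻¹) * g = x := by group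
    rw [e] at this
    exact this

/-- **S5073 core**: if a non-identity member of `E(σ)` normalizes `E(τ)`, the two root subgroups
commute elementwise. -/
theorem comm_of_normalizing_member {σ τ : GLM} (hσ : σ ∈ Cfsg.minimalQuadraticElements G)
    (hτ : τ ∈ Cfsg.minimalQuadraticElements G) {e : GLM} (heE : e ∈ Cfsg.sameActionSubgroup G σ)
    (he1 : e ≠ 1)
    (hen : e ∈ Subgroup.normalizer ((Cfsg.sameActionSubgroup G τ : Subgroup GLM) : Set GLM)) :
    ∀ x ∈ Cfsg.sameActionSubgroup G σ, ∀ f ∈ Cfsg.sameActionSubgroup G τ, x * f = f * x := by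
  have heC : e ∈ Cfsg.sameActionClass G σ :=
    ((mem_E_iff hk2 hk3 hG hσ e).mp heE).resolve_right he1
  have hecomm : ∀ f ∈ Cfsg.sameActionSubgroup G τ, e * f = f * e := fun f hf =>
    comm_of_normalizer hk2 hk3 hG hτ (sq_zero_of_mem_class heC) hen hf
  intro x hx f hf
  rcases (mem_E_iff hk2 hk3 hG hτ f).mp hf with hfc | hf1
  · have hfG : f ∈ G := mem_G_of_mem_class hfc
    have hfn := mem_normalizer_of_comm hk2 hk3 hG hσ hfG heC (hecomm f hf).symm
    exact (comm_of_normalizer hk2 hk3 hG hσ (sq_zero_of_mem_class hfc) hfn hx).symm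
  · rw [hf1, mul_one, one_mul]

end

end Cfsg.Agent.Lib.Helper11.QP
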