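import Mathlib
import Cfsg.Agent.Lib.Helper11.QuadFree2
import Cfsg.Agent.Lib.Helper1.FusionLift

/-!
# Sections of groups whose `p`-locals are `SL₂(p)`-free (helper11)

`exists_lift_psubgroup`: a `p`-subgroup `P̄` of a quotient `X ⧸ O` lifts to a `p`-subgroup `Q` of `X`
with `N(P̄) ≤ π(N_X(Q))` (Frattini argument).
-/

set_option autoImplicit false

namespace Cfsg.Agent.Lib.Helper11.QuadFree

open Cfsg.Agent.Lib.Helper29 Cfsg.Agent.Lib.Helper1
open Subgroup

section Lift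

variable {X : Type*} [Group X] [Finite X] {p : ℕ} [hp : Fact p.Prime]

theorem exists_lift_psubgroup (O : Subgroup X) [O.Normal] (Pb : Subgroup (X ⧸ O))
    (hPb : IsPGroup p Pb) :
    ∃ Q : Subgroup X, IsPGroup p Q ∧ Q.map (QuotientGroup.mk' O) = Pb ∧
      Subgroup.normalizer (Pb : Set (X ⧸ O)) ≤
        (Subgroup.normalizer (Q : Set X)).map (QuotientGroup.mk' O) := by
  set π := QuotientGroup.mk' O with hπ
  set P₁ : Subgroup X := Pb.comap π with hP₁
  have hOP : O ≤ P₁ := by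
    intro x hx
    show π x ∈ Pb
    have : π x = 1 := by
      rw [hπ, QuotientGroup.mk'_apply, QuotientGroup.eq_one_iff]; exact hx
    rw [this]; exact Pb.one_mem
  obtain ⟨Q, -, hQP, hQ⟩ := exists_isSylowSub_ge (p := p) (bot_le : (⊥ : Subgroup X) ≤ P₁)
    IsPGroup.of_bot
  have hQp : IsPGroup p Q := hQ.isPGroup hQP
  have hcover : P₁ ≤ Q ⊔ (O ⊓ P₁) := by
    apply le_sup_of_pow_mem hQ hQP
    · intro x _
      rw [Subgroup.normalizer_eq_top]; trivial
    · intro d hd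
      obtain ⟨a, ha⟩ := hPb ⟨π d, hd⟩
      refine ⟨a, ?_⟩
      have h1 : (π d) ^ (p ^ a) = 1 := by simpa using congrArg Subtype.val ha
      rw [← map_pow] at h1
      rw [← QuotientGroup.ker_mk' O]; exact MonoidHom.mem_ker.2 h1
  have hmap : Q.map π = Pb := by
    apply le_antisymm
    · rintro _ ⟨q, hq, rfl⟩
      exact hQP hq
    · intro xb hxb
      obtain ⟨x, rfl⟩ := QuotientGroup.mk'_surjective O xb
      have hx : x ∈ P₁ := hxb
      have h1 := hcover hx
      have h2 : π x ∈ (Q ⊔ (O ⊓ P₁)).map π := Subgroup.mem_map_of_mem _ h1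
      rw [Subgroup.map_sup] at h2
      have h3 : (O ⊓ P₁).map π = ⊥ := by
        rw [eq_bot_iff]
        rintro _ ⟨y, hy, rfl⟩
        rw [Subgroup.mem_bot, hπ, QuotientGroup.mk'_apply, QuotientGroup.eq_one_iff]
        exact hy.1
      rwa [h3, sup_bot_eq] at h2
  refine ⟨Q, hQp, hmap, ?_⟩
  intro ybar hy
  obtain ⟨y, rfl⟩ := QuotientGroup.mk'_surjective O ybar
  have h1 : cj y Q ≤ P₁ := by
    rintro _ ⟨v, hv, rfl⟩
    show π (y * v * y⁻¹) ∈ Pb
    rw [map_mul, map_mul, map_inv]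
    exact (Subgroup.mem_normalizer_iff.1 hy (π v)).1 (hQP hv)
  obtain ⟨m, hmY, hm⟩ := exists_cj_le_of_isSylowSub hQ h1 (isPGroup_cj hQp)
  rw [cj_cj] at hm
  have hmy : m * y ∈ Subgroup.normalizer (Q : Set X) := by
    apply Subgroup.mem_normalizer_fintype
    intro v hv
    exact hm ⟨v, hv, rfl⟩
  have h5 : π m ∈ Q.map π := by
    rw [hmap]; exact hmY
  obtain ⟨v₀, hv₀, hvm⟩ := h5
  refine ⟨v₀⁻¹ * (m * y), mul_mem (inv_mem (Subgroup.le_normalizer hv₀)) hmy, ?_⟩
  rw [map_mul, map_inv, map_mul, hvm, inv_mul_cancel_left]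

end Lift

end Cfsg.Agent.Lib.Helper11.QuadFree
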