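import Mathlib
import Cfsg.Prelude.Def_LocalEven
import Cfsg.Agent.Lib.Lead.PStableQuot
import Cfsg.Agent.Lib.Lead.FunctorNPCD
import Cfsg.Agent.Lib.Lead.ZJFunctorD
import Cfsg.Agent.Lib.Lead.GlaubermanZJD

/-!
Control of strong fusion by `N(W(D))`, `D` strongly closed, in `p`-stable groups with
`p`-constrained locals: the local factorization (helper11, on top of the lead's Glauberman libs).
-/

set_option autoImplicit false

universe u

namespace Cfsg.Agent.Lib.Helper11.SCF

open Subgroup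
open scoped commutatorElement
open Cfsg.Agent.Lib.Helper16 Cfsg.Agent.Lib.Lead.QuadStable
open Cfsg.Agent.Lib.Lead.GlaubermanRepl Cfsg.Agent.Lib.Lead.GlaubermanZJ
open Cfsg.Agent.Lib.Lead.PStableConv Cfsg.Agent.Lib.Lead.ZJFunctor
open Cfsg.Agent.Lib.Lead.PStableQuot Cfsg.Agent.Lib.Lead.FunctorNPC Cfsg.Agent.Lib.Lead.FunctorNPCD
open Cfsg.Agent.Lib.Helper13

section quot

variable {G : Type u} [Group G] [Finite G] {p : ℕ} [hp : Fact p.Prime]

/-- normalizer-form `p`-stability passes to normal `p`-subgroups of `G / O_{p'}(G)`. -/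
theorem isPStableOn_quot_nps (hs : Cfsg.IsNormalizerPStable p G)
    (Vb : Subgroup (G ⧸ Cfsg.pPrimeCore p G))
    [hVbn : Vb.Normal] (hVbp : IsPGroup p Vb) : Cfsg.IsPStableOn p Vb := by
  set K := Cfsg.pPrimeCore p G with hK
  have hKc : (Nat.card K).Coprime p := Cfsg.Agent.Lib.Helper2.pPrimeCore_coprime p
  set π := QuotientGroup.mk' K with hπ
  have hsurj : Function.Surjective π := QuotientGroup.mk'_surjective K
  intro ab hq
  have hker : ∀ g : G, π g = 1 ↔ g ∈ K := by
    intro g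
    rw [← MonoidHom.mem_ker, hπ, QuotientGroup.ker_mk']
  set LV := Vb.comap π with hLV
  haveI hLVn : LV.Normal := hVbn.comap π
  have hLVmap : LV.map π = Vb := Subgroup.map_comap_eq_self_of_surjective hsurj _
  obtain ⟨R⟩ : Nonempty (Sylow p ↥LV) := inferInstance
  set R' := (R : Subgroup LV).map LV.subtype with hR'
  have hR'p : IsPGroup p R' := R.isPGroup'.map _
  have hR'LV : R' ≤ LV := Subgroup.map_subtype_le _
  have hR'map : R'.map π = Vb := by
    rw [← hLVmap]
    apply map_sylow_eq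
    rw [hLVmap]; exact hVbp
  have hinj : ∀ x ∈ R', π x = 1 → x = 1 := injOn_of_coprime K hKc R' hR'p
  have hfrat := Sylow.normalizer_sup_eq_top R
  rw [← hR'] at hfrat
  have hNsurj : ∀ y : G ⧸ K, ∃ n ∈ normalizer (R' : Set G), π n = y := by
    intro y
    obtain ⟨g, rfl⟩ := hsurj y
    have hg : g ∈ (normalizer (R' : Set G) ⊔ LV : Subgroup G) := hfrat ▸ mem_top g
    obtain ⟨n, hn, l, hl, rfl⟩ := Subgroup.mem_sup_of_normal_right.mp hg
    have h1 : π l ∈ R'.map π := by rw [hR'map]; exact hl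
    obtain ⟨r, hr, hrl⟩ := h1
    refine ⟨n * r, mul_mem hn (le_normalizer hr), ?_⟩
    rw [map_mul, map_mul, hrl]
  obtain ⟨a, haN, haab⟩ := hNsurj ab
  rw [← haab] at hq ⊢
  have hquad2 : ∀ v ∈ R', ∀ x ∈ zpowers a, ∀ y ∈ zpowers a, ⁅⁅v, x⁆, y⁆ = 1 := by
    intro v hv x hx y hy
    have hxN : x ∈ normalizer (R' : Set G) := (zpowers_le.mpr haN) hx
    have hyN : y ∈ normalizer (R' : Set G) := (zpowers_le.mpr haN) hy
    have h1 : ⁅v, x⁆ ∈ R' := by
      have : ⁅v, x⁆ = v * (x * v⁻¹ * x⁻¹) := by simp only [commutatorElement_def]; group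
      rw [this]
      exact mul_mem hv ((mem_normalizer_iff.mp hxN v⁻¹).mp (inv_mem hv))
    have h2 : ⁅⁅v, x⁆, y⁆ ∈ R' := by
      have : ⁅⁅v, x⁆, y⁆ = ⁅v, x⁆ * (y * ⁅v, x⁆⁻¹ * y⁻¹) := by
        simp only [commutatorElement_def]; group
      rw [this]
      exact mul_mem h1 ((mem_normalizer_iff.mp hyN _).mp (inv_mem h1))
    apply hinj _ h2
    have h3 : π ⁅⁅v, x⁆, y⁆ ∈ ⁅⁅Vb, zpowers (π a)⁆, zpowers (π a)⁆ := by
      rw [map_commutatorElement, map_commutatorElement]
      have hx' : π x ∈ zpowers (π a) := by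
        obtain ⟨i, rfl⟩ := mem_zpowers_iff.mp hx
        rw [map_zpow]; exact zpow_mem (mem_zpowers _) i
      have hy' : π y ∈ zpowers (π a) := by
        obtain ⟨i, rfl⟩ := mem_zpowers_iff.mp hy
        rw [map_zpow]; exact zpow_mem (mem_zpowers _) i
      have hv' : π v ∈ Vb := by rw [← hR'map]; exact Subgroup.mem_map_of_mem _ hv
      exact commutator_mem_commutator (commutator_mem_commutator hv' hx') hy'
    rw [hq, mem_bot] at h3
    exact h3
  have hq' : ⁅⁅R', zpowers a⁆, zpowers a⁆ = ⊥ := by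
    rw [Subgroup.commutator_eq_bot_iff_le_centralizer, Subgroup.commutator_le]
    intro v hv x hx
    rw [mem_centralizer_iff]
    intro y hy
    have := hquad2 v hv x hx y hy
    rw [commutatorElement_eq_one_iff_mul_comm] at this
    exact this.symm
  have hmain := hs R' hR'p a haN hq'
  -- transfer
  set N := normalizer (R' : Set G) with hN
  set C := centralizer (R' : Set G) with hC
  set Cb := centralizer (Vb : Set (G ⧸ K)) with hCb
  haveI hCN : (C.subgroupOf N).Normal := inferInstance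
  have hCmap : ∀ c ∈ C, π c ∈ Cb := by
    intro c hc
    rw [hCb, mem_centralizer_iff]
    intro y hy
    rw [SetLike.mem_coe, ← hR'map] at hy
    obtain ⟨r, hr, rfl⟩ := hy
    rw [hC, mem_centralizer_iff] at hc
    rw [← map_mul, ← map_mul, hc r hr]
  let f : ↥N →* (G ⧸ K) ⧸ Cb := (QuotientGroup.mk' Cb).comp (π.comp N.subtype)
  have hfker : C.subgroupOf N ≤ f.ker := by
    intro x hx
    rw [MonoidHom.mem_ker]
    show QuotientGroup.mk' Cb (π (x : G)) = 1
    rw [QuotientGroup.mk'_apply, QuotientGroup.eq_one_iff]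
    exact hCmap _ (Subgroup.mem_subgroupOf.mp hx)
  let φ : ↥N ⧸ C.subgroupOf N →* (G ⧸ K) ⧸ Cb := QuotientGroup.lift (C.subgroupOf N) f hfker
  have hφsurj : Function.Surjective φ := by
    intro y
    induction y using QuotientGroup.induction_on with
    | H g =>
      obtain ⟨n, hn, rfl⟩ := hNsurj g
      exact ⟨QuotientGroup.mk ⟨n, hn⟩, rfl⟩
  have himg : (Cfsg.pCore p (↥N ⧸ C.subgroupOf N)).map φ ≤ Cfsg.pCore p ((G ⧸ K) ⧸ Cb) :=
    le_pCore ((pCore_normal p _).map φ hφsurj) ((pCore_isPGroup p _).map φ)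
  exact himg ⟨_, hmain, rfl⟩

end quot

section factor

variable {p : ℕ} [hp : Fact p.Prime] {W : ∀ (H : Type u) [Group H], Subgroup H → Subgroup H}

/-- the functor is normal in constrained stable groups, for strongly closed arguments -/
def NormalD (p : ℕ) (W : ∀ (H : Type u) [Group H], Subgroup H → Subgroup H) : Prop :=
  ∀ (Y : Type u) [Group Y] [Finite Y],
    Subgroup.centralizer (Cfsg.pCore p Y : Set Y) ≤ Cfsg.pCore p Y →
    (∀ (V : Subgroup Y) [V.Normal], IsPGroup p V → Cfsg.IsPStableOn p V) →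
    ∀ (P : Sylow p Y) (D : Subgroup Y), Cfsg.IsStronglyClosed D (P : Subgroup Y) → (W Y D).Normal

/-- the local factorization `Y = O_{p'}(Y) N_Y(W(D))` -/
theorem factorization_D (hW : IsGoodFunctor p W) (hWn : NormalD p W)
    {Y : Type u} [Group Y] [Finite Y] (hc : Cfsg.IsPConstrained p Y)
    (hs : Cfsg.IsNormalizerPStable p Y) (P : Sylow p Y) (D : Subgroup Y)
    (hD : Cfsg.IsStronglyClosed D (P : Subgroup Y)) :
    Cfsg.pPrimeCore p Y ⊔ normalizer (W Y D : Set Y) = ⊤ := by
  set K := Cfsg.pPrimeCore p Y with hK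
  have hKc : (Nat.card K).Coprime p := Cfsg.Agent.Lib.Helper2.pPrimeCore_coprime p
  set π := QuotientGroup.mk' K with hπ
  have hsurj : Function.Surjective π := QuotientGroup.mk'_surjective K
  have hsc : Cfsg.IsStronglyClosed (D.map π) (((P.mapSurjective hsurj : Sylow p (Y ⧸ K)) :
      Subgroup (Y ⧸ K))) := by
    rw [Sylow.coe_mapSurjective]
    exact sc_quot_coprime hKc P.isPGroup' hD
  have hn : (W (Y ⧸ K) (D.map π)).Normal :=
    hWn (Y ⧸ K) (centralizer_pCore_quot_le hc)
      (fun V _ hVp => isPStableOn_quot_nps hs V hVp) (P.mapSurjective hsurj) (D.map π) hsc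
  have hDp : IsPGroup p D := P.isPGroup'.to_le hD.1
  rw [hW.map Y (Y ⧸ K) π D (injOn_of_coprime K hKc D hDp)] at hn
  have hZp : IsPGroup p (W Y D) := hDp.to_le (hW.le Y D)
  have h1 := normalizer_map_le_of_coprime K hKc (W Y D) hZp
  rw [Subgroup.normalizer_eq_top] at h1
  rw [eq_top_iff]
  intro g _
  obtain ⟨n, hnN, hng⟩ := h1 (mem_top (π g))
  have h2 : n⁻¹ * g ∈ K := by
    rw [← QuotientGroup.ker_mk' K, MonoidHom.mem_ker, map_mul, map_inv]
    rw [← hπ, hng, inv_mul_cancel]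
  have h3 : g = n * (n⁻¹ * g) := by group
  rw [h3]
  exact mul_mem (le_sup_right (a := K) hnN) (le_sup_left (a := K) h2)

end factor

end Cfsg.Agent.Lib.Helper11.SCF
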