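import Mathlib
import Cfsg.Agent.Lib.Helper11.SCF1
import Cfsg.Agent.Lib.Helper11.SFS4

/-!
Control of strong fusion from a factorization `Y = K N`, `K` a normal `p'`-subgroup (helper11).
-/

set_option autoImplicit false

universe u

namespace Cfsg.Agent.Lib.Helper11.SCF

open Cfsg.Agent.Lib.Helper29 Cfsg.Agent.Lib.Helper1
open Cfsg.Agent.S2005 (not_dvd_relIndex_sup)
open Cfsg.Agent.Lib.Helper11.SFS (cj_closure_le)

variable {p : ℕ} [Fact p.Prime]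

/-- if `Y = K N` with `K` a normal `p'`-subgroup and `N` containing the Sylow `p`-subgroup `P`,
then `N` controls strong fusion in `P` -/
theorem ctl_of_factorization {Y : Type u} [Group Y] [Finite Y] (K : Subgroup Y) [K.Normal]
    (hK : (Nat.card K).Coprime p) (P : Subgroup Y) (hP : IsPGroup p P) (N : Subgroup Y)
    (hPN : P ≤ N) (hfac : K ⊔ N = ⊤) :
    ∀ (A : Set Y) (g : Y), A ⊆ (P : Set Y) → (∀ a ∈ A, g * a * g⁻¹ ∈ P) →
      ∃ x ∈ N, ∀ a ∈ A, x * a * x⁻¹ = g * a * g⁻¹ := by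
  classical
  intro A g hA hAg
  have hg : g ∈ K ⊔ N := by rw [hfac]; exact Subgroup.mem_top g
  rw [Subgroup.mem_sup_of_normal_left] at hg
  obtain ⟨k, hk, n, hn, rfl⟩ := hg
  set B : Subgroup Y := Subgroup.closure A with hB
  have hBP : B ≤ P := (Subgroup.closure_le _).mpr hA
  set B₁ : Subgroup Y := cj n B with hB₁
  have hB₁N : B₁ ≤ N := by
    rintro _ ⟨b, hb, rfl⟩
    exact N.mul_mem (N.mul_mem hn (hPN (hBP hb))) (N.inv_mem hn)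
  have hB₁p : IsPGroup p B₁ := isPGroup_cj (hP.to_le hBP)
  set B₂ : Subgroup Y := cj k B₁ with hB₂
  have hB₂P : B₂ ≤ P := by
    rw [hB₂, hB₁, cj_cj]
    exact cj_closure_le (k * n) A P hAg
  have hB₂p : IsPGroup p B₂ := hP.to_le hB₂P
  set L : Subgroup Y := (B₁ ⊔ K) ⊓ N with hL
  have hB₁L : B₁ ≤ L := le_inf le_sup_left hB₁N
  have hB₂L : B₂ ≤ L := by
    refine le_inf ?_ (hB₂P.trans hPN)
    rintro _ ⟨b, hb, rfl⟩
    show k * b * k⁻¹ ∈ B₁ ⊔ K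
    have : k * b * k⁻¹ = b * (b⁻¹ * k * b * k⁻¹) := by group
    rw [this]
    refine Subgroup.mul_mem_sup hb ?_
    have h1 : b⁻¹ * k * b ∈ K := by
      have := ‹K.Normal›.conj_mem k hk b⁻¹
      simpa using this
    exact K.mul_mem h1 (K.inv_mem hk)
  have hidx : ¬ p ∣ B₁.relIndex L := by
    have h1 := not_dvd_relIndex_sup (p := p) B₁ K hK
    have h2 : B₁.relIndex L * L.relIndex (B₁ ⊔ K) = B₁.relIndex (B₁ ⊔ K) :=
      Subgroup.relIndex_mul_relIndex _ _ _ hB₁L inf_le_left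
    intro hd
    apply h1
    rw [← h2]
    exact Dvd.dvd.mul_right hd _
  have hsyl : IsSylowSub p B₁ L := isSylowSub_of_not_dvd_relIndex hB₁L hB₁p hidx
  obtain ⟨l, hlL, hl⟩ := exists_cj_le_of_isSylowSub hsyl hB₂L hB₂p
  have hlN : l ∈ N := hlL.2
  have hleq : cj l B₂ = B₁ := by
    apply Subgroup.eq_of_le_of_card_ge hl
    have e1 : Nat.card (cj l B₂) = Nat.card B₂ := card_cj l B₂
    have e2 : Nat.card B₂ = Nat.card B₁ := card_cj k B₁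
    rw [e1, e2]
  have hlk : l * k ∈ B₁ ⊔ K := (B₁ ⊔ K).mul_mem hlL.1 ((le_sup_right : K ≤ B₁ ⊔ K) hk)
  rw [Subgroup.mem_sup_of_normal_right] at hlk
  obtain ⟨b, hb, k', hk', hbk⟩ := hlk
  -- `l * k` normalizes `B₁`
  have hnorm : ∀ b₁ ∈ B₁, (l * k) * b₁ * (l * k)⁻¹ ∈ B₁ := by
    intro b₁ hb₁
    rw [← hleq]
    have h1 : k * b₁ * k⁻¹ ∈ B₂ := conj_mem_cj hb₁
    have h2 := conj_mem_cj (g := l) h1
    have e : (l * k) * b₁ * (l * k)⁻¹ = l * (k * b₁ * k⁻¹) * l⁻¹ := by group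
    rw [e]; exact h2
  -- `k'` centralizes `B₁`
  have hcent : ∀ b₁ ∈ B₁, k' * b₁ * k'⁻¹ = b₁ := by
    intro b₁ hb₁
    have hk'eq : k' = b⁻¹ * (l * k) := by rw [← hbk]; group
    have h1 : k' * b₁ * k'⁻¹ ∈ B₁ := by
      have e : k' * b₁ * k'⁻¹ = b⁻¹ * ((l * k) * b₁ * (l * k)⁻¹) * b := by rw [hk'eq]; group
      rw [e]
      exact B₁.mul_mem (B₁.mul_mem (B₁.inv_mem hb) (hnorm b₁ hb₁)) hb
    have h2 : k' * b₁ * k'⁻¹ * b₁⁻¹ ∈ B₁ := B₁.mul_mem h1 (B₁.inv_mem hb₁)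
    have h3 : k' * b₁ * k'⁻¹ * b₁⁻¹ ∈ K := by
      have : k' * b₁ * k'⁻¹ * b₁⁻¹ = k' * (b₁ * k'⁻¹ * b₁⁻¹) := by group
      rw [this]
      exact K.mul_mem hk' (‹K.Normal›.conj_mem _ (K.inv_mem hk') b₁)
    obtain ⟨j, hj⟩ := IsPGroup.iff_card.mp hB₁p
    have hcop : (Nat.card B₁).Coprime (Nat.card K) := by
      rw [hj]; exact Nat.Coprime.pow_left j hK.symm
    have hbot := Subgroup.inf_eq_bot_of_coprime hcop
    have h4 : k' * b₁ * k'⁻¹ * b₁⁻¹ ∈ B₁ ⊓ K := ⟨h2, h3⟩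
    rw [hbot, Subgroup.mem_bot] at h4
    exact mul_inv_eq_one.mp h4
  refine ⟨l⁻¹ * b * n, N.mul_mem (N.mul_mem (N.inv_mem hlN) (hB₁N hb)) hn, ?_⟩
  intro a ha
  have hb₁ : n * a * n⁻¹ ∈ B₁ := conj_mem_cj (Subgroup.subset_closure ha)
  have h1 := hcent _ hb₁
  have hkeq : k = l⁻¹ * (b * k') := by rw [hbk]; group
  calc l⁻¹ * b * n * a * (l⁻¹ * b * n)⁻¹
      = l⁻¹ * b * (n * a * n⁻¹) * b⁻¹ * l := by group
    _ = l⁻¹ * b * (k' * (n * a * n⁻¹) * k'⁻¹) * b⁻¹ * l := by rw [h1]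
    _ = (l⁻¹ * (b * k')) * (n * a * n⁻¹) * (l⁻¹ * (b * k'))⁻¹ := by group
    _ = k * (n * a * n⁻¹) * k⁻¹ := by rw [← hkeq]
    _ = k * n * a * (k * n)⁻¹ := by group

end Cfsg.Agent.Lib.Helper11.SCF
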