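import Mathlib
import Cfsg.Agent.Lib.Helper11.SCF2
import Cfsg.Agent.Lib.Helper1.LocalToGlobal
import Cfsg.Agent.S3836

/-!
Control of strong fusion by `N(W(D))`, `D` strongly closed, in `p`-stable groups with
`p`-constrained locals: the conjugacy functor attached to `D` and the main theorem (helper11).
-/

set_option autoImplicit false

universe u

namespace Cfsg.Agent.Lib.Helper11.SCF

open Cfsg.Agent.Lib.Helper29 Cfsg.Agent.Lib.Helper1
open Cfsg.Agent.Lib.Lead.FunctorNPC Cfsg.Agent.Lib.Lead.FunctorNPCD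

open Classical in
/-- the part of `Q` made of conjugates of elements of `D` -/
noncomputable def dq {G : Type u} [Group G] (D Q : Subgroup G) : Subgroup G :=
  Subgroup.closure ((Q : Set G) ∩ {x | ∃ g : G, g * x * g⁻¹ ∈ D})

open Classical in
/-- the conjugacy functor attached to `W` and `D` -/
noncomputable def wD {G : Type u} [Group G] (W : ∀ (H : Type u) [Group H], Subgroup H → Subgroup H)
    (D Q : Subgroup G) : Subgroup G :=
  if dq D Q = ⊥ then W G Q else W G (dq D Q)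

section

variable {G : Type u} [Group G] {p : ℕ} [hp : Fact p.Prime]
  {W : ∀ (H : Type u) [Group H], Subgroup H → Subgroup H}

theorem dq_le (D Q : Subgroup G) : dq D Q ≤ Q := by
  unfold dq
  rw [Subgroup.closure_le]
  exact Set.inter_subset_left

theorem dq_cj (D Q : Subgroup G) (g : G) : dq D (cj g Q) = cj g (dq D Q) := by
  unfold dq
  show _ = (Subgroup.closure _).map (MulAut.conj g).toMonoidHom
  rw [MonoidHom.map_closure]
  congr 1
  ext x
  constructor
  · rintro ⟨hxQ, h, hh⟩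
    have hxQ' : x ∈ cj g Q := hxQ
    rw [mem_cj] at hxQ'
    refine ⟨g⁻¹ * x * g, ⟨hxQ', h * g, ?_⟩, ?_⟩
    · have e : h * g * (g⁻¹ * x * g) * (h * g)⁻¹ = h * x * h⁻¹ := by group
      rw [e]; exact hh
    · simp only [MulEquiv.coe_toMonoidHom, MulAut.conj_apply]
      group
  · rintro ⟨y, ⟨hyQ, h, hh⟩, rfl⟩
    refine ⟨⟨y, hyQ, rfl⟩, h * g⁻¹, ?_⟩
    simp only [MulEquiv.coe_toMonoidHom, MulAut.conj_apply]
    have e : h * g⁻¹ * (g * y * g⁻¹) * (h * g⁻¹)⁻¹ = h * y * h⁻¹ := by group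
    rw [e]; exact hh

theorem dq_of_le {D P Q : Subgroup G} (hD : Cfsg.IsStronglyClosed D P) (hQ : Q ≤ P) :
    dq D Q = Q ⊓ D := by
  unfold dq
  have : ((Q : Set G) ∩ {x | ∃ g : G, g * x * g⁻¹ ∈ D}) = ((Q ⊓ D : Subgroup G) : Set G) := by
    ext x
    constructor
    · rintro ⟨hxQ, g, hg⟩
      refine ⟨hxQ, ?_⟩
      have h1 := hD.2 (g * x * g⁻¹) hg g⁻¹
      have e : g⁻¹ * (g * x * g⁻¹) * g⁻¹⁻¹ = x := by group
      rw [e] at h1
      exact h1 (hQ hxQ)
    · rintro ⟨hxQ, hxD⟩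
      exact ⟨hxQ, 1, by simpa using hxD⟩
  rw [this, Subgroup.closure_eq]

theorem cj_eq_bot_iff (g : G) (X : Subgroup G) : cj g X = ⊥ ↔ X = ⊥ := by
  constructor
  · intro h
    have := cj_inv_cj g X
    rw [h] at this
    rw [← this]
    exact Subgroup.map_bot _
  · intro h
    rw [h]
    exact Subgroup.map_bot _

theorem good_cj (hW : IsGoodFunctor p W) (g : G) (X : Subgroup G) :
    W G (cj g X) = cj g (W G X) :=
  hW.map G G (MulAut.conj g).toMonoidHom X
    (fun x _ hx => (MulAut.conj g).injective (by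
      rw [MulEquiv.coe_toMonoidHom] at hx; rw [hx, map_one]))

theorem wD_conjFunctor [Finite G] (hW : IsGoodFunctor p W) (D : Subgroup G) :
    Cfsg.IsConjugacyFunctor p (wD W D) := by
  classical
  intro Q hQ
  refine ⟨?_, ?_, ?_⟩
  · unfold wD
    split_ifs with h
    · exact hW.le G Q
    · exact (hW.le G _).trans (dq_le D Q)
  · intro hne
    unfold wD
    split_ifs with h
    · exact hW.ne_bot G Q hQ hne
    · exact hW.ne_bot G _ (hQ.to_le (dq_le D Q)) h
  · intro g
    show wD W D (cj g Q) = cj g (wD W D Q)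
    unfold wD
    rw [dq_cj]
    by_cases h : dq D Q = ⊥
    · rw [if_pos h, if_pos ((cj_eq_bot_iff g _).2 h)]
      exact good_cj hW g Q
    · rw [if_neg h, if_neg (fun h' => h ((cj_eq_bot_iff g _).1 h'))]
      exact good_cj hW g _

theorem wD_of_le (W : ∀ (H : Type u) [Group H], Subgroup H → Subgroup H)
    {D P Q : Subgroup G} (hD : Cfsg.IsStronglyClosed D P) (hQ : Q ≤ P) :
    ∃ E : Subgroup G, E ≤ Q ∧ Cfsg.IsStronglyClosed E Q ∧ wD W D Q = W G E ∧
      (Q ⊓ D ≠ ⊥ → E = Q ⊓ D) := by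
  classical
  unfold wD
  rw [dq_of_le hD hQ]
  by_cases h : Q ⊓ D = ⊥
  · rw [if_pos h]
    exact ⟨Q, le_rfl, ⟨le_rfl, fun x _ g hg => hg⟩, rfl, fun h' => absurd h h'⟩
  · rw [if_neg h]
    refine ⟨Q ⊓ D, inf_le_left, ⟨inf_le_left, ?_⟩, rfl, fun _ => rfl⟩
    rintro x ⟨_, hxD⟩ g hg
    exact ⟨hg, hD.2 x hxD g (hQ hg)⟩

end

section main

variable {G : Type u} [Group G] [Finite G] {p : ℕ} [hp : Fact p.Prime]
  {W : ∀ (H : Type u) [Group H], Subgroup H → Subgroup H}

/-- the local control -/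
theorem local_ctl (hW : IsGoodFunctor p W) (hWn : NormalD p W) (P : Sylow p G) (D : Subgroup G)
    (hD : Cfsg.IsStronglyClosed D (P : Subgroup G)) (hst : Cfsg.IsNormalizerPStable p G)
    (hc : ∀ U : Subgroup G, U ≤ (P : Subgroup G) → U ≠ ⊥ →
      Cfsg.IsPConstrained p ↥(Subgroup.normalizer (U : Set G)))
    (T : Subgroup G) (hTP : T ≤ (P : Subgroup G)) (hTne : T ≠ ⊥)
    (htame : ¬ p ∣ ((P : Subgroup G) ⊓ Subgroup.normalizer (T : Set G)).relIndex
      (Subgroup.normalizer (T : Set G))) :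
    Cfsg.ControlsStrongFusionIn p (wD W D) (Subgroup.normalizer (T : Set G)) := by
  classical
  set H : Subgroup G := Subgroup.normalizer (T : Set G) with hH
  set PT : Subgroup G := (P : Subgroup G) ⊓ H with hPT
  have hPTP : PT ≤ (P : Subgroup G) := inf_le_left
  have hPTH : PT ≤ H := inf_le_right
  have hPTp : IsPGroup p PT := P.isPGroup'.to_le hPTP
  obtain ⟨E, hEPT, hEsc, hwE, -⟩ := wD_of_le W hD hPTP
  have hEH : E ≤ H := hEPT.trans hPTH
  -- the Sylow subgroup of `↥H`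
  have hPYp : IsPGroup p (PT.subgroupOf H) :=
    hPTp.comap_of_injective H.subtype H.subtype_injective
  have hidx : ¬ p ∣ (PT.subgroupOf H).index := htame
  set PY : Sylow p ↥H := hPYp.toSylow hidx with hPY
  have hPYcoe : (PY : Subgroup ↥H) = PT.subgroupOf H := rfl
  set EY : Subgroup ↥H := E.subgroupOf H with hEY
  have hEYmap : EY.map H.subtype = E := Subgroup.map_subgroupOf_eq_of_le hEH
  have hscY : Cfsg.IsStronglyClosed EY (PY : Subgroup ↥H) := by
    constructor
    · rw [hPYcoe]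
      intro x hx
      exact hEPT hx
    · intro x hx y hy
      rw [hPYcoe] at hy
      have h1 : ((y * x * y⁻¹ : ↥H) : G) ∈ PT := hy
      have h2 := hEsc.2 (x : G) hx (y : G)
      have e : ((y * x * y⁻¹ : ↥H) : G) = (y : G) * (x : G) * (y : G)⁻¹ := by simp
      rw [e] at h1
      have h3 := h2 h1
      show ((y * x * y⁻¹ : ↥H) : G) ∈ E
      rw [e]; exact h3
  have hcY : Cfsg.IsPConstrained p ↥H := hc T hTP hTne
  have hsY : Cfsg.IsNormalizerPStable p ↥H := Cfsg.Agent.S3836.result hst H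
  have hfac := factorization_D hW hWn hcY hsY PY EY hscY
  haveI : (Cfsg.pPrimeCore p ↥H).Normal := Cfsg.Agent.Lib.Helper2.pPrimeCore_normal p
  have hKc : (Nat.card (Cfsg.pPrimeCore p ↥H)).Coprime p :=
    Cfsg.Agent.Lib.Helper2.pPrimeCore_coprime p
  have hPYN : (PY : Subgroup ↥H) ≤ Subgroup.normalizer ((W ↥H EY : Subgroup ↥H) : Set ↥H) :=
    (sc_le_normalizer hscY).trans (hW.normalizer_le EY)
  have hctl := ctl_of_factorization (Cfsg.pPrimeCore p ↥H) hKc (PY : Subgroup ↥H) PY.isPGroup'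
    _ hPYN hfac
  have hWE : W G E = (W ↥H EY).map H.subtype := by
    rw [← hEYmap]
    exact hW.map ↥H G H.subtype EY (fun x _ hx => Subtype.ext (by simpa using hx))
  refine ⟨PT, hPTH, hPTp, htame, ?_⟩
  intro A h hh hA hAh
  set A' : Set ↥H := {a | (a : G) ∈ A} with hA'
  have hA'P : A' ⊆ ((PY : Subgroup ↥H) : Set ↥H) := by
    intro a ha
    rw [hPYcoe]
    exact hA ha
  have hA'h : ∀ a ∈ A', (⟨h, hh⟩ : ↥H) * a * (⟨h, hh⟩ : ↥H)⁻¹ ∈ (PY : Subgroup ↥H) := by
    intro a ha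
    rw [hPYcoe]
    show (((⟨h, hh⟩ : ↥H) * a * (⟨h, hh⟩ : ↥H)⁻¹ : ↥H) : G) ∈ PT
    have : h * (a : G) * h⁻¹ ∈ PT := hAh ⟨(a : G), ha, rfl⟩
    simpa using this
  obtain ⟨x, hx, hxa⟩ := hctl A' ⟨h, hh⟩ hA'P hA'h
  refine ⟨(x : G), ⟨x.2, ?_⟩, ?_⟩
  · rw [hwE, hWE]
    exact Subgroup.le_normalizer_map H.subtype ⟨x, hx, rfl⟩
  · intro a ha
    have haH : a ∈ H := hPTH (hA ha)
    have := hxa ⟨a, haH⟩ ha
    have h2 := congrArg Subtype.val this
    simpa using h2

/-- the main theorem: `N_G(W(D))` controls strong fusion in `P` -/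
theorem main (hW : IsGoodFunctor p W) (hWn : NormalD p W) (P : Sylow p G) (D : Subgroup G)
    (hD : Cfsg.IsStronglyClosed D (P : Subgroup G)) (hst : Cfsg.IsNormalizerPStable p G)
    (hc : ∀ U : Subgroup G, U ≤ (P : Subgroup G) → U ≠ ⊥ →
      Cfsg.IsPConstrained p ↥(Subgroup.normalizer (U : Set G))) :
    ∀ A : Set G, A ⊆ (P : Subgroup G) →
      Cfsg.ControlsStrongFusionOf (Subgroup.normalizer ((W G D : Subgroup G) : Set G))
        (P : Subgroup G) A := by
  classical
  intro A hA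
  refine ⟨hA, fun g hg => ?_⟩
  by_cases hD0 : D = ⊥
  · have h1 : W G D = ⊥ := by
      have := hW.le G D
      rw [hD0] at this ⊢
      exact le_bot_iff.mp this
    refine ⟨g, ?_, fun _ _ => rfl⟩
    rw [h1, Subgroup.normalizer_eq_top_iff.mpr Subgroup.normal_bot]
    exact Subgroup.mem_top g
  · have hconj := wD_conjFunctor (p := p) hW D
    have hloc : ∀ T : Subgroup G, T ≠ ⊥ → Cfsg.IsWellPlaced p (wD W D) (P : Subgroup G) T →
        Cfsg.ControlsStrongFusionIn p (wD W D) (Subgroup.normalizer ((T : Subgroup G) : Set G)) := by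
      intro T hTne hwp
      exact local_ctl hW hWn P D hD hst hc T hwp.1 hTne (hwp.2 0)
    have htop := controls_strong_fusion_of_local P (wD W D) hconj hloc
    obtain ⟨x, hx, hxa⟩ := controls_transport (wD W D) hconj ⊤ (P : Subgroup G) le_top P.isPGroup'
      (by rw [Subgroup.relIndex_top_right]; exact P.not_dvd_index) htop A g (Subgroup.mem_top g)
      hA hg
    obtain ⟨E, -, -, hwE, hE⟩ := wD_of_le W hD (le_refl (P : Subgroup G))
    have hPD : (P : Subgroup G) ⊓ D = D := inf_eq_right.mpr hD.1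
    have hE' : E = D := by
      rw [← hPD]
      exact hE (by rw [hPD]; exact hD0)
    rw [hwE, hE'] at hx
    exact ⟨x, hx.2, fun a ha => (hxa a ha).symm⟩

end main

end Cfsg.Agent.Lib.Helper11.SCF
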