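import Mathlib
import Cfsg.Agent.Lib.Helper11.QuadFree3

/-!
# Quadratic action when only the automizers are `SL₂(p)`-free (helper11)

Variants of the chain `core_mulAut → core_section → core_pgroup → mem_pCore_of_quad` of
`QuadFree`/`QuadFree2` in which `SL₂(p)`-freeness is only assumed for the group of automorphisms
induced (the quotient by the kernel of the action).
-/

set_option autoImplicit false

namespace Cfsg.Agent.Lib.Helper11.QuadFree

open Module Polynomial Cfsg.Agent.Lib.Helper15.QuadChain Cfsg.Agent.Lib.Helper15.QuadSL2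
open Cfsg.Agent.Lib.Helper15.QuadCore Cfsg.Agent.Lib.Helper15.QuadInternal
open Cfsg.Agent.Lib.Helper15.QuadPStable Cfsg.Agent.Lib.Helper11
open Cfsg.Agent.Lib.Lead.SL2PSolv

section MulAutForm'

variable (p : ℕ) [hp : Fact p.Prime] {A : Type*} [CommGroup A] [Finite A]
  {G : Type*} [Group G] [Finite G]

theorem core_mulAut' (hp2 : p ≠ 2) (hexp : ∀ a : A, a ^ p = 1) (θ : G →* MulAut A)
    (hab2 : SL2Free p (G ⧸ θ.ker)) (a : G)
    (ha : ∀ v : A, θ a (θ a v / v) = θ a v / v) :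
    ∃ D : Subgroup G, D.Normal ∧ θ.ker ≤ D ∧ a ∈ D ∧ ∀ d ∈ D, ∃ k : ℕ, d ^ p ^ k ∈ θ.ker := by
  set θ' : G ⧸ θ.ker →* MulAut A := QuotientGroup.kerLift θ with hθ'
  have hθ'mk : ∀ g : G, θ' (QuotientGroup.mk g) = θ g := fun g => QuotientGroup.kerLift_mk θ g
  have hinj : Function.Injective θ' := QuotientGroup.kerLift_injective θ
  have ha' : ∀ v : A, θ' (QuotientGroup.mk a) (θ' (QuotientGroup.mk a) v / v) =
      θ' (QuotientGroup.mk a) v / v := by
    intro v; rw [hθ'mk]; exact ha v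
  obtain ⟨D', hD'n, -, haD', hD'⟩ := core_mulAut p hp2 hexp θ' hab2 (QuotientGroup.mk a) ha'
  refine ⟨D'.comap (QuotientGroup.mk' θ.ker), hD'n.comap _, ?_, haD', ?_⟩
  · intro g hg
    rw [Subgroup.mem_comap]
    have : (QuotientGroup.mk' θ.ker) g = 1 := by
      rw [QuotientGroup.mk'_apply, QuotientGroup.eq_one_iff]; exact hg
    rw [this]; exact D'.one_mem
  · intro d hd
    obtain ⟨k, hk⟩ := hD' _ hd
    refine ⟨k, ?_⟩
    rw [MonoidHom.mem_ker] at hk ⊢
    have h1 : θ' ((QuotientGroup.mk' θ.ker) d ^ p ^ k) = 1 := hk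
    rw [← map_pow, QuotientGroup.mk'_apply, hθ'mk] at h1
    exact h1

end MulAutForm'

section Internal'

open Subgroup
open scoped commutatorElement

variable {G : Type*} [Group G] [Finite G] (p : ℕ) [hp : Fact p.Prime]

open Cfsg.Agent.Lib.Helper3 in
/-- **Core theorem, section form.** `N ≤ K` normal in `G` with `K / N` elementary abelian. -/
theorem core_section' (hp2 : p ≠ 2) (K N : Subgroup G) [hKn : K.Normal] [hNn : N.Normal]
    (hcomm : ⁅K, K⁆ ≤ N) (hexp : ∀ x ∈ K, x ^ p ∈ N)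
    (hab2 : SL2Free p (G ⧸ (quotAct N K).ker)) (a : G)
    (hq : ⁅⁅K, zpowers a⁆, zpowers a⁆ ≤ N) :
    ∃ D : Subgroup G, D.Normal ∧ (quotAct N K).ker ≤ D ∧ a ∈ D ∧
      ∀ d ∈ D, ∃ k : ℕ, d ^ p ^ k ∈ (quotAct N K).ker := by
  letI : CommGroup (K ⧸ N.subgroupOf K) :=
    { (inferInstance : Group (K ⧸ N.subgroupOf K)) with
      mul_comm := by
        intro x y
        induction x using QuotientGroup.induction_on with
        | H x =>
        induction y using QuotientGroup.induction_on with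
        | H y =>
        rw [← QuotientGroup.mk_mul, ← QuotientGroup.mk_mul, QuotientGroup.eq, mem_subgroupOf]
        have h1 : ⁅((y : G))⁻¹, ((x : G))⁻¹⁆ ∈ ⁅K, K⁆ :=
          Subgroup.commutator_mem_commutator (K.inv_mem y.2) (K.inv_mem x.2)
        have h2 : (((x * y)⁻¹ * (y * x) : K) : G) = ⁅((y : G))⁻¹, ((x : G))⁻¹⁆ := by
          rw [commutatorElement_def]
          simp [mul_assoc]
        rw [h2]
        exact hcomm h1 }
  have hexp' : ∀ v : K ⧸ N.subgroupOf K, v ^ p = 1 := by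
    intro v
    induction v using QuotientGroup.induction_on with
    | H x =>
    rw [← QuotientGroup.mk_pow, QuotientGroup.eq_one_iff, mem_subgroupOf]
    simpa using hexp x x.2
  have ha : ∀ v : K ⧸ N.subgroupOf K,
      quotAct N K a (quotAct N K a v / v) = quotAct N K a v / v := by
    intro v
    induction v using QuotientGroup.induction_on with
    | H x =>
    obtain ⟨x, hx⟩ := x
    have hw : a * x * a⁻¹ * x⁻¹ ∈ K :=
      K.mul_mem (hKn.conj_mem x hx a) (K.inv_mem hx)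
    have h1 : quotAct N K a (QuotientGroup.mk ⟨x, hx⟩) / (QuotientGroup.mk ⟨x, hx⟩)
        = (QuotientGroup.mk (⟨a * x * a⁻¹ * x⁻¹, hw⟩ : K) : K ⧸ N.subgroupOf K) := by
      rw [quotAct_mk', div_eq_mul_inv, ← QuotientGroup.mk_inv, ← QuotientGroup.mk_mul]
      rfl
    rw [h1, quotAct_mk', QuotientGroup.eq, mem_subgroupOf]
    have hw1 : a * x * a⁻¹ * x⁻¹ ∈ ⁅K, zpowers a⁆ := by
      rw [Subgroup.commutator_comm]
      exact Subgroup.commutator_mem_commutator (mem_zpowers a) hx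
    have h2 : ⁅a, (a * x * a⁻¹ * x⁻¹)⁻¹⁆ ∈ ⁅⁅K, zpowers a⁆, zpowers a⁆ := by
      rw [Subgroup.commutator_comm]
      exact Subgroup.commutator_mem_commutator (mem_zpowers a) (Subgroup.inv_mem _ hw1)
    have h3 : (((⟨a * (a * x * a⁻¹ * x⁻¹) * a⁻¹, hKn.conj_mem _ hw a⟩ : K)⁻¹ *
        ⟨a * x * a⁻¹ * x⁻¹, hw⟩ : K) : G) = ⁅a, (a * x * a⁻¹ * x⁻¹)⁻¹⁆ := by
      rw [commutatorElement_def]
      simp [mul_assoc]
    rw [h3]
    exact hq h2
  exact core_mulAut' p hp2 hexp' (quotAct N K) hab2 a ha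

end Internal'

section Internal2'

open Cfsg.Agent.Lib.Helper15.QuadChain Cfsg.Agent.Lib.Helper15.QuadCore Cfsg.Agent.Lib.Helper11
open Cfsg.Agent.Lib.Helper15.QuadInternal
open Subgroup
open scoped commutatorElement

variable {G : Type*} [Group G] [Finite G] (p : ℕ) [hp : Fact p.Prime]

open Cfsg.Agent.Lib.Helper3 in
/-- **Core theorem, `p`-group form.** `P ⊴ G` a `p`-group, `G` is `SL₂(p)`-free, `a`
quadratic on `P`: `a` lies in a normal subgroup `D ≥ C_G(P)` with `D / C_G(P)` a `p`-group. -/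
theorem core_pgroup' (hp2 : p ≠ 2) (P : Subgroup G) [hPn : P.Normal] (hP : IsPGroup p P)
    (Cn : Subgroup G) [hCnn : Cn.Normal] (hCn : Cn = centralizer (P : Set G))
    (hab2 : SL2Free p (G ⧸ Cn)) (a : G)
    (hq : ⁅⁅P, zpowers a⁆, zpowers a⁆ = ⊥) :
    ∃ D : Subgroup G, D.Normal ∧ centralizer (P : Set G) ≤ D ∧ a ∈ D ∧
      ∀ d ∈ D, ∃ k : ℕ, d ^ p ^ k ∈ centralizer (P : Set G) := by
  set N : Subgroup G := (frattini ↥P).map P.subtype with hN
  haveI hNn : N.Normal := ConjAct.normal_of_characteristic_of_normal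
  have hcomm : ⁅P, P⁆ ≤ N := by
    have h1 := Cfsg.Agent.Lib.Helper14.commutator_le_frattini_of_isPGroup' hP
    have h2 : ⁅P, P⁆ = (commutator ↥P).map P.subtype := by
      rw [commutator_def, Subgroup.map_commutator, ← MonoidHom.range_eq_map,
        Subgroup.range_subtype]
    rw [h2]
    exact Subgroup.map_mono h1
  have hexp : ∀ x ∈ P, x ^ p ∈ N := by
    intro x hx
    exact ⟨⟨x, hx⟩ ^ p, Cfsg.Agent.Lib.Helper14.pow_mem_frattini_of_isPGroup' hP ⟨x, hx⟩, rfl⟩
  have hC1 : centralizer (P : Set G) ≤ (quotAct N P).ker := by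
    intro g hg
    rw [MonoidHom.mem_ker, quotAct_eq_one_iff]
    intro x hx
    have := mem_centralizer_iff.1 hg x hx
    have h1 : g * x * g⁻¹ * x⁻¹ = 1 := by rw [← this]; group
    rw [h1]; exact N.one_mem
  have hab2' : SL2Free p (G ⧸ (quotAct N P).ker) := by
    have hle : Cn ≤ ((quotAct N P).ker).comap (MonoidHom.id G) := by
      rw [hCn]; exact hC1
    refine sl2Free_of_surjective (QuotientGroup.map Cn (quotAct N P).ker (MonoidHom.id G) hle) ?_ hab2
    intro y
    obtain ⟨g, rfl⟩ := QuotientGroup.mk_surjective y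
    exact ⟨QuotientGroup.mk g, rfl⟩
  obtain ⟨D, hDn, hD1, hD2, hD3⟩ := core_section' p hp2 P N hcomm hexp hab2' a (hq ▸ bot_le)
  have hC2 : ∀ g ∈ (quotAct N P).ker, ∃ j : ℕ, g ^ p ^ j ∈ centralizer (P : Set G) := by
    intro g hg
    rw [MonoidHom.mem_ker, quotAct_eq_one_iff] at hg
    have hα : (MulAut.conjNormal g : MulAut P) ∈ trivOnFrattiniQuot ↥P := by
      intro x
      obtain ⟨y, hy, hyx⟩ := hg x x.2
      have : y = (MulAut.conjNormal g : MulAut P) x * x⁻¹ := by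
        apply Subtype.ext
        have hyx' : (y : G) = g * x * g⁻¹ * (x : G)⁻¹ := hyx
        rw [hyx']
        simp [MulAut.conjNormal_apply]
      rw [← this]
      exact hy
    obtain ⟨j, hj⟩ := exists_pow_eq_one_of_trivOnFrattiniQuot hP _ hα
    refine ⟨j, ?_⟩
    rw [← map_pow] at hj
    rw [mem_centralizer_iff]
    intro x hx
    have := congrArg (fun β : MulAut P => ((β ⟨x, hx⟩ : P) : G)) hj
    simp only [MulAut.conjNormal_apply, MulAut.one_apply] at this
    have h2 : g ^ p ^ j * x = x * g ^ p ^ j := by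
      have := congrArg (· * g ^ p ^ j) this
      simpa using this
    exact h2.symm
  refine ⟨D, hDn, hC1.trans hD1, hD2, ?_⟩
  intro d hd
  obtain ⟨k, hk⟩ := hD3 d hd
  obtain ⟨j, hj⟩ := hC2 _ hk
  exact ⟨k + j, by rwa [pow_add, pow_mul]⟩


end Internal2'

end Cfsg.Agent.Lib.Helper11.QuadFree
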