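import Mathlib
import Cfsg.Agent.Lib.Helper11.SL1
import Cfsg.Agent.Lib.Helper15.SCD4

/-!
# Groups whose automizers of `p`-subgroups are `SL₂(p)`-free (helper11)

`AutFree p G`: for every `p`-subgroup `Q`, `N_G(Q)/C_G(Q)` has no section isomorphic to `SL₂(p)`.
Every section of such a group is `p`-stable in the normalizer form.
-/

set_option autoImplicit false

namespace Cfsg.Agent.Lib.Helper11.QuadFree

open Cfsg.Agent.Lib.Helper29 Cfsg.Agent.Lib.Helper1
open Subgroup

section NormalizerForm'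

variable {Y : Type*} [Group Y] [Finite Y] {p : ℕ} [hp : Fact p.Prime]

/-- normalizer form: if `N_Y(P)` is `SL₂(p)`-free then quadratic elements of `N_Y(P)` lie in
`O_p(N_Y(P) / C_Y(P))`. -/
theorem mem_pCore_of_quad' (hp2 : p ≠ 2) (P : Subgroup Y) (hP : IsPGroup p P)
    (hfree : SL2Free p (↥(Subgroup.normalizer (P : Set Y)) ⧸
      (Subgroup.centralizer (P : Set Y)).subgroupOf (Subgroup.normalizer (P : Set Y))))
    (g : Y) (hg : g ∈ Subgroup.normalizer (P : Set Y))
    (hq : ⁅⁅P, Subgroup.zpowers g⁆, Subgroup.zpowers g⁆ = ⊥) :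
    (QuotientGroup.mk (s := (Subgroup.centralizer (P : Set Y)).subgroupOf
        (Subgroup.normalizer (P : Set Y))) (⟨g, hg⟩ : ↥(Subgroup.normalizer (P : Set Y)))) ∈
      Cfsg.pCore p (↥(Subgroup.normalizer (P : Set Y)) ⧸
        (Subgroup.centralizer (P : Set Y)).subgroupOf (Subgroup.normalizer (P : Set Y))) := by
  set X := Subgroup.normalizer (P : Set Y) with hX
  set Q : Subgroup ↥X := P.subgroupOf X with hQ
  haveI hQn : Q.Normal := Subgroup.normal_subgroupOf_of_le_normalizer le_rfl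
  have hPX : P ≤ X := Subgroup.le_normalizer
  have hQp : IsPGroup p Q := hP.of_equiv (Subgroup.subgroupOfEquivOfLe hPX).symm
  have hq' : ⁅⁅Q, Subgroup.zpowers (⟨g, hg⟩ : ↥X)⁆, Subgroup.zpowers (⟨g, hg⟩ : ↥X)⁆ = ⊥ := by
    apply Subgroup.map_injective X.subtype_injective
    rw [Subgroup.map_commutator, Subgroup.map_commutator, MonoidHom.map_zpowers, Subgroup.map_bot,
      hQ, Subgroup.map_subgroupOf_eq_of_le hPX]
    exact hq
  set C' := (Subgroup.centralizer (P : Set Y)).subgroupOf X with hC'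
  haveI hC'n : C'.Normal :=
    Subgroup.normal_subgroupOf_of_le_normalizer
      (Cfsg.Agent.Lib.Helper11.AG.normalizer_le_normalizer_centralizer P)
  have hC'eq : C' = Subgroup.centralizer ((Q : Subgroup ↥X) : Set ↥X) := by
    ext y
    rw [hC', Subgroup.mem_subgroupOf, Subgroup.mem_centralizer_iff, Subgroup.mem_centralizer_iff]
    constructor
    · intro h q hq
      apply Subtype.ext
      have := h (q : Y) (Subgroup.mem_subgroupOf.mp hq)
      simpa using this
    · intro h x hx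
      have := h ⟨x, hPX hx⟩ (Subgroup.mem_subgroupOf.mpr hx)
      have := congrArg Subtype.val this
      simpa using this
  obtain ⟨D, hDn, -, hgD, hD⟩ := core_pgroup' p hp2 Q hQp C' hC'eq hfree ⟨g, hg⟩ hq'
  have hmem : (QuotientGroup.mk' C') ⟨g, hg⟩ ∈ D.map (QuotientGroup.mk' C') := ⟨_, hgD, rfl⟩
  have hle : D.map (QuotientGroup.mk' C') ≤ Cfsg.pCore p (↥X ⧸ C') := by
    apply Cfsg.Agent.Lib.Helper2.le_pCore
    · exact hDn.map _ (QuotientGroup.mk'_surjective _)
    · rintro ⟨_, d, hd, rfl⟩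
      obtain ⟨k, hk⟩ := hD d hd
      refine ⟨k, Subtype.ext ?_⟩
      rw [Subgroup.coe_pow, Subgroup.coe_one]
      change (QuotientGroup.mk' C' d) ^ p ^ k = 1
      rw [← map_pow, QuotientGroup.mk'_apply, QuotientGroup.eq_one_iff, hC',
        Subgroup.mem_subgroupOf, Subgroup.mem_centralizer_iff]
      intro x hx
      have := Subgroup.mem_centralizer_iff.mp hk ⟨x, hPX hx⟩ (Subgroup.mem_subgroupOf.mpr hx)
      have := congrArg Subtype.val this
      simpa using this
  exact hle hmem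


end NormalizerForm'

section Lift'

variable {X : Type*} [Group X] [Finite X] {p : ℕ} [hp : Fact p.Prime]

theorem exists_lift_psubgroup_hom {Z : Type*} [Group Z] (π : X →* Z)
    (hπs : Function.Surjective π) (Pb : Subgroup Z)
    (hPb : IsPGroup p Pb) :
    ∃ Q : Subgroup X, IsPGroup p Q ∧ Q.map π = Pb ∧
      Subgroup.normalizer (Pb : Set Z) ≤
        (Subgroup.normalizer (Q : Set X)).map π := by
  set O : Subgroup X := π.ker with hO
  set P₁ : Subgroup X := Pb.comap π with hP₁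
  have hOP : O ≤ P₁ := by
    intro x hx
    show π x ∈ Pb
    have : π x = 1 := MonoidHom.mem_ker.mp hx
    rw [this]; exact Pb.one_mem
  obtain ⟨Q, -, hQP, hQ⟩ := exists_isSylowSub_ge (p := p) (bot_le : (⊥ : Subgroup X) ≤ P₁)
    IsPGroup.of_bot
  have hQp : IsPGroup p Q := hQ.isPGroup hQP
  have hcover : P₁ ≤ Q ⊔ (O ⊓ P₁) := by
    apply le_sup_of_pow_mem hQ hQP
    · intro x _
      rw [Subgroup.normalizer_eq_top]; trivial
    · intro d hd
      obtain ⟨a, ha⟩ := hPb ⟨π d, hd⟩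
      refine ⟨a, ?_⟩
      have h1 : (π d) ^ (p ^ a) = 1 := by simpa using congrArg Subtype.val ha
      rw [← map_pow] at h1
      exact MonoidHom.mem_ker.2 h1
  have hmap : Q.map π = Pb := by
    apply le_antisymm
    · rintro _ ⟨q, hq, rfl⟩
      exact hQP hq
    · intro xb hxb
      obtain ⟨x, rfl⟩ := hπs xb
      have hx : x ∈ P₁ := hxb
      have h1 := hcover hx
      have h2 : π x ∈ (Q ⊔ (O ⊓ P₁)).map π := Subgroup.mem_map_of_mem _ h1
      rw [Subgroup.map_sup] at h2
      have h3 : (O ⊓ P₁).map π = ⊥ := by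
        rw [eq_bot_iff]
        rintro _ ⟨y, hy, rfl⟩
        rw [Subgroup.mem_bot]
        exact MonoidHom.mem_ker.mp hy.1
      rwa [h3, sup_bot_eq] at h2
  refine ⟨Q, hQp, hmap, ?_⟩
  intro ybar hy
  obtain ⟨y, rfl⟩ := hπs ybar
  have h1 : cj y Q ≤ P₁ := by
    rintro _ ⟨v, hv, rfl⟩
    show π (y * v * y⁻¹) ∈ Pb
    rw [map_mul, map_mul, map_inv]
    exact (Subgroup.mem_normalizer_iff.1 hy (π v)).1 (hQP hv)
  obtain ⟨m, hmY, hm⟩ := exists_cj_le_of_isSylowSub hQ h1 (isPGroup_cj hQp)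
  rw [cj_cj] at hm
  have hmy : m * y ∈ Subgroup.normalizer (Q : Set X) := by
    apply Subgroup.mem_normalizer_fintype
    intro v hv
    exact hm ⟨v, hv, rfl⟩
  have h5 : π m ∈ Q.map π := by
    rw [hmap]; exact hmY
  obtain ⟨v₀, hv₀, hvm⟩ := h5
  refine ⟨v₀⁻¹ * (m * y), mul_mem (inv_mem (Subgroup.le_normalizer hv₀)) hmy, ?_⟩
  rw [map_mul, map_inv, map_mul, hvm, inv_mul_cancel_left]


end Lift'

end Cfsg.Agent.Lib.Helper11.QuadFree
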