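import Mathlib
import Cfsg.Agent.Lib.Helper11.SL2

/-!
# `AutFree` groups: all sections are `p`-stable in the normalizer form (helper11)
-/

set_option autoImplicit false

universe u

namespace Cfsg.Agent.Lib.Helper11.QuadFree

open Cfsg.Agent.Lib.Helper29 Cfsg.Agent.Lib.Helper1
open Subgroup

/-- For every `p`-subgroup `Q`, the automizer `N_G(Q)/C_G(Q)` is `SL₂(p)`-free. -/
def AutFree (p : ℕ) (G : Type*) [Group G] : Prop :=
  ∀ Q : Subgroup G, IsPGroup p Q →
    SL2Free p (↥(normalizer (Q : Set G)) ⧸ (centralizer (Q : Set G)).subgroupOf (normalizer (Q : Set G)))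

/-- A section of a quotient `N/C` gives a section `H/K` of the group with `C ≤ K ≤ H ≤ N`. -/
theorem exists_section_of_quotient {Y : Type*} [Group Y] {G : Type*} [Group G] (N C : Subgroup G)
    (hCN : C ≤ N) [hn : (C.subgroupOf N).Normal] (h : Cfsg.Involves Y (↥N ⧸ C.subgroupOf N)) :
    ∃ (H K : Subgroup G) (_ : (K.subgroupOf H).Normal), C ≤ K ∧ K ≤ H ∧ H ≤ N ∧
      Nonempty ((↥H ⧸ K.subgroupOf H) ≃* Y) := by
  obtain ⟨K', R', hR', ⟨e⟩⟩ := h
  set π := QuotientGroup.mk' (C.subgroupOf N) with hπ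
  obtain ⟨H, hHdef⟩ : ∃ H : Subgroup G, H = (K'.comap π).map N.subtype := ⟨_, rfl⟩
  have hHN : H ≤ N := by rw [hHdef]; exact Subgroup.map_subtype_le _
  have hmemH : ∀ (x : G) (hx : x ∈ H), π ⟨x, hHN hx⟩ ∈ K' := by
    intro x hx
    have hx' := hx
    rw [hHdef] at hx'
    obtain ⟨y, hy, hyx⟩ := hx'
    have : y = ⟨x, hHN hx⟩ := Subtype.ext hyx
    rw [← this]; exact hy
  let f₀ : ↥H →* ↥K' :=
    { toFun := fun x => ⟨π ⟨x.1, hHN x.2⟩, hmemH x.1 x.2⟩
      map_one' := by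
        apply Subtype.ext
        show π ⟨(1 : G), _⟩ = 1
        exact map_one π
      map_mul' := by
        intro a b
        apply Subtype.ext
        show π ⟨(a : G) * (b : G), _⟩ = π ⟨a.1, _⟩ * π ⟨b.1, _⟩
        rw [← map_mul]; rfl }
  have hf₀ : Function.Surjective f₀ := by
    rintro ⟨k, hk⟩
    obtain ⟨n, rfl⟩ := QuotientGroup.mk'_surjective (C.subgroupOf N) k
    have hnH : (n : G) ∈ H := by rw [hHdef]; exact ⟨n, hk, rfl⟩
    exact ⟨⟨n, hnH⟩, Subtype.ext rfl⟩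
  set Φ : ↥H →* Y := (e.toMonoidHom.comp (QuotientGroup.mk' (R'.subgroupOf K'))).comp f₀ with hΦ
  have hΦs : Function.Surjective Φ :=
    (e.surjective.comp (QuotientGroup.mk'_surjective _)).comp hf₀
  obtain ⟨K, hKdef⟩ : ∃ K : Subgroup G, K = Φ.ker.map H.subtype := ⟨_, rfl⟩
  have hKH : K.subgroupOf H = Φ.ker := by
    ext k
    rw [Subgroup.mem_subgroupOf, hKdef]
    constructor
    · rintro ⟨k', hk', h⟩
      have : k' = k := Subtype.ext h
      rwa [← this]
    · intro hk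
      exact ⟨k, hk, rfl⟩
  have hKn : (K.subgroupOf H).Normal := by rw [hKH]; infer_instance
  refine ⟨H, K, hKn, ?_, ?_, hHN, ?_⟩
  · intro c hc
    have hcN : c ∈ N := hCN hc
    have hπc : π ⟨c, hcN⟩ = 1 := by
      rw [hπ, QuotientGroup.mk'_apply, QuotientGroup.eq_one_iff]
      exact Subgroup.mem_subgroupOf.mpr hc
    have hcH : c ∈ H := by
      rw [hHdef]
      refine ⟨⟨c, hcN⟩, ?_, rfl⟩
      show π ⟨c, hcN⟩ ∈ K'
      rw [hπc]; exact K'.one_mem
    rw [hKdef]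
    refine ⟨⟨c, hcH⟩, ?_, rfl⟩
    apply MonoidHom.mem_ker.mpr
    have : f₀ ⟨c, hcH⟩ = 1 := Subtype.ext hπc
    show (e.toMonoidHom.comp (QuotientGroup.mk' (R'.subgroupOf K'))) (f₀ ⟨c, hcH⟩) = 1
    rw [this, map_one]
  · rw [hKdef]; exact Subgroup.map_subtype_le _
  · exact ⟨(QuotientGroup.quotientMulEquivOfEq hKH).trans
      (QuotientGroup.quotientKerEquivOfSurjective Φ hΦs)⟩

/-- The hypothesis of S1953 in the form of `AutFree`. -/
theorem autFree_of_hfree {G : Type*} [Group G] {p : ℕ}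
    (hfree : ∀ Q : Subgroup G, IsPGroup p ↥Q → ¬ ∃ (H K : Subgroup G) (_ : (K.subgroupOf H).Normal),
      Subgroup.centralizer (Q : Set G) ≤ K ∧ K ≤ H ∧ H ≤ Subgroup.normalizer (Q : Set G) ∧
      Nonempty ((↥H ⧸ K.subgroupOf H) ≃* Matrix.SpecialLinearGroup (Fin 2) (ZMod p))) :
    AutFree p G := by
  intro Q hQ hinv
  exact hfree Q hQ (exists_section_of_quotient _ _ (Subgroup.centralizer_le_normalizer _) hinv)

open Cfsg.Agent.S2005 (IsSec) in
open Cfsg.Agent.Lib.Helper15.SCD in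
/-- Every section of an `AutFree` group is `p`-stable in the normalizer form. -/
theorem secNPS_of_autFree {G : Type u} [Group G] [Finite G] {p : ℕ} [hp : Fact p.Prime]
    (hp2 : p ≠ 2) (h : AutFree p G) : SecNPS p G := by
  rintro Y _ _ ⟨K, f, hf⟩
  intro PY hPY g hg hq
  apply mem_pCore_of_quad' hp2 PY hPY ?_ g hg hq
  obtain ⟨Q₁, hQ₁p, hQ₁map, hnorm⟩ := exists_lift_psubgroup_hom f hf PY hPY
  obtain ⟨Q, hQdef⟩ : ∃ Q : Subgroup G, Q = Q₁.map K.subtype := ⟨_, rfl⟩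
  have hQp : IsPGroup p Q := by rw [hQdef]; exact hQ₁p.map _
  have hfreeQ := h Q hQp
  set M : Subgroup ↥K := normalizer (Q₁ : Set ↥K) with hM
  -- the map to the automizer in `Y`
  have hfM : ∀ k : ↥M, f (k : ↥K) ∈ normalizer (PY : Set Y) := by
    intro k
    rw [← hQ₁map]
    rw [Subgroup.mem_normalizer_iff]
    intro y
    constructor
    · rintro ⟨q, hq, rfl⟩
      refine ⟨(k : ↥K) * q * (k : ↥K)⁻¹, (Subgroup.mem_normalizer_iff.mp k.2 q).mp hq, ?_⟩
      simp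
    · rintro ⟨q, hq, hqy⟩
      have hq' : (k : ↥K)⁻¹ * q * (k : ↥K) ∈ Q₁ := by
        have := (Subgroup.mem_normalizer_iff.mp (inv_mem k.2) q).mp hq
        simpa using this
      refine ⟨(k : ↥K)⁻¹ * q * (k : ↥K), hq', ?_⟩
      have e1 : f ((k : ↥K)⁻¹ * q * (k : ↥K)) = (f k)⁻¹ * (f (k : ↥K) * y * (f (k : ↥K))⁻¹) * f k := by
        rw [← hqy]; simp
      rw [e1]; group
  let ψ₀ : ↥M →* ↥(normalizer (PY : Set Y)) :=
    { toFun := fun k => ⟨f (k : ↥K), hfM k⟩
      map_one' := Subtype.ext (by simp)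
      map_mul' := fun a b => Subtype.ext (by simp) }
  set ψ : ↥M →* ↥(normalizer (PY : Set Y)) ⧸
      (centralizer (PY : Set Y)).subgroupOf (normalizer (PY : Set Y)) :=
    (QuotientGroup.mk' _).comp ψ₀ with hψ
  have hψs : Function.Surjective ψ := by
    intro yb
    obtain ⟨⟨y, hy⟩, rfl⟩ := QuotientGroup.mk'_surjective _ yb
    obtain ⟨k, hk, hky⟩ := hnorm hy
    exact ⟨⟨k, hk⟩, congrArg (QuotientGroup.mk' _) (Subtype.ext hky)⟩
  -- the map to the automizer in `G`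
  have hιM : ∀ k : ↥M, ((k : ↥K) : G) ∈ normalizer (Q : Set G) := by
    intro k
    rw [hQdef]
    exact Subgroup.le_normalizer_map K.subtype ⟨k, k.2, rfl⟩
  let ι₀ : ↥M →* ↥(normalizer (Q : Set G)) :=
    { toFun := fun k => ⟨((k : ↥K) : G), hιM k⟩
      map_one' := Subtype.ext (by simp)
      map_mul' := fun a b => Subtype.ext (by simp) }
  set ι : ↥M →* ↥(normalizer (Q : Set G)) ⧸
      (centralizer (Q : Set G)).subgroupOf (normalizer (Q : Set G)) :=
    (QuotientGroup.mk' _).comp ι₀ with hι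
  have hker : ι.ker ≤ ψ.ker := by
    intro k hk
    rw [MonoidHom.mem_ker] at hk ⊢
    have h1 : ((k : ↥K) : G) ∈ centralizer (Q : Set G) := by
      have : (QuotientGroup.mk' _) (ι₀ k) = 1 := hk
      rw [QuotientGroup.mk'_apply, QuotientGroup.eq_one_iff, Subgroup.mem_subgroupOf] at this
      exact this
    show (QuotientGroup.mk' _) (ψ₀ k) = 1
    rw [QuotientGroup.mk'_apply, QuotientGroup.eq_one_iff, Subgroup.mem_subgroupOf,
      Subgroup.mem_centralizer_iff]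
    intro y hy
    rw [← hQ₁map] at hy
    obtain ⟨q, hq, rfl⟩ := hy
    have h2 := Subgroup.mem_centralizer_iff.mp h1 (q : G) (by rw [hQdef]; exact ⟨q, hq, rfl⟩)
    have h3 : q * (k : ↥K) = (k : ↥K) * q := Subtype.ext (by simpa using h2)
    show f q * f (k : ↥K) = f (k : ↥K) * f q
    rw [← map_mul, ← map_mul, h3]
  -- transfer
  have h1 : SL2Free p ↥ι.range := sl2Free_subgroup hfreeQ _
  have h2 : SL2Free p (↥M ⧸ ι.ker) :=
    sl2Free_of_surjective (QuotientGroup.quotientKerEquivRange ι).symm.toMonoidHom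
      (QuotientGroup.quotientKerEquivRange ι).symm.surjective h1
  refine sl2Free_of_surjective (QuotientGroup.lift ι.ker ψ hker) ?_ h2
  intro yb
  obtain ⟨k, rfl⟩ := hψs yb
  exact ⟨QuotientGroup.mk k, by simp⟩

end Cfsg.Agent.Lib.Helper11.QuadFree
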