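import Mathlib
import Cfsg.Agent.Lib.Helper11.SL3
import Cfsg.Agent.Lib.Helper11.PAG5

/-!
# Control of fusion by a normalizer, as a chain relation (helper11)

`CRel M A g`: `g` is the product of an element centralizing `A` and an element of `M`.
The subgroup `VSub P Q` over a normal `p`-subgroup `Q`: the preimage of `Z(J(P̄ ∩ C̄))` in `Γ/Q`.
-/

set_option autoImplicit false

universe u

namespace Cfsg.Agent.Lib.Helper11.SLC

open Cfsg Cfsg.Agent.Lib.Helper29 Cfsg.Agent.Lib.Helper1 Cfsg.Agent.Lib.Helper2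
open Cfsg.Agent.Lib.Helper11.AG Cfsg.Agent.Lib.Helper11.PAG
open Cfsg.Agent.Lib.Lead.FunctorNPC Cfsg.Agent.Lib.Lead.ZJFunctor

section crel

variable {G : Type*} [Group G]

/-- `g` is the product of an element centralizing `A` and an element of `M`. -/
def CRel (M : Subgroup G) (A : Set G) (g : G) : Prop :=
  ∃ c ∈ Subgroup.centralizer A, ∃ n ∈ M, g = c * n

theorem CRel.of_mem {M : Subgroup G} {A : Set G} {g : G} (hg : g ∈ M) : CRel M A g :=
  ⟨1, one_mem _, g, hg, (one_mul g).symm⟩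

theorem chainRel_CRel (M : Subgroup G) : ChainRel (CRel M) where
  mono := by
    rintro A B g ⟨c, hc, n, hn, rfl⟩ hB
    exact ⟨c, Subgroup.centralizer_le hB hc, n, hn, rfl⟩
  cmul := by
    rintro A g c hc ⟨c', hc', n, hn, rfl⟩
    exact ⟨c * c', mul_mem hc hc', n, hn, (mul_assoc _ _ _).symm⟩
  trans := by
    rintro A g k ⟨c, hc, n, hn, rfl⟩ ⟨c', hc', n', hn', rfl⟩
    have e : rcs (c * n) A = rcs n A := by rw [rcs_mul, rcs_eq_of_mem_centralizer hc]
    rw [e] at hc'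
    exact ⟨c * (n * c' * n⁻¹), mul_mem hc (conj_mem_centralizer_of_rcs hc'), n * n',
      mul_mem hn hn', by group⟩
  symm := by
    rintro A g ⟨c, hc, n, hn, rfl⟩
    have e : rcs (c * n) A = rcs n A := by rw [rcs_mul, rcs_eq_of_mem_centralizer hc]
    rw [e]
    refine ⟨n⁻¹ * c⁻¹ * n, ?_, n⁻¹, inv_mem hn, by group⟩
    have h1 : c⁻¹ ∈ Subgroup.centralizer (rcs n⁻¹ (rcs n A)) := by
      rw [rcs_inv_rcs]; exact inv_mem hc
    have := conj_mem_centralizer_of_rcs h1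
    simpa using this

end crel

section vsub

variable {Γ : Type u} [Group Γ]

/-- The preimage in `Γ` of `Z(J(D̄))`, `D̄` the image of `P ∩ C_Γ(Q)` in `Γ/Q`. -/
def VSub (P Q : Subgroup Γ) [Q.Normal] : Subgroup Γ :=
  (WZ (Γ ⧸ Q) ((P ⊓ Subgroup.centralizer (Q : Set Γ)).map (QuotientGroup.mk' Q))).comap
    (QuotientGroup.mk' Q)

theorem le_VSub (P Q : Subgroup Γ) [Q.Normal] : Q ≤ VSub P Q := by
  intro x hx
  unfold VSub
  rw [Subgroup.mem_comap]
  have : (QuotientGroup.mk' Q) x = 1 := by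
    rw [QuotientGroup.mk'_apply, QuotientGroup.eq_one_iff]; exact hx
  rw [this]; exact one_mem _

theorem VSub_le {p : ℕ} [Fact p.Prime] (P Q : Subgroup Γ) [Q.Normal] (hQP : Q ≤ P) :
    VSub P Q ≤ P := by
  intro x hx
  unfold VSub at hx
  rw [Subgroup.mem_comap] at hx
  have h1 := (WZ_good p).le (Γ ⧸ Q) _ hx
  obtain ⟨d, hd, hdx⟩ := h1
  have h2 : d⁻¹ * x ∈ Q := by
    rw [← QuotientGroup.eq_one_iff, ← QuotientGroup.mk'_apply, map_mul, map_inv, hdx]
    simp
  have : x = d * (d⁻¹ * x) := by group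
  rw [this]
  exact mul_mem hd.1 (hQP h2)

theorem inf_centralizer_le_of_VSub_eq [Finite Γ] {p : ℕ} [Fact p.Prime] (P Q : Subgroup Γ)
    [Q.Normal] (hP : IsPGroup p P) (h : VSub P Q = Q) :
    P ⊓ Subgroup.centralizer (Q : Set Γ) ≤ Q := by
  set π := QuotientGroup.mk' Q with hπ
  set D := (P ⊓ Subgroup.centralizer (Q : Set Γ)).map π with hD
  have hDp : IsPGroup p D := (hP.to_le inf_le_left).map π
  have hW : WZ (Γ ⧸ Q) D = ⊥ := by
    rw [eq_bot_iff]
    intro y hy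
    obtain ⟨x, rfl⟩ := QuotientGroup.mk'_surjective Q y
    have hx : x ∈ VSub P Q := by
      unfold VSub
      rw [Subgroup.mem_comap]
      exact hy
    rw [h] at hx
    rw [Subgroup.mem_bot, QuotientGroup.mk'_apply, QuotientGroup.eq_one_iff]
    exact hx
  have hD0 : D = ⊥ := by
    by_contra hne
    exact (WZ_good p).ne_bot (Γ ⧸ Q) D hDp hne hW
  intro d hd
  have h1 : π d ∈ D := ⟨d, hd, rfl⟩
  rw [hD0, Subgroup.mem_bot, hπ, QuotientGroup.mk'_apply, QuotientGroup.eq_one_iff] at h1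
  exact h1

theorem mem_normalizer_VSub {p : ℕ} [Fact p.Prime] (P Q : Subgroup Γ) [Q.Normal] {n : Γ}
    (hn : QuotientGroup.mk' Q n ∈ Subgroup.normalizer
      (((WZ (Γ ⧸ Q) ((P ⊓ Subgroup.centralizer (Q : Set Γ)).map (QuotientGroup.mk' Q)) :
        Subgroup (Γ ⧸ Q))) : Set (Γ ⧸ Q))) :
    n ∈ Subgroup.normalizer (VSub P Q : Set Γ) := by
  unfold VSub
  apply Subgroup.le_normalizer_comap (QuotientGroup.mk' Q)
  rw [Subgroup.mem_comap]
  exact hn

theorem mem_normalizer_VSub_of_normalizes {p : ℕ} [Fact p.Prime] (P Q : Subgroup Γ) [Q.Normal]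
    {n : Γ}
    (hn : n ∈ Subgroup.normalizer ((P ⊓ Subgroup.centralizer (Q : Set Γ) : Subgroup Γ) : Set Γ)) :
    n ∈ Subgroup.normalizer (VSub P Q : Set Γ) := by
  apply mem_normalizer_VSub (p := p)
  apply (WZ_good p).normalizer_le
  apply Subgroup.le_normalizer_map (QuotientGroup.mk' Q)
  exact ⟨n, hn, rfl⟩

theorem le_normalizer_VSub {p : ℕ} [Fact p.Prime] (P Q : Subgroup Γ) [Q.Normal] :
    P ≤ Subgroup.normalizer (VSub P Q : Set Γ) := by
  intro x hx
  apply mem_normalizer_VSub_of_normalizes (p := p)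
  have h1 : P ≤ Subgroup.normalizer (P : Set Γ) := Subgroup.le_normalizer
  have h2 : P ≤ Subgroup.normalizer ((Subgroup.centralizer (Q : Set Γ) : Subgroup Γ) : Set Γ) := by
    haveI : (Subgroup.centralizer (Q : Set Γ)).Normal := inferInstance
    rw [Subgroup.normalizer_eq_top_iff.mpr inferInstance]
    exact le_top
  exact le_normalizer_inf h1 h2 hx

/-- The image of `P ∩ C_Γ(Q)` in `Γ/Q` is strongly closed in the image of `P`. -/
theorem stronglyClosed_image (P Q : Subgroup Γ) [Q.Normal] (hQP : Q ≤ P) :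
    Cfsg.IsStronglyClosed ((P ⊓ Subgroup.centralizer (Q : Set Γ)).map (QuotientGroup.mk' Q))
      (P.map (QuotientGroup.mk' Q)) := by
  haveI hCn : (Subgroup.centralizer (Q : Set Γ)).Normal := inferInstance
  refine ⟨Subgroup.map_mono inf_le_left, ?_⟩
  rintro _ ⟨d, hd, rfl⟩ g hg
  obtain ⟨γ, rfl⟩ := QuotientGroup.mk'_surjective Q g
  obtain ⟨y, hy, hyx⟩ := hg
  have e : (QuotientGroup.mk' Q) γ * (QuotientGroup.mk' Q) d * ((QuotientGroup.mk' Q) γ)⁻¹ =
      (QuotientGroup.mk' Q) (γ * d * γ⁻¹) := by simp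
  rw [e] at hyx ⊢
  have h2 : y⁻¹ * (γ * d * γ⁻¹) ∈ Q := by
    rw [← QuotientGroup.eq_one_iff, ← QuotientGroup.mk'_apply, map_mul, map_inv, hyx]
    exact inv_mul_cancel _
  have h3 : γ * d * γ⁻¹ ∈ P := by
    have : γ * d * γ⁻¹ = y * (y⁻¹ * (γ * d * γ⁻¹)) := by group
    rw [this]
    exact mul_mem hy (hQP h2)
  exact ⟨γ * d * γ⁻¹, ⟨h3, hCn.conj_mem d hd.2 γ⟩, rfl⟩

end vsub

end Cfsg.Agent.Lib.Helper11.SLC
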