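import Mathlib
import Cfsg.Agent.Lib.Helper11.SL4

/-!
# Elements of `C_Γ(Q) ∩ N_Γ(U)` are controlled by `N_Γ(V)` (helper11)
-/

set_option autoImplicit false

universe u

namespace Cfsg.Agent.Lib.Helper11.SLC

open Cfsg Cfsg.Agent.Lib.Helper29 Cfsg.Agent.Lib.Helper1 Cfsg.Agent.Lib.Helper2
open Cfsg.Agent.Lib.Helper11.AG Cfsg.Agent.Lib.Helper11.PAG
open Cfsg.Agent.Lib.Lead.FunctorNPC Cfsg.Agent.Lib.Lead.ZJFunctor
open Cfsg.Agent.Lib.Helper15.SCD
open Cfsg.Agent.Lib.Helper11.SFS (not_dvd_relIndex_sylow)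

section

variable {Γ : Type*} [Group Γ]

/-- If `b` centralizes `Q` and acts trivially on `U` modulo `Q`, then `b ^ |Q|` centralizes `U`. -/
theorem pow_mem_centralizer_of_comm_mod (Q U : Subgroup Γ) (b : Γ)
    (hbC : b ∈ Subgroup.centralizer (Q : Set Γ))
    (hbU : ∀ u ∈ U, u⁻¹ * b * u * b⁻¹ ∈ Q) :
    b ^ Nat.card Q ∈ Subgroup.centralizer (U : Set Γ) := by
  rw [Subgroup.mem_centralizer_iff]
  intro u hu
  set z := u⁻¹ * b * u * b⁻¹ with hz
  have hzQ : z ∈ Q := hbU u hu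
  have hcomm : z * b = b * z := Subgroup.mem_centralizer_iff.mp hbC z hzQ
  have hcommj : ∀ j : ℕ, z ^ j * b = b * z ^ j := fun j => (Commute.pow_left hcomm j)
  have hbu : b * u * b⁻¹ = u * z := by rw [hz]; group
  have key : ∀ j : ℕ, b ^ j * u = u * z ^ j * b ^ j := by
    intro j
    induction j with
    | zero => simp
    | succ j ih =>
      calc b ^ (j + 1) * u = b * (b ^ j * u) := by rw [pow_succ']; exact mul_assoc _ _ _
        _ = b * (u * z ^ j * b ^ j) := by rw [ih]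
        _ = (b * u * b⁻¹) * (b * z ^ j) * b ^ j := by simp only [mul_assoc, inv_mul_cancel_left]
        _ = (u * z) * (z ^ j * b) * b ^ j := by rw [hbu, hcommj j]
        _ = u * z ^ (j + 1) * b ^ (j + 1) := by
          rw [pow_succ' z, pow_succ' b]; simp only [mul_assoc]
  have hz1 : z ^ Nat.card Q = 1 := by
    have h2 : (⟨z, hzQ⟩ : ↥Q) ^ Nat.card Q = 1 := pow_card_eq_one'
    have h3 := congrArg Subtype.val h2
    rw [Subgroup.coe_pow, Subgroup.coe_one] at h3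
    exact h3
  have := key (Nat.card Q)
  rw [hz1, mul_one] at this
  exact this.symm

theorem comm_mem_of_mem_comap_centralizer (Q U : Subgroup Γ) [Q.Normal] {b u : Γ}
    (hb : b ∈ (Subgroup.centralizer ((U.map (QuotientGroup.mk' Q) : Subgroup (Γ ⧸ Q)) :
      Set (Γ ⧸ Q))).comap (QuotientGroup.mk' Q)) (hu : u ∈ U) :
    u⁻¹ * b * u * b⁻¹ ∈ Q := by
  rw [Subgroup.mem_comap] at hb
  have h1 := Subgroup.mem_centralizer_iff.mp hb ((QuotientGroup.mk' Q) u) ⟨u, hu, rfl⟩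
  rw [← QuotientGroup.eq_one_iff, ← QuotientGroup.mk'_apply]
  simp only [map_mul, map_inv]
  rw [mul_assoc ((QuotientGroup.mk' Q) u)⁻¹, ← h1]
  group

theorem comap_centralizer_le_normalizer (Q U : Subgroup Γ) [Q.Normal] (hQU : Q ≤ U) :
    (Subgroup.centralizer ((U.map (QuotientGroup.mk' Q) : Subgroup (Γ ⧸ Q)) :
      Set (Γ ⧸ Q))).comap (QuotientGroup.mk' Q) ≤ Subgroup.normalizer (U : Set Γ) := by
  have key : ∀ b ∈ (Subgroup.centralizer ((U.map (QuotientGroup.mk' Q) : Subgroup (Γ ⧸ Q)) :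
      Set (Γ ⧸ Q))).comap (QuotientGroup.mk' Q), ∀ u ∈ U, b * u * b⁻¹ ∈ U := by
    intro b hb u hu
    have h1 := comm_mem_of_mem_comap_centralizer Q U hb hu
    have : b * u * b⁻¹ = u * (u⁻¹ * b * u * b⁻¹) := by group
    rw [this]
    exact mul_mem hu (hQU h1)
  intro b hb
  rw [Subgroup.mem_normalizer_iff]
  intro u
  constructor
  · exact key b hb u
  · intro hu
    have := key b⁻¹ (inv_mem hb) _ hu
    simpa [mul_assoc] using this

end

variable {Γ : Type u} [Group Γ] [Finite Γ] {p : ℕ} [Fact p.Prime]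

theorem crel_of_mem_centralizer (hp : p ≠ 2) (P : Sylow p Γ) (Q : Subgroup Γ) [Q.Normal]
    (hQP : Q ≤ (P : Subgroup Γ)) (hsec : SecNPS p Γ) (U : Subgroup Γ) (hQU : Q ≤ U)
    (hUP : U ≤ (P : Subgroup Γ))
    (hUsyl : ¬ p ∣ ((P : Subgroup Γ) ⊓ Subgroup.normalizer (U : Set Γ)).relIndex
      (Subgroup.normalizer (U : Set Γ)))
    (h : Γ) (hhC : h ∈ Subgroup.centralizer (Q : Set Γ))
    (hhN : h ∈ Subgroup.normalizer (U : Set Γ)) :
    CRel (Subgroup.normalizer (VSub (P : Subgroup Γ) Q : Set Γ)) (U : Set Γ) h := by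
  classical
  set π := QuotientGroup.mk' Q with hπ
  have hπs : Function.Surjective π := QuotientGroup.mk'_surjective Q
  obtain ⟨C, hCdef⟩ : ∃ C : Subgroup Γ, C = Subgroup.centralizer (Q : Set Γ) := ⟨_, rfl⟩
  have hCn : C.Normal := by rw [hCdef]; infer_instance
  have hPNC : (P : Subgroup Γ) ≤ Subgroup.normalizer (C : Set Γ) := by
    rw [Subgroup.normalizer_eq_top_iff.mpr hCn]; exact le_top
  set H₂ : Subgroup (Γ ⧸ Q) := ((P : Subgroup Γ) ⊔ C).map π with hH₂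
  set T : Subgroup (Γ ⧸ Q) := (P : Subgroup Γ).map π with hT
  set E : Subgroup (Γ ⧸ Q) := ((P : Subgroup Γ) ⊓ C).map π with hE
  have hTH : T ≤ H₂ := Subgroup.map_mono le_sup_left
  have hTp : IsPGroup p T := P.isPGroup'.map π
  have hidx : ¬ p ∣ T.relIndex H₂ := by
    have h1 : ((P.mapSurjective hπs : Sylow p (Γ ⧸ Q)) : Subgroup (Γ ⧸ Q)) ≤ H₂ := by
      rw [Sylow.coe_mapSurjective]; exact hTH
    have := not_dvd_relIndex_sylow (P.mapSurjective hπs) h1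
    rwa [Sylow.coe_mapSurjective] at this
  have hEsc : Cfsg.IsStronglyClosed E T := by
    rw [hE, hT, hCdef]
    exact stronglyClosed_image (P : Subgroup Γ) Q hQP
  have hctl : CtlD p WZ ↥H₂ :=
    Cfsg.Agent.Lib.Helper15.SCD.main (WZ_good p) (Cfsg.Agent.S3080.normalD_WZ hp) (Nat.card ↥H₂)
      ↥H₂ le_rfl ((hsec.quotient Q).subgroup H₂)
  have hg : π h ∈ H₂ := ⟨h, Subgroup.mem_sup_right (hCdef ▸ hhC), rfl⟩
  have hA : (π '' (U : Set Γ)) ⊆ (T : Set (Γ ⧸ Q)) := by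
    rintro _ ⟨u, hu, rfl⟩
    exact ⟨u, hUP hu, rfl⟩
  have hAg : ∀ a ∈ π '' (U : Set Γ), π h * a * (π h)⁻¹ ∈ T := by
    rintro _ ⟨u, hu, rfl⟩
    refine ⟨h * u * h⁻¹, hUP ((Subgroup.mem_normalizer_iff.mp hhN u).mp hu), by simp⟩
  obtain ⟨xb, ⟨hxbH, hxbN⟩, hxba⟩ := ctl_sub_gen (WZ_good p) H₂ T E hTH hTp hidx hEsc hctl
    (π '' (U : Set Γ)) (π h) hg hA hAg
  obtain ⟨x, hxPC0, rfl⟩ := hxbH
  have hxPC : x ∈ (P : Subgroup Γ) ⊔ C := hxPC0
  have hxV : x ∈ Subgroup.normalizer (VSub (P : Subgroup Γ) Q : Set Γ) := by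
    apply mem_normalizer_VSub (p := p)
    rw [← hCdef]
    exact hxbN
  -- the subgroups `B₃`, `B₂`
  set B₃ : Subgroup Γ := (Subgroup.centralizer ((U.map π : Subgroup (Γ ⧸ Q)) :
      Set (Γ ⧸ Q))).comap π with hB₃
  set B₂ : Subgroup Γ := ((P : Subgroup Γ) ⊔ C) ⊓ B₃ with hB₂
  have ha₀B₃ : x⁻¹ * h ∈ B₃ := by
    rw [hB₃, Subgroup.mem_comap, Subgroup.mem_centralizer_iff]
    rintro _ ⟨u, hu, rfl⟩
    have h1 := hxba (π u) ⟨u, hu, rfl⟩
    have e : π (x⁻¹ * h) = (π x)⁻¹ * π h := by simp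
    rw [e]
    have h' : π h * π u = π x * π u * (π x)⁻¹ * π h := by rw [← h1]; group
    calc π u * ((π x)⁻¹ * π h) = (π x)⁻¹ * (π x * π u * (π x)⁻¹ * π h) := by group
      _ = (π x)⁻¹ * (π h * π u) := by rw [h']
      _ = (π x)⁻¹ * π h * π u := by group
  have ha₀B₂ : x⁻¹ * h ∈ B₂ :=
    Subgroup.mem_inf.mpr
      ⟨mul_mem (inv_mem hxPC) (Subgroup.mem_sup_right (hCdef ▸ hhC)), ha₀B₃⟩
  set S₂ : Subgroup Γ := (P : Subgroup Γ) ⊓ Subgroup.normalizer (U : Set Γ) with hS₂def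
  have hS₂ : IsSylowSub p S₂ (Subgroup.normalizer (U : Set Γ)) := isSylowSub_nP P hUsyl
  have hB₃N : B₃ ≤ Subgroup.normalizer (U : Set Γ) := comap_centralizer_le_normalizer Q U hQU
  have hNB₃ : Subgroup.normalizer (U : Set Γ) ≤ Subgroup.normalizer (B₃ : Set Γ) := by
    intro n hn
    rw [hB₃]
    apply Subgroup.le_normalizer_comap π
    rw [Subgroup.mem_comap]
    apply normalizer_le_normalizer_centralizer
    apply Subgroup.le_normalizer_map π
    exact ⟨n, hn, rfl⟩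
  have hS₂B₂ : S₂ ≤ Subgroup.normalizer (B₂ : Set Γ) := by
    apply Cfsg.Agent.Lib.Helper11.PAG.le_normalizer_inf
    · exact (inf_le_left.trans le_sup_left).trans Subgroup.le_normalizer
    · exact inf_le_right.trans hNB₃
  have hB₂N : B₂ ≤ Subgroup.normalizer (U : Set Γ) := inf_le_right.trans hB₃N
  have hL'N : S₂ ⊔ B₂ ≤ Subgroup.normalizer (U : Set Γ) := sup_le inf_le_right hB₂N
  have hS₂L' : IsSylowSub p S₂ (S₂ ⊔ B₂) := IsSylowSub.of_le le_sup_left hL'N hS₂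
  have hL'norm : S₂ ⊔ B₂ ≤ Subgroup.normalizer (B₂ : Set Γ) := sup_le hS₂B₂ Subgroup.le_normalizer
  have hT₁ : IsSylowSub p (S₂ ⊓ B₂) B₂ :=
    isSylowSub_inf_of_normalized hS₂L' le_sup_left le_sup_right hL'norm
  have hnormCU : B₂ ≤ Subgroup.normalizer
      ((Subgroup.centralizer (U : Set Γ) : Subgroup Γ) : Set Γ) :=
    hB₂N.trans (normalizer_le_normalizer_centralizer U)
  have hpow : ∀ b ∈ B₂, ∃ a : ℕ, b ^ (p ^ a) ∈ Subgroup.centralizer (U : Set Γ) := by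
    intro b hb
    obtain ⟨a₁, ha₁⟩ := IsPGroup.iff_card.mp P.isPGroup'
    obtain ⟨a₂, ha₂⟩ := IsPGroup.iff_card.mp (P.isPGroup'.to_le hQP)
    refine ⟨a₁ + a₂, ?_⟩
    have hb1 : b ^ (p ^ a₁) ∈ C := by
      obtain ⟨y, hy, c', hc', rfl⟩ := mem_sup_of_le_normalizer hPNC hb.1
      have hy1 : y ^ (p ^ a₁) = 1 := by
        have h2 : (⟨y, hy⟩ : ↥(P : Subgroup Γ)) ^ Nat.card (P : Subgroup Γ) = 1 :=
          pow_card_eq_one'
        have h3 := congrArg Subtype.val h2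
        rw [Subgroup.coe_pow, Subgroup.coe_one] at h3
        rw [← ha₁]
        exact h3
      rw [← QuotientGroup.eq_one_iff (N := C)]
      have e1 : ((y * c' : Γ) : Γ ⧸ C) = (y : Γ ⧸ C) := by
        rw [QuotientGroup.mk_mul, (QuotientGroup.eq_one_iff c').mpr hc', mul_one]
      rw [QuotientGroup.mk_pow, e1, ← QuotientGroup.mk_pow, hy1]
      rfl
    have hb1B : b ^ (p ^ a₁) ∈ B₃ := pow_mem hb.2 _
    have := pow_mem_centralizer_of_comm_mod Q U (b ^ (p ^ a₁)) (hCdef ▸ hb1)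
      (fun u hu => comm_mem_of_mem_comap_centralizer Q U hb1B hu)
    rw [ha₂, ← pow_mul, ← pow_add] at this
    exact this
  have hcover := le_sup_of_pow_mem hT₁ inf_le_right hnormCU hpow
  have hnn : S₂ ⊓ B₂ ≤ Subgroup.normalizer
      ((Subgroup.centralizer (U : Set Γ) ⊓ B₂ : Subgroup Γ) : Set Γ) :=
    Cfsg.Agent.Lib.Helper11.PAG.le_normalizer_inf (inf_le_right.trans hnormCU) (inf_le_right.trans Subgroup.le_normalizer)
  obtain ⟨s, hs, k, hk, hsk⟩ := mem_sup_of_le_normalizer hnn (hcover ha₀B₂)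
  have hxs : x * s = h * k⁻¹ := by
    calc x * s = x * (s * k) * k⁻¹ := by group
      _ = x * (x⁻¹ * h) * k⁻¹ := by rw [hsk]
      _ = h * k⁻¹ := by group
  have hxsN : x * s ∈ Subgroup.normalizer (U : Set Γ) := by
    rw [hxs]
    exact mul_mem hhN (Subgroup.centralizer_le_normalizer _ (inv_mem hk.1))
  have hc : (x * s) * k * (x * s)⁻¹ ∈ Subgroup.centralizer (U : Set Γ) :=
    (Subgroup.mem_normalizer_iff.mp ((normalizer_le_normalizer_centralizer U) hxsN) k).mp hk.1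
  refine ⟨(x * s) * k * (x * s)⁻¹, hc, x * s,
    mul_mem hxV (le_normalizer_VSub (p := p) (P : Subgroup Γ) Q hs.1.1), ?_⟩
  calc h = x * (x⁻¹ * h) := by group
    _ = x * (s * k) := by rw [hsk]
    _ = (x * s) * k * (x * s)⁻¹ * (x * s) := by group

end Cfsg.Agent.Lib.Helper11.SLC
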