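import Mathlib
import Cfsg.Agent.Lib.Helper11.SL5

/-!
# The normal case: `N_Γ(V)` controls strong fusion when `Q ⊴ Γ` (helper11)
-/

set_option autoImplicit false

universe u

namespace Cfsg.Agent.Lib.Helper11.SLC

open Cfsg Cfsg.Agent.Lib.Helper29 Cfsg.Agent.Lib.Helper1 Cfsg.Agent.Lib.Helper2
open Cfsg.Agent.Lib.Helper11.AG Cfsg.Agent.Lib.Helper11.PAG
open Cfsg.Agent.Lib.Lead.FunctorNPC Cfsg.Agent.Lib.Lead.ZJFunctor
open Cfsg.Agent.Lib.Helper15.SCD

variable {Γ : Type u} [Group Γ] [Finite Γ] {p : ℕ} [Fact p.Prime]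

theorem normal_case (hp : p ≠ 2) (P : Sylow p Γ) (Q : Subgroup Γ) [Q.Normal]
    (hQP : Q ≤ (P : Subgroup Γ)) (hsec : SecNPS p Γ) :
    ∀ A : Subgroup Γ, A ≤ (P : Subgroup Γ) → ∀ g : Γ, cj g A ≤ (P : Subgroup Γ) →
      ∃ h ∈ Subgroup.normalizer (VSub (P : Subgroup Γ) Q : Set Γ),
        ∃ c ∈ Subgroup.centralizer (A : Set Γ), g = h * c := by
  classical
  obtain ⟨V, hVdef⟩ : ∃ V : Subgroup Γ, V = VSub (P : Subgroup Γ) Q := ⟨_, rfl⟩
  rw [← hVdef]
  obtain ⟨C, hCdef⟩ : ∃ C : Subgroup Γ, C = Subgroup.centralizer (Q : Set Γ) := ⟨_, rfl⟩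
  have hCn : C.Normal := by rw [hCdef]; infer_instance
  have hNC : ∀ L : Subgroup Γ, L ≤ Subgroup.normalizer (C : Set Γ) := by
    intro L
    rw [Subgroup.normalizer_eq_top_iff.mpr hCn]; exact le_top
  have hNQ : ∀ L : Subgroup Γ, L ≤ Subgroup.normalizer (Q : Set Γ) := by
    intro L
    rw [Subgroup.normalizer_eq_top_iff.mpr inferInstance]; exact le_top
  have hW : ChainRel (CRel (Subgroup.normalizer (V : Set Γ))) := chainRel_CRel _
  have hstep : ∀ U : Subgroup Γ, U ∈ AGFam p (P : Subgroup Γ) →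
      (∀ T : Subgroup Γ, T ≤ (P : Subgroup Γ) → Nat.card U < Nat.card T →
        ∀ g : Γ, cj g⁻¹ T ≤ (P : Subgroup Γ) →
          CRel (Subgroup.normalizer (V : Set Γ)) (T : Set Γ) g) →
      ∀ m ∈ Subgroup.normalizer (U : Set Γ),
        CRel (Subgroup.normalizer (V : Set Γ)) (U : Set Γ) m := by
    intro U hU ih m hm
    obtain ⟨hUP, -, -, hUsyl⟩ := hU
    have hUp : IsPGroup p U := P.isPGroup'.to_le hUP
    by_cases hQU : Q ≤ U
    · have hS₂ := isSylowSub_nP P hUsyl
      have hHN : C ⊓ Subgroup.normalizer (U : Set Γ) ≤ Subgroup.normalizer (U : Set Γ) :=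
        inf_le_right
      have hNH : Subgroup.normalizer (U : Set Γ) ≤
          Subgroup.normalizer ((C ⊓ Subgroup.normalizer (U : Set Γ) : Subgroup Γ) : Set Γ) :=
        Cfsg.Agent.Lib.Helper11.PAG.le_normalizer_inf (hNC _) Subgroup.le_normalizer
      obtain ⟨h, hh, n, hn, rfl⟩ := frattini_sub hS₂ inf_le_right hHN hNH m hm
      have hWh : CRel (Subgroup.normalizer (V : Set Γ)) (U : Set Γ) h := by
        rw [hVdef]
        exact crel_of_mem_centralizer hp P Q hQP hsec U hQU hUP hUsyl h (hCdef ▸ hh.1) hh.2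
      have hWn : CRel (Subgroup.normalizer (V : Set Γ)) (U : Set Γ) n := by
        by_cases hR : ((P : Subgroup Γ) ⊓ Subgroup.normalizer (U : Set Γ)) ⊓
            (C ⊓ Subgroup.normalizer (U : Set Γ)) ≤ U
        · have hPCU : (P : Subgroup Γ) ⊓ C ≤ U := by
            by_contra hcon
            have hlt : U < U ⊔ ((P : Subgroup Γ) ⊓ C) :=
              lt_of_le_of_ne le_sup_left (fun heq => hcon (le_sup_right.trans heq.ge))
            have hU2P : U ⊔ ((P : Subgroup Γ) ⊓ C) ≤ (P : Subgroup Γ) := sup_le hUP inf_le_left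
            have h1 := Cfsg.Agent.Lib.Helper1.lt_inf_normalizer_of_lt
              (P.isPGroup'.to_le hU2P) hlt
            obtain ⟨y, hy, hyU⟩ := SetLike.exists_of_lt h1
            have hUnorm : U ≤ Subgroup.normalizer
                (((P : Subgroup Γ) ⊓ C : Subgroup Γ) : Set Γ) :=
              hUP.trans (Cfsg.Agent.Lib.Helper11.PAG.le_normalizer_inf
                Subgroup.le_normalizer (hNC _))
            obtain ⟨u, hu, d, hd, rfl⟩ := mem_sup_of_le_normalizer hUnorm hy.1
            have hdN : d ∈ Subgroup.normalizer (U : Set Γ) := by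
              have : d = u⁻¹ * (u * d) := by group
              rw [this]; exact mul_mem (inv_mem (Subgroup.le_normalizer hu)) hy.2
            exact hyU (mul_mem hu (hR (Subgroup.mem_inf.mpr
              ⟨Subgroup.mem_inf.mpr ⟨hd.1, hdN⟩, Subgroup.mem_inf.mpr ⟨hd.2, hdN⟩⟩)))
          have hReq : ((P : Subgroup Γ) ⊓ Subgroup.normalizer (U : Set Γ)) ⊓
              (C ⊓ Subgroup.normalizer (U : Set Γ)) = (P : Subgroup Γ) ⊓ C :=
            le_antisymm (inf_le_inf inf_le_left inf_le_left)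
              (le_inf (le_inf inf_le_left (hPCU.trans Subgroup.le_normalizer))
                (le_inf inf_le_right (hPCU.trans Subgroup.le_normalizer)))
          have hn2 := hn.2
          rw [hReq, hCdef] at hn2
          have hnV : n ∈ Subgroup.normalizer (V : Set Γ) := by
            rw [hVdef]
            exact mem_normalizer_VSub_of_normalizes (p := p) (P : Subgroup Γ) Q hn2
          exact CRel.of_mem hnV
        · have hU1P : U ⊔ (((P : Subgroup Γ) ⊓ Subgroup.normalizer (U : Set Γ)) ⊓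
              (C ⊓ Subgroup.normalizer (U : Set Γ))) ≤ (P : Subgroup Γ) :=
            sup_le hUP (inf_le_left.trans inf_le_left)
          have hnU1 : n ∈ Subgroup.normalizer ((U ⊔ (((P : Subgroup Γ) ⊓
              Subgroup.normalizer (U : Set Γ)) ⊓ (C ⊓ Subgroup.normalizer (U : Set Γ))) :
              Subgroup Γ) : Set Γ) :=
            le_normalizer_sup (L := Subgroup.normalizer (U : Set Γ) ⊓ Subgroup.normalizer
              (((((P : Subgroup Γ) ⊓ Subgroup.normalizer (U : Set Γ)) ⊓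
                (C ⊓ Subgroup.normalizer (U : Set Γ))) : Subgroup Γ) : Set Γ))
              inf_le_left inf_le_right hn
          have hcard := card_lt_of_le_of_not_le (le_sup_left : U ≤ U ⊔ (((P : Subgroup Γ) ⊓
              Subgroup.normalizer (U : Set Γ)) ⊓ (C ⊓ Subgroup.normalizer (U : Set Γ))))
            (fun h => hR (le_sup_right.trans h))
          have := ih _ hU1P hcard n (by rw [cj_inv_eq_of_mem_normalizer hnU1]; exact hU1P)
          exact hW.mono this (SetLike.coe_subset_coe.mpr le_sup_left)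
      have e : rcs h (U : Set Γ) = (U : Set Γ) := by
        rw [rcs_coe, cj_inv_eq_of_mem_normalizer hh.2]
      exact hW.trans hWh (e.symm ▸ hWn)
    · have hlt : U < U ⊔ Q :=
        lt_of_le_of_ne le_sup_left (fun heq => hQU (le_sup_right.trans heq.ge))
      have hUQP : U ⊔ Q ≤ (P : Subgroup Γ) := sup_le hUP hQP
      have h1 := Cfsg.Agent.Lib.Helper1.lt_inf_normalizer_of_lt (P.isPGroup'.to_le hUQP) hlt
      have hmU' : m ∈ Subgroup.normalizer (((U ⊔ Q) ⊓ Subgroup.normalizer (U : Set Γ) :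
          Subgroup Γ) : Set Γ) :=
        Cfsg.Agent.Lib.Helper11.PAG.le_normalizer_inf (N := Subgroup.normalizer (U : Set Γ))
          (le_normalizer_sup le_rfl (hNQ _)) Subgroup.le_normalizer hm
      have hU'P : (U ⊔ Q) ⊓ Subgroup.normalizer (U : Set Γ) ≤ (P : Subgroup Γ) :=
        inf_le_left.trans hUQP
      have hcard := card_lt_of_le_of_not_le h1.le (not_le_of_gt h1)
      have := ih _ hU'P hcard m (by rw [cj_inv_eq_of_mem_normalizer hmU']; exact hU'P)
      exact hW.mono this (SetLike.coe_subset_coe.mpr h1.le)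
  intro A hAP g hg
  have := main_rel P (CRel (Subgroup.normalizer (V : Set Γ))) hW hstep _ A hAP rfl g⁻¹
    (by rw [inv_inv]; exact hg)
  obtain ⟨c, hc, n, hn, hgcn⟩ := this
  refine ⟨n⁻¹, inv_mem hn, c⁻¹, inv_mem hc, ?_⟩
  rw [← inv_inv g, hgcn, mul_inv_rev]

end Cfsg.Agent.Lib.Helper11.SLC
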