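import Mathlib
import Cfsg.Agent.Lib.Helper11.SL6

/-!
# A maximal subgroup whose normalizer controls strong fusion is centric (helper11)
-/

set_option autoImplicit false

universe u

namespace Cfsg.Agent.Lib.Helper11.SLC

open Cfsg Cfsg.Agent.Lib.Helper29 Cfsg.Agent.Lib.Helper1 Cfsg.Agent.Lib.Helper2
open Cfsg.Agent.Lib.Helper11.AG Cfsg.Agent.Lib.Helper11.PAG
open Cfsg.Agent.Lib.Lead.FunctorNPC Cfsg.Agent.Lib.Lead.ZJFunctor
open Cfsg.Agent.Lib.Helper15.SCD
open Cfsg.Agent.Lib.Helper11.SFS (not_dvd_relIndex_sylow)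

section basic

variable {G : Type*} [Group G]

/-- `N_G(Q)` controls strong fusion in `P`. -/
def Ctl (P Q : Subgroup G) : Prop :=
  ∀ A : Subgroup G, A ≤ P → ∀ g : G, cj g A ≤ P →
    ∃ h ∈ Subgroup.normalizer (Q : Set G), ∃ c ∈ Subgroup.centralizer (A : Set G), g = h * c

theorem ctl_bot (P : Subgroup G) : Ctl P ⊥ := by
  intro A _ g _
  refine ⟨g, ?_, 1, one_mem _, (mul_one g).symm⟩
  rw [Subgroup.mem_normalizer_iff]
  intro h
  rw [Subgroup.mem_bot, Subgroup.mem_bot]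
  exact conj_eq_one_iff.symm

theorem Ctl.le_normalizer {P Q : Subgroup G} (hQP : Q ≤ P) (h : Ctl P Q) :
    P ≤ Subgroup.normalizer (Q : Set G) := by
  intro g hg
  obtain ⟨h', hh', c, hc, rfl⟩ := h P le_rfl g (by rw [cj_eq_self_of_mem hg])
  refine mul_mem hh' (Subgroup.centralizer_le_normalizer _ ?_)
  exact Subgroup.centralizer_le (SetLike.coe_subset_coe.mpr hQP) hc

theorem exists_max_ctl_aux [Finite G] (P : Subgroup G) : ∀ k : ℕ, ∀ Q : Subgroup G, Q ≤ P →
    Ctl P Q → Nat.card P - Nat.card Q = k →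
    ∃ Q' : Subgroup G, Q' ≤ P ∧ Ctl P Q' ∧
      ∀ T : Subgroup G, Q' ≤ T → T ≤ P → Ctl P T → T = Q' := by
  intro k
  induction k using Nat.strong_induction_on with
  | _ k ih =>
    intro Q hQP hctl hk
    by_cases hex : ∃ T : Subgroup G, Q ≤ T ∧ T ≤ P ∧ Ctl P T ∧ T ≠ Q
    · obtain ⟨T, hQT, hTP, hT, hne⟩ := hex
      have hlt : Nat.card Q < Nat.card T := by
        by_contra hcon
        exact hne (Subgroup.eq_of_le_of_card_ge hQT (not_lt.mp hcon)).symm
      have hle : Nat.card T ≤ Nat.card P := Subgroup.card_le_of_le hTP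
      exact ih (Nat.card P - Nat.card T) (by omega) T hTP hT rfl
    · refine ⟨Q, hQP, hctl, ?_⟩
      intro T hQT hTP hT
      by_contra hne
      exact hex ⟨T, hQT, hTP, hT, hne⟩

end basic

variable {G : Type u} [Group G] [Finite G] {p : ℕ} [Fact p.Prime]

theorem ctl_step (hp : p ≠ 2) (P : Sylow p G) (hsec : SecNPS p G) (Q : Subgroup G)
    (hQP : Q ≤ (P : Subgroup G)) (hctl : Ctl (P : Subgroup G) Q) :
    ∃ V : Subgroup G, Q ≤ V ∧ V ≤ (P : Subgroup G) ∧ Ctl (P : Subgroup G) V ∧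
      (V = Q → (P : Subgroup G) ⊓ Subgroup.centralizer (Q : Set G) ≤ Q) := by
  classical
  have hPN := hctl.le_normalizer hQP
  obtain ⟨L, hLdef⟩ : ∃ L : Subgroup G, L = Subgroup.normalizer (Q : Set G) := ⟨_, rfl⟩
  rw [← hLdef] at hPN
  have hQL : Q ≤ L := hQP.trans hPN
  haveI hQLn : (Q.subgroupOf L).Normal := by
    rw [hLdef]; exact Subgroup.normal_in_normalizer
  have hsecL : SecNPS p ↥L := hsec.subgroup L
  have hPLcoe : ((P.subtype hPN : Sylow p ↥L) : Subgroup ↥L) = (P : Subgroup G).subgroupOf L :=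
    Sylow.coe_subtype P hPN
  have hQPL : Q.subgroupOf L ≤ ((P.subtype hPN : Sylow p ↥L) : Subgroup ↥L) := by
    rw [hPLcoe]
    intro x hx
    exact hQP hx
  obtain ⟨VL, hVLdef⟩ : ∃ VL : Subgroup ↥L,
      VL = VSub ((P.subtype hPN : Sylow p ↥L) : Subgroup ↥L) (Q.subgroupOf L) := ⟨_, rfl⟩
  have hQVL : Q.subgroupOf L ≤ VL := by rw [hVLdef]; exact le_VSub _ _
  have hVLP : VL ≤ ((P.subtype hPN : Sylow p ↥L) : Subgroup ↥L) := by
    rw [hVLdef]; exact VSub_le (p := p) _ _ hQPL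
  have hnc := normal_case hp (P.subtype hPN) (Q.subgroupOf L) hQPL hsecL
  rw [← hVLdef] at hnc
  refine ⟨VL.map L.subtype, ?_, ?_, ?_, ?_⟩
  · intro x hx
    exact ⟨⟨x, hQL hx⟩, hQVL (Subgroup.mem_subgroupOf.mpr hx), rfl⟩
  · rintro _ ⟨y, hy, rfl⟩
    have := hVLP hy
    rw [hPLcoe] at this
    exact this
  · intro A hAP g hg
    obtain ⟨h, hh, c, hc, rfl⟩ := hctl A hAP g hg
    have hhL : h ∈ L := by rw [hLdef]; exact hh
    have hALP : A.subgroupOf L ≤ ((P.subtype hPN : Sylow p ↥L) : Subgroup ↥L) := by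
      rw [hPLcoe]
      intro x hx
      exact hAP hx
    have hcj : cj (⟨h, hhL⟩ : ↥L) (A.subgroupOf L) ≤
        ((P.subtype hPN : Sylow p ↥L) : Subgroup ↥L) := by
      rw [hPLcoe]
      intro y hy
      rw [mem_cj] at hy
      have ha : h⁻¹ * (y : G) * h ∈ A := hy
      have hcomm := Subgroup.mem_centralizer_iff.mp hc _ ha
      have e : (h * c)⁻¹ * (y : G) * (h * c) = h⁻¹ * (y : G) * h := by
        calc (h * c)⁻¹ * (y : G) * (h * c) = c⁻¹ * ((h⁻¹ * (y : G) * h) * c) := by group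
          _ = c⁻¹ * (c * (h⁻¹ * (y : G) * h)) := by rw [hcomm]
          _ = h⁻¹ * (y : G) * h := by group
      have : (y : G) ∈ cj (h * c) A := by rw [mem_cj, e]; exact ha
      exact hg this
    obtain ⟨h₁, hh₁, c₁, hc₁, heq⟩ := hnc (A.subgroupOf L) hALP ⟨h, hhL⟩ hcj
    have heq' : h = (h₁ : G) * (c₁ : G) := by
      have := congrArg Subtype.val heq
      simpa using this
    refine ⟨(h₁ : G), ?_, (c₁ : G) * c, mul_mem ?_ hc, ?_⟩
    · exact Subgroup.le_normalizer_map L.subtype ⟨h₁, hh₁, rfl⟩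
    · rw [Subgroup.mem_centralizer_iff]
      intro a ha
      have haL : a ∈ L := hPN (hAP ha)
      have := Subgroup.mem_centralizer_iff.mp hc₁ ⟨a, haL⟩ (Subgroup.mem_subgroupOf.mpr ha)
      have h2 := congrArg Subtype.val this
      simpa using h2
    · rw [heq', mul_assoc]
  · intro hVQ
    have hVL : VL = Q.subgroupOf L := by
      apply Subgroup.map_injective L.subtype_injective
      rw [hVQ, Subgroup.map_subgroupOf_eq_of_le hQL]
    rw [hVLdef] at hVL
    have hPLp : IsPGroup p ((P.subtype hPN : Sylow p ↥L) : Subgroup ↥L) :=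
      (P.subtype hPN).isPGroup'
    have key := inf_centralizer_le_of_VSub_eq (p := p) _ _ hPLp hVL
    intro x hx
    have hxL : x ∈ L := hPN hx.1
    have h1 : (⟨x, hxL⟩ : ↥L) ∈ ((P.subtype hPN : Sylow p ↥L) : Subgroup ↥L) ⊓
        Subgroup.centralizer ((Q.subgroupOf L : Subgroup ↥L) : Set ↥L) := by
      refine Subgroup.mem_inf.mpr ⟨?_, ?_⟩
      · rw [hPLcoe]; exact hx.1
      · rw [Subgroup.mem_centralizer_iff]
        intro y hy
        apply Subtype.ext
        have := Subgroup.mem_centralizer_iff.mp hx.2 (y : G) hy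
        simpa using this
    exact key h1

theorem exists_max_ctl (hp : p ≠ 2) (P : Sylow p G) (hsec : SecNPS p G) :
    ∃ Q : Subgroup G, Q ≤ (P : Subgroup G) ∧ Ctl (P : Subgroup G) Q ∧
      (P : Subgroup G) ⊓ Subgroup.centralizer (Q : Set G) ≤ Q ∧
      ∀ T : Subgroup G, Q ≤ T → T ≤ (P : Subgroup G) → Ctl (P : Subgroup G) T → T = Q := by
  obtain ⟨Q, hQP, hctl, hmax⟩ := exists_max_ctl_aux (P : Subgroup G) _ ⊥ bot_le (ctl_bot _) rfl
  refine ⟨Q, hQP, hctl, ?_, hmax⟩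
  obtain ⟨V, hQV, hVP, hV, hcen⟩ := ctl_step hp P hsec Q hQP hctl
  exact hcen (hmax V hQV hVP hV)

/-- `P ∩ C_G(Q)` is a Sylow subgroup of `C_G(Q)` when `P ≤ N_G(Q)`. -/
theorem isSylowSub_inf_centralizer (P : Sylow p G) (Q : Subgroup G)
    (hPN : (P : Subgroup G) ≤ Subgroup.normalizer (Q : Set G)) :
    IsSylowSub p ((P : Subgroup G) ⊓ Subgroup.centralizer (Q : Set G))
      (Subgroup.centralizer (Q : Set G)) := by
  have h1 : IsSylowSub p (P : Subgroup G) (Subgroup.normalizer (Q : Set G)) :=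
    isSylowSub_of_not_dvd_relIndex hPN P.isPGroup' (not_dvd_relIndex_sylow P hPN)
  exact isSylowSub_inf_of_normalized h1 hPN (Subgroup.centralizer_le_normalizer _)
    (normalizer_le_normalizer_centralizer Q)

theorem centric_of_max (P : Sylow p G) (Q : Subgroup G) (hQP : Q ≤ (P : Subgroup G))
    (hPN : (P : Subgroup G) ≤ Subgroup.normalizer (Q : Set G))
    (hcen : (P : Subgroup G) ⊓ Subgroup.centralizer (Q : Set G) ≤ Q) :
    ∃ R : Sylow p ↥(Subgroup.centralizer (Q : Set G)),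
      (R : Subgroup ↥(Subgroup.centralizer (Q : Set G))).map
        (Subgroup.centralizer (Q : Set G)).subtype = Q ⊓ Subgroup.centralizer (Q : Set G) := by
  obtain ⟨R, hR⟩ := isSylowSub_inf_centralizer P Q hPN
  refine ⟨R, ?_⟩
  rw [hR, Subgroup.map_subgroupOf_eq_of_le inf_le_right]
  exact le_antisymm (le_inf hcen inf_le_right) (inf_le_inf_right _ hQP)

end Cfsg.Agent.Lib.Helper11.SLC
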