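import Mathlib
import Cfsg.Agent.Lib.Helper11.SL7
import Cfsg.Agent.Lib.Helper17.OrbitIndex

/-!
# The maximal controlling subgroup is radical and least (helper11)
-/

set_option autoImplicit false

universe u

namespace Cfsg.Agent.Lib.Helper11.SLC

open Cfsg Cfsg.Agent.Lib.Helper29 Cfsg.Agent.Lib.Helper1 Cfsg.Agent.Lib.Helper2
open Cfsg.Agent.Lib.Helper11.AG Cfsg.Agent.Lib.Helper11.PAG
open Cfsg.Agent.Lib.Helper11.SFS (not_dvd_relIndex_sylow)

variable {G : Type*} [Group G] [Finite G] {p : ℕ} [Fact p.Prime]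

theorem radical_of_max (P : Sylow p G) (Q : Subgroup G) (hQP : Q ≤ (P : Subgroup G))
    (hctl : Ctl (P : Subgroup G) Q)
    (hcen : (P : Subgroup G) ⊓ Subgroup.centralizer (Q : Set G) ≤ Q)
    (hmax : ∀ T : Subgroup G, Q ≤ T → T ≤ (P : Subgroup G) → Ctl (P : Subgroup G) T → T = Q) :
    ∀ X : Subgroup G, X ≤ Subgroup.normalizer (Q : Set G) →
      (∀ n ∈ Subgroup.normalizer (Q : Set G), cj n X = X) →
      Q ⊔ Subgroup.centralizer (Q : Set G) ≤ X →
      (∃ k : ℕ, (Q ⊔ Subgroup.centralizer (Q : Set G)).relIndex X = p ^ k) →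
      X = Q ⊔ Subgroup.centralizer (Q : Set G) := by
  classical
  intro X hXL hXinv hQCX hk
  obtain ⟨k, hk⟩ := hk
  have hPL := hctl.le_normalizer hQP
  have hLC := normalizer_le_normalizer_centralizer Q
  have hCL : Subgroup.centralizer (Q : Set G) ≤ Subgroup.normalizer (Q : Set G) :=
    Subgroup.centralizer_le_normalizer _
  obtain ⟨L, hLdef⟩ : ∃ L : Subgroup G, L = Subgroup.normalizer (Q : Set G) := ⟨_, rfl⟩
  obtain ⟨C, hCdef⟩ : ∃ C : Subgroup G, C = Subgroup.centralizer (Q : Set G) := ⟨_, rfl⟩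
  rw [← hLdef] at hPL hXL hXinv hLC hCL
  rw [← hCdef] at hcen hQCX hk hLC hCL ⊢
  have hLQ : L ≤ Subgroup.normalizer (Q : Set G) := le_of_eq hLdef
  have hLX : L ≤ Subgroup.normalizer (X : Set G) :=
    fun n hn => mem_normalizer_of_cj_eq (hXinv n hn)
  have hPsyl : IsSylowSub p (P : Subgroup G) L :=
    isSylowSub_of_not_dvd_relIndex hPL P.isPGroup' (not_dvd_relIndex_sylow P hPL)
  have hTsyl : IsSylowSub p ((P : Subgroup G) ⊓ X) X :=
    isSylowSub_inf_of_normalized hPsyl hPL hXL hLX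
  have hQT : Q ≤ (P : Subgroup G) ⊓ X := le_inf hQP (le_sup_left.trans hQCX)
  have hXnormQC : X ≤ Subgroup.normalizer ((Q ⊔ C : Subgroup G) : Set G) :=
    hXL.trans (le_normalizer_sup hLQ hLC)
  have hpow : ∀ d ∈ X, ∃ a : ℕ, d ^ (p ^ a) ∈ Q ⊔ C := by
    intro d hd
    refine ⟨k, ?_⟩
    haveI : ((Q ⊔ C).subgroupOf X).Normal :=
      Subgroup.normal_subgroupOf_of_le_normalizer hXnormQC
    have h1 := Subgroup.pow_index_mem ((Q ⊔ C).subgroupOf X) (⟨d, hd⟩ : ↥X)
    have e : ((Q ⊔ C).subgroupOf X).index = p ^ k := hk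
    rw [e, Subgroup.mem_subgroupOf, Subgroup.coe_pow] at h1
    exact h1
  have hcover : X ≤ ((P : Subgroup G) ⊓ X) ⊔ ((Q ⊔ C) ⊓ X) :=
    le_sup_of_pow_mem hTsyl inf_le_right hXnormQC hpow
  have hX_le : X ≤ ((P : Subgroup G) ⊓ X) ⊔ (Q ⊔ C) :=
    hcover.trans (sup_le_sup_left inf_le_left _)
  -- control by the normalizer of `T = P ∩ X`
  have hctlT : Ctl (P : Subgroup G) ((P : Subgroup G) ⊓ X) := by
    intro A hAP g hg
    obtain ⟨h, hh, c, hc, rfl⟩ := hctl A hAP g hg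
    have hhL : h ∈ L := by rw [hLdef]; exact hh
    have hK'L : opp p L ≤ L := opp_le p L
    have hLK' : L ≤ Subgroup.normalizer ((opp p L : Subgroup G) : Set G) := le_normalizer_opp p L
    have hcentral : (P : Subgroup G) ⊓ C ≤ Subgroup.centralizer (C : Set G) := by
      intro x hx
      rw [Subgroup.mem_centralizer_iff]
      intro y hy
      have hxQ : x ∈ Q := hcen hx
      have hy' : y ∈ Subgroup.centralizer (Q : Set G) := hCdef ▸ hy
      exact (Subgroup.mem_centralizer_iff.mp hy' x hxQ).symm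
    have hC_le : C ≤ ((P : Subgroup G) ⊓ C) ⊔ opp p L :=
      le_sup_opp_of_central hPsyl hPL hCL hLC hcentral
    have hQC_le : Q ⊔ C ≤ ((P : Subgroup G) ⊓ X) ⊔ opp p L :=
      sup_le (hQT.trans le_sup_left) (hC_le.trans (sup_le_sup_right (hcen.trans hQT) _))
    have hXTK : X ≤ ((P : Subgroup G) ⊓ X) ⊔ opp p L :=
      hX_le.trans (sup_le le_sup_left hQC_le)
    have hBP : cj h A ≤ (P : Subgroup G) := by
      have : cj (h * c) A = cj h A := by
        rw [← cj_cj, cj_eq_of_mem_centralizer_of_le hc le_rfl]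
      rw [← this]; exact hg
    obtain ⟨S₁, hS₁def⟩ : ∃ S₁ : Subgroup G, S₁ = cj h A ⊔ ((P : Subgroup G) ⊓ X) := ⟨_, rfl⟩
    have hBS₁ : cj h A ≤ S₁ := by rw [hS₁def]; exact le_sup_left
    have hTS₁ : (P : Subgroup G) ⊓ X ≤ S₁ := by rw [hS₁def]; exact le_sup_right
    have hS₁P : S₁ ≤ (P : Subgroup G) := by rw [hS₁def]; exact sup_le hBP inf_le_left
    have hS₁p : IsPGroup p S₁ := P.isPGroup'.to_le hS₁P
    have hS₁L : S₁ ≤ L := hS₁P.trans hPL
    have hS₁K' : S₁ ≤ Subgroup.normalizer ((opp p L : Subgroup G) : Set G) := hS₁L.trans hLK'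
    have hS₁syl : IsSylowSub p S₁ (opp p L ⊔ S₁) := by
      apply isSylowSub_of_not_dvd_relIndex le_sup_right hS₁p
      rw [Cfsg.Agent.Lib.Helper17.relIndex_sup_of_le_normalizer (opp p L) S₁ hS₁K']
      intro hd
      have h1 : p ∣ Nat.card (opp p L) := hd.trans (Subgroup.relIndex_dvd_card _ _)
      have h2 := opp_coprime p L
      exact (Nat.Prime.coprime_iff_not_dvd Fact.out).mp h2.symm h1
    have hcjT_X : cj h ((P : Subgroup G) ⊓ X) ≤ X := by
      have : cj h X = X := hXinv h hhL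
      exact (cj_mono (inf_le_right : (P : Subgroup G) ⊓ X ≤ X)).trans (le_of_eq this)
    have hR_le : cj h A ⊔ cj h ((P : Subgroup G) ⊓ X) ≤ opp p L ⊔ S₁ :=
      sup_le (hBS₁.trans le_sup_right)
        (hcjT_X.trans (hXTK.trans (sup_le (hTS₁.trans le_sup_right) le_sup_left)))
    have hRp : IsPGroup p (cj h A ⊔ cj h ((P : Subgroup G) ⊓ X) : Subgroup G) := by
      rw [← cj_sup]
      exact isPGroup_cj (P.isPGroup'.to_le (sup_le hAP inf_le_left))
    obtain ⟨m, hm, hmle⟩ := exists_cj_le_of_isSylowSub hS₁syl hR_le hRp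
    have hm' : m ∈ S₁ ⊔ opp p L := by rw [sup_comm]; exact hm
    obtain ⟨s, hs, k', hk', rfl⟩ := mem_sup_of_le_normalizer hS₁K' hm'
    have hk'R : cj k' (cj h A ⊔ cj h ((P : Subgroup G) ⊓ X)) ≤ S₁ := by
      have h1 : cj s (cj k' (cj h A ⊔ cj h ((P : Subgroup G) ⊓ X))) ≤ S₁ := by
        rw [cj_cj]; exact hmle
      rw [cj_le_iff] at h1
      rwa [cj_eq_of_mem_normalizer (Subgroup.le_normalizer (inv_mem hs))] at h1
    have hk'L : k' ∈ L := hK'L hk'
    have hk'B : k' ∈ Subgroup.centralizer ((cj h A : Subgroup G) : Set G) := by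
      rw [Subgroup.mem_centralizer_iff]
      intro b hb
      have h1 : k' * b * k'⁻¹ ∈ S₁ := hk'R (conj_mem_cj (Subgroup.mem_sup_left hb))
      have h2 : k' * b * k'⁻¹ * b⁻¹ ∈ (P : Subgroup G) :=
        mul_mem (hS₁P h1) (inv_mem (hBP hb))
      have h3 : k' * b * k'⁻¹ * b⁻¹ ∈ opp p L := by
        have hbL : b ∈ L := hPL (hBP hb)
        have : b * k'⁻¹ * b⁻¹ ∈ opp p L :=
          (Subgroup.mem_normalizer_iff.mp (hLK' hbL) k'⁻¹).mp (inv_mem hk')
        have e : k' * b * k'⁻¹ * b⁻¹ = k' * (b * k'⁻¹ * b⁻¹) := by group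
        rw [e]; exact mul_mem hk' this
      have h4 : k' * b * k'⁻¹ * b⁻¹ ∈ opp p L ⊓ (P : Subgroup G) := Subgroup.mem_inf.mpr ⟨h3, h2⟩
      rw [opp_inf_eq_bot P.isPGroup' L, Subgroup.mem_bot] at h4
      have : k' * b = b * k' := by
        calc k' * b = (k' * b * k'⁻¹ * b⁻¹) * (b * k') := by group
          _ = b * k' := by rw [h4, one_mul]
      exact this.symm
    have hkhT : cj (k' * h) ((P : Subgroup G) ⊓ X) ≤ (P : Subgroup G) ⊓ X := by
      rw [← cj_cj]
      refine le_inf ?_ ?_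
      · exact ((cj_mono le_sup_right).trans hk'R).trans hS₁P
      · have : cj k' X = X := hXinv k' hk'L
        exact (cj_mono hcjT_X).trans (le_of_eq this)
    have hkhN : k' * h ∈ Subgroup.normalizer (((P : Subgroup G) ⊓ X : Subgroup G) : Set G) := by
      apply mem_normalizer_of_cj_eq
      exact Subgroup.eq_of_le_of_card_ge hkhT (by rw [card_cj])
    refine ⟨k' * h, hkhN, (h⁻¹ * k'⁻¹ * h) * c, mul_mem ?_ hc, by group⟩
    rw [Subgroup.mem_centralizer_iff]
    intro a ha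
    have hb : h * a * h⁻¹ ∈ cj h A := conj_mem_cj ha
    have := Subgroup.mem_centralizer_iff.mp hk'B _ hb
    calc a * (h⁻¹ * k'⁻¹ * h) = h⁻¹ * k'⁻¹ * (k' * (h * a * h⁻¹)) * k'⁻¹ * h := by group
      _ = h⁻¹ * k'⁻¹ * ((h * a * h⁻¹) * k') * k'⁻¹ * h := by rw [this]
      _ = h⁻¹ * k'⁻¹ * h * a := by group
  have hTQ : (P : Subgroup G) ⊓ X = Q := hmax _ hQT inf_le_left hctlT
  rw [hTQ] at hX_le
  exact le_antisymm (hX_le.trans (sup_le le_sup_left le_rfl)) hQCX

theorem least_of_ctl (P : Sylow p G) (Q : Subgroup G) (hQP : Q ≤ (P : Subgroup G))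
    (hctl : Ctl (P : Subgroup G) Q) (R : Subgroup G) (hRP : R ≤ (P : Subgroup G))
    (hRcen : ∃ Rs : Sylow p ↥(Subgroup.centralizer (R : Set G)),
      (Rs : Subgroup ↥(Subgroup.centralizer (R : Set G))).map
        (Subgroup.centralizer (R : Set G)).subtype = R ⊓ Subgroup.centralizer (R : Set G))
    (hRrad : ∀ X : Subgroup G, X ≤ Subgroup.normalizer (R : Set G) →
      (∀ n ∈ Subgroup.normalizer (R : Set G), cj n X = X) →
      R ⊔ Subgroup.centralizer (R : Set G) ≤ X →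
      (∃ k : ℕ, (R ⊔ Subgroup.centralizer (R : Set G)).relIndex X = p ^ k) →
      X = R ⊔ Subgroup.centralizer (R : Set G)) :
    Q ≤ R := by
  classical
  by_contra hQR
  have hPNQ := hctl.le_normalizer hQP
  have hlt : R < R ⊔ Q := lt_of_le_of_ne le_sup_left (fun heq => hQR (le_sup_right.trans heq.ge))
  have hRQP : R ⊔ Q ≤ (P : Subgroup G) := sup_le hRP hQP
  have h1 := Cfsg.Agent.Lib.Helper1.lt_inf_normalizer_of_lt (P.isPGroup'.to_le hRQP) hlt
  obtain ⟨U', hU'def⟩ : ∃ U' : Subgroup G,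
      U' = (R ⊔ Q) ⊓ Subgroup.normalizer (R : Set G) := ⟨_, rfl⟩
  rw [← hU'def] at h1
  have hU'N : U' ≤ Subgroup.normalizer (R : Set G) := by rw [hU'def]; exact inf_le_right
  have hU'P : U' ≤ (P : Subgroup G) := by rw [hU'def]; exact inf_le_left.trans hRQP
  have hU'p : IsPGroup p U' := P.isPGroup'.to_le hU'P
  have hNC := normalizer_le_normalizer_centralizer R
  have hCN : Subgroup.centralizer (R : Set G) ≤ Subgroup.normalizer (R : Set G) :=
    Subgroup.centralizer_le_normalizer _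
  obtain ⟨CR, hCRdef⟩ : ∃ CR : Subgroup G, CR = Subgroup.centralizer (R : Set G) := ⟨_, rfl⟩
  rw [← hCRdef] at hNC hCN hRrad
  have hXN : U' ⊔ CR ≤ Subgroup.normalizer (R : Set G) := sup_le hU'N hCN
  have hXinv : ∀ n ∈ Subgroup.normalizer (R : Set G), cj n (U' ⊔ CR) = U' ⊔ CR := by
    intro n hn
    obtain ⟨h, hh, c, hc, rfl⟩ := hctl R hRP n (by rw [cj_eq_of_mem_normalizer hn]; exact hRP)
    have hc' : c ∈ CR := by rw [hCRdef]; exact hc
    have hcN : c ∈ Subgroup.normalizer (R : Set G) := hCN hc'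
    have hhR : h ∈ Subgroup.normalizer (R : Set G) := by
      have : h = (h * c) * c⁻¹ := by group
      rw [this]; exact mul_mem hn (inv_mem hcN)
    rw [← cj_cj]
    have hcX : cj c (U' ⊔ CR) = U' ⊔ CR :=
      cj_eq_of_mem_normalizer (Subgroup.le_normalizer (Subgroup.mem_sup_right hc'))
    rw [hcX, cj_sup]
    have e1 : cj h U' = U' := by
      rw [hU'def, cj_inf, cj_sup, cj_eq_of_mem_normalizer hhR, cj_eq_of_mem_normalizer hh,
        cj_eq_of_mem_normalizer (Subgroup.le_normalizer hhR)]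
    have e2 : cj h CR = CR := cj_eq_of_mem_normalizer (hNC hhR)
    rw [e1, e2]
  have hRCX : R ⊔ CR ≤ U' ⊔ CR := sup_le (h1.le.trans le_sup_left) le_sup_right
  have hidx : ∃ k : ℕ, (R ⊔ CR).relIndex (U' ⊔ CR) = p ^ k := by
    have hm := Cfsg.Agent.Lib.Helper17.relIndex_mul_card_of_le hRCX
    have hprod := Cfsg.Agent.Lib.Helper17.card_sup_mul_card_inf_of_le_normalizer CR U'
      (hU'N.trans hNC)
    rw [sup_comm] at hprod
    obtain ⟨t, ht⟩ := Subgroup.card_dvd_of_le (le_sup_right : CR ≤ R ⊔ CR)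
    obtain ⟨a, ha⟩ := IsPGroup.iff_card.mp hU'p
    have hCpos : 0 < Nat.card CR := Nat.card_pos
    have hdvd : (R ⊔ CR).relIndex (U' ⊔ CR) ∣ Nat.card U' := by
      have h2 : Nat.card CR * ((R ⊔ CR).relIndex (U' ⊔ CR) * t) ∣ Nat.card CR * Nat.card U' := by
        rw [← hprod]
        refine Dvd.intro (Nat.card (CR ⊓ U' : Subgroup G)) ?_
        rw [← hm, ht]; ring
      have h3 := Nat.dvd_of_mul_dvd_mul_left hCpos h2
      exact (Dvd.intro _ rfl).trans h3
    rw [ha] at hdvd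
    obtain ⟨k, -, hk⟩ := (Nat.dvd_prime_pow Fact.out).mp hdvd
    exact ⟨k, hk⟩
  have hXeq := hRrad (U' ⊔ CR) hXN hXinv hRCX hidx
  obtain ⟨y, hyU', hyR⟩ := SetLike.exists_of_lt h1
  have hyX : y ∈ R ⊔ CR := by rw [← hXeq]; exact Subgroup.mem_sup_left hyU'
  obtain ⟨r, hr, c, hc, rfl⟩ := mem_sup_of_le_normalizer (Subgroup.le_normalizer.trans hNC) hyX
  have hcU' : c ∈ U' := by
    have : c = r⁻¹ * (r * c) := by group
    rw [this]; exact mul_mem (inv_mem (h1.le hr)) hyU'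
  obtain ⟨Rs, hRs⟩ := hRcen
  have hCRc : Subgroup.centralizer (R : Set G) = CR := hCRdef.symm
  have hQ'p : IsPGroup p ((U' ⊓ Subgroup.centralizer (R : Set G)).subgroupOf
      (Subgroup.centralizer (R : Set G))) :=
    (hU'p.to_le inf_le_left).comap_of_injective (Subgroup.centralizer (R : Set G)).subtype
      (Subgroup.subtype_injective _)
  have hle : (Rs : Subgroup ↥(Subgroup.centralizer (R : Set G))) ≤
      (U' ⊓ Subgroup.centralizer (R : Set G)).subgroupOf (Subgroup.centralizer (R : Set G)) := by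
    intro x hx
    have hx' : (x : G) ∈ R ⊓ Subgroup.centralizer (R : Set G) := by
      rw [← hRs]; exact ⟨x, hx, rfl⟩
    exact Subgroup.mem_subgroupOf.mpr (Subgroup.mem_inf.mpr ⟨h1.le hx'.1, hx'.2⟩)
  have heq := Rs.is_maximal' hQ'p hle
  have hc2 : c ∈ Subgroup.centralizer (R : Set G) := hCRc ▸ hc
  have hcmem : (⟨c, hc2⟩ : ↥(Subgroup.centralizer (R : Set G))) ∈
      (U' ⊓ Subgroup.centralizer (R : Set G)).subgroupOf (Subgroup.centralizer (R : Set G)) :=
    Subgroup.mem_subgroupOf.mpr (Subgroup.mem_inf.mpr ⟨hcU', hc2⟩)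
  rw [heq] at hcmem
  have hcR : c ∈ R ⊓ Subgroup.centralizer (R : Set G) := by
    rw [← hRs]; exact ⟨⟨c, hc2⟩, hcmem, rfl⟩
  exact hyR (mul_mem hr hcR.1)

end Cfsg.Agent.Lib.Helper11.SLC
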