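import Mathlib
import Cfsg.Agent.Lib.Helper11.WeaklyClosed

/-!
# Groups with a self-centralising element of prime order

`x : G` of order `p` with `C_G(x) = ⟨x⟩`.  Basic facts: `⟨x⟩` is a Sylow `p`-subgroup, nontrivial
elements of `⟨x⟩` have centraliser `⟨x⟩`, fusion in `⟨x⟩` is controlled by `N_G(⟨x⟩)`, and the
number `t` of classes of elements of order `p` satisfies `t * |N_G(⟨x⟩) : ⟨x⟩| = p - 1`.
-/

namespace Cfsg.Agent.Lib.Helper11

open Subgroup
open scoped commutatorElement

section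

variable {G : Type*} [Group G]

theorem selfCent_zpowers_eq {p : ℕ} (hp : p.Prime) {x : G} (hx : orderOf x = p) {y : G}
    (hy : y ∈ zpowers x) (hy1 : y ≠ 1) : zpowers y = zpowers x := by
  haveI : Fact p.Prime := ⟨hp⟩
  have hcard : Nat.card (zpowers x) = p := by rw [Nat.card_zpowers, hx]
  have h1 : zpowers (⟨y, hy⟩ : zpowers x) = ⊤ :=
    zpowers_eq_top_of_prime_card hcard (fun h => hy1 (congrArg Subtype.val h))
  apply le_antisymm
  · rw [zpowers_le]; exact hy
  · intro z hz
    have : (⟨z, hz⟩ : zpowers x) ∈ zpowers (⟨y, hy⟩ : zpowers x) := h1 ▸ mem_top _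
    obtain ⟨k, hk⟩ := mem_zpowers_iff.1 this
    rw [mem_zpowers_iff]
    refine ⟨k, ?_⟩
    have := congrArg Subtype.val hk
    simpa using this

theorem selfCent_centralizer_eq {p : ℕ} (hp : p.Prime) {x : G} (hx : orderOf x = p)
    (hC : centralizer ({x} : Set G) = zpowers x) {y : G}
    (hy : y ∈ zpowers x) (hy1 : y ≠ 1) : centralizer ({y} : Set G) = zpowers x := by
  have hz := selfCent_zpowers_eq hp hx hy hy1
  rw [← hC]
  ext g
  simp only [mem_centralizer_iff, Set.mem_singleton_iff, forall_eq]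
  constructor
  · intro h
    have hx' : x ∈ zpowers y := hz ▸ mem_zpowers x
    obtain ⟨k, rfl⟩ := mem_zpowers_iff.1 hx'
    exact ((Commute.zpow_left (show Commute y g from h) k)).eq
  · intro h
    obtain ⟨k, rfl⟩ := mem_zpowers_iff.1 hy
    exact ((Commute.zpow_left (show Commute x g from h) k)).eq

/-- Fusion of nontrivial elements of `⟨x⟩` is controlled by the normaliser. -/
theorem selfCent_mem_normalizer {p : ℕ} (hp : p.Prime) {x : G} (hx : orderOf x = p) {y : G}
    (hy : y ∈ zpowers x) (hy1 : y ≠ 1) (g : G) (hg : g * y * g⁻¹ ∈ zpowers x) :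
    g ∈ normalizer (zpowers x : Set G) := by
  have h1 := selfCent_zpowers_eq hp hx hy hy1
  have hgy1 : g * y * g⁻¹ ≠ 1 := by
    intro h
    apply hy1
    have : y = g⁻¹ * (g * y * g⁻¹) * g := by group
    rw [this, h]; group
  have h2 := selfCent_zpowers_eq hp hx hg hgy1
  -- g ⟨y⟩ g⁻¹ = ⟨g y g⁻¹⟩
  have key : ∀ z, z ∈ zpowers x → g * z * g⁻¹ ∈ zpowers x := by
    intro z hz
    rw [← h1] at hz
    obtain ⟨k, rfl⟩ := mem_zpowers_iff.1 hz
    rw [← h2, mem_zpowers_iff]
    refine ⟨k, ?_⟩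
    rw [← MulAut.conj_apply, ← MulAut.conj_apply, map_zpow]
  have hfin : Finite (zpowers x) := by
    exact Nat.finite_of_card_ne_zero (by rw [Nat.card_zpowers, hx]; exact hp.ne_zero)
  rw [mem_normalizer_iff]
  intro z
  constructor
  · exact key z
  · intro hz
    -- conjugation by g is an injective self-map of the finite set ⟨x⟩, hence surjective
    let f : zpowers x → zpowers x := fun z => ⟨g * z * g⁻¹, key z z.2⟩
    have hinj : Function.Injective f := by
      intro a b hab
      have := congrArg Subtype.val hab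
      simp only [f] at this
      apply Subtype.ext
      have h3 : g⁻¹ * (g * a * g⁻¹) * g = g⁻¹ * (g * b * g⁻¹) * g := by rw [this]
      simpa [mul_assoc] using h3
    obtain ⟨w, hw⟩ := (Finite.injective_iff_surjective.1 hinj) ⟨g * z * g⁻¹, hz⟩
    have := congrArg Subtype.val hw
    simp only [f] at this
    have h3 : (w : G) = z := by
      have h4 : g⁻¹ * (g * w * g⁻¹) * g = g⁻¹ * (g * z * g⁻¹) * g := by rw [this]
      simpa [mul_assoc] using h4
    rw [← h3]
    exact w.2

/-- Size of the orbit of `y0` under conjugation by a subgroup `N`. -/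
theorem ncard_conj_orbit (N : Subgroup G) (y0 : G) :
    Set.ncard {y : G | ∃ n ∈ N, n * y0 * n⁻¹ = y} =
      ((centralizer ({y0} : Set G)).subgroupOf N).index := by
  let act : MulAction N G := MulAction.compHom G ((MulAut.conj : G →* MulAut G).comp N.subtype)
  have h := @MulAction.index_stabilizer N G _ act y0
  have h1 : @MulAction.stabilizer N G _ act y0 = (centralizer ({y0} : Set G)).subgroupOf N := by
    ext n
    rw [@MulAction.mem_stabilizer_iff N G _ act, mem_subgroupOf, mem_centralizer_iff]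
    change (n : G) * y0 * (n : G)⁻¹ = y0 ↔ _
    simp only [Set.mem_singleton_iff, forall_eq]
    constructor
    · intro h
      have : y0 * (n : G) = (n : G) * y0 * (n : G)⁻¹ * (n : G) := by rw [h]
      rw [this]; group
    · intro h
      rw [← h]; group
  have h2 : @MulAction.orbit N G act.toSMul y0 = {y | ∃ n ∈ N, n * y0 * n⁻¹ = y} := by
    ext y
    constructor
    · rintro ⟨n, rfl⟩
      exact ⟨n.1, n.2, rfl⟩
    · rintro ⟨n, hn, rfl⟩
      exact ⟨⟨n, hn⟩, rfl⟩
  rw [← h2, ← h1, h]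

theorem selfCent_exists_sylow [Finite G] {p : ℕ} [Fact p.Prime] {x : G} (hx : orderOf x = p)
    (hC : centralizer ({x} : Set G) = zpowers x) :
    ∃ P : Sylow p G, (P : Subgroup G) = zpowers x := by
  have hp : p.Prime := Fact.out
  have hcard : Nat.card (zpowers x) = p := by rw [Nat.card_zpowers, hx]
  have hPG : IsPGroup p (zpowers x) := IsPGroup.of_card (n := 1) (by rw [hcard, pow_one])
  obtain ⟨Q, hQ⟩ := hPG.exists_le_sylow
  refine ⟨Q, le_antisymm ?_ hQ⟩
  have hxQ : x ∈ (Q : Subgroup G) := hQ (mem_zpowers x)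
  have hx1 : x ≠ 1 := by
    intro h
    rw [h, orderOf_one] at hx
    exact hp.one_lt.ne hx
  haveI : Nontrivial (Q : Subgroup G) :=
    ⟨⟨⟨x, hxQ⟩, 1, fun h => hx1 (congrArg Subtype.val h)⟩⟩
  haveI := Q.2.center_nontrivial
  obtain ⟨z, hz1⟩ := exists_ne (1 : center (Q : Subgroup G))
  have hzc : ∀ q : (Q : Subgroup G), q * z.1 = z.1 * q := fun q => (mem_center_iff.1 z.2 q)
  have hzx : ((z : (Q : Subgroup G)) : G) ∈ zpowers x := by
    rw [← hC, mem_centralizer_iff]
    intro w hw
    rw [Set.mem_singleton_iff.1 hw]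
    have := hzc ⟨x, hxQ⟩
    exact congrArg Subtype.val this
  have hzne : ((z : (Q : Subgroup G)) : G) ≠ 1 := by
    intro h
    apply hz1
    apply Subtype.ext
    apply Subtype.ext
    exact h
  have hzz := selfCent_zpowers_eq hp hx hzx hzne
  have hxz : x ∈ zpowers ((z : (Q : Subgroup G)) : G) := hzz ▸ mem_zpowers x
  obtain ⟨k, hk⟩ := mem_zpowers_iff.1 hxz
  intro q hq
  rw [← hC, mem_centralizer_iff]
  intro w hw
  rw [Set.mem_singleton_iff.1 hw]
  have h1 : (⟨q, hq⟩ : (Q : Subgroup G)) * z.1 = z.1 * ⟨q, hq⟩ := hzc _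
  have h2 : Commute ((z : (Q : Subgroup G)) : G) q := (congrArg Subtype.val h1).symm
  rw [← hk]
  exact (h2.zpow_left k).eq

/-- Every element of `p`-power order is conjugate into `⟨x⟩`. -/
theorem selfCent_exists_conj_mem [Finite G] {p : ℕ} [Fact p.Prime] {x : G} (hx : orderOf x = p)
    (hC : centralizer ({x} : Set G) = zpowers x) (g : G) (k : ℕ) (hg : g ^ p ^ k = 1) :
    ∃ h : G, h * g * h⁻¹ ∈ zpowers x := by
  obtain ⟨P, hP⟩ := selfCent_exists_sylow hx hC
  have hgP : IsPGroup p (zpowers g) := by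
    rw [IsPGroup.iff_orderOf]
    rintro ⟨y, hy⟩
    obtain ⟨m, rfl⟩ := mem_zpowers_iff.1 hy
    have h1 : orderOf (g ^ m) ∣ p ^ k := by
      apply orderOf_dvd_of_pow_eq_one
      rw [← zpow_natCast, ← zpow_mul, mul_comm, zpow_mul, zpow_natCast, hg, one_zpow]
    obtain ⟨j, -, hj⟩ := (Nat.dvd_prime_pow Fact.out).1 h1
    refine ⟨j, ?_⟩
    rw [Subgroup.orderOf_mk]
    exact hj
  obtain ⟨Q, hQ⟩ := hgP.exists_le_sylow
  obtain ⟨h, hh⟩ := MulAction.exists_smul_eq G Q P
  refine ⟨h, ?_⟩
  rw [← hP, ← hh]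
  rw [mem_smul_sylow_iff]
  have : h⁻¹ * (h * g * h⁻¹) * h = g := by group
  rw [this]
  exact hQ (mem_zpowers g)

/-- The number `t` of classes of elements of order `p` satisfies `t * |N_G(⟨x⟩) : ⟨x⟩| = p - 1`. -/
theorem selfCent_card_classes [Finite G] {p : ℕ} (hp : p.Prime) {x : G} (hx : orderOf x = p)
    (hC : centralizer ({x} : Set G) = zpowers x) :
    Nat.card {C : ConjClasses G // ∃ g ∈ C.carrier, orderOf g = p} *
      (zpowers x).relIndex (normalizer (zpowers x : Set G)) = p - 1 := by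
  classical
  haveI : Fact p.Prime := ⟨hp⟩
  have hPcard : Nat.card (zpowers x) = p := by rw [Nat.card_zpowers, hx]
  let X : Set G := (zpowers x : Set G) \ {1}
  have hXcard : Nat.card X = p - 1 := by
    rw [Nat.card_coe_set_eq, Set.ncard_diff_singleton_of_mem (one_mem (zpowers x))]
    congr 1
  have hXord : ∀ y ∈ X, orderOf y = p := by
    rintro y ⟨hy, hy1⟩
    have := selfCent_zpowers_eq hp hx hy hy1
    rw [← Nat.card_zpowers, this, hPcard]
  let φ : X → {C : ConjClasses G // ∃ g ∈ C.carrier, orderOf g = p} :=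
    fun y => ⟨ConjClasses.mk y.1, y.1, ConjClasses.mem_carrier_mk, hXord y.1 y.2⟩
  have hfiber : ∀ c : {C : ConjClasses G // ∃ g ∈ C.carrier, orderOf g = p},
      Nat.card {y : X // φ y = c} = (zpowers x).relIndex (normalizer (zpowers x : Set G)) := by
    rintro ⟨C, g, hgC, hgo⟩
    -- a representative in X
    obtain ⟨h, hh⟩ := selfCent_exists_conj_mem hx hC g 1 (by rw [pow_one, ← hgo, pow_orderOf_eq_one])
    have hg1 : g ≠ 1 := by
      intro h1
      rw [h1, orderOf_one] at hgo
      exact hp.one_lt.ne hgo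
    set y0 := h * g * h⁻¹ with hy0
    have hy01 : y0 ≠ 1 := by
      intro h1
      apply hg1
      have : g = h⁻¹ * y0 * h := by rw [hy0]; group
      rw [this, h1]; group
    have hCy0 : C = ConjClasses.mk y0 := by
      rw [ConjClasses.mem_carrier_iff_mk_eq] at hgC
      rw [← hgC, ConjClasses.mk_eq_mk_iff_isConj, isConj_iff]
      exact ⟨h, rfl⟩
    have hcent := selfCent_centralizer_eq hp hx hC hh hy01
    have hrel : (zpowers x).relIndex (normalizer (zpowers x : Set G)) =
        ((centralizer ({y0} : Set G)).subgroupOf (normalizer (zpowers x : Set G))).index := by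
      rw [relIndex, hcent]
    rw [hrel, ← ncard_conj_orbit, ← Nat.card_coe_set_eq]
    refine Nat.card_congr ⟨fun y => ⟨y.1.1, ?_⟩, fun z => ⟨⟨z.1, ?_⟩, ?_⟩, ?_, ?_⟩
    · -- y in fiber → y in N-orbit of y0
      have h1 : ConjClasses.mk y.1.1 = ConjClasses.mk y0 := (congrArg Subtype.val y.2).trans hCy0
      rw [ConjClasses.mk_eq_mk_iff_isConj, isConj_comm, isConj_iff] at h1
      obtain ⟨u, hu⟩ := h1
      refine ⟨u, ?_, hu⟩
      apply selfCent_mem_normalizer hp hx hh hy01
      rw [hu]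
      exact y.1.2.1
    · obtain ⟨n, hn, hz⟩ := z.2
      refine ⟨?_, ?_⟩
      · rw [← hz]
        exact ((mem_normalizer_iff.1 hn) y0).1 hh
      · rw [← hz]
        intro h1
        apply hy01
        have : y0 = n⁻¹ * (n * y0 * n⁻¹) * n := by group
        rw [this, h1]; group
    · obtain ⟨n, hn, hz⟩ := z.2
      apply Subtype.ext
      change ConjClasses.mk z.1 = C
      rw [hCy0, ConjClasses.mk_eq_mk_iff_isConj, isConj_comm, isConj_iff]
      exact ⟨n, hz⟩
    · intro y; rfl
    · intro z; rfl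
  haveI : Fintype {C : ConjClasses G // ∃ g ∈ C.carrier, orderOf g = p} := Fintype.ofFinite _
  calc Nat.card {C : ConjClasses G // ∃ g ∈ C.carrier, orderOf g = p} *
        (zpowers x).relIndex (normalizer (zpowers x : Set G))
      = ∑ _c : {C : ConjClasses G // ∃ g ∈ C.carrier, orderOf g = p},
          (zpowers x).relIndex (normalizer (zpowers x : Set G)) := by
        rw [Finset.sum_const, Finset.card_univ, smul_eq_mul, Nat.card_eq_fintype_card]
    _ = ∑ c : {C : ConjClasses G // ∃ g ∈ C.carrier, orderOf g = p},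
          Nat.card {y : X // φ y = c} := by
        apply Finset.sum_congr rfl
        intro c _
        rw [hfiber c]
    _ = Nat.card (Σ c : {C : ConjClasses G // ∃ g ∈ C.carrier, orderOf g = p},
          {y : X // φ y = c}) := Nat.card_sigma.symm
    _ = Nat.card X := Nat.card_congr (Equiv.sigmaFiberEquiv φ)
    _ = p - 1 := hXcard

/-- Frattini: a normal subgroup containing `x` supplements `N_G(⟨x⟩)`. -/
theorem selfCent_normalizer_sup_eq_top [Finite G] {p : ℕ} [Fact p.Prime] {x : G}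
    (hx : orderOf x = p) (hC : centralizer ({x} : Set G) = zpowers x) (S : Subgroup G) [S.Normal]
    (hxS : x ∈ S) : normalizer (zpowers x : Set G) ⊔ S = ⊤ := by
  obtain ⟨P, hP⟩ := selfCent_exists_sylow hx hC
  have hPS : (P : Subgroup G) ≤ S := by rw [hP, zpowers_le]; exact hxS
  have h := Sylow.normalizer_sup_eq_top' P hPS
  rw [← Sylow.coe_coe, hP] at h
  exact h

/-- The commutator of two elements of `N_G(⟨x⟩)` lies in `⟨x⟩`. -/
theorem selfCent_commutator_mem {p : ℕ} {x : G}
    (hC : centralizer ({x} : Set G) = zpowers x) (n m : G)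
    (hn : n ∈ normalizer (zpowers x : Set G)) (hm : m ∈ normalizer (zpowers x : Set G)) :
    n⁻¹ * m⁻¹ * n * m ∈ zpowers x := by
  have hn' : n * x * n⁻¹ ∈ zpowers x := ((mem_normalizer_iff.1 hn) x).1 (mem_zpowers x)
  have hm' : m * x * m⁻¹ ∈ zpowers x := ((mem_normalizer_iff.1 hm) x).1 (mem_zpowers x)
  obtain ⟨a, ha⟩ := mem_zpowers_iff.1 hn'
  obtain ⟨b, hb⟩ := mem_zpowers_iff.1 hm'
  have hconj : ∀ (u : G) (k : ℤ), u * x ^ k * u⁻¹ = (u * x * u⁻¹) ^ k := by
    intro u k
    rw [← MulAut.conj_apply, ← MulAut.conj_apply, map_zpow]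
  have h1 : (n * m) * x * (n * m)⁻¹ = x ^ (b * a) := by
    have : (n * m) * x * (n * m)⁻¹ = n * (m * x * m⁻¹) * n⁻¹ := by group
    rw [this, ← hb, hconj, ← ha, ← zpow_mul, mul_comm]
  have h2 : (m * n) * x * (m * n)⁻¹ = x ^ (b * a) := by
    have : (m * n) * x * (m * n)⁻¹ = m * (n * x * n⁻¹) * m⁻¹ := by group
    rw [this, ← ha, hconj, ← hb, ← zpow_mul]
  have h3 : (m * n) * x * (m * n)⁻¹ = (n * m) * x * (n * m)⁻¹ := by rw [h1, h2]
  have h5 : ((n * m)⁻¹ * (m * n)) * x = x * ((n * m)⁻¹ * (m * n)) := by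
    have e1 : (n * m)⁻¹ * (m * n) * x = (n * m)⁻¹ * ((m * n) * x * (m * n)⁻¹) * (m * n) := by group
    have e2 : x * ((n * m)⁻¹ * (m * n)) = (n * m)⁻¹ * ((n * m) * x * (n * m)⁻¹) * (m * n) := by
      group
    rw [e1, e2, h3]
  have h6 : n⁻¹ * m⁻¹ * n * m = ((m * n)⁻¹ * (n * m)) := by group
  -- swap roles: we proved it for (n m)⁻¹ (m n); the statement is the inverse
  have h7 : n⁻¹ * m⁻¹ * n * m = ((n * m)⁻¹ * (m * n))⁻¹ := by group
  rw [h7]
  apply inv_mem
  rw [← hC, mem_centralizer_iff]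
  intro w hw
  rw [Set.mem_singleton_iff.1 hw]
  exact h5.symm

/-- A normal subgroup containing `x` contains the commutator subgroup. -/
theorem selfCent_commutator_le [Finite G] {p : ℕ} [Fact p.Prime] {x : G}
    (hx : orderOf x = p) (hC : centralizer ({x} : Set G) = zpowers x) (S : Subgroup G) [S.Normal]
    (hxS : x ∈ S) : commutator G ≤ S := by
  have hp : p.Prime := Fact.out
  have htop := selfCent_normalizer_sup_eq_top hx hC S hxS
  have hrep : ∀ g : G, ∃ n ∈ normalizer (zpowers x : Set G),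
      (QuotientGroup.mk g : G ⧸ S) = QuotientGroup.mk n := by
    intro g
    have hg : g ∈ normalizer (zpowers x : Set G) ⊔ S := htop ▸ mem_top g
    rw [mem_sup_of_normal_right] at hg
    obtain ⟨n, hn, s, hs, rfl⟩ := hg
    refine ⟨n, hn, ?_⟩
    rw [QuotientGroup.mk_mul, (QuotientGroup.eq_one_iff s).2 hs, mul_one]
  rw [← Subgroup.Normal.quotient_commutative_iff_commutator_le]
  refine ⟨⟨fun a b => ?_⟩⟩
  obtain ⟨g, rfl⟩ := QuotientGroup.mk_surjective a
  obtain ⟨h, rfl⟩ := QuotientGroup.mk_surjective b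
  obtain ⟨n, hn, hgn⟩ := hrep g
  obtain ⟨m, hm, hhm⟩ := hrep h
  rw [hgn, hhm, ← QuotientGroup.mk_mul, ← QuotientGroup.mk_mul, QuotientGroup.eq]
  have h1 := selfCent_commutator_mem (p := p) hC m n hm hn
  have h2 : (n * m)⁻¹ * (m * n) = m⁻¹ * n⁻¹ * m * n := by group
  rw [h2]
  exact (zpowers_le.2 hxS) h1

/-- A normal subgroup containing `x` has index dividing `|N_G(⟨x⟩) : ⟨x⟩|`. -/
theorem selfCent_index_dvd [Finite G] {p : ℕ} [Fact p.Prime] {x : G}
    (hx : orderOf x = p) (hC : centralizer ({x} : Set G) = zpowers x) (S : Subgroup G) [S.Normal]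
    (hxS : x ∈ S) : S.index ∣ (zpowers x).relIndex (normalizer (zpowers x : Set G)) := by
  have htop := selfCent_normalizer_sup_eq_top hx hC S hxS
  have h1 : S.relIndex (normalizer (zpowers x : Set G) ⊔ S) =
      S.relIndex (normalizer (zpowers x : Set G)) := relIndex_sup_right _ _
  rw [htop, relIndex_top_right] at h1
  rw [h1]
  exact relIndex_dvd_of_le_left _ (zpowers_le.2 hxS)

/-- A normal `p'`-subgroup lies in the commutator subgroup: each of its elements is a commutator
with `x`. -/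
theorem selfCent_le_commutator_of_not_dvd [Finite G] {p : ℕ} (hp : p.Prime) {x : G}
    (hx : orderOf x = p) (hC : centralizer ({x} : Set G) = zpowers x) (K : Subgroup G)
    (hKn : K.Normal) (hKcard : ¬ p ∣ Nat.card K) : K ≤ commutator G := by
  have hKx : ∀ k ∈ K, k * x = x * k → k = 1 := by
    intro k hk hkx
    have hkP : k ∈ zpowers x := by
      rw [← hC, mem_centralizer_iff]
      intro w hw
      rw [Set.mem_singleton_iff.1 hw]
      exact hkx.symm
    have hord : orderOf k ∣ p := by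
      have := Subgroup.orderOf_dvd_natCard (zpowers x) hkP
      rwa [Nat.card_zpowers, hx] at this
    have hord' : orderOf k ∣ Nat.card K := Subgroup.orderOf_dvd_natCard K hk
    rcases (Nat.dvd_prime hp).1 hord with h1 | h1
    · exact orderOf_eq_one_iff.1 h1
    · exact absurd (h1 ▸ hord') hKcard
  let f : K → K := fun k =>
    ⟨(k : G)⁻¹ * (x * k * x⁻¹), K.mul_mem (K.inv_mem k.2) (hKn.conj_mem k k.2 x)⟩
  have hinj : Function.Injective f := by
    intro k l hkl
    have h1 : (k : G)⁻¹ * (x * k * x⁻¹) = (l : G)⁻¹ * (x * l * x⁻¹) := congrArg Subtype.val hkl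
    have h2 : ((l : G) * (k : G)⁻¹) * x = x * ((l : G) * (k : G)⁻¹) := by
      have e1 : ((l : G) * (k : G)⁻¹) * x =
          (l : G) * ((k : G)⁻¹ * (x * k * x⁻¹)) * (x * (k : G)⁻¹) := by group
      rw [e1, h1]; group
    have h3 := hKx ((l : G) * (k : G)⁻¹) (K.mul_mem l.2 (K.inv_mem k.2)) h2
    apply Subtype.ext
    have : (l : G) = (l : G) * (k : G)⁻¹ * k := by group
    rw [this, h3, one_mul]
  have hsurj := Finite.injective_iff_surjective.1 hinj
  intro k hk
  obtain ⟨l, hl⟩ := hsurj ⟨k, hk⟩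
  have h1 : (l : G)⁻¹ * (x * l * x⁻¹) = k := congrArg Subtype.val hl
  rw [← h1, _root_.commutator_def]
  have : (l : G)⁻¹ * (x * l * x⁻¹) = ⁅(l : G)⁻¹, x⁆ := by
    rw [commutatorElement_def]; group
  rw [this]
  exact commutator_mem_commutator (mem_top _) (mem_top _)

/-- If `N_G(⟨x⟩) ≰ ⟨x⟩` then `x` lies in the commutator subgroup. -/
theorem selfCent_mem_commutator {p : ℕ} (hp : p.Prime) {x : G}
    (hx : orderOf x = p) (hC : centralizer ({x} : Set G) = zpowers x)
    (hnle : ¬ normalizer (zpowers x : Set G) ≤ zpowers x) : x ∈ commutator G := by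
  obtain ⟨n, hnN, hnP⟩ := Set.not_subset.1 hnle
  have hnx : n * x * n⁻¹ ∈ zpowers x := ((mem_normalizer_iff.1 hnN) x).1 (mem_zpowers x)
  have hc : n * x * n⁻¹ * x⁻¹ ∈ zpowers x := mul_mem hnx (inv_mem (mem_zpowers x))
  have hc1 : n * x * n⁻¹ * x⁻¹ ≠ 1 := by
    intro h1
    apply hnP
    change n ∈ zpowers x
    rw [← hC, mem_centralizer_iff]
    intro w hw
    rw [Set.mem_singleton_iff.1 hw]
    have : n * x = n * x * n⁻¹ * x⁻¹ * (x * n) := by group
    rw [this, h1, one_mul]
  have hcG : n * x * n⁻¹ * x⁻¹ ∈ commutator G := by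
    rw [_root_.commutator_def]
    exact commutator_mem_commutator (mem_top n) (mem_top x)
  have h1 := selfCent_zpowers_eq hp hx hc hc1
  have h2 : x ∈ zpowers (n * x * n⁻¹ * x⁻¹) := h1 ▸ mem_zpowers x
  exact (zpowers_le.2 hcG) h2

/-- If `N_G(⟨x⟩) = ⟨x⟩`, the commutator subgroup is a normal `p`-complement of index `p`. -/
theorem selfCent_commutator_of_normalizer_le [Finite G] {p : ℕ} [Fact p.Prime] {x : G}
    (hx : orderOf x = p) (hC : centralizer ({x} : Set G) = zpowers x)
    (hle : normalizer (zpowers x : Set G) ≤ zpowers x) :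
    ¬ p ∣ Nat.card (commutator G) ∧ (commutator G).index = p := by
  have hp : p.Prime := Fact.out
  obtain ⟨P, hP⟩ := selfCent_exists_sylow hx hC
  have hPc : normalizer ((P : Subgroup G) : Set G) ≤ centralizer (P : Set G) := by
    rw [← Sylow.coe_coe, hP]
    intro n hn
    have hnP := hle hn
    rw [mem_centralizer_iff]
    intro w hw
    obtain ⟨a, rfl⟩ := mem_zpowers_iff.1 (show w ∈ zpowers x from hw)
    obtain ⟨b, rfl⟩ := mem_zpowers_iff.1 hnP
    rw [← zpow_add, ← zpow_add, add_comm]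
  have hK := MonoidHom.ker_transferSylow_isComplement' P hPc
  set K := (MonoidHom.transferSylow P hPc).ker with hKdef
  have hKn : K.Normal := inferInstance
  have hPcard : Nat.card (P : Subgroup G) = p := by rw [hP, Nat.card_zpowers, hx]
  have hKidx : K.index = p := by rw [hK.symm.index_eq_card, hPcard]
  have hKcard : ¬ p ∣ Nat.card K := by
    rw [← hK.index_eq_card]
    exact P.not_dvd_index
  have hGK : commutator G ≤ K := by
    rw [← Subgroup.Normal.quotient_commutative_iff_commutator_le]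
    have hq : Nat.card (G ⧸ K) = p := by rw [← Subgroup.index_eq_card, hKidx]
    have := isCyclic_of_prime_card hq
    exact ⟨⟨fun a b => (IsCyclic.commGroup (α := G ⧸ K)).mul_comm a b⟩⟩
  have hKG := selfCent_le_commutator_of_not_dvd hp hx hC K hKn hKcard
  rw [le_antisymm hGK hKG]
  exact ⟨hKcard, hKidx⟩

/-- Elements of order `p` of a normal subgroup `D ∋ x` are `D`-conjugate into `⟨x⟩`. -/
theorem selfCent_exists_conj_mem_of_normal [Finite G] {p : ℕ} [Fact p.Prime] {x : G}
    (hx : orderOf x = p) (hC : centralizer ({x} : Set G) = zpowers x) (D : Subgroup G) [D.Normal]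
    (hxD : x ∈ D) (y : G) (hy : orderOf y = p) :
    ∃ d ∈ D, d * y * d⁻¹ ∈ zpowers x := by
  obtain ⟨h, hh⟩ := selfCent_exists_conj_mem hx hC y 1 (by rw [pow_one, ← hy, pow_orderOf_eq_one])
  have htop := selfCent_normalizer_sup_eq_top hx hC D hxD
  have hh' : h ∈ normalizer (zpowers x : Set G) ⊔ D := htop ▸ mem_top h
  rw [mem_sup_of_normal_right] at hh'
  obtain ⟨n, hn, d, hd, rfl⟩ := hh'
  refine ⟨d, hd, ?_⟩
  have h1 : n⁻¹ * (n * d * y * (n * d)⁻¹) * n⁻¹⁻¹ ∈ zpowers x :=
    ((mem_normalizer_iff.1 (inv_mem hn)) _).1 hh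
  have h2 : n⁻¹ * (n * d * y * (n * d)⁻¹) * n⁻¹⁻¹ = d * y * d⁻¹ := by group
  rwa [h2] at h1

end

end Cfsg.Agent.Lib.Helper11
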