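import Mathlib
import Cfsg.Agent.Lib.Helper11.FSF5
import Cfsg.Agent.Lib.Helper11.AG4
import Cfsg.Agent.Lib.Helper20.Cores

/-!
Glauberman's triple factorization theorem: the local key lemma (helper11).
If `P ≤ S` is normalized by `L ≥ S`, `Z = Ω₁Z(S) ≤ P`, and every constrained section factorizes as
`C(Ω₁Z(S*)) N(W(S*))`, then every `L`-conjugate of an element of `Z` is an `N_L(W(S))`-conjugate.
-/

set_option autoImplicit false
set_option linter.unusedSectionVars false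
open Cfsg

universe u

namespace Cfsg.Agent.Lib.Helper11.TF

open Cfsg.Agent.Lib.Helper29 Cfsg.Agent.Lib.Helper1 Cfsg.Agent.Lib.Helper16
open Cfsg.Agent.S2005 (induced_map induced_map_eq induced_le induced_ne_bot
  normalizer_le_normalizer_induced normalizer_map_mk)
open Cfsg.Agent.Lib.Helper11.SFS (sylow_le_normalizer_induced inj_on_of_coprime
  not_dvd_relIndex_sylow centralizer_le_of_inf_le)

/-- the factorization `Y = C(Ω₁Z(T)) N(W(T))` for a constrained group `Y` -/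
def CNFac (p : ℕ) (W : ∀ (Q : Type u) [Group Q], Subgroup Q) (Y : Type u) [Group Y] : Prop :=
  Subgroup.centralizer ((Cfsg.pCore p Y : Subgroup Y) : Set Y) ≤ Cfsg.pCore p Y →
  ∀ T : Sylow p Y, ∀ x : Y,
    ∃ a ∈ Subgroup.centralizer ((Cfsg.omegaOne p ((T : Subgroup Y) ⊓
        Subgroup.centralizer ((T : Subgroup Y) : Set Y)) : Subgroup Y) : Set Y),
    ∃ b ∈ Subgroup.normalizer ((Cfsg.inducedFunctor (G := Y) W (T : Subgroup Y) : Subgroup Y) : Set Y),
      x = a * b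

/-- the hypothesis for all sections `K / N` -/
def HypCN (p : ℕ) (W : ∀ (Q : Type u) [Group Q], Subgroup Q) (G : Type u) [Group G] : Prop :=
  ∀ (K : Subgroup G) (N : Subgroup ↥K) [N.Normal], CNFac p W (↥K ⧸ N)

theorem hypCN_of {p : ℕ} (W : ∀ (Q : Type u) [Group Q], Subgroup Q) {G : Type u} [Group G]
    (h : ∀ (K R : Subgroup G) [_hR : (R.subgroupOf K).Normal], CNFac p W (↥K ⧸ R.subgroupOf K)) :
    HypCN p W G := by
  intro K N hN
  have e : (N.map K.subtype).subgroupOf K = N :=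
    Subgroup.comap_map_eq_self_of_injective K.subtype_injective _
  have aux : ∀ (N₁ N₂ : Subgroup ↥K) (h₁ : N₁.Normal) (h₂ : N₂.Normal), N₁ = N₂ →
      CNFac p W (↥K ⧸ N₁) → CNFac p W (↥K ⧸ N₂) := by
    intro N₁ N₂ h₁ h₂ e
    subst e
    exact id
  have hn : ((N.map K.subtype).subgroupOf K).Normal := by rw [e]; exact hN
  exact aux _ N hn hN e (@h K (N.map K.subtype) hn)

variable {p : ℕ} [Fact p.Prime]

theorem key_lemma {W' : ∀ (Q : Type u) [Group Q], Subgroup Q}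
    (hW' : Cfsg.IsCharPFunctor.{u} p W') {G : Type u} [Group G] [Finite G]
    (hyp : HypCN p W' G) (S : Sylow p G) (P L : Subgroup G) (hPS : P ≤ (S : Subgroup G))
    (hSL : (S : Subgroup G) ≤ L) (hLP : L ≤ Subgroup.normalizer (P : Set G))
    (Z : Subgroup G)
    (hZdef : Z = Cfsg.omegaOne p ((S : Subgroup G) ⊓
      Subgroup.centralizer ((S : Subgroup G) : Set G)))
    (hZP : Z ≤ P) :
    ∀ g ∈ L, ∀ z ∈ Z, ∃ b ∈ L ⊓ Subgroup.normalizer
      ((Cfsg.inducedFunctor (G := G) W' (S : Subgroup G) : Subgroup G) : Set G),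
      g * z * g⁻¹ = b * z * b⁻¹ := by
  classical
  intro g hg z hz
  have hSp : IsPGroup p ((S : Subgroup G)) := S.isPGroup'
  have hZS : Z ≤ (S : Subgroup G) ⊓ Subgroup.centralizer ((S : Subgroup G) : Set G) := by
    rw [hZdef]
    unfold Cfsg.omegaOne
    rw [Subgroup.closure_le]
    intro x hx
    exact hx.1
  have hSZ : (S : Subgroup G) ≤ Subgroup.centralizer (Z : Set G) := by
    intro s hs
    rw [Subgroup.mem_centralizer_iff]
    intro y hy
    exact ((Subgroup.mem_centralizer_iff.mp (hZS hy).2) s hs).symm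
  set C : Subgroup G := Subgroup.centralizer (P : Set G) with hC
  set K : Subgroup G := L ⊓ C with hK
  set H : Subgroup G := K ⊔ P with hH
  have hHZ : H ≤ Subgroup.centralizer (Z : Set G) :=
    sup_le (inf_le_right.trans (Subgroup.centralizer_le (SetLike.coe_subset_coe.mpr hZP)))
      (hPS.trans hSZ)
  have hPL : P ≤ L := hPS.trans hSL
  have hHL : H ≤ L := sup_le inf_le_left hPL
  have hLH : L ≤ Subgroup.normalizer (H : Set G) := by
    intro l hl
    apply mem_normalizer_of_cj_eq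
    have h1 : cj l K = K := by
      rw [hK, cj_inf, cj_eq_of_mem_normalizer (Subgroup.le_normalizer hl),
        cj_eq_of_mem_normalizer (AG.normalizer_le_normalizer_centralizer P (hLP hl))]
    have h2 : cj l P = P := cj_eq_of_mem_normalizer (hLP hl)
    rw [hH, cj_sup, h1, h2]
  set D : Subgroup G := (S : Subgroup G) ⊓ H with hD
  have hDS : D ≤ (S : Subgroup G) := inf_le_left
  have hDH : D ≤ H := inf_le_right
  have hDp : IsPGroup p D := hSp.to_le hDS
  have hPD : P ≤ D := le_inf hPS le_sup_right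
  have hZD : Z ≤ D := hZP.trans hPD
  have hSsyl : IsSylowSub p (S : Subgroup G) L :=
    isSylowSub_of_not_dvd_relIndex hSL hSp (not_dvd_relIndex_sylow S hSL)
  have hDsyl : IsSylowSub p D H := isSylowSub_inf_of_normalized hSsyl hSL hHL hLH
  -- Frattini
  have hfrat : ∃ m ∈ L ⊓ Subgroup.normalizer (D : Set G), ∃ h ∈ H, g = m * h := by
    have hle : cj g⁻¹ D ≤ H := by
      have := cj_mono (g := g⁻¹) hDH
      rwa [cj_eq_of_mem_normalizer (hLH (L.inv_mem hg))] at this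
    obtain ⟨n, hn, hnle⟩ := exists_cj_le_of_isSylowSub hDsyl hle (isPGroup_cj hDp)
    have heq : cj (n * g⁻¹) D = D := by
      rw [← cj_cj]
      exact Subgroup.eq_of_le_of_card_ge hnle (by rw [card_cj, card_cj])
    have hmem := mem_normalizer_of_cj_eq heq
    refine ⟨(n * g⁻¹)⁻¹, Subgroup.mem_inf.mpr
      ⟨L.inv_mem (L.mul_mem (hHL hn) (L.inv_mem hg)), inv_mem hmem⟩, n, hn, by group⟩
  obtain ⟨m, hm, h, hh, rfl⟩ := hfrat
  have hhz : h * z * h⁻¹ = z := by
    have := Subgroup.mem_centralizer_iff.mp (hHZ hh) z hz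
    rw [← this]; group
  have hred : (m * h) * z * (m * h)⁻¹ = m * z * m⁻¹ := by
    calc (m * h) * z * (m * h)⁻¹ = m * (h * z * h⁻¹) * m⁻¹ := by group
      _ = m * z * m⁻¹ := by rw [hhz]
  rw [hred]
  -- the local subgroup
  set M : Subgroup G := L ⊓ Subgroup.normalizer (D : Set G) with hM
  have hSM : (S : Subgroup G) ≤ M := by
    refine le_inf hSL ?_
    intro s hs
    apply mem_normalizer_of_cj_eq
    rw [hD, cj_inf, cj_eq_of_mem_normalizer (Subgroup.le_normalizer hs),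
      cj_eq_of_mem_normalizer (hLH (hSL hs))]
  have hDM : D ≤ M := hDS.trans hSM
  set N : Subgroup ↥M := Cfsg.pPrimeCore p ↥M with hN
  have hNc : (Nat.card N).Coprime p := Cfsg.Agent.Lib.Helper2.pPrimeCore_coprime p
  have hsurj : Function.Surjective (QuotientGroup.mk' N) := QuotientGroup.mk'_surjective N
  set S' : Sylow p ↥M := S.subtype hSM with hS'
  have hS'coe : (S' : Subgroup ↥M) = (S : Subgroup G).subgroupOf M := Sylow.coe_subtype S hSM
  set T : Sylow p (↥M ⧸ N) := S'.mapSurjective hsurj with hT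
  have hTcoe : (T : Subgroup (↥M ⧸ N)) = (S' : Subgroup ↥M).map (QuotientGroup.mk' N) :=
    Sylow.coe_mapSurjective _ _
  have hinjS : ∀ a ∈ (S' : Subgroup ↥M), (QuotientGroup.mk' N) a = 1 → a = 1 :=
    inj_on_of_coprime N hNc (S' : Subgroup ↥M) S'.isPGroup'
  set D' : Subgroup ↥M := D.subgroupOf M with hD'
  haveI hD'n : D'.Normal :=
    Subgroup.normal_subgroupOf_of_le_normalizer (inf_le_right : M ≤ Subgroup.normalizer (D : Set G))
  have hD'p : IsPGroup p D' := (isPGroup_subgroupOf_iff_of_le hDM).2 hDp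
  have hinjD : ∀ a ∈ D', (QuotientGroup.mk' N) a = 1 → a = 1 := inj_on_of_coprime N hNc D' hD'p
  have hD'map : D'.map (QuotientGroup.mk' N) ≤ Cfsg.pCore p (↥M ⧸ N) :=
    le_pCore (hD'n.map (QuotientGroup.mk' N) hsurj) (hD'p.map _)
  -- the section is constrained
  have hcon : Subgroup.centralizer ((Cfsg.pCore p (↥M ⧸ N) : Subgroup (↥M ⧸ N)) : Set (↥M ⧸ N)) ≤
      Cfsg.pCore p (↥M ⧸ N) := by
    apply centralizer_le_of_inf_le T (Cfsg.Agent.Lib.Helper20.pPrimeCore_quotient_eq_bot p)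
    intro t ht
    obtain ⟨htT, htC⟩ := Subgroup.mem_inf.mp ht
    rw [hTcoe] at htT
    obtain ⟨s, hs, rfl⟩ := htT
    have hs_cent : ∀ d ∈ D', s * d = d * s := by
      intro d hd
      have h1 : (QuotientGroup.mk' N) d ∈ Cfsg.pCore p (↥M ⧸ N) := hD'map ⟨d, hd, rfl⟩
      have h2 := Subgroup.mem_centralizer_iff.mp htC _ h1
      have h3 : s * d * s⁻¹ * d⁻¹ ∈ D' := D'.mul_mem (hD'n.conj_mem d hd s) (D'.inv_mem hd)
      have h4 : (QuotientGroup.mk' N) (s * d * s⁻¹ * d⁻¹) = 1 := by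
        simp only [map_mul, map_inv]
        rw [← h2]; group
      have h5 := hinjD _ h3 h4
      calc s * d = (s * d * s⁻¹ * d⁻¹) * (d * s) := by group
        _ = d * s := by rw [h5, one_mul]
    have hsS : (s : G) ∈ (S : Subgroup G) := by
      have := hs
      rw [hS'coe] at this
      exact Subgroup.mem_subgroupOf.mp this
    have hsC : (s : G) ∈ C := by
      rw [hC, Subgroup.mem_centralizer_iff]
      intro q hq
      have hqD : q ∈ D := hPD hq
      have h1 := hs_cent ⟨q, hDM hqD⟩ (Subgroup.mem_subgroupOf.mpr hqD)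
      have h2 := congrArg Subtype.val h1
      simpa using h2.symm
    have hsD : (s : G) ∈ D :=
      Subgroup.mem_inf.mpr ⟨hsS, (le_sup_left : K ≤ H) (Subgroup.mem_inf.mpr ⟨hSL hsS, hsC⟩)⟩
    exact hD'map ⟨s, Subgroup.mem_subgroupOf.mpr hsD, rfl⟩
  have hfacM := hyp M N hcon T
  obtain ⟨m', hm'⟩ : ∃ m' : ↥M, (m' : G) = m := ⟨⟨m, hm⟩, rfl⟩
  have hzM : z ∈ M := hDM (hZD hz)
  obtain ⟨z', hz'⟩ : ∃ z' : ↥M, (z' : G) = z := ⟨⟨z, hzM⟩, rfl⟩
  obtain ⟨a, ha, b, hb, hab⟩ := hfacM ((QuotientGroup.mk' N) m')⁻¹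
  have hπm : (QuotientGroup.mk' N) m' = b⁻¹ * a⁻¹ := by
    have h1 : ((QuotientGroup.mk' N) m')⁻¹⁻¹ = (a * b)⁻¹ := by rw [hab]
    rw [inv_inv] at h1
    rw [h1, mul_inv_rev]
  set Ω : Subgroup (↥M ⧸ N) := Cfsg.omegaOne p ((T : Subgroup (↥M ⧸ N)) ⊓
    Subgroup.centralizer ((T : Subgroup (↥M ⧸ N)) : Set (↥M ⧸ N))) with hΩ
  have hZΩ : Z ≤ (Ω.comap (QuotientGroup.mk' N)).map M.subtype := by
    rw [hZdef]
    unfold Cfsg.omegaOne
    rw [Subgroup.closure_le]
    rintro x ⟨hx, hxp⟩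
    have hxS : x ∈ (S : Subgroup G) := hx.1
    have hxM : x ∈ M := hSM hxS
    refine ⟨⟨x, hxM⟩, ?_, rfl⟩
    show (QuotientGroup.mk' N) ⟨x, hxM⟩ ∈ Ω
    rw [hΩ]
    unfold Cfsg.omegaOne
    apply Subgroup.subset_closure
    refine ⟨Subgroup.mem_inf.mpr ⟨?_, ?_⟩, ?_⟩
    · rw [hTcoe]
      exact ⟨⟨x, hxM⟩, by rw [hS'coe]; exact Subgroup.mem_subgroupOf.mpr hxS, rfl⟩
    · rw [Subgroup.mem_centralizer_iff]
      intro t ht
      rw [SetLike.mem_coe, hTcoe] at ht
      obtain ⟨s, hs, rfl⟩ := ht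
      rw [hS'coe] at hs
      have hsS : (s : G) ∈ (S : Subgroup G) := Subgroup.mem_subgroupOf.mp hs
      have hcomm : (s : G) * x = x * s := Subgroup.mem_centralizer_iff.mp hx.2 s hsS
      rw [← map_mul, ← map_mul]
      congr 1
      exact Subtype.ext hcomm
    · rw [← map_pow]
      have h1 : (⟨x, hxM⟩ : ↥M) ^ p = 1 := Subtype.ext (by simpa using hxp)
      rw [h1, map_one]
  obtain ⟨y, hyΩ, hyz⟩ := hZΩ hz
  have hyz' : y = z' := Subtype.ext (by rw [hz']; exact hyz)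
  have hzΩ : (QuotientGroup.mk' N) z' ∈ Ω := by rw [← hyz']; exact hyΩ
  have hc : (QuotientGroup.mk' N) z' * a = a * (QuotientGroup.mk' N) z' :=
    Subgroup.mem_centralizer_iff.mp ha _ hzΩ
  have hconj : (QuotientGroup.mk' N) (m' * z' * m'⁻¹) = b⁻¹ * (QuotientGroup.mk' N) z' * b := by
    rw [map_mul, map_mul, map_inv, hπm]
    have hc' : a⁻¹ * (QuotientGroup.mk' N) z' * a = (QuotientGroup.mk' N) z' := by
      rw [mul_assoc, hc, ← mul_assoc, inv_mul_cancel, one_mul]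
    calc b⁻¹ * a⁻¹ * (QuotientGroup.mk' N) z' * (b⁻¹ * a⁻¹)⁻¹
        = b⁻¹ * (a⁻¹ * (QuotientGroup.mk' N) z' * a) * b := by group
      _ = b⁻¹ * (QuotientGroup.mk' N) z' * b := by rw [hc']
  -- lifting `b⁻¹`
  set P'' : Subgroup ↥M := Cfsg.inducedFunctor (G := ↥M) W' (S' : Subgroup ↥M) with hP''
  have hWT : Cfsg.inducedFunctor (G := ↥M ⧸ N) W' (T : Subgroup (↥M ⧸ N)) =
      P''.map (QuotientGroup.mk' N) :=
    induced_map_eq hW' (QuotientGroup.mk' N) (S' : Subgroup ↥M) S'.isPGroup' hinjS hTcoe.symm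
  have hP''p : IsPGroup p P'' := S'.isPGroup'.to_le (induced_le _)
  have hbN : b⁻¹ ∈ Subgroup.normalizer
      ((P''.map (QuotientGroup.mk' N) : Subgroup (↥M ⧸ N)) : Set (↥M ⧸ N)) := by
    rw [← hWT]; exact Subgroup.inv_mem _ hb
  rw [normalizer_map_mk P'' N hP''p hNc] at hbN
  obtain ⟨y₀, hy₀, hy₀b⟩ := hbN
  have hconj2 : (QuotientGroup.mk' N) (y₀ * z' * y₀⁻¹) =
      b⁻¹ * (QuotientGroup.mk' N) z' * b := by
    rw [map_mul, map_mul, map_inv, hy₀b, inv_inv]
  have hz'D : z' ∈ D' := Subgroup.mem_subgroupOf.mpr (by rw [hz']; exact hZD hz)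
  have h1 : m' * z' * m'⁻¹ ∈ D' := hD'n.conj_mem z' hz'D m'
  have h2 : y₀ * z' * y₀⁻¹ ∈ D' := hD'n.conj_mem z' hz'D y₀
  have heq : m' * z' * m'⁻¹ = y₀ * z' * y₀⁻¹ := by
    have h3 : (QuotientGroup.mk' N) ((m' * z' * m'⁻¹) * (y₀ * z' * y₀⁻¹)⁻¹) = 1 := by
      rw [map_mul, map_inv, hconj, hconj2, mul_inv_cancel]
    have := hinjD _ (D'.mul_mem h1 (D'.inv_mem h2)) h3
    exact mul_inv_eq_one.mp this
  have hPmap : P''.map M.subtype = Cfsg.inducedFunctor (G := G) W' (S : Subgroup G) := by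
    have h := induced_map hW' M.subtype (S' : Subgroup ↥M) S'.isPGroup'
      (fun a _ ha => Subtype.ext (by simpa using ha))
    rw [← h]
    congr 1
    rw [hS'coe]
    exact Subgroup.map_subgroupOf_eq_of_le hSM
  have hb₀N : (y₀ : G) ∈ Subgroup.normalizer
      ((Cfsg.inducedFunctor (G := G) W' (S : Subgroup G) : Subgroup G) : Set G) := by
    rw [← hPmap]
    exact Subgroup.le_normalizer_map M.subtype ⟨y₀, hy₀, rfl⟩
  refine ⟨(y₀ : G), Subgroup.mem_inf.mpr ⟨(inf_le_left : M ≤ L) y₀.2, hb₀N⟩, ?_⟩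
  have h4 := congrArg Subtype.val heq
  simp only [Subgroup.coe_mul, Subgroup.coe_inv] at h4
  rw [hm', hz'] at h4
  exact h4

end Cfsg.Agent.Lib.Helper11.TF
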