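import Mathlib
import Cfsg.Agent.Lib.Helper11.TF1

/-!
Glauberman's triple factorization theorem: the induction `A₁ = A₂` and consequences (helper11).
-/

set_option autoImplicit false
set_option linter.unusedSectionVars false
open Cfsg

universe u

namespace Cfsg.Agent.Lib.Helper11.TF

open Cfsg.Agent.Lib.Helper29 Cfsg.Agent.Lib.Helper1 Cfsg.Agent.Lib.Helper16
open Cfsg.Agent.S2005 (induced_map induced_map_eq induced_le induced_ne_bot
  normalizer_le_normalizer_induced normalizer_map_mk)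
open Cfsg.Agent.Lib.Helper11.SFS (sylow_le_normalizer_induced inj_on_of_coprime
  not_dvd_relIndex_sylow centralizer_le_of_inf_le)

section Cl

variable {G : Type*} [Group G]

/-- the subgroup generated by the `H`-conjugates of the elements of `Z` -/
def cl (H Z : Subgroup G) : Subgroup G :=
  Subgroup.closure {x | ∃ n ∈ H, ∃ z ∈ Z, x = n * z * n⁻¹}

theorem mem_cl {H Z : Subgroup G} {n z : G} (hn : n ∈ H) (hz : z ∈ Z) : n * z * n⁻¹ ∈ cl H Z :=
  Subgroup.subset_closure ⟨n, hn, z, hz, rfl⟩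

theorem cl_le_of {H Z X : Subgroup G} (h : ∀ n ∈ H, ∀ z ∈ Z, n * z * n⁻¹ ∈ X) : cl H Z ≤ X := by
  unfold cl
  rw [Subgroup.closure_le]
  rintro _ ⟨n, hn, z, hz, rfl⟩
  exact h n hn z hz

theorem cl_mono {H H' Z : Subgroup G} (h : H ≤ H') : cl H Z ≤ cl H' Z :=
  cl_le_of (fun _ hn _ hz => mem_cl (h hn) hz)

theorem le_cl (H Z : Subgroup G) : Z ≤ cl H Z := by
  intro z hz
  have := mem_cl (H := H) (Z := Z) H.one_mem hz
  simpa using this

theorem cj_cl_le {H Z : Subgroup G} {n : G} (hn : n ∈ H) : cj n (cl H Z) ≤ cl H Z := by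
  unfold cl
  rw [cj, Subgroup.map_le_iff_le_comap, Subgroup.closure_le]
  rintro _ ⟨n', hn', z, hz, rfl⟩
  show (MulAut.conj n).toMonoidHom (n' * z * n'⁻¹) ∈ Subgroup.closure _
  apply Subgroup.subset_closure
  refine ⟨n * n', H.mul_mem hn hn', z, hz, ?_⟩
  simp only [MulEquiv.coe_toMonoidHom, MulAut.conj_apply]
  group

theorem le_normalizer_cl [Finite G] (H Z : Subgroup G) :
    H ≤ Subgroup.normalizer ((cl H Z : Subgroup G) : Set G) := by
  intro n hn
  apply mem_normalizer_of_cj_eq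
  exact Subgroup.eq_of_le_of_card_ge (cj_cl_le hn) (by rw [card_cj])

/-- elements of a commutative closure of elements of exponent `p` have exponent `p` -/
theorem pow_eq_one_of_closure {p : ℕ} (s : Set G) (hs : ∀ x ∈ s, x ^ p = 1)
    (hc : ∀ x ∈ Subgroup.closure s, ∀ y ∈ Subgroup.closure s, x * y = y * x) :
    ∀ a ∈ Subgroup.closure s, a ^ p = 1 := by
  intro a ha
  induction ha using Subgroup.closure_induction with
  | mem x hx => exact hs x hx
  | one => exact one_pow p
  | mul x y hx hy ihx ihy =>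
    have hxy : Commute x y := hc x hx y hy
    rw [hxy.mul_pow, ihx, ihy, one_mul]
  | inv x hx ih => rw [inv_pow, ih, inv_one]

theorem lchain_mem {𝓥 : Set (Subgroup G → Subgroup G)} {H P X : Subgroup G}
    (hX : ∀ W ∈ 𝓥, H ⊓ Subgroup.normalizer ((W P : Subgroup G) : Set G) ≤ X) {A : Set G} {u : G}
    (h : LChain 𝓥 H P A u) : u ∈ X := by
  induction h with
  | nil hA => exact X.one_mem
  | step u y W hW hy _ _ ih => exact X.mul_mem (hX W hW hy) ih

end Cl

variable {p : ℕ} [Fact p.Prime]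

/-- the two closures coincide -/
theorem cl_eq {W₁ W₂ : ∀ (Q : Type u) [Group Q], Subgroup Q}
    (hW₁ : Cfsg.IsCharPFunctor.{u} p W₁) (hW₂ : Cfsg.IsCharPFunctor.{u} p W₂)
    {G : Type u} [Group G] [Finite G]
    (hyp₁ : HypCN p W₁ G) (hyp₂ : HypCN p W₂ G) (S : Sylow p G) (Z : Subgroup G)
    (hZdef : Z = Cfsg.omegaOne p ((S : Subgroup G) ⊓
      Subgroup.centralizer ((S : Subgroup G) : Set G)))
    (hZ₁ : Z ≤ Cfsg.inducedFunctor (G := G) W₁ (S : Subgroup G))
    (hZ₂ : Z ≤ Cfsg.inducedFunctor (G := G) W₂ (S : Subgroup G)) :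
    ∀ (n : ℕ) (L : Subgroup G), Nat.card L ≤ n → (S : Subgroup G) ≤ L →
      cl (L ⊓ Subgroup.normalizer
          ((Cfsg.inducedFunctor (G := G) W₁ (S : Subgroup G) : Subgroup G) : Set G)) Z =
        cl (L ⊓ Subgroup.normalizer
          ((Cfsg.inducedFunctor (G := G) W₂ (S : Subgroup G) : Subgroup G) : Set G)) Z := by
  classical
  set P₁ : Subgroup G := Cfsg.inducedFunctor (G := G) W₁ (S : Subgroup G) with hP₁
  set P₂ : Subgroup G := Cfsg.inducedFunctor (G := G) W₂ (S : Subgroup G) with hP₂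
  set N₁ : Subgroup G := Subgroup.normalizer (P₁ : Set G) with hN₁
  set N₂ : Subgroup G := Subgroup.normalizer (P₂ : Set G) with hN₂
  have hSN₁ : (S : Subgroup G) ≤ N₁ := sylow_le_normalizer_induced hW₁ _ S.isPGroup'
  have hSN₂ : (S : Subgroup G) ≤ N₂ := sylow_le_normalizer_induced hW₂ _ S.isPGroup'
  have hP₁S : P₁ ≤ (S : Subgroup G) := induced_le _
  have hP₂S : P₂ ≤ (S : Subgroup G) := induced_le _
  intro n
  induction n with
  | zero =>
    intro L hcard
    have : 0 < Nat.card L := Nat.card_pos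
    omega
  | succ n ih =>
    intro L hcard hSL
    have hlt : ∀ L' : Subgroup G, L' ≤ L → ¬ L ≤ L' → Nat.card L' ≤ n := by
      intro L' hle hnle
      by_contra hcon
      have h1 : Nat.card L ≤ Nat.card L' := by omega
      have := Subgroup.eq_of_le_of_card_ge hle h1
      exact hnle this.ge
    by_cases h1 : L ≤ N₁
    · have e1 : L ⊓ N₁ = L := inf_eq_left.mpr h1
      rw [e1]
      apply le_antisymm
      · apply cl_le_of
        intro g hg z hz
        obtain ⟨b, hb, e⟩ := key_lemma hW₂ hyp₂ S P₁ L hP₁S hSL h1 Z hZdef hZ₁ g hg z hz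
        rw [e]
        exact mem_cl hb hz
      · exact cl_mono inf_le_left
    · by_cases h2 : L ≤ N₂
      · have e2 : L ⊓ N₂ = L := inf_eq_left.mpr h2
        rw [e2]
        apply le_antisymm
        · exact cl_mono inf_le_left
        · apply cl_le_of
          intro g hg z hz
          obtain ⟨b, hb, e⟩ := key_lemma hW₁ hyp₁ S P₂ L hP₂S hSL h2 Z hZdef hZ₂ g hg z hz
          rw [e]
          exact mem_cl hb hz
      · have c1 : Nat.card (L ⊓ N₁ : Subgroup G) ≤ n :=
          hlt _ inf_le_left (fun h => h1 (h.trans inf_le_right))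
        have c2 : Nat.card (L ⊓ N₂ : Subgroup G) ≤ n :=
          hlt _ inf_le_left (fun h => h2 (h.trans inf_le_right))
        have i1 := ih (L ⊓ N₁) c1 (le_inf hSL hSN₁)
        have i2 := ih (L ⊓ N₂) c2 (le_inf hSL hSN₂)
        have e1 : L ⊓ N₁ ⊓ N₁ = L ⊓ N₁ := by rw [inf_assoc, inf_idem]
        have e2 : L ⊓ N₂ ⊓ N₂ = L ⊓ N₂ := by rw [inf_assoc, inf_idem]
        have e3 : L ⊓ N₂ ⊓ N₁ = L ⊓ N₁ ⊓ N₂ := inf_right_comm L N₂ N₁
        rw [e1] at i1
        rw [e2, e3] at i2
        rw [i1, i2]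

end Cfsg.Agent.Lib.Helper11.TF
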