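import Mathlib
import Cfsg.Agent.Lib.Helper22.TransvSolv

/-!
# Transvection calculus over `F₂` (for the solvable Thompson factorization)

`G` acts faithfully on an elementary abelian `2`-group `V`.  `Tv d b` : `d ≠ 1` is an involution with
`d • v ∈ {v, v + b}` for all `v`.
-/

set_option autoImplicit false

namespace Cfsg.Agent.Lib.Helper11.TF

open Cfsg.Agent.Lib.Helper22.Transv

variable {G V : Type*} [Group G] [AddCommGroup V] [DistribMulAction G V]

/-- a genuine (non-identity) `F₂`-transvection with centre `b` -/
def Tv (d : G) (b : V) : Prop := d ≠ 1 ∧ IsTv d b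

theorem Tv.ne_one {d : G} {b : V} (h : Tv d b) : d ≠ 1 := h.1
theorem Tv.sq {d : G} {b : V} (h : Tv d b) : d * d = 1 := h.2.1
theorem Tv.inv {d : G} {b : V} (h : Tv d b) : d⁻¹ = d := inv_eq_of_mul_eq_one_left h.2.1
theorem Tv.center_ne {d : G} {b : V} (h : Tv d b) : b ≠ 0 := h.2.2.1
theorem Tv.act {d : G} {b : V} (h : Tv d b) (v : V) : d • v = v ∨ d • v = v + b := h.2.2.2 v

theorem Tv.conj {d : G} {b : V} (h : Tv d b) (g : G) : Tv (g * d * g⁻¹) (g • b) := by
  refine ⟨?_, h.2.conj g⟩
  intro h1
  apply h.1
  have : d = g⁻¹ * (g * d * g⁻¹) * g := by group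
  rw [this, h1]; group

section
variable (h2 : ∀ v : V, v + v = 0)
include h2

theorem add_cancel_left' (x y : V) : x + (x + y) = y := by rw [← add_assoc, h2, zero_add]

theorem Tv.smul_center {d : G} {b : V} (h : Tv d b) : d • b = b := h.2.smul_self h2

theorem Tv.act_of_ne {d : G} {b : V} (h : Tv d b) {v : V} (hv : d • v ≠ v) : d • v = v + b := by
  rcases h.act v with h1 | h1
  · exact absurd h1 hv
  · exact h1

theorem Tv.add_center_ne {d : G} {b : V} (h : Tv d b) (v : V) : v + b ≠ v := by
  intro h1
  exact h.center_ne (by simpa using h1)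

variable (hf : ∀ g : G, (∀ v : V, g • v = v) → g = 1)
include hf

omit h2 in
theorem Tv.exists_moved {d : G} {b : V} (h : Tv d b) : ∃ v : V, d • v = v + b := by
  by_contra hcon
  push Not at hcon
  apply h.ne_one
  apply hf
  intro v
  rcases h.act v with h1 | h1
  · exact h1
  · exact absurd h1 (hcon v)

theorem Tv.center_unique {d : G} {b b' : V} (h : Tv d b) (h' : Tv d b') : b = b' := by
  obtain ⟨v, hv⟩ := h.exists_moved hf
  rcases h'.act v with h1 | h1
  · exfalso
    rw [h1] at hv
    exact h.add_center_ne h2 v hv.symm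
  · rw [hv] at h1
    exact add_left_cancel h1

omit h2 in
theorem eq_of_smul_eq {g g' : G} (h : ∀ v : V, g • v = g' • v) : g = g' := by
  have : g'⁻¹ * g = 1 := by
    apply hf
    intro v
    rw [mul_smul, h v, inv_smul_smul]
  calc g = g' * (g'⁻¹ * g) := by group
    _ = g' := by rw [this, mul_one]

/-- two transvections fixing each other's centres commute -/
theorem Tv.commute_of_fix {d d' : G} {c c' : V} (h : Tv d c) (h' : Tv d' c')
    (h1 : d • c' = c') (h1' : d' • c = c) : d * d' = d' * d := by
  apply eq_of_smul_eq hf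
  intro v
  rw [mul_smul, mul_smul]
  rcases h.act v with e | e <;> rcases h'.act v with e' | e' <;>
    simp only [smul_add, e, e', h1, h1'] <;> abel

end

section dichotomy

variable [Finite G] [Group.IsSolvable G]
variable (h2 : ∀ v : V, v + v = 0) (hf : ∀ g : G, (∀ v : V, g • v = v) → g = 1)
  (hO2 : Cfsg.pCore 2 G = ⊥)
include h2 hf hO2

/-- In a solvable group with `O₂ = 1`: if `d` moves the centre of `d'` then `d'` moves the centre of
`d`. -/
theorem Tv.moves_symm {d d' : G} {c c' : V} (h : Tv d c) (h' : Tv d' c')
    (hm : d • c' ≠ c') : d' • c ≠ c := by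
  intro hfix
  have hdc' : d • c' = c' + c := h.act_of_ne h2 hm
  have hdc : d • c = c := h.smul_center h2
  have hd'c' : d' • c' = c' := h'.smul_center h2
  -- the square of `d * d'`
  have key : ∀ v : V, (d' • v = v → (d * d' * (d * d')) • v = v) ∧
      (d' • v = v + c' → (d * d' * (d * d')) • v = v + c) := by
    intro v
    have e0 : (d * d' * (d * d')) • v = d • d' • d • d' • v := by
      simp only [mul_smul]
    rw [e0]
    constructor
    · intro e'
      rcases h.act v with e | e
      · simp only [smul_add, e, e', hdc, hdc', hfix, hd'c']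
      · simp only [smul_add, e, e', hdc, hdc', hfix, hd'c']
        linear_combination (norm := module) h2 c
    · intro e'
      rcases h.act v with e | e
      · simp only [smul_add, e, e', hdc, hdc', hfix, hd'c']
        linear_combination (norm := module) h2 c' + h2 c
      · simp only [smul_add, e, e', hdc, hdc', hfix, hd'c']
        linear_combination (norm := module) h2 c' + (2:ℤ) • h2 c
  have hT : IsTv (d * d' * (d * d')) c := by
    refine ⟨?_, h.center_ne, ?_⟩
    · apply hf
      intro v
      rw [mul_smul]
      rcases h'.act v with e' | e'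
      · rw [(key v).1 e', (key v).1 e']
      · rw [(key v).2 e']
        have e'' : d' • (v + c) = (v + c) + c' := by
          rw [smul_add, e', hfix]; abel
        rw [(key (v + c)).2 e'', add_assoc, h2, add_zero]
    · intro v
      rcases h'.act v with e' | e'
      · left; exact (key v).1 e'
      · right; exact (key v).2 e'
  have h1 := Cfsg.Agent.Lib.Helper22.TransvSolv.no_square_tv h2 hf hO2 (d * d') hT
  obtain ⟨v, hv⟩ := h'.exists_moved hf
  have h3 := (key v).2 hv
  rw [h1, one_smul] at h3
  exact h.add_center_ne h2 v h3.symm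

theorem Tv.fix_iff {d d' : G} {c c' : V} (h : Tv d c) (h' : Tv d' c') :
    d • c' = c' ↔ d' • c = c := by
  constructor
  · intro h1
    by_contra h3
    exact (Tv.moves_symm h2 hf hO2 h' h h3) h1
  · intro h1
    by_contra h3
    exact (Tv.moves_symm h2 hf hO2 h h' h3) h1

end dichotomy

end Cfsg.Agent.Lib.Helper11.TF
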