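import Mathlib
import Cfsg.Agent.Lib.Helper11.TFa

/-!
# Classes of `F₂`-transvections under a normal subgroup of odd order
-/

set_option autoImplicit false

namespace Cfsg.Agent.Lib.Helper11.TF

variable {G V : Type*} [Group G] [AddCommGroup V] [DistribMulAction G V]

/-- the `F`-conjugacy class of `a` -/
def cls (F : Subgroup G) (a : G) : Set G := {d | ∃ g ∈ F, d = g * a * g⁻¹}

/-- the centres of the members of the class -/
def ctr (F : Subgroup G) (a : G) : Set V := {c | ∃ d ∈ cls F a, Tv d c}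

theorem mem_cls_self (F : Subgroup G) (a : G) : a ∈ cls F a := ⟨1, F.one_mem, by group⟩

theorem cls_subset {F : Subgroup G} {a d : G} (hd : d ∈ cls F a) : cls F d ⊆ cls F a := by
  rintro e ⟨h, hh, rfl⟩
  obtain ⟨g, hg, rfl⟩ := hd
  exact ⟨h * g, F.mul_mem hh hg, by group⟩

theorem mem_cls_symm {F : Subgroup G} {a d : G} (hd : d ∈ cls F a) : a ∈ cls F d := by
  obtain ⟨g, hg, rfl⟩ := hd
  exact ⟨g⁻¹, F.inv_mem hg, by group⟩

theorem cls_eq_of_mem {F : Subgroup G} {a d : G} (hd : d ∈ cls F a) : cls F d = cls F a :=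
  Set.Subset.antisymm (cls_subset hd) (cls_subset (mem_cls_symm hd))

theorem conj_mem_cls {F : Subgroup G} [hFn : F.Normal] {a d : G} (g : G) (hd : d ∈ cls F a) :
    g * d * g⁻¹ ∈ cls F (g * a * g⁻¹) := by
  obtain ⟨h, hh, rfl⟩ := hd
  exact ⟨g * h * g⁻¹, hFn.conj_mem h hh g, by group⟩

theorem tv_of_mem_cls {F : Subgroup G} {a d : G} {b : V} (ha : Tv a b) (hd : d ∈ cls F a) :
    ∃ c : V, Tv d c := by
  obtain ⟨g, _, rfl⟩ := hd
  exact ⟨g • b, ha.conj g⟩

section
variable (h2 : ∀ v : V, v + v = 0) (hf : ∀ g : G, (∀ v : V, g • v = v) → g = 1)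
variable (F : Subgroup G) [hFn : F.Normal] (hodd : ∀ x ∈ F, ∃ n, Odd n ∧ x ^ n = 1)
  (hCF : ∀ g : G, (∀ x ∈ F, g * x = x * g) → g ∈ F)
  (hdich : ∀ {d d' : G} {c c' : V}, Tv d c → Tv d' c' → (d • c' = c' ↔ d' • c = c))

include hodd in
theorem eq_one_of_sq_of_mem {x : G} (hx : x ∈ F) (hsq : x * x = 1) : x = 1 := by
  obtain ⟨n, hn, hxn⟩ := hodd x hx
  obtain ⟨k, rfl⟩ := hn
  have : x ^ (2 * k) = 1 := by rw [pow_mul, pow_two, hsq, one_pow]
  rw [pow_succ, this, one_mul] at hxn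
  exact hxn

include hFn in
theorem mul_mem_of_cls {a d d' : G} (ha : a * a = 1) (hd : d ∈ cls F a) (hd' : d' ∈ cls F a) :
    d * d' ∈ F := by
  obtain ⟨g, hg, rfl⟩ := hd
  obtain ⟨g', hg', rfl⟩ := hd'
  have hai : a⁻¹ = a := inv_eq_of_mul_eq_one_left ha
  have : g * a * g⁻¹ * (g' * a * g'⁻¹) = g * (a * (g⁻¹ * g') * a⁻¹) * g'⁻¹ := by
    rw [hai]; group
  rw [this]
  exact F.mul_mem (F.mul_mem hg (hFn.conj_mem _ (F.mul_mem (F.inv_mem hg) hg') a)) (F.inv_mem hg')

include h2 hf hodd hdich hFn in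
/-- distinct members of a class move each other's centres -/
theorem moves_of_ne {a d d' : G} {b c c' : V} (ha : Tv a b) (hd : d ∈ cls F a)
    (hd' : d' ∈ cls F a) (hne : d ≠ d') (hc : Tv d c) (hc' : Tv d' c') : d • c' = c' + c := by
  by_contra hcon
  have h1 : d • c' = c' := by
    rcases hc.act c' with h | h
    · exact h
    · exact absurd h hcon
  have h1' : d' • c = c := (hdich hc hc').1 h1
  have hcomm := Tv.commute_of_fix h2 hf hc hc' h1 h1'
  have hF := mul_mem_of_cls F ha.sq hd hd'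
  have hsq : d * d' * (d * d') = 1 := by
    calc d * d' * (d * d') = d * (d' * d) * d' := by group
      _ = d * (d * d') * d' := by rw [hcomm]
      _ = (d * d) * (d' * d') := by group
      _ = 1 := by rw [hc.sq, hc'.sq, one_mul]
  have h3 := eq_one_of_sq_of_mem F hodd hF hsq
  apply hne
  calc d = (d')⁻¹ := eq_inv_of_mul_eq_one_left h3
    _ = d' := hc'.inv

include hodd hCF in
theorem exists_ne {a : G} {b : V} (ha : Tv a b) : ∃ d ∈ cls F a, d ≠ a := by
  have haF : a ∉ F := fun h => ha.ne_one (eq_one_of_sq_of_mem F hodd h ha.sq)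
  have : ¬ ∀ x ∈ F, a * x = x * a := fun h => haF (hCF a h)
  push Not at this
  obtain ⟨x, hx, hxa⟩ := this
  refine ⟨x * a * x⁻¹, ⟨x, hx, rfl⟩, ?_⟩
  intro h
  apply hxa
  have : x * a = x * a * x⁻¹ * x := by group
  rw [this, h]

include hFn in
theorem third_mem {a d d' : G} (hd : d ∈ cls F a) (hd' : d' ∈ cls F a) :
    d * d' * d⁻¹ ∈ cls F a := by
  rw [← cls_eq_of_mem hd]
  have hd'' : d' ∈ cls F d := by rw [cls_eq_of_mem hd]; exact hd'
  obtain ⟨h, hh, rfl⟩ := hd''
  exact ⟨d * h * d⁻¹, hFn.conj_mem h hh d, by group⟩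

include h2 hf hodd hdich hFn in
theorem third_tv {a d d' : G} {b c c' : V} (ha : Tv a b) (hd : d ∈ cls F a)
    (hd' : d' ∈ cls F a) (hne : d ≠ d') (hc : Tv d c) (hc' : Tv d' c') :
    d * d' * d⁻¹ ∈ cls F a ∧ Tv (d * d' * d⁻¹) (c' + c) := by
  refine ⟨third_mem F hd hd', ?_⟩
  have := hc'.conj d
  rwa [moves_of_ne h2 hf F hodd hdich ha hd hd' hne hc hc'] at this

include h2 hf hodd hdich hFn in
/-- a class has at most three members -/
theorem three {a d₁ d₂ d₃ : G} {b : V} (ha : Tv a b) (h1 : d₁ ∈ cls F a) (h2' : d₂ ∈ cls F a)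
    (h3 : d₃ ∈ cls F a) (hne : d₁ ≠ d₂) : d₃ = d₁ ∨ d₃ = d₂ ∨ d₃ = d₁ * d₂ * d₁⁻¹ := by
  by_contra hcon
  push Not at hcon
  obtain ⟨n1, n2, n3⟩ := hcon
  obtain ⟨c₁, t1⟩ := tv_of_mem_cls ha h1
  obtain ⟨c₂, t2⟩ := tv_of_mem_cls ha h2'
  obtain ⟨c₃, t3⟩ := tv_of_mem_cls ha h3
  obtain ⟨h4, t4⟩ := third_tv h2 hf F hodd hdich ha h1 h2' hne t1 t2
  have m1 := moves_of_ne h2 hf F hodd hdich ha h3 h1 n1 t3 t1
  have m2 := moves_of_ne h2 hf F hodd hdich ha h3 h2' n2 t3 t2
  have m4 := moves_of_ne h2 hf F hodd hdich ha h3 h4 n3 t3 t4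
  rw [smul_add, m1, m2] at m4
  apply t3.center_ne
  linear_combination (norm := module) m4

include h2 hf hodd hdich hFn in
theorem ctr_add {a : G} {b c c' : V} (ha : Tv a b) (hc : c ∈ ctr F a) (hc' : c' ∈ ctr F a)
    (hne : c ≠ c') : c + c' ∈ ctr F a := by
  obtain ⟨d, hd, t⟩ := hc
  obtain ⟨d', hd', t'⟩ := hc'
  have hdd : d ≠ d' := by
    rintro rfl
    exact hne (t.center_unique h2 hf t')
  obtain ⟨h4, t4⟩ := third_tv h2 hf F hodd hdich ha hd hd' hdd t t'
  exact ⟨_, h4, by rwa [add_comm] at t4⟩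

include h2 hf hodd hdich hFn hCF in
/-- **Theorem A, part 1**: a transvection moving a centre of the class has its centre in the class -/
theorem center_mem_of_moves {a a' : G} {b b' c₁ : V} (ha : Tv a b) (ha' : Tv a' b')
    (hc₁ : c₁ ∈ ctr F a) (hm : a' • c₁ ≠ c₁) : b' ∈ ctr F a := by
  obtain ⟨d₁, hd₁, t₁⟩ := hc₁
  have hm1 : a' • c₁ = c₁ + b' := ha'.act_of_ne h2 hm
  -- a second member
  obtain ⟨d₂, hd₂', hne⟩ := exists_ne F hodd hCF t₁
  have hd₂ : d₂ ∈ cls F a := by rw [← cls_eq_of_mem hd₁]; exact hd₂'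
  obtain ⟨c₂, t₂⟩ := tv_of_mem_cls ha hd₂
  obtain ⟨hd₃, t₃⟩ := third_tv h2 hf F hodd hdich ha hd₁ hd₂ hne.symm t₁ t₂
  -- a member whose centre is fixed by a'
  have hk : ∃ (dk : G) (ck : V), dk ∈ cls F a ∧ Tv dk ck ∧ a' • ck = ck := by
    by_cases h : a' • c₂ = c₂
    · exact ⟨d₂, c₂, hd₂, t₂, h⟩
    · refine ⟨_, _, hd₃, t₃, ?_⟩
      rw [smul_add, hm1, ha'.act_of_ne h2 h]
      linear_combination (norm := module) h2 b'
  obtain ⟨dk, ck, hdk, tk, hfix⟩ := hk
  have hfix' : dk • b' = b' := (hdich ha' tk).1 hfix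
  have hcomm : a' * dk = dk * a' := Tv.commute_of_fix h2 hf ha' tk hfix hfix'
  have hconj : a' * dk * a'⁻¹ = dk := by rw [hcomm]; group
  have hcls : cls F (a' * a * a'⁻¹) = cls F a := by
    have h1 : dk ∈ cls F (a' * a * a'⁻¹) := by
      have := conj_mem_cls (F := F) a' hdk
      rwa [hconj] at this
    rw [← cls_eq_of_mem h1, cls_eq_of_mem hdk]
  have he : a' * d₁ * a'⁻¹ ∈ cls F a := by
    rw [← hcls]; exact conj_mem_cls a' hd₁
  have te : Tv (a' * d₁ * a'⁻¹) (c₁ + b') := by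
    have := t₁.conj a'
    rwa [hm1] at this
  have hne' : d₁ ≠ a' * d₁ * a'⁻¹ := by
    intro h
    rw [← h] at te
    have := t₁.center_unique h2 hf te
    exact ha'.center_ne (by simpa using this.symm)
  obtain ⟨h5, t5⟩ := third_tv h2 hf F hodd hdich ha hd₁ he hne' t₁ te
  refine ⟨_, h5, ?_⟩
  have : c₁ + b' + c₁ = b' := by linear_combination (norm := module) h2 c₁
  rwa [this] at t5

include h2 hf hodd hdich hFn hCF in
/-- **Theorem A, part 2**: a transvection whose centre is a centre of the class lies in the class -/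
theorem mem_cls_of_center_mem {a a' : G} {b b' : V} (ha : Tv a b) (ha' : Tv a' b')
    (hb' : b' ∈ ctr F a) : a' ∈ cls F a := by
  obtain ⟨d, hd, t⟩ := hb'
  obtain ⟨d', hd'', hne⟩ := exists_ne F hodd hCF t
  have hd' : d' ∈ cls F a := by rw [← cls_eq_of_mem hd]; exact hd''
  obtain ⟨w', t'⟩ := tv_of_mem_cls ha hd'
  have m1 : d' • b' = b' + w' := moves_of_ne h2 hf F hodd hdich ha hd' hd hne t' t
  have m2 : d • w' = w' + b' := moves_of_ne h2 hf F hodd hdich ha hd hd' hne.symm t t'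
  have m3 : a' • w' = w' + b' := by
    apply ha'.act_of_ne h2
    intro h
    have := (hdich ha' t').1 h
    rw [m1] at this
    exact t'.add_center_ne h2 b' this
  have hdb : d • b' = b' := t.smul_center h2
  have hab : a' • b' = b' := ha'.smul_center h2
  have hcomm : d * a' = a' * d := Tv.commute_of_fix h2 hf t ha' hdb hab
  by_contra hcon
  have hs1 : d * a' ≠ 1 := by
    intro h
    apply hcon
    have : a' = d := by
      calc a' = d⁻¹ := (eq_inv_of_mul_eq_one_right h)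
        _ = d := t.inv
    rw [this]; exact hd
  have ts : Tv (d * a') b' := by
    refine ⟨hs1, ?_, ha'.center_ne, ?_⟩
    · calc d * a' * (d * a') = d * (a' * d) * a' := by group
        _ = d * (d * a') * a' := by rw [hcomm]
        _ = (d * d) * (a' * a') := by group
        _ = 1 := by rw [t.sq, ha'.sq, one_mul]
    · intro v
      rw [mul_smul]
      rcases ha'.act v with e | e <;> rcases t.act v with e' | e'
      · left; rw [e, e']
      · right; rw [e, e']
      · right; rw [e, smul_add, e', hdb]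
      · left; rw [e, smul_add, e', hdb]
        linear_combination (norm := module) h2 b'
  have hsw : (d * a') • w' = w' := by
    rw [mul_smul, m3, smul_add, m2, hdb]
    linear_combination (norm := module) h2 b'
  have := (hdich ts t').1 hsw
  rw [m1] at this
  exact t'.add_center_ne h2 b' this

include h2 hf hodd hdich hFn hCF in
/-- **Theorem A**: a transvection either lies in the class or fixes all centres of the class -/
theorem mem_cls_or_fix {a a' : G} {b b' : V} (ha : Tv a b) (ha' : Tv a' b') :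
    a' ∈ cls F a ∨ ∀ c ∈ (ctr F a : Set V), a' • c = c := by
  by_cases h : ∀ c ∈ (ctr F a : Set V), a' • c = c
  · right; exact h
  · left
    push Not at h
    obtain ⟨c, hc, hm⟩ := h
    exact mem_cls_of_center_mem h2 hf F hodd hCF hdich ha ha'
      (center_mem_of_moves h2 hf F hodd hCF hdich ha ha' hc hm)

end

end Cfsg.Agent.Lib.Helper11.TF
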