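import Mathlib
import Cfsg.Agent.Lib.Helper11.TFa

/-!
# Fixed points, the `A × B`-lemma and a nilpotency lemma (module versions over `F₂`)
-/

set_option autoImplicit false

namespace Cfsg.Agent.Lib.Helper11.TF

variable {G V : Type*} [Group G] [AddCommGroup V] [DistribMulAction G V]

/-- the fixed points of a subgroup -/
def fixV (B : Subgroup G) : AddSubgroup V where
  carrier := {v | ∀ g ∈ B, g • v = v}
  zero_mem' := fun g _ => smul_zero g
  add_mem' := by
    intro v w hv hw g hg
    rw [smul_add, hv g hg, hw g hg]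
  neg_mem' := by
    intro v hv g hg
    rw [smul_neg, hv g hg]

theorem mem_fixV {B : Subgroup G} {v : V} : v ∈ fixV B ↔ ∀ g ∈ B, g • v = v := Iff.rfl

theorem fixV_anti {B B' : Subgroup G} (h : B ≤ B') : (fixV B' : AddSubgroup V) ≤ fixV B :=
  fun _ hv g hg => hv g (h hg)

theorem mem_fixV_sup_zpowers {B : Subgroup G} {a : G} {v : V} (hv : v ∈ fixV B)
    (ha : a • v = v) : v ∈ fixV (B ⊔ Subgroup.zpowers a) := by
  intro g hg
  have : B ⊔ Subgroup.zpowers a ≤ MulAction.stabilizer G v := by
    apply sup_le
    · intro x hx; exact hv x hx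
    · rw [Subgroup.zpowers_le]; exact ha
  exact this hg

theorem two_mul_card_le_of_lt [Finite V] {U U' : AddSubgroup V} (h : U' < U) :
    2 * Nat.card U' ≤ Nat.card U := by
  obtain ⟨k, hk⟩ := AddSubgroup.card_dvd_of_le h.le
  have hpos : 0 < Nat.card U' := Nat.card_pos
  have hne : Nat.card U' ≠ Nat.card U := by
    intro heq
    exact h.ne (AddSubgroup.eq_of_le_of_card_ge h.le heq.symm.le)
  have hk0 : k ≠ 0 := by
    rintro rfl
    rw [mul_zero] at hk
    have : 0 < Nat.card U := Nat.card_pos
    omega
  have hk1 : k ≠ 1 := by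
    rintro rfl
    rw [mul_one] at hk
    exact hne hk.symm
  have hk2 : 2 ≤ k := by omega
  calc 2 * Nat.card U' = Nat.card U' * 2 := mul_comm _ _
    _ ≤ Nat.card U' * k := Nat.mul_le_mul_left _ hk2
    _ = Nat.card U := hk.symm

section axb
variable (h2 : ∀ v : V, v + v = 0) (hf : ∀ g : G, (∀ v : V, g • v = v) → g = 1)
include h2 hf

/-- **`A × B`-lemma** (module version): an element of odd order commuting with the `2`-group `D` and
acting trivially on the fixed points of `D` is trivial. -/
theorem axb [Finite V] (D : Subgroup G) (hD : IsPGroup 2 D) (n : G)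
    (hcomm : ∀ d ∈ D, d * n = n * d) (hodd : ∃ m, Odd m ∧ n ^ m = 1)
    (hfix : ∀ v ∈ (fixV D : AddSubgroup V), n • v = v) : n = 1 := by
  classical
  obtain ⟨m, hm, hnm⟩ := hodd
  let π : V → V := fun v => ∑ k ∈ Finset.range m, n ^ k • v
  have hπadd : ∀ v w, π (v + w) = π v + π w := by
    intro v w
    simp only [π, smul_add, Finset.sum_add_distrib]
  have hπn : ∀ v, π (n • v) = π v := by
    intro v
    have e1 : π (n • v) = ∑ k ∈ Finset.range m, n ^ (k + 1) • v := by
      simp only [π]
      apply Finset.sum_congr rfl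
      intro k _
      rw [pow_succ, mul_smul]
    have e2 := Finset.sum_range_succ (fun k => n ^ k • v) m
    have e3 := Finset.sum_range_succ' (fun k => n ^ k • v) m
    simp only [hnm, pow_zero, one_smul] at e2 e3
    rw [e1]
    have := e2.symm.trans e3
    exact (add_right_cancel this).symm
  have hπfix : ∀ v, n • v = v → π v = v := by
    intro v hv
    have hk : ∀ k : ℕ, n ^ k • v = v := by
      intro k
      induction k with
      | zero => simp
      | succ k ih => rw [pow_succ, mul_smul, hv, ih]
    simp only [π, hk, Finset.sum_const, Finset.card_range]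
    obtain ⟨j, rfl⟩ := hm
    rw [add_smul, mul_smul, two_smul, h2, zero_add, one_smul]
  have hcommk : ∀ d ∈ D, ∀ k : ℕ, d * n ^ k = n ^ k * d := by
    intro d hd k
    induction k with
    | zero => simp
    | succ k ih => rw [pow_succ, ← mul_assoc, ih, mul_assoc, hcomm d hd, ← mul_assoc]
  have hπD : ∀ d ∈ D, ∀ v, d • π v = π (d • v) := by
    intro d hd v
    simp only [π, Finset.smul_sum]
    apply Finset.sum_congr rfl
    intro k _
    rw [← mul_smul, ← mul_smul, hcommk d hd k]
  by_contra hn1
  have : ∃ v₀ : V, n • v₀ ≠ v₀ := by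
    by_contra hcon
    push Not at hcon
    exact hn1 (hf n hcon)
  obtain ⟨v₀, hv₀⟩ := this
  set w₀ : V := n • v₀ + v₀ with hw₀
  have hw₀ne : w₀ ≠ 0 := by
    intro h
    apply hv₀
    have : n • v₀ = n • v₀ + v₀ + v₀ := by rw [add_assoc, h2, add_zero]
    rw [this, ← hw₀, h, zero_add]
  have hπw₀ : π w₀ = 0 := by rw [hw₀, hπadd, hπn, h2]
  let MA : AddSubgroup V :=
    { carrier := {w | π w = 0}
      zero_mem' := by
        show π 0 = 0
        have := hπadd 0 0
        rw [add_zero] at this
        exact left_eq_add.mp this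
      add_mem' := by
        intro v w hv hw
        show π (v + w) = 0
        rw [hπadd, hv, hw, add_zero]
      neg_mem' := by
        intro v hv
        show π (-v) = 0
        have : -v = v := by
          rw [neg_eq_iff_add_eq_zero]; exact h2 v
        rw [this]; exact hv }
  let M : SubMulAction ↥D V :=
    { carrier := {w | π w = 0}
      smul_mem' := by
        intro d w hw
        show π ((d : G) • w) = 0
        rw [← hπD d d.2, hw, smul_zero] }
  have hMfin : Finite M := Finite.of_injective (fun x : M => (x : V)) Subtype.val_injective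
  have hcardM : Nat.card M = Nat.card MA := rfl
  have h2dvd : 2 ∣ Nat.card M := by
    rw [hcardM]
    have h1 : addOrderOf (⟨w₀, hπw₀⟩ : MA) = 2 := by
      apply addOrderOf_eq_prime
      · apply Subtype.ext
        show (2 : ℕ) • w₀ = 0
        rw [two_smul, h2]
      · intro h
        exact hw₀ne (congrArg Subtype.val h)
    rw [← h1]
    exact addOrderOf_dvd_natCard _
  have h0fix : (⟨0, MA.zero_mem⟩ : M) ∈ MulAction.fixedPoints ↥D M := by
    intro d
    apply Subtype.ext
    show (d : G) • (0 : V) = 0
    exact smul_zero _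
  haveI : Fact (Nat.Prime 2) := ⟨Nat.prime_two⟩
  obtain ⟨b, hb, hne⟩ := hD.exists_fixed_point_of_prime_dvd_card_of_fixed_point M h2dvd h0fix
  have hbfix : (b : V) ∈ (fixV D : AddSubgroup V) := by
    intro d hd
    have := hb ⟨d, hd⟩
    exact congrArg Subtype.val this
  have h3 : π (b : V) = (b : V) := hπfix _ (hfix _ hbfix)
  have h4 : π (b : V) = 0 := b.2
  apply hne
  apply Subtype.ext
  show (0 : V) = (b : V)
  rw [← h3, h4]

end axb

section nilp
variable (h2 : ∀ v : V, v + v = 0)
include h2

/-- a `2`-element acting non-trivially on an invariant subgroup moves a vector fixed by its square -/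
theorem exists_sq_fix (a : G) (m : ℕ) (ha : a ^ (2 ^ m) = 1) (U : AddSubgroup V)
    (hU : ∀ v ∈ U, a • v ∈ U) (hmove : ∃ v ∈ U, a • v ≠ v) :
    ∃ w ∈ U, a • w ≠ w ∧ (a * a) • w = w := by
  classical
  let N : V → V := fun v => a • v + v
  have hNU : ∀ j : ℕ, ∀ v ∈ U, N^[j] v ∈ U := by
    intro j
    induction j with
    | zero => intro v hv; exact hv
    | succ j ih =>
      intro v hv
      rw [Function.iterate_succ_apply']
      exact U.add_mem (hU _ (ih v hv)) (ih v hv)
  have claim : ∀ k : ℕ, ∀ v : V, N^[2 ^ k] v = a ^ (2 ^ k) • v + v := by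
    intro k
    induction k with
    | zero => intro v; simp [N]
    | succ k ih =>
      intro v
      have : 2 ^ (k + 1) = 2 ^ k + 2 ^ k := by ring
      rw [this, Function.iterate_add_apply, ih, ih, pow_add, smul_add, mul_smul]
      generalize a ^ 2 ^ k • a ^ 2 ^ k • v = x
      generalize a ^ 2 ^ k • v = y
      linear_combination (norm := module) h2 y
  obtain ⟨v, hvU, hv⟩ := hmove
  have hend : N^[2 ^ m] v = 0 := by rw [claim, ha, one_smul, h2]
  have hex : ∃ j, N^[j] v = 0 := ⟨_, hend⟩
  have hv0 : v ≠ 0 := by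
    rintro rfl
    exact hv (smul_zero a)
  have hNv : N v ≠ 0 := by
    intro h
    apply hv
    have : a • v = a • v + v + v := by rw [add_assoc, h2, add_zero]
    rw [this]
    show N v + v = v
    rw [h, zero_add]
  have hj0 : Nat.find hex ≠ 0 := by
    intro h
    have := Nat.find_spec hex
    rw [h] at this
    exact hv0 this
  have hj1 : Nat.find hex ≠ 1 := by
    intro h
    have := Nat.find_spec hex
    rw [h] at this
    exact hNv this
  obtain ⟨j, hj⟩ : ∃ j, Nat.find hex = j + 2 := ⟨Nat.find hex - 2, by omega⟩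
  refine ⟨N^[j] v, hNU j v hvU, ?_, ?_⟩
  · intro h
    have hmin : ¬ N^[j + 1] v = 0 := Nat.find_min hex (by omega)
    apply hmin
    rw [Function.iterate_succ_apply']
    show a • N^[j] v + N^[j] v = 0
    rw [h, h2]
  · have h0 : N^[j + 2] v = 0 := by rw [← hj]; exact Nat.find_spec hex
    rw [Function.iterate_succ_apply', Function.iterate_succ_apply'] at h0
    have h0' : a • (a • N^[j] v + N^[j] v) + (a • N^[j] v + N^[j] v) = 0 := h0
    rw [smul_add] at h0'
    rw [mul_smul]
    generalize a • a • N^[j] v = x at h0' ⊢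
    generalize a • N^[j] v = y at h0' ⊢
    generalize N^[j] v = w at h0' ⊢
    linear_combination (norm := module) h0' - h2 y - h2 w

end nilp

end Cfsg.Agent.Lib.Helper11.TF
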