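import Mathlib
import Cfsg.Agent.Lib.Helper12.Generation

/-!
# Generation by centralizers for a "four-group modulo the kernel" acting on a group of odd order

Two commuting elements `a₁, a₂` normalize `K` (of odd order) and their squares centralize `K`.
Then `K` is generated by `C_K(a₁)`, `C_K(a₂)`, `C_K(a₁ a₂)`.  Proved by applying the subgroup version
(`Helper12.le_gen_of_coprime`) inside the holomorph of `K`.
-/

set_option autoImplicit false

namespace Cfsg.Agent.Lib.Helper11.TF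

open Subgroup

section
variable {G : Type*} [Group G] (K : Subgroup G)

/-- the holomorph of `K` -/
abbrev Hol := ↥K ⋊[MonoidHom.id (MulAut ↥K)] MulAut ↥K

theorem hol_aux (K₀ : Subgroup G) (g : G) (hg : g ∈ normalizer (K : Set G))
    (h₀ : K ⊓ centralizer {g} ≤ K₀) :
    (SemidirectProduct.inl : ↥K →* Hol K).range ⊓
      centralizer {(SemidirectProduct.inr (K.normalizerMonoidHom ⟨g, hg⟩) : Hol K)} ≤
      (K₀.subgroupOf K).map (SemidirectProduct.inl : ↥K →* Hol K) := by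
  intro h hh
  obtain ⟨⟨n, rfl⟩, hc⟩ := Subgroup.mem_inf.mp hh
  have hc' := (mem_centralizer_iff.mp hc) _ rfl
  refine ⟨n, ?_, rfl⟩
  have h1 : (SemidirectProduct.inl (K.normalizerMonoidHom ⟨g, hg⟩ n) : Hol K) =
      SemidirectProduct.inl n := by
    have := SemidirectProduct.inl_aut (φ := MonoidHom.id (MulAut ↥K))
      (K.normalizerMonoidHom ⟨g, hg⟩) n
    rw [MonoidHom.id_apply] at this
    rw [this, hc']
    simp
  have h2 := SemidirectProduct.inl_injective h1
  have h3 : g * (n : G) * g⁻¹ = (n : G) := by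
    have := congrArg Subtype.val h2
    simpa using this
  show (n : G) ∈ K₀
  apply h₀
  refine Subgroup.mem_inf.mpr ⟨n.2, ?_⟩
  rw [mem_centralizer_iff]
  intro x hx
  rw [Set.mem_singleton_iff] at hx
  subst hx
  calc x * (n : G) = x * (n : G) * x⁻¹ * x := by group
    _ = (n : G) * x := by rw [h3]

end

theorem gen_of_four {G : Type*} [Group G] [Finite G] (K : Subgroup G)
    (hodd : (Nat.card K).Coprime 2) (a₁ a₂ : G)
    (h₁ : a₁ ∈ normalizer (K : Set G)) (h₂ : a₂ ∈ normalizer (K : Set G))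
    (hs₁ : ∀ k ∈ K, a₁ * a₁ * k = k * (a₁ * a₁)) (hs₂ : ∀ k ∈ K, a₂ * a₂ * k = k * (a₂ * a₂))
    (hc : a₁ * a₂ = a₂ * a₁) (K₀ : Subgroup G)
    (hx : K ⊓ centralizer {a₁} ≤ K₀) (hy : K ⊓ centralizer {a₂} ≤ K₀)
    (hxy : K ⊓ centralizer {a₁ * a₂} ≤ K₀) : K ≤ K₀ := by
  classical
  have : Fact (Nat.Prime 2) := ⟨Nat.prime_two⟩
  have : Finite (Hol K) := Finite.of_equiv _ SemidirectProduct.equivProd.symm
  set σ₁ : MulAut ↥K := K.normalizerMonoidHom ⟨a₁, h₁⟩ with hσ₁
  set σ₂ : MulAut ↥K := K.normalizerMonoidHom ⟨a₂, h₂⟩ with hσ₂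
  have hker : ∀ (g : G) (hg : g ∈ normalizer (K : Set G)), (∀ k ∈ K, g * k = k * g) →
      K.normalizerMonoidHom ⟨g, hg⟩ = 1 := by
    intro g hg hcomm
    have : (⟨g, hg⟩ : normalizer (K : Set G)) ∈ K.normalizerMonoidHom.ker := by
      rw [normalizerMonoidHom_ker, mem_subgroupOf, mem_centralizer_iff]
      intro k hk
      exact (hcomm k hk).symm
    exact this
  have hσ₁sq : σ₁ ^ 2 = 1 := by
    rw [hσ₁, ← map_pow]
    exact hker _ _ (fun k hk => by simpa [pow_two] using hs₁ k hk)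
  have hσ₂sq : σ₂ ^ 2 = 1 := by
    rw [hσ₂, ← map_pow]
    exact hker _ _ (fun k hk => by simpa [pow_two] using hs₂ k hk)
  have hσc : σ₁ * σ₂ = σ₂ * σ₁ := by
    rw [hσ₁, hσ₂, ← map_mul, ← map_mul]
    congr 1
    exact Subtype.ext hc
  have h₁₂ : a₁ * a₂ ∈ normalizer (K : Set G) := (normalizer (K : Set G)).mul_mem h₁ h₂
  have hσ₁₂ : σ₁ * σ₂ = K.normalizerMonoidHom ⟨a₁ * a₂, h₁₂⟩ := by
    rw [hσ₁, hσ₂, ← map_mul]
    rfl
  let inl : ↥K →* Hol K := SemidirectProduct.inl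
  let inr : MulAut ↥K →* Hol K := SemidirectProduct.inr
  have hcard : Nat.card inl.range = Nat.card K :=
    Nat.card_congr (Equiv.ofInjective inl SemidirectProduct.inl_injective).symm
  have hnorm : inl.range.Normal := by
    have : inl.range = (SemidirectProduct.rightHom : Hol K →* MulAut ↥K).ker :=
      SemidirectProduct.range_inl_eq_ker_rightHom
    rw [this]; infer_instance
  have hN : ∀ z : Hol K, z ∈ normalizer (inl.range : Set (Hol K)) := by
    intro z
    rw [normalizer_eq_top]; exact mem_top z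
  have key := Cfsg.Agent.Lib.Helper12.le_gen_of_coprime (p := 2) inl.range
    (by rw [hcard]; exact hodd) (inr σ₁) (inr σ₂) (hN _) (hN _)
    (by rw [← map_mul inr, ← map_mul inr, hσc]) (by rw [← map_pow, hσ₁sq, map_one])
    (by rw [← map_pow, hσ₂sq, map_one]) ((K₀.subgroupOf K).map inl)
    (hol_aux K K₀ a₁ h₁ hx)
    (by
      intro i
      fin_cases i
      · have h0 : (inr σ₁) ^ (0 : ZMod 2).val * inr σ₂ = inr σ₂ := by
          rw [ZMod.val_zero, pow_zero, one_mul]
        show inl.range ⊓ centralizer {(inr σ₁) ^ (0 : ZMod 2).val * inr σ₂} ≤ _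
        rw [h0]
        exact hol_aux K K₀ a₂ h₂ hy
      · have h3 : (inr σ₁) ^ (1 : ZMod 2).val * inr σ₂ =
            inr (K.normalizerMonoidHom ⟨a₁ * a₂, h₁₂⟩) := by
          rw [ZMod.val_one, pow_one, ← map_mul, hσ₁₂]
        show inl.range ⊓ centralizer {(inr σ₁) ^ (1 : ZMod 2).val * inr σ₂} ≤ _
        rw [h3]
        exact hol_aux K K₀ (a₁ * a₂) h₁₂ hxy)
  intro k hk
  have h4 : inl ⟨k, hk⟩ ∈ (K₀.subgroupOf K).map inl := key ⟨_, rfl⟩
  obtain ⟨m, hm, hm'⟩ := h4
  have := SemidirectProduct.inl_injective hm'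
  have hm2 : (m : G) ∈ K₀ := hm
  rw [this] at hm2
  exact hm2

end Cfsg.Agent.Lib.Helper11.TF
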