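import Mathlib
import Cfsg.Agent.Lib.Helper11.TFb
import Cfsg.Agent.Lib.Helper11.TFc
import Cfsg.Agent.Lib.Helper11.TFh

/-!
# A subgroup of index two with more fixed points
-/

set_option autoImplicit false

namespace Cfsg.Agent.Lib.Helper11.TF

open Subgroup

variable {G V : Type*} [Group G] [AddCommGroup V] [DistribMulAction G V]

theorem two_elt_eq_one {a : G} {j n : ℕ} (h1 : a ^ (2 ^ j) = 1) (hn : Odd n) (h2 : a ^ n = 1) :
    a = 1 := by
  have d1 : orderOf a ∣ 2 ^ j := orderOf_dvd_of_pow_eq_one h1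
  have d2 : orderOf a ∣ n := orderOf_dvd_of_pow_eq_one h2
  have hc : Nat.Coprime (2 ^ j) n := Nat.Coprime.pow_left j (Nat.coprime_two_left.mpr hn)
  have : orderOf a ∣ 1 := by
    have := Nat.dvd_gcd d1 d2
    rwa [hc.gcd_eq_one] at this
  exact orderOf_eq_one_iff.mp (Nat.dvd_one.mp this)

theorem card_coprime_two_of_odd [Finite G] (K : Subgroup G)
    (hodd : ∀ x ∈ K, ∃ n, Odd n ∧ x ^ n = 1) : (Nat.card K).Coprime 2 := by
  haveI : Fact (Nat.Prime 2) := ⟨Nat.prime_two⟩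
  apply Nat.Coprime.symm
  rw [Nat.Prime.coprime_iff_not_dvd Nat.prime_two]
  intro hdvd
  obtain ⟨x, hx⟩ := exists_prime_orderOf_dvd_card' 2 hdvd
  obtain ⟨n, hn, hxn⟩ := hodd x x.2
  have h1 : x ^ n = 1 := Subtype.ext (by simpa using hxn)
  have h2 : x ^ (2 ^ 1) = 1 := by rw [pow_one, ← hx]; exact pow_orderOf_eq_one x
  have := two_elt_eq_one h2 hn h1
  rw [this, orderOf_one] at hx
  omega

section
variable (h2 : ∀ v : V, v + v = 0) (hf : ∀ g : G, (∀ v : V, g • v = v) → g = 1)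

include h2 hf in
theorem exists_index_two [Finite G] [Finite V] (F : Subgroup G) [hFn : F.Normal]
    (hodd : ∀ x ∈ F, ∃ n, Odd n ∧ x ^ n = 1)
    (hCF : ∀ g : G, (∀ x ∈ F, g * x = x * g) → g ∈ F)
    (A : Subgroup G) (hA2 : IsPGroup 2 A) (hAc : ∀ x ∈ A, ∀ y ∈ A, x * y = y * x)
    (hA1 : A ≠ ⊥) :
    ∃ D₁ : Subgroup G, D₁ ≤ A ∧ (∃ a ∈ A, a ∉ D₁) ∧ Nat.card A ≤ 2 * Nat.card D₁ ∧
      (fixV A : AddSubgroup V) < fixV D₁ := by
  classical
  have hpow2 : ∀ a ∈ A, ∃ m : ℕ, a ^ (2 ^ m) = 1 := by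
    intro a ha
    obtain ⟨m, hm⟩ := hA2 ⟨a, ha⟩
    exact ⟨m, by simpa using congrArg Subtype.val hm⟩
  let Bad : Subgroup G → Prop := fun D => D ≤ A ∧ ∃ k ∈ F, (∀ d ∈ D, d * k = k * d) ∧
    ∃ a ∈ A, a * k ≠ k * a
  have hbot : Bad ⊥ := by
    refine ⟨bot_le, ?_⟩
    obtain ⟨a, ha1⟩ := (Subgroup.ne_bot_iff_exists_ne_one.mp hA1)
    have ha1' : (a : G) ≠ 1 := fun h => ha1 (Subtype.ext h)
    have haF : (a : G) ∉ F := by
      intro h
      obtain ⟨n, hn, hxn⟩ := hodd _ h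
      obtain ⟨m, hm⟩ := hpow2 _ a.2
      exact ha1' (two_elt_eq_one hm hn hxn)
    have : ¬ ∀ x ∈ F, (a : G) * x = x * a := fun h => haF (hCF _ h)
    push Not at this
    obtain ⟨k, hk, hak⟩ := this
    refine ⟨k, hk, ?_, a, a.2, hak⟩
    intro d hd
    rw [Subgroup.mem_bot] at hd
    rw [hd, one_mul, mul_one]
  haveI : Nonempty {D : Subgroup G // Bad D} := ⟨⟨⊥, hbot⟩⟩
  obtain ⟨⟨D, hDbad⟩, hmax⟩ :=
    Finite.exists_max (fun D : {D : Subgroup G // Bad D} => Nat.card D.1)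
  obtain ⟨hDA, k₀, hk₀F, hk₀D, a₀, ha₀A, ha₀k₀⟩ := hDbad
  -- commuting with `D` and `a` means commuting with `D ⊔ zpowers a`
  have hsupc : ∀ (a k : G), (∀ d ∈ D, d * k = k * d) → a * k = k * a →
      ∀ d ∈ D ⊔ zpowers a, d * k = k * d := by
    intro a k hkD hak d hd
    have : D ⊔ zpowers a ≤ centralizer {k} := by
      apply sup_le
      · intro x hx
        rw [mem_centralizer_iff]
        intro y hy
        rw [Set.mem_singleton_iff] at hy
        rw [hy]; exact (hkD x hx).symm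
      · rw [zpowers_le, mem_centralizer_iff]
        intro y hy
        rw [Set.mem_singleton_iff] at hy
        rw [hy]; exact hak.symm
    have := this hd
    rw [mem_centralizer_iff] at this
    exact (this k rfl).symm
  have hmax' : ∀ a ∈ A, a ∉ D → ∀ k ∈ F, (∀ d ∈ D, d * k = k * d) → a * k = k * a →
      ∀ a' ∈ A, a' * k = k * a' := by
    intro a ha haD k hkF hkD hak
    by_contra hcon
    push Not at hcon
    obtain ⟨a', ha', hne⟩ := hcon
    have hbad : Bad (D ⊔ zpowers a) :=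
      ⟨sup_le hDA (zpowers_le.mpr ha), k, hkF, hsupc a k hkD hak, a', ha', hne⟩
    have hlt : Nat.card D < Nat.card ↥(D ⊔ zpowers a) := by
      apply lt_of_le_of_ne (Subgroup.card_le_of_le le_sup_left)
      intro heq
      have := Subgroup.eq_of_le_of_card_ge (le_sup_left : D ≤ D ⊔ zpowers a) heq.symm.le
      apply haD
      rw [this]
      exact (le_sup_right : zpowers a ≤ D ⊔ zpowers a) (mem_zpowers a)
    have := hmax ⟨_, hbad⟩
    simp only at this
    omega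
  set K : Subgroup G := F ⊓ centralizer (D : Set G) with hK
  have hKmem : ∀ k, k ∈ K ↔ k ∈ F ∧ ∀ d ∈ D, d * k = k * d := by
    intro k
    rw [hK, Subgroup.mem_inf, mem_centralizer_iff]
    rfl
  have hAK : ∀ a ∈ A, ∀ k ∈ K, a * k * a⁻¹ ∈ K := by
    intro a ha k hk
    rw [hKmem] at hk ⊢
    refine ⟨hFn.conj_mem k hk.1 a, ?_⟩
    intro d hd
    have e1 : d * a = a * d := hAc d (hDA hd) a ha
    have e2 : d * a⁻¹ = a⁻¹ * d := hAc d (hDA hd) a⁻¹ (A.inv_mem ha)
    calc d * (a * k * a⁻¹) = (d * a) * k * a⁻¹ := by group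
      _ = a * (d * k) * a⁻¹ := by rw [e1]; group
      _ = a * k * (d * a⁻¹) := by rw [hk.2 d hd]; group
      _ = a * k * a⁻¹ * d := by rw [e2]; group
  have hnorm : ∀ a ∈ A, a ∈ normalizer (K : Set G) := by
    intro a ha
    rw [mem_normalizer_iff]
    intro k
    constructor
    · exact hAK a ha k
    · intro h
      have := hAK a⁻¹ (A.inv_mem ha) _ h
      have e : a⁻¹ * (a * k * a⁻¹) * a⁻¹⁻¹ = k := by group
      rwa [e] at this
  have hKodd : ∀ x ∈ K, ∃ n, Odd n ∧ x ^ n = 1 := fun x hx => hodd x ((hKmem x).mp hx).1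
  have hk₀K : k₀ ∈ K := (hKmem k₀).mpr ⟨hk₀F, hk₀D⟩
  -- `A / D` is cyclic
  have hcyc : ∃ a ∈ A, ∀ x ∈ A, ∃ j : ℤ, (a ^ j)⁻¹ * x ∈ D := by
    letI : CommGroup ↥A :=
      { (inferInstance : Group ↥A) with
        mul_comm := fun x y => Subtype.ext (hAc x x.2 y y.2) }
    by_cases hc : IsCyclic (↥A ⧸ D.subgroupOf A)
    · obtain ⟨q, hq⟩ := hc.exists_generator
      obtain ⟨a, rfl⟩ := QuotientGroup.mk_surjective q
      refine ⟨a, a.2, ?_⟩
      intro x hx
      obtain ⟨j, hj⟩ := Subgroup.mem_zpowers_iff.mp (hq (QuotientGroup.mk ⟨x, hx⟩))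
      refine ⟨j, ?_⟩
      have h1 : ((a ^ j : ↥A) : ↥A ⧸ D.subgroupOf A) = ((⟨x, hx⟩ : ↥A) : ↥A ⧸ D.subgroupOf A) := by
        rw [← hj]; rfl
      have h2' := QuotientGroup.eq.mp h1
      rw [mem_subgroupOf] at h2'
      simpa using h2'
    · exfalso
      obtain ⟨p, hp, x, y, hxp, hyp, hx1, hyx⟩ := Cfsg.Agent.Lib.Helper12.exists_rank_two hc
      have hQ2 : IsPGroup 2 (↥A ⧸ D.subgroupOf A) := hA2.to_quotient _
      have hp2 : p = 2 := by
        haveI : Fact p.Prime := ⟨hp⟩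
        have ho : orderOf x = p := orderOf_eq_prime hxp hx1
        obtain ⟨m, hm⟩ := hQ2 x
        have : p ∣ 2 ^ m := by rw [← ho]; exact orderOf_dvd_of_pow_eq_one hm
        exact (Nat.prime_dvd_prime_iff_eq hp Nat.prime_two).mp (hp.dvd_of_dvd_pow this)
      subst hp2
      obtain ⟨a₁, rfl⟩ := QuotientGroup.mk_surjective x
      obtain ⟨a₂, rfl⟩ := QuotientGroup.mk_surjective y
      have hsq : ∀ a : ↥A, ((a : ↥A ⧸ D.subgroupOf A)) ^ 2 = 1 → (a : G) * a ∈ D := by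
        intro a h
        have h1 : ((a ^ 2 : ↥A) : ↥A ⧸ D.subgroupOf A) = 1 := h
        have := (QuotientGroup.eq_one_iff _).mp h1
        rw [mem_subgroupOf] at this
        simpa [pow_two] using this
      have h1D : (a₁ : G) ∉ D := by
        intro h
        apply hx1
        exact (QuotientGroup.eq_one_iff _).mpr (mem_subgroupOf.mpr h)
      have h2D : (a₂ : G) ∉ D := by
        intro h
        apply hyx
        have : ((a₂ : ↥A) : ↥A ⧸ D.subgroupOf A) = 1 :=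
          (QuotientGroup.eq_one_iff _).mpr (mem_subgroupOf.mpr h)
        rw [this]; exact one_mem _
      have h12D : (a₁ : G) * a₂ ∉ D := by
        intro h
        apply hyx
        have h3 : ((a₁ * a₂ : ↥A) : ↥A ⧸ D.subgroupOf A) = 1 :=
          (QuotientGroup.eq_one_iff _).mpr (mem_subgroupOf.mpr (by simpa using h))
        have h4 : ((a₂ : ↥A) : ↥A ⧸ D.subgroupOf A) = ((a₁ : ↥A) : ↥A ⧸ D.subgroupOf A)⁻¹ := by
          rw [eq_inv_iff_mul_eq_one, mul_comm]
          exact h3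
        rw [h4]; exact inv_mem (mem_zpowers _)
      have hcent : ∀ a ∈ A, a ∉ D → K ⊓ centralizer {a} ≤ centralizer (A : Set G) := by
        intro a ha haD k hk
        obtain ⟨hkK, hkc⟩ := Subgroup.mem_inf.mp hk
        rw [mem_centralizer_iff] at hkc ⊢
        have hak : a * k = k * a := hkc a rfl
        intro a' ha'
        exact hmax' a ha haD k ((hKmem k).mp hkK).1 ((hKmem k).mp hkK).2 hak a' ha'
      have hsqc : ∀ a : G, a * a ∈ D → ∀ k ∈ K, a * a * k = k * (a * a) := by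
        intro a ha k hk
        exact ((hKmem k).mp hk).2 _ ha
      have key := gen_of_four K (card_coprime_two_of_odd K hKodd) (a₁ : G) (a₂ : G)
        (hnorm _ a₁.2) (hnorm _ a₂.2) (hsqc _ (hsq a₁ hxp)) (hsqc _ (hsq a₂ hyp))
        (hAc _ a₁.2 _ a₂.2) (centralizer (A : Set G)) (hcent _ a₁.2 h1D) (hcent _ a₂.2 h2D)
        (hcent _ (A.mul_mem a₁.2 a₂.2) h12D)
      have := key hk₀K
      rw [mem_centralizer_iff] at this
      exact ha₀k₀ (this a₀ ha₀A)
  obtain ⟨a, haA, hdec⟩ := hcyc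
  have hAsup : A ≤ D ⊔ zpowers a := by
    intro x hx
    obtain ⟨j, hj⟩ := hdec x hx
    have : x = a ^ j * ((a ^ j)⁻¹ * x) := by group
    rw [this]
    exact mul_mem ((le_sup_right : zpowers a ≤ D ⊔ zpowers a) (zpow_mem (mem_zpowers a) j))
      ((le_sup_left : D ≤ D ⊔ zpowers a) hj)
  have hak₀ : a * k₀ ≠ k₀ * a := by
    intro h
    exact ha₀k₀ (hsupc a k₀ hk₀D h a₀ (hAsup ha₀A))
  -- `a` moves a fixed point of `D`
  have hKfix : ∀ k ∈ K, ∀ v ∈ (fixV D : AddSubgroup V), k • v ∈ (fixV D : AddSubgroup V) := by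
    intro k hk v hv d hd
    rw [← mul_smul, ((hKmem k).mp hk).2 d hd, mul_smul, hv d hd]
  have hmove : ∃ v ∈ (fixV D : AddSubgroup V), a • v ≠ v := by
    by_contra hcon
    push Not at hcon
    have hainv : ∀ v ∈ (fixV D : AddSubgroup V), a⁻¹ • v = v := by
      intro v hv
      rw [inv_smul_eq_iff, hcon v hv]
    set n : G := a * k₀ * a⁻¹ * k₀⁻¹ with hn
    have hnK : n ∈ K := K.mul_mem (hAK a haA k₀ hk₀K) (K.inv_mem hk₀K)
    have hn1 : n ≠ 1 := by
      intro h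
      apply hak₀
      have : a * k₀ = n * k₀ * a := by rw [hn]; group
      rw [this, h, one_mul]
    apply hn1
    apply axb h2 hf D (hA2.to_le hDA) n
    · intro d hd
      exact ((hKmem n).mp hnK).2 d hd
    · exact hKodd n hnK
    · intro v hv
      have h1 : k₀⁻¹ • v ∈ (fixV D : AddSubgroup V) := hKfix _ (K.inv_mem hk₀K) v hv
      rw [hn, mul_smul, mul_smul, mul_smul, hainv _ h1, smul_inv_smul, hcon v hv]
  obtain ⟨m, hm⟩ := hpow2 a haA
  have haU : ∀ v ∈ (fixV D : AddSubgroup V), a • v ∈ (fixV D : AddSubgroup V) := by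
    intro v hv d hd
    rw [← mul_smul, hAc d (hDA hd) a haA, mul_smul, hv d hd]
  obtain ⟨w, hwU, hwa, hwaa⟩ := exists_sq_fix h2 a m hm (fixV D) haU hmove
  have hwD₁ : w ∈ (fixV (D ⊔ zpowers (a * a)) : AddSubgroup V) := mem_fixV_sup_zpowers hwU hwaa
  have hD₁A : D ⊔ zpowers (a * a) ≤ A := sup_le hDA (zpowers_le.mpr (A.mul_mem haA haA))
  have haD₁ : a ∉ D ⊔ zpowers (a * a) := fun h => hwa (hwD₁ a h)
  refine ⟨D ⊔ zpowers (a * a), hD₁A, ⟨a, haA, haD₁⟩, ?_, ?_⟩
  · -- cardinality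
    have hsub : (A : Set G) ⊆ ((D ⊔ zpowers (a * a) : Subgroup G) : Set G) ∪
        (fun y => a * y) '' ((D ⊔ zpowers (a * a) : Subgroup G) : Set G) := by
      intro x hx
      obtain ⟨j, hj⟩ := hdec x hx
      have hjD₁ : (a ^ j)⁻¹ * x ∈ D ⊔ zpowers (a * a) := (le_sup_left : D ≤ _) hj
      have heven : ∀ i : ℤ, a ^ (2 * i) ∈ D ⊔ zpowers (a * a) := by
        intro i
        have : a ^ (2 * i) = (a * a) ^ i := by
          rw [zpow_mul, zpow_two]
        rw [this]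
        exact (le_sup_right : zpowers (a * a) ≤ _) (zpow_mem (mem_zpowers _) i)
      rcases Int.even_or_odd' j with ⟨i, hi | hi⟩
      · left
        have : x = a ^ (2 * i) * ((a ^ j)⁻¹ * x) := by rw [hi]; group
        rw [this]
        exact mul_mem (heven i) hjD₁
      · right
        refine ⟨a ^ (2 * i) * ((a ^ j)⁻¹ * x), mul_mem (heven i) hjD₁, ?_⟩
        show a * (a ^ (2 * i) * ((a ^ j)⁻¹ * x)) = x
        rw [hi, zpow_add, zpow_one]; group
    have h1 : Nat.card A = (A : Set G).ncard := Nat.card_coe_set_eq _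
    have h2' : Nat.card ↥(D ⊔ zpowers (a * a)) =
        ((D ⊔ zpowers (a * a) : Subgroup G) : Set G).ncard := Nat.card_coe_set_eq _
    rw [h1, h2', two_mul]
    calc (A : Set G).ncard ≤ _ := Set.ncard_le_ncard hsub (Set.toFinite _)
      _ ≤ _ := Set.ncard_union_le _ _
      _ ≤ _ := Nat.add_le_add_left (Set.ncard_image_le (Set.toFinite _)) _
  · refine lt_of_le_of_ne (fixV_anti hD₁A) ?_
    intro h
    have : w ∈ (fixV A : AddSubgroup V) := by rw [h]; exact hwD₁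
    exact hwa (this a haA)

end

end Cfsg.Agent.Lib.Helper11.TF
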