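import Mathlib
import Cfsg.Agent.Lib.Helper11.TFd

/-!
# Offenders on faithful `F₂`-modules of solvable-type groups (Theorem P)

For an abelian `2`-subgroup `A`: `|A| |C_V(A)| ≤ |V|`, and in case of equality `A` is generated by
transvections.
-/

set_option autoImplicit false

namespace Cfsg.Agent.Lib.Helper11.TF

open Subgroup

variable {G V : Type*} [Group G] [AddCommGroup V] [DistribMulAction G V]

theorem card_le_two_mul_of_cover [Finite G] (A A₁ : Subgroup G) (t : G)
    (h : ∀ a ∈ A, a ∈ A₁ ∨ a * t ∈ A₁) : Nat.card A ≤ 2 * Nat.card A₁ := by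
  have hsub : (A : Set G) ⊆ (A₁ : Set G) ∪ (fun y => y * t⁻¹) '' (A₁ : Set G) := by
    intro x hx
    rcases h x hx with h1 | h1
    · left; exact h1
    · right; exact ⟨x * t, h1, by simp⟩
  have h1 : Nat.card A = (A : Set G).ncard := Nat.card_coe_set_eq _
  have h2' : Nat.card A₁ = (A₁ : Set G).ncard := Nat.card_coe_set_eq _
  rw [h1, h2', two_mul]
  calc (A : Set G).ncard ≤ _ := Set.ncard_le_ncard hsub (Set.toFinite _)
    _ ≤ _ := Set.ncard_union_le _ _
    _ ≤ _ := Nat.add_le_add_left (Set.ncard_image_le (Set.toFinite _)) _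

/-- the transvections in `A` -/
def tvs (V : Type*) [AddCommGroup V] [DistribMulAction G V] (A : Subgroup G) : Set G :=
  {d | d ∈ A ∧ ∃ b : V, Tv d b}

section
variable (h2 : ∀ v : V, v + v = 0) (hf : ∀ g : G, (∀ v : V, g • v = v) → g = 1)

include h2 hf in
/-- an involution whose fixed points have index two is a transvection -/
theorem tv_of_index_two [Finite V] {a : G} (ha : a * a = 1) (ha1 : a ≠ 1) (U₀ : AddSubgroup V)
    (hU₀ : ∀ v ∈ U₀, a • v = v) (hcard : Nat.card V ≤ 2 * Nat.card U₀) : ∃ b : V, Tv a b := by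
  classical
  let U : AddSubgroup V :=
    { carrier := {v | a • v = v}
      zero_mem' := smul_zero a
      add_mem' := by
        intro v w hv hw
        have hv' : a • v = v := hv
        have hw' : a • w = w := hw
        show a • (v + w) = v + w
        rw [smul_add, hv', hw']
      neg_mem' := by
        intro v hv
        have hv' : a • v = v := hv
        show a • (-v) = -v
        rw [smul_neg, hv'] }
  have hUmem : ∀ v, v ∈ U ↔ a • v = v := fun v => Iff.rfl
  have hU₀U : U₀ ≤ U := fun v hv => hU₀ v hv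
  have hUtop : U < ⊤ := by
    refine lt_of_le_of_ne le_top ?_
    intro h
    apply ha1
    apply hf
    intro v
    have : v ∈ U := by rw [h]; trivial
    exact this
  have h1 := two_mul_card_le_of_lt hUtop
  rw [AddSubgroup.card_top] at h1
  have h3 : Nat.card U₀ ≤ Nat.card U := AddSubgroup.card_le_of_le hU₀U
  have h4 : 2 * Nat.card U = Nat.card V := by omega
  have h5 := AddSubgroup.index_mul_card U
  have hpos : 0 < Nat.card U := Nat.card_pos
  have hidx : U.index = 2 := by
    rw [← h4] at h5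
    exact Nat.eq_of_mul_eq_mul_right hpos h5
  obtain ⟨v₀, hv₀⟩ := AddSubgroup.index_eq_two_iff.mp hidx
  have hv₀U : v₀ ∉ U := by
    have := hv₀ 0
    rw [zero_add] at this
    rcases this with ⟨_, h⟩ | ⟨_, h⟩
    · exact absurd U.zero_mem h
    · exact h
  refine ⟨a • v₀ + v₀, ha1, ha, ?_, ?_⟩
  · intro h
    apply hv₀U
    show a • v₀ = v₀
    have : a • v₀ = -v₀ := eq_neg_of_add_eq_zero_left h
    rw [this]
    exact neg_eq_of_add_eq_zero_left (h2 v₀)
  · intro v
    by_cases hv : v ∈ U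
    · left; exact hv
    · right
      have hx := hv₀ v
      have hvv : v + v₀ ∈ U := by
        rcases hx with ⟨h, _⟩ | ⟨h, _⟩
        · exact h
        · exact absurd h hv
      have e : a • (v + v₀) = v + v₀ := hvv
      rw [smul_add] at e
      generalize a • v = x at e ⊢
      generalize a • v₀ = y at e ⊢
      linear_combination (norm := module) e - h2 y

variable (F : Subgroup G) [hFn : F.Normal] (hodd : ∀ x ∈ F, ∃ n, Odd n ∧ x ^ n = 1)
  (hCF : ∀ g : G, (∀ x ∈ F, g * x = x * g) → g ∈ F)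
  (hdich : ∀ {d d' : G} {c c' : V}, Tv d c → Tv d' c' → (d • c' = c' ↔ d' • c = c))

include h2 hf hodd hdich hFn in
/-- an element commuting with a transvection `t` fixes its centre and fixes or moves by `b` each other
centre of the class of `t` -/
theorem peel_act {t a : G} {b c₂ : V} (ht : Tv t b) (hat : a * t = t * a) (hc : c₂ ∈ ctr F t)
    (hne : c₂ ≠ b) : a • b = b ∧ (a • c₂ = c₂ ∨ a • c₂ = c₂ + b) := by
  have hconj : a * t * a⁻¹ = t := by rw [hat]; group
  have hab : a • b = b := by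
    have := ht.conj a
    rw [hconj] at this
    exact this.center_unique h2 hf ht
  refine ⟨hab, ?_⟩
  obtain ⟨t', ht', htv'⟩ := hc
  have hne' : t ≠ t' := by
    rintro rfl
    exact hne (htv'.center_unique h2 hf ht)
  have h3 : a * t' * a⁻¹ ∈ cls F t := by
    have := conj_mem_cls (F := F) a ht'
    rwa [hconj] at this
  have htv3 : Tv (a * t' * a⁻¹) (a • c₂) := htv'.conj a
  rcases three h2 hf F hodd hdich ht (mem_cls_self F t) ht' h3 hne' with e | e | e
  · exfalso
    rw [e] at htv3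
    have : a • c₂ = b := htv3.center_unique h2 hf ht
    rw [← hab] at this
    exact hne (MulAction.injective a this)
  · left
    rw [e] at htv3
    exact htv3.center_unique h2 hf htv'
  · right
    obtain ⟨_, t4⟩ := third_tv h2 hf F hodd hdich ht (mem_cls_self F t) ht' hne' ht htv'
    rw [e] at htv3
    exact htv3.center_unique h2 hf t4

include h2 hf hodd hdich hFn hCF in
theorem offender_aux [Finite G] [Finite V] (n : ℕ) : ∀ A : Subgroup G, Nat.card A = n →
    IsPGroup 2 A → (∀ x ∈ A, ∀ y ∈ A, x * y = y * x) →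
    Nat.card A * Nat.card (fixV A : AddSubgroup V) ≤ Nat.card V ∧
    (Nat.card A * Nat.card (fixV A : AddSubgroup V) = Nat.card V → A ≤ closure (tvs V A)) := by
  induction n using Nat.strong_induction_on with
  | _ n ih =>
  intro A hAn hA2 hAc
  by_cases hA1 : A = ⊥
  · subst hA1
    refine ⟨?_, fun _ => bot_le⟩
    rw [Subgroup.card_bot, one_mul]
    exact AddSubgroup.card_le_card_addGroup _
  obtain ⟨D₁, hD₁A, ⟨a, haA, haD₁⟩, hcard, hfix⟩ :=
    exists_index_two (V := V) h2 hf F hodd hCF A hA2 hAc hA1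
  have hlt : Nat.card D₁ < Nat.card A := by
    apply lt_of_le_of_ne (Subgroup.card_le_of_le hD₁A)
    intro heq
    exact haD₁ ((Subgroup.eq_of_le_of_card_ge hD₁A heq.symm.le) ▸ haA)
  obtain ⟨ihle, iheq⟩ := ih (Nat.card D₁) (hAn ▸ hlt) D₁ rfl (hA2.to_le hD₁A)
    (fun x hx y hy => hAc x (hD₁A hx) y (hD₁A hy))
  have hfixc := two_mul_card_le_of_lt hfix
  have hchain : Nat.card A * Nat.card (fixV A : AddSubgroup V) ≤
      Nat.card D₁ * Nat.card (fixV D₁ : AddSubgroup V) := by
    calc Nat.card A * Nat.card (fixV A : AddSubgroup V)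
        ≤ 2 * Nat.card D₁ * Nat.card (fixV A : AddSubgroup V) := Nat.mul_le_mul_right _ hcard
      _ = Nat.card D₁ * (2 * Nat.card (fixV A : AddSubgroup V)) := by ring
      _ ≤ _ := Nat.mul_le_mul_left _ hfixc
  refine ⟨hchain.trans ihle, ?_⟩
  intro heq
  have hD₁eq : Nat.card D₁ * Nat.card (fixV D₁ : AddSubgroup V) = Nat.card V :=
    le_antisymm ihle (heq ▸ hchain)
  have hD₁gen := iheq hD₁eq
  -- existence of a transvection in `A`
  have hex : ∃ t ∈ A, ∃ b : V, Tv t b := by
    by_cases hD₁1 : D₁ = ⊥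
    · subst hD₁1
      rw [Subgroup.card_bot] at hcard hD₁eq
      have hVpos : 0 < Nat.card V := Nat.card_pos
      have hfpos : 0 < Nat.card (fixV A : AddSubgroup V) := Nat.card_pos
      have hA2' : Nat.card A = 2 := by
        have h1 : 1 < Nat.card A := by
          rw [Subgroup.one_lt_card_iff_ne_bot]; exact hA1
        omega
      have haa : a * a = 1 := by
        have : (⟨a, haA⟩ : A) ^ Nat.card A = 1 := pow_card_eq_one'
        rw [hA2'] at this
        have := congrArg Subtype.val this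
        simpa [pow_two] using this
      have ha1 : a ≠ 1 := fun h => haD₁ (h ▸ Subgroup.one_mem _)
      obtain ⟨b, hb⟩ := tv_of_index_two h2 hf haa ha1 (fixV A) (fun v hv => hv a haA)
        (by rw [← heq, hA2'])
      exact ⟨a, haA, b, hb⟩
    · by_contra hcon
      push Not at hcon
      apply hD₁1
      rw [eq_bot_iff]
      refine hD₁gen.trans ?_
      rw [closure_le]
      rintro d ⟨hd, b, hb⟩
      exact absurd hb (hcon d (hD₁A hd) b)
  obtain ⟨t, htA, b, ht⟩ := hex
  obtain ⟨t', ht'cls, ht'ne⟩ := exists_ne F hodd hCF ht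
  obtain ⟨c₂, htv'⟩ := tv_of_mem_cls ht ht'cls
  have hmv : t • c₂ = c₂ + b :=
    moves_of_ne h2 hf F hodd hdich ht (mem_cls_self F t) ht'cls ht'ne.symm ht htv'
  have hc₂b : c₂ ≠ b := by
    rintro rfl
    rw [ht.smul_center h2, h2] at hmv
    exact ht.center_ne hmv
  have hc₂ctr : c₂ ∈ ctr F t := ⟨t', ht'cls, htv'⟩
  set A₁ : Subgroup G := A ⊓ MulAction.stabilizer G c₂ with hA₁
  have hA₁mem : ∀ x, x ∈ A₁ ↔ x ∈ A ∧ x • c₂ = c₂ := by
    intro x
    rw [hA₁, Subgroup.mem_inf, MulAction.mem_stabilizer_iff]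
  have hcover : ∀ x ∈ A, x ∈ A₁ ∨ x * t ∈ A₁ := by
    intro x hx
    obtain ⟨hxb, hx2⟩ := peel_act h2 hf F hodd hdich ht (hAc x hx t htA) hc₂ctr hc₂b
    rcases hx2 with e | e
    · left; exact (hA₁mem x).mpr ⟨hx, e⟩
    · right
      refine (hA₁mem _).mpr ⟨A.mul_mem hx htA, ?_⟩
      rw [mul_smul, hmv, smul_add, e, hxb, add_assoc, h2, add_zero]
  have htA₁ : t ∉ A₁ := by
    intro h
    exact ht.add_center_ne h2 c₂ (hmv.symm.trans ((hA₁mem t).mp h).2)
  have hA₁A : A₁ ≤ A := inf_le_left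
  have hlt₁ : Nat.card A₁ < Nat.card A := by
    apply lt_of_le_of_ne (Subgroup.card_le_of_le hA₁A)
    intro heq'
    exact htA₁ ((Subgroup.eq_of_le_of_card_ge hA₁A heq'.symm.le) ▸ htA)
  have hc₂fix : c₂ ∈ (fixV A₁ : AddSubgroup V) := fun g hg => ((hA₁mem g).mp hg).2
  have hc₂nfix : c₂ ∉ (fixV A : AddSubgroup V) :=
    fun h => htA₁ ((hA₁mem t).mpr ⟨htA, h t htA⟩)
  have hfixlt : (fixV A : AddSubgroup V) < fixV A₁ :=
    lt_of_le_of_ne (fixV_anti hA₁A) (fun h => hc₂nfix (h ▸ hc₂fix))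
  obtain ⟨ihle₁, iheq₁⟩ := ih (Nat.card A₁) (hAn ▸ hlt₁) A₁ rfl (hA2.to_le hA₁A)
    (fun x hx y hy => hAc x (hA₁A hx) y (hA₁A hy))
  have h2fix := two_mul_card_le_of_lt hfixlt
  have hcard₁ := card_le_two_mul_of_cover A A₁ t hcover
  have hA₁eq : Nat.card A₁ * Nat.card (fixV A₁ : AddSubgroup V) = Nat.card V := by
    apply le_antisymm ihle₁
    calc Nat.card V = Nat.card A * Nat.card (fixV A : AddSubgroup V) := heq.symm
      _ ≤ 2 * Nat.card A₁ * Nat.card (fixV A : AddSubgroup V) := Nat.mul_le_mul_right _ hcard₁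
      _ = Nat.card A₁ * (2 * Nat.card (fixV A : AddSubgroup V)) := by ring
      _ ≤ _ := Nat.mul_le_mul_left _ h2fix
  have hA₁gen := iheq₁ hA₁eq
  intro x hx
  have hsub : tvs V A₁ ⊆ tvs V A := fun d hd => ⟨hA₁A hd.1, hd.2⟩
  have hA₁cl : A₁ ≤ closure (tvs V A) := hA₁gen.trans (closure_mono hsub)
  have htcl : t ∈ closure (tvs V A) := subset_closure ⟨htA, b, ht⟩
  rcases hcover x hx with h | h
  · exact hA₁cl h
  · have : x = (x * t) * t⁻¹ := by group
    rw [this]; exact mul_mem (hA₁cl h) (inv_mem htcl)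

include h2 hf hodd hdich hFn hCF in
/-- **Theorem P** -/
theorem offender_bound [Finite G] [Finite V] (A : Subgroup G) (hA2 : IsPGroup 2 A)
    (hAc : ∀ x ∈ A, ∀ y ∈ A, x * y = y * x) :
    Nat.card A * Nat.card (fixV A : AddSubgroup V) ≤ Nat.card V :=
  (offender_aux h2 hf F hodd hCF hdich _ A rfl hA2 hAc).1

include h2 hf hodd hdich hFn hCF in
theorem offender_gen [Finite G] [Finite V] (A : Subgroup G) (hA2 : IsPGroup 2 A)
    (hAc : ∀ x ∈ A, ∀ y ∈ A, x * y = y * x)
    (heq : Nat.card V ≤ Nat.card A * Nat.card (fixV A : AddSubgroup V)) :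
    A ≤ closure (tvs V A) :=
  (offender_aux h2 hf F hodd hCF hdich _ A rfl hA2 hAc).2
    (le_antisymm (offender_aux h2 hf F hodd hCF hdich _ A rfl hA2 hAc).1 heq)

end

end Cfsg.Agent.Lib.Helper11.TF
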