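import Mathlib
import Cfsg.Agent.Lib.Helper11.TFe

/-!
# The group generated by a normal set of `F₂`-transvections is a direct product of `S₃`'s
-/

set_option autoImplicit false

namespace Cfsg.Agent.Lib.Helper11.TF

open Subgroup

variable {G V : Type*} [Group G] [AddCommGroup V] [DistribMulAction G V]

/-- the `F`-classes meeting `𝒯` -/
abbrev Cls (F : Subgroup G) (𝒯 : Set G) : Type _ := {K : Set G // ∃ t ∈ 𝒯, K = cls F t}

/-- the centres of a class -/
def Cls.ctrs (V : Type*) [AddCommGroup V] [DistribMulAction G V] {F : Subgroup G} {𝒯 : Set G}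
    (i : Cls F 𝒯) : Set V := {c | ∃ d ∈ i.1, Tv d c}

section
variable (h2 : ∀ v : V, v + v = 0) (hf : ∀ g : G, (∀ v : V, g • v = v) → g = 1)
variable (F : Subgroup G) [hFn : F.Normal] (hodd : ∀ x ∈ F, ∃ n, Odd n ∧ x ^ n = 1)
  (hCF : ∀ g : G, (∀ x ∈ F, g * x = x * g) → g ∈ F)
  (hdich : ∀ {d d' : G} {c c' : V}, Tv d c → Tv d' c' → (d • c' = c' ↔ d' • c = c))

include h2 hf hodd hdich hFn in
theorem eq_of_center_eq {a d d' : G} {b c : V} (ha : Tv a b) (hd : d ∈ cls F a)
    (hd' : d' ∈ cls F a) (hc : Tv d c) (hc' : Tv d' c) : d = d' := by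
  by_contra hne
  have := moves_of_ne h2 hf F hodd hdich ha hd hd' hne hc hc'
  rw [hc.smul_center h2, h2] at this
  exact hc.center_ne this

include h2 hf hodd hdich hFn in
theorem ctr_cases {a : G} {b x y w : V} (ha : Tv a b) (hx : x ∈ ctr F a) (hy : y ∈ ctr F a)
    (hxy : x ≠ y) (hw : w ∈ ctr F a) : w = x ∨ w = y ∨ w = x + y := by
  obtain ⟨dx, hdx, tx⟩ := hx
  obtain ⟨dy, hdy, ty⟩ := hy
  obtain ⟨e, he, te⟩ := hw
  have hne : dx ≠ dy := by
    rintro rfl
    exact hxy (tx.center_unique h2 hf ty)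
  obtain ⟨_, t4⟩ := third_tv h2 hf F hodd hdich ha hdx hdy hne tx ty
  rcases three h2 hf F hodd hdich ha hdx hdy he hne with e1 | e1 | e1
  · left; rw [e1] at te; exact te.center_unique h2 hf tx
  · right; left; rw [e1] at te; exact te.center_unique h2 hf ty
  · right; right; rw [e1] at te; rw [add_comm]; exact te.center_unique h2 hf t4

include h2 hf hodd hdich hFn in
theorem act_on_ctr {a d : G} {b z w : V} (ha : Tv a b) (hd : d ∈ cls F a) (hz : Tv d z)
    (hw : w ∈ ctr F a) (hwz : w ≠ z) : d • w = w + z := by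
  obtain ⟨e, he, te⟩ := hw
  have hne : d ≠ e := by
    rintro rfl
    exact hwz (te.center_unique h2 hf hz)
  exact moves_of_ne h2 hf F hodd hdich ha hd he hne hz te

include h2 hf hodd hdich hFn hCF in
theorem ctr_ncard {a : G} {b : V} (ha : Tv a b) : (ctr F a : Set V).ncard = 3 := by
  obtain ⟨t', ht', hne⟩ := exists_ne F hodd hCF ha
  obtain ⟨c₂, htv'⟩ := tv_of_mem_cls ha ht'
  have hb : b ∈ ctr F a := ⟨a, mem_cls_self F a, ha⟩
  have hc₂ : c₂ ∈ ctr F a := ⟨t', ht', htv'⟩
  have hbc : b ≠ c₂ := by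
    rintro rfl
    exact hne (eq_of_center_eq h2 hf F hodd hdich ha ht' (mem_cls_self F a) htv' ha)
  rw [Set.ncard_eq_three]
  refine ⟨b, c₂, b + c₂, hbc, ?_, ?_, ?_⟩
  · intro h
    apply htv'.center_ne
    have : b + c₂ = b + 0 := by rw [add_zero]; exact h.symm
    exact add_left_cancel this
  · intro h
    apply ha.center_ne
    have : b + c₂ = 0 + c₂ := by rw [zero_add]; exact h.symm
    exact add_right_cancel this
  · ext w
    simp only [Set.mem_insert_iff, Set.mem_singleton_iff]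
    constructor
    · intro hw
      exact ctr_cases h2 hf F hodd hdich ha hb hc₂ hbc hw
    · rintro (rfl | rfl | rfl)
      · exact hb
      · exact hc₂
      · exact ctr_add h2 hf F hodd hdich ha hb hc₂ hbc

end

end Cfsg.Agent.Lib.Helper11.TF
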