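import Mathlib
import Cfsg.Agent.Lib.Helper11.TFf

/-!
# The group generated by a normal set of `F₂`-transvections is a direct product of `S₃`'s (main)
-/

set_option autoImplicit false
set_option maxHeartbeats 1000000

namespace Cfsg.Agent.Lib.Helper11.TF

open Subgroup

variable {G V : Type*} [Group G] [AddCommGroup V] [DistribMulAction G V]

section
variable (h2 : ∀ v : V, v + v = 0) (hf : ∀ g : G, (∀ v : V, g • v = v) → g = 1)
variable (F : Subgroup G) [hFn : F.Normal] (hodd : ∀ x ∈ F, ∃ n, Odd n ∧ x ^ n = 1)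
  (hCF : ∀ g : G, (∀ x ∈ F, g * x = x * g) → g ∈ F)
  (hdich : ∀ {d d' : G} {c c' : V}, Tv d c → Tv d' c' → (d • c' = c' ↔ d' • c = c))

include h2 hf hodd hdich hFn hCF in
theorem closure_tv_equiv [Finite G] [Finite V]
    (hO2 : ∀ N : Subgroup G, N.Normal → IsPGroup 2 N → N = ⊥)
    (𝒯 : Set G) (hT : ∀ d ∈ 𝒯, ∃ b : V, Tv d b) (hconj : ∀ g : G, ∀ d ∈ 𝒯, g * d * g⁻¹ ∈ 𝒯)
    (hne : 𝒯.Nonempty) :
    ∃ n : ℕ, 1 ≤ n ∧ Nonempty (↥(closure 𝒯) ≃* (Fin n → Equiv.Perm (Fin 3))) := by
  classical
  -- basic facts on classes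
  have hsub : ∀ i : Cls F 𝒯, i.1 ⊆ 𝒯 := by
    rintro ⟨K, t, ht, rfl⟩ d ⟨g, hg, rfl⟩
    exact hconj g t ht
  have hSctr : ∀ (i : Cls F 𝒯) (t : G), i.1 = cls F t → i.ctrs V = ctr F t := by
    intro i t h
    unfold Cls.ctrs ctr
    rw [h]
  have hgen1 : ∀ d ∈ 𝒯, ∀ i : Cls F 𝒯, d ∈ i.1 → ∀ c ∈ i.ctrs V, d • c ∈ i.ctrs V := by
    rintro d hd ⟨K, t, ht, rfl⟩ hdi c ⟨e, he, te⟩
    exact ⟨d * e * d⁻¹, third_mem F hdi he, te.conj d⟩
  have hgen2 : ∀ d ∈ 𝒯, ∀ i : Cls F 𝒯, d ∉ i.1 → ∀ c ∈ i.ctrs V, d • c = c := by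
    rintro d hd ⟨K, t, ht, rfl⟩ hdi c hc
    obtain ⟨b, hb⟩ := hT t ht
    obtain ⟨b', hb'⟩ := hT d hd
    rcases mem_cls_or_fix h2 hf F hodd hCF hdich hb hb' with h | h
    · exact absurd h hdi
    · exact h c hc
  have hgen : ∀ d ∈ 𝒯, ∀ i : Cls F 𝒯, ∀ c ∈ i.ctrs V, d • c ∈ i.ctrs V := by
    intro d hd i c hc
    by_cases hdi : d ∈ i.1
    · exact hgen1 d hd i hdi c hc
    · rw [hgen2 d hd i hdi c hc]; exact hc
  have hstab : ∀ h ∈ closure 𝒯, ∀ i : Cls F 𝒯, ∀ c ∈ i.ctrs V,
      h • c ∈ i.ctrs V ∧ h⁻¹ • c ∈ i.ctrs V := by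
    intro h hh
    induction hh using Subgroup.closure_induction with
    | mem d hd =>
      intro i c hc
      obtain ⟨b, hb⟩ := hT d hd
      rw [hb.inv]
      exact ⟨hgen d hd i c hc, hgen d hd i c hc⟩
    | one => intro i c hc; simpa using hc
    | mul x y _ _ ihx ihy =>
      intro i c hc
      constructor
      · rw [mul_smul]; exact (ihx i _ (ihy i c hc).1).1
      · rw [mul_inv_rev, mul_smul]; exact (ihy i _ (ihx i c hc).2).2
    | inv x _ ihx =>
      intro i c hc
      rw [inv_inv]
      exact ⟨(ihx i c hc).2, (ihx i c hc).1⟩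
  -- the sub-actions
  let p : Cls F 𝒯 → SubMulAction ↥(closure 𝒯) V := fun i =>
    { carrier := i.ctrs V
      smul_mem' := fun h c hc => (hstab h.1 h.2 i c hc).1 }
  have hpmem : ∀ (i : Cls F 𝒯) (c : V), c ∈ p i ↔ c ∈ i.ctrs V := fun i c => Iff.rfl
  let ρ : ↥(closure 𝒯) →* (∀ i : Cls F 𝒯, Equiv.Perm ↥(p i)) :=
    MonoidHom.pi (fun i => MulAction.toPermHom ↥(closure 𝒯) ↥(p i))
  have hρ : ∀ (h : ↥(closure 𝒯)) (i : Cls F 𝒯) (x : ↥(p i)),
      ((ρ h i x : ↥(p i)) : V) = (h : G) • (x : V) := fun h i x => rfl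
  -- cardinality of each block
  have hcard : ∀ i : Cls F 𝒯, Nat.card ↥(p i) = 3 := by
    intro i
    obtain ⟨t, ht, hi⟩ := i.2
    obtain ⟨b, hb⟩ := hT t ht
    have h1 : Nat.card ↥(p i) = Nat.card ↥(i.ctrs V) := rfl
    rw [h1, Nat.card_coe_set_eq, hSctr i t hi]
    exact ctr_ncard h2 hf F hodd hCF hdich hb
  haveI hfin : ∀ i : Cls F 𝒯, Finite ↥(p i) := fun i => Nat.finite_of_card_ne_zero (by rw [hcard i]; norm_num)
  -- all centres
  set 𝒞 : Set V := {c | ∃ d ∈ 𝒯, Tv d c} with h𝒞
  have h𝒞inv : ∀ g : G, ∀ c ∈ 𝒞, g • c ∈ 𝒞 := by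
    rintro g c ⟨d, hd, hdc⟩
    exact ⟨g * d * g⁻¹, hconj g d hd, hdc.conj g⟩
  have h𝒞S : ∀ c ∈ 𝒞, ∃ i : Cls F 𝒯, c ∈ i.ctrs V := by
    rintro c ⟨d, hd, hdc⟩
    exact ⟨⟨cls F d, d, hd, rfl⟩, d, mem_cls_self F d, hdc⟩
  -- injectivity
  have hHn : (closure 𝒯).Normal := by
    constructor
    intro h hh g
    induction hh using Subgroup.closure_induction with
    | mem d hd => exact subset_closure (hconj g d hd)
    | one => simp
    | mul x y _ _ ihx ihy =>
      have : g * (x * y) * g⁻¹ = (g * x * g⁻¹) * (g * y * g⁻¹) := by group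
      rw [this]; exact mul_mem ihx ihy
    | inv x _ ihx =>
      have : g * x⁻¹ * g⁻¹ = (g * x * g⁻¹)⁻¹ := by group
      rw [this]; exact inv_mem ihx
  have hfixn : (fixingSubgroup G 𝒞).Normal := by
    constructor
    intro n hn g
    rw [mem_fixingSubgroup_iff] at hn ⊢
    intro c hc
    rw [mul_smul, mul_smul, hn _ (h𝒞inv g⁻¹ c hc), smul_inv_smul]
  have hN : closure 𝒯 ⊓ fixingSubgroup G 𝒞 = ⊥ := by
    apply hO2 _ (Subgroup.normal_inf_normal _ _)
    -- `h • v + v` lies in the span of the centres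
    have hspan : ∀ h ∈ closure 𝒯, ∀ v : V, h • v + v ∈ AddSubgroup.closure 𝒞 := by
      intro h hh
      induction hh using Subgroup.closure_induction with
      | mem d hd =>
        intro v
        obtain ⟨b, hb⟩ := hT d hd
        rcases hb.act v with e | e
        · rw [e, h2]; exact zero_mem _
        · rw [e, add_comm v b, add_assoc, h2, add_zero]
          exact AddSubgroup.subset_closure ⟨d, hd, hb⟩
      | one => intro v; rw [one_smul, h2]; exact zero_mem _
      | mul x y _ _ ihx ihy =>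
        intro v
        have : (x * y) • v + v = (x • (y • v) + y • v) + (y • v + v) := by
          rw [mul_smul]
          generalize x • y • v = a
          generalize y • v = b
          linear_combination (norm := module) -h2 b
        rw [this]
        exact add_mem (ihx _) (ihy _)
      | inv x _ ihx =>
        intro v
        have := ihx (x⁻¹ • v)
        rwa [smul_inv_smul, add_comm] at this
    have hfixspan : ∀ n ∈ fixingSubgroup G 𝒞, ∀ u ∈ AddSubgroup.closure 𝒞, n • u = u := by
      intro n hn u hu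
      rw [mem_fixingSubgroup_iff] at hn
      induction hu using AddSubgroup.closure_induction with
      | mem c hc => exact hn c hc
      | zero => exact smul_zero n
      | add x y _ _ ihx ihy => rw [smul_add, ihx, ihy]
      | neg x _ ihx => rw [smul_neg, ihx]
    intro x
    refine ⟨1, ?_⟩
    obtain ⟨hxH, hxfix⟩ := Subgroup.mem_inf.mp x.2
    have hsq : (x : G) * x = 1 := by
      apply hf
      intro v
      have e := hfixspan _ hxfix _ (hspan _ hxH v)
      rw [smul_add, ← mul_smul] at e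
      generalize ((x : G) * x) • v = a at e ⊢
      generalize (x : G) • v = b at e
      linear_combination (norm := module) e
    apply Subtype.ext
    rw [pow_one, pow_two]
    exact hsq
  have hinj : Function.Injective ρ := by
    rw [injective_iff_map_eq_one]
    intro h hh
    have hmem : (h : G) ∈ closure 𝒯 ⊓ fixingSubgroup G 𝒞 := by
      refine Subgroup.mem_inf.mpr ⟨h.2, ?_⟩
      rw [mem_fixingSubgroup_iff]
      intro c hc
      obtain ⟨i, hi⟩ := h𝒞S c hc
      have := hρ h i ⟨c, hi⟩
      rw [hh] at this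
      exact this.symm
    rw [hN, Subgroup.mem_bot] at hmem
    exact Subtype.ext hmem
  -- surjectivity
  have hsurj : Function.Surjective ρ := by
    intro f
    have hf' : f ∈ ρ.range := by
      apply Subgroup.pi_mem_of_mulSingle_mem
      intro i
      have htop : (ρ.range).comap (MonoidHom.mulSingle (fun i => Equiv.Perm ↥(p i)) i) = ⊤ := by
        rw [eq_top_iff, ← Equiv.Perm.closure_isSwap, closure_le]
        rintro σ ⟨x, y, hxy, rfl⟩
        show Pi.mulSingle i (Equiv.swap x y) ∈ ρ.range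
        obtain ⟨t, ht, hi⟩ := i.2
        obtain ⟨b, hb⟩ := hT t ht
        have hx : (x : V) ∈ ctr F t := by rw [← hSctr i t hi]; exact x.2
        have hy : (y : V) ∈ ctr F t := by rw [← hSctr i t hi]; exact y.2
        have hxy' : (x : V) ≠ y := fun h => hxy (Subtype.ext h)
        obtain ⟨d, hd, hdz⟩ := ctr_add h2 hf F hodd hdich hb hx hy hxy'
        have hx0 : (x : V) ≠ 0 := by
          obtain ⟨e, _, te⟩ := hx
          exact te.center_ne
        have hy0 : (y : V) ≠ 0 := by
          obtain ⟨e, _, te⟩ := hy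
          exact te.center_ne
        have hxz : (x : V) ≠ x + y := by
          intro h
          apply hy0
          have : (x : V) + y = x + 0 := by rw [add_zero]; exact h.symm
          exact add_left_cancel this
        have hyz : (y : V) ≠ x + y := by
          intro h
          apply hx0
          have : (x : V) + y = 0 + y := by rw [zero_add]; exact h.symm
          exact add_right_cancel this
        have hdi : d ∈ i.1 := by rw [hi]; exact hd
        have hd𝒯 : d ∈ 𝒯 := hsub i hdi
        refine ⟨⟨d, subset_closure hd𝒯⟩, ?_⟩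
        funext j
        by_cases hji : j = i
        · subst hji
          rw [Pi.mulSingle_eq_same]
          apply Equiv.ext
          intro w
          apply Subtype.ext
          rw [hρ]
          show d • (w : V) = _
          have hw : (w : V) ∈ ctr F t := by rw [← hSctr j t hi]; exact w.2
          rcases ctr_cases h2 hf F hodd hdich hb hx hy hxy' hw with e | e | e
          · have : w = x := Subtype.ext e
            rw [this, Equiv.swap_apply_left]
            rw [act_on_ctr h2 hf F hodd hdich hb hd hdz hx hxz]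
            exact add_cancel_left' h2 _ _
          · have : w = y := Subtype.ext e
            rw [this, Equiv.swap_apply_right]
            rw [act_on_ctr h2 hf F hodd hdich hb hd hdz hy hyz, add_comm (x : V) y]
            exact add_cancel_left' h2 _ _
          · have hwx : w ≠ x := fun h => hxz (by rw [← e, h])
            have hwy : w ≠ y := fun h => hyz (by rw [← e, h])
            rw [Equiv.swap_apply_of_ne_of_ne hwx hwy, e]
            exact hdz.smul_center h2
        · rw [Pi.mulSingle_eq_of_ne hji]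
          apply Equiv.ext
          intro w
          apply Subtype.ext
          rw [hρ]
          show d • (w : V) = w
          apply hgen2 d hd𝒯 j _ _ w.2
          intro hdj
          apply hji
          obtain ⟨t', ht', hj⟩ := j.2
          apply Subtype.ext
          rw [hj, hi, ← cls_eq_of_mem hd, ← cls_eq_of_mem (hj ▸ hdj)]
      have : f i ∈ (ρ.range).comap (MonoidHom.mulSingle (fun i => Equiv.Perm ↥(p i)) i) := by
        rw [htop]; trivial
      exact this
    exact hf'
  obtain ⟨t₀, ht₀⟩ := hne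
  have : Nonempty (Cls F 𝒯) := ⟨⟨cls F t₀, t₀, ht₀, rfl⟩⟩
  refine ⟨Nat.card (Cls F 𝒯), Nat.card_pos, ⟨?_⟩⟩
  exact ((MulEquiv.ofBijective ρ ⟨hinj, hsurj⟩).trans
    (MulEquiv.piCongrRight (fun i => (Finite.equivFinOfCardEq (hcard i)).permCongrHom))).trans
    (MulEquiv.arrowCongr (Finite.equivFin (Cls F 𝒯)) (MulEquiv.refl _))

end

end Cfsg.Agent.Lib.Helper11.TF
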