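import Mathlib
import Cfsg.Agent.Lib.Helper17.SylowConj
import Cfsg.Agent.Lib.Helper17.Thompson
import Cfsg.Agent.Lib.Helper16.PCore
import Cfsg.Agent.Lib.Helper13.BenderA
import Cfsg.Agent.Lib.Lead.GlaubermanZJ

/-!
# Group-theoretic side of the solvable Thompson factorization

`T` a Sylow `2`-subgroup of `X`, `Z = Z(T)`, `C` the normal core of `C_X(Z)`.
-/

set_option autoImplicit false

namespace Cfsg.Agent.Lib.Helper11.TF

open Subgroup

variable {X : Type*} [Group X]

/-- `Z(T)` -/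
abbrev ZT (T : Subgroup X) : Subgroup X := T ⊓ centralizer (T : Set X)

/-- the largest normal subgroup centralizing `Z(T)` -/
abbrev CT (T : Subgroup X) : Subgroup X :=
  (centralizer ((T ⊓ centralizer (T : Set X) : Subgroup X) : Set X)).normalCore

theorem mem_CT_iff {T : Subgroup X} {g : X} :
    g ∈ CT T ↔ ∀ y : X, ∀ z ∈ ZT T, z * (y * g * y⁻¹) = (y * g * y⁻¹) * z := by
  constructor
  · intro h y z hz
    have : y * g * y⁻¹ ∈ centralizer ((ZT T : Subgroup X) : Set X) := h y
    exact mem_centralizer_iff.mp this z hz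
  · intro h y
    show y * g * y⁻¹ ∈ centralizer ((ZT T : Subgroup X) : Set X)
    rw [mem_centralizer_iff]
    exact h y

theorem comm_of_sq_comm {g v : X} {m : ℕ} (hm : Odd m) (hg : g ^ m = 1)
    (h : (g * g) * v = v * (g * g)) : g * v = v * g := by
  obtain ⟨j, rfl⟩ := hm
  have e : g = (g * g) ^ (j + 1) := by
    rw [← pow_two, ← pow_mul, mul_add, mul_one, show 2 * j + 2 = (2 * j + 1) + 1 by ring, pow_succ, hg,
      one_mul]
  have hc : Commute (g * g) v := h
  have := hc.pow_left (j + 1)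
  rw [← e] at this
  exact this

/-- **Lemma Z**: `O₂(X / C) = 1`, in element form. -/
theorem le_CT_of_two_quot [Finite X] (T : Sylow 2 X) (N : Subgroup X) [hNn : N.Normal]
    (h2 : ∀ g ∈ N, ∃ k : ℕ, g ^ (2 ^ k) ∈ CT (T : Subgroup X)) : N ≤ CT (T : Subgroup X) := by
  classical
  haveI : Fact (Nat.Prime 2) := ⟨Nat.prime_two⟩
  set C := CT (T : Subgroup X) with hC
  haveI hCn : C.Normal := Subgroup.normalCore_normal _
  have hCZ : C ≤ centralizer ((ZT (T : Subgroup X) : Subgroup X) : Set X) := Subgroup.normalCore_le _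
  have hidxT : ¬ 2 ∣ (T : Subgroup X).relIndex N :=
    Cfsg.Agent.Lib.Helper17.not_dvd_relIndex_of_sylow_of_normal T N
  have hidxC : ∃ n, C.relIndex N = 2 ^ n := by
    have hp : IsPGroup 2 (↥N ⧸ C.subgroupOf N) := by
      intro q
      obtain ⟨g, rfl⟩ := QuotientGroup.mk_surjective q
      obtain ⟨k, hk⟩ := h2 g g.2
      refine ⟨k, ?_⟩
      rw [← QuotientGroup.mk_pow, QuotientGroup.eq_one_iff, mem_subgroupOf]
      simpa using hk
    obtain ⟨n, hn⟩ := IsPGroup.iff_card.mp hp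
    exact ⟨n, by rw [Subgroup.relIndex, Subgroup.index_eq_card]; exact hn⟩
  obtain ⟨n, hn⟩ := hidxC
  have hsup : N ≤ C ⊔ ((T : Subgroup X) ⊓ N) := by
    rw [← Subgroup.relIndex_eq_one]
    have d1 : (C ⊔ ((T : Subgroup X) ⊓ N)).relIndex N ∣ C.relIndex N :=
      Subgroup.relIndex_dvd_of_le_left N le_sup_left
    have d2 : (C ⊔ ((T : Subgroup X) ⊓ N)).relIndex N ∣ ((T : Subgroup X) ⊓ N).relIndex N :=
      Subgroup.relIndex_dvd_of_le_left N le_sup_right
    rw [Subgroup.inf_relIndex_right] at d2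
    rw [hn] at d1
    obtain ⟨j, hj, hj'⟩ := (Nat.dvd_prime_pow Nat.prime_two).mp d1
    rcases Nat.eq_zero_or_pos j with rfl | hjpos
    · simpa using hj'
    · exfalso
      apply hidxT
      refine dvd_trans ?_ d2
      rw [hj']
      exact dvd_pow_self 2 hjpos.ne'
  have hTN : (T : Subgroup X) ⊓ N ≤ C := by
    intro t ht
    rw [hC, mem_CT_iff]
    intro y z hz
    set B := ((T : Subgroup X) ⊓ N).map (MulAut.conj y).toMonoidHom with hB
    have hB2 : IsPGroup 2 B := (T.2.to_le inf_le_left).map _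
    have hBN : B ≤ N := by
      rintro _ ⟨s, hs, rfl⟩
      simp only [MulEquiv.coe_toMonoidHom, MulAut.conj_apply]
      exact hNn.conj_mem s (Subgroup.mem_inf.mp hs).2 y
    obtain ⟨k, hkN, hk⟩ := Cfsg.Agent.Lib.Helper17.exists_conj_le_of_not_dvd_relIndex N
      (T : Subgroup X) B T.2 hidxT hB2 hBN
    have hbB : y * t * y⁻¹ ∈ B := ⟨t, ht, by simp [MulAut.conj_apply]⟩
    have hkb := hk _ hbB
    have hk' := hsup hkN
    rw [← SetLike.mem_coe, Subgroup.normal_mul] at hk'
    obtain ⟨c, hc, s, hs, rfl⟩ := Set.mem_mul.mp hk'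
    have hzc : ∀ u ∈ (T : Subgroup X), u * z = z * u := by
      intro u hu
      exact mem_centralizer_iff.mp (mem_inf.mp hz).2 u hu
    have e1 : Commute c z := (mem_centralizer_iff.mp (hCZ hc) z hz).symm
    have e2 : Commute s z := hzc s (mem_inf.mp hs).1
    have e3 : Commute (c * s * (y * t * y⁻¹) * (c * s)⁻¹) z := hzc _ hkb
    have hn1 : Commute (c * s) z := e1.mul_left e2
    have hn2 : Commute (c * s)⁻¹ z := hn1.inv_left
    have e4 : Commute ((c * s)⁻¹ * (c * s * (y * t * y⁻¹) * (c * s)⁻¹) * (c * s)) z :=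
      (hn2.mul_left e3).mul_left hn1
    have e5 : (c * s)⁻¹ * (c * s * (y * t * y⁻¹) * (c * s)⁻¹) * (c * s) = y * t * y⁻¹ := by group
    rw [e5] at e4
    exact e4.symm
  exact hsup.trans (sup_le le_rfl hTN)

section V0

variable [Finite X] [Group.IsSolvable X] (hF : Cfsg.fittingSubgroup X = Cfsg.pCore 2 X)
  (T : Sylow 2 X)

include hF in
theorem ZT_le_center_pCore :
    ZT (T : Subgroup X) ≤ Cfsg.pCore 2 X ⊓ centralizer (Cfsg.pCore 2 X : Set X) := by
  haveI : Fact (Nat.Prime 2) := ⟨Nat.prime_two⟩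
  have hQT : Cfsg.pCore 2 X ≤ (T : Subgroup X) := Cfsg.Agent.Lib.Helper16.pCore_le_sylow T
  have hCQ : centralizer (Cfsg.pCore 2 X : Set X) ≤ Cfsg.pCore 2 X := by
    have := Cfsg.Agent.Lib.Helper13.BenderA.centralizer_fitting_le (X := X)
    rwa [hF] at this
  intro z hz
  have hzc : z ∈ centralizer (Cfsg.pCore 2 X : Set X) := by
    rw [mem_centralizer_iff]
    intro q hq
    exact mem_centralizer_iff.mp (mem_inf.mp hz).2 q (hQT hq)
  exact mem_inf.mpr ⟨hCQ hzc, hzc⟩

include hF in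
theorem normalClosure_ZT_le :
    normalClosure ((ZT (T : Subgroup X) : Subgroup X) : Set X) ≤
      Cfsg.pCore 2 X ⊓ centralizer (Cfsg.pCore 2 X : Set X) := by
  haveI : (Cfsg.pCore 2 X ⊓ centralizer (Cfsg.pCore 2 X : Set X)).Normal :=
    Subgroup.normal_inf_normal _ _
  exact normalClosure_le_normal (ZT_le_center_pCore hF T)

include hF in
theorem normalClosure_ZT_comm :
    ∀ a ∈ normalClosure ((ZT (T : Subgroup X) : Subgroup X) : Set X),
      ∀ b ∈ normalClosure ((ZT (T : Subgroup X) : Subgroup X) : Set X), a * b = b * a := by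
  intro a ha b hb
  have h1 := normalClosure_ZT_le hF T ha
  have h2 := normalClosure_ZT_le hF T hb
  exact mem_centralizer_iff.mp (mem_inf.mp h2).2 a (mem_inf.mp h1).1

include hF in
theorem normalClosure_ZT_le_sylow :
    normalClosure ((ZT (T : Subgroup X) : Subgroup X) : Set X) ≤ (T : Subgroup X) := by
  haveI : Fact (Nat.Prime 2) := ⟨Nat.prime_two⟩
  exact (normalClosure_ZT_le hF T).trans (inf_le_left.trans (Cfsg.Agent.Lib.Helper16.pCore_le_sylow T))

omit [Finite X] [Group.IsSolvable X] in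
/-- elements centralizing the normal closure of `Z(T)` lie in `C` -/
theorem mem_CT_of_comm {g : X}
    (h : ∀ v ∈ normalClosure ((ZT (T : Subgroup X) : Subgroup X) : Set X), g * v = v * g) :
    g ∈ CT (T : Subgroup X) := by
  rw [mem_CT_iff]
  intro y z hz
  have hv : y⁻¹ * z * y⁻¹⁻¹ ∈ normalClosure ((ZT (T : Subgroup X) : Subgroup X) : Set X) :=
    (normalClosure_normal).conj_mem _ (subset_normalClosure hz) _
  have := h _ hv
  rw [inv_inv] at this
  calc z * (y * g * y⁻¹) = y * ((y⁻¹ * z * y) * g) * y⁻¹ := by group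
    _ = y * (g * (y⁻¹ * z * y)) * y⁻¹ := by rw [this]
    _ = y * g * y⁻¹ * z := by group

omit [Finite X] [Group.IsSolvable X] in
/-- `C` centralizes the normal closure of `Z(T)` -/
theorem CT_le_centralizer_normalClosure :
    CT (T : Subgroup X) ≤
      centralizer (normalClosure ((ZT (T : Subgroup X) : Subgroup X) : Set X) : Set X) := by
  haveI hCn : (CT (T : Subgroup X)).Normal := Subgroup.normalCore_normal _
  rw [le_centralizer_iff]
  apply normalClosure_le_normal
  intro z hz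
  rw [SetLike.mem_coe, mem_centralizer_iff]
  intro c hc
  have := mem_centralizer_iff.mp (Subgroup.normalCore_le _ hc) z hz
  exact this.symm

end V0

/-- `Ω₁` of an abelian subgroup, for the prime `2` -/
def omegaW (V₀ : Subgroup X) (hcomm : ∀ a ∈ V₀, ∀ b ∈ V₀, a * b = b * a) : Subgroup X where
  carrier := {w | w ∈ V₀ ∧ w * w = 1}
  one_mem' := ⟨V₀.one_mem, by simp⟩
  mul_mem' := by
    rintro a b ⟨ha, ha2⟩ ⟨hb, hb2⟩
    refine ⟨V₀.mul_mem ha hb, ?_⟩
    calc a * b * (a * b) = a * (b * a) * b := by group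
      _ = a * (a * b) * b := by rw [hcomm b hb a ha]
      _ = (a * a) * (b * b) := by group
      _ = 1 := by rw [ha2, hb2, one_mul]
  inv_mem' := by
    rintro a ⟨ha, ha2⟩
    refine ⟨V₀.inv_mem ha, ?_⟩
    rw [← mul_inv_rev, ha2, inv_one]

theorem mem_omegaW {V₀ : Subgroup X} {hcomm : ∀ a ∈ V₀, ∀ b ∈ V₀, a * b = b * a} {w : X} :
    w ∈ omegaW V₀ hcomm ↔ w ∈ V₀ ∧ w * w = 1 := Iff.rfl

theorem omegaW_normal (V₀ : Subgroup X) [hV : V₀.Normal]
    (hcomm : ∀ a ∈ V₀, ∀ b ∈ V₀, a * b = b * a) : (omegaW V₀ hcomm).Normal := by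
  constructor
  rintro w ⟨hw, hw2⟩ y
  refine ⟨hV.conj_mem w hw y, ?_⟩
  calc y * w * y⁻¹ * (y * w * y⁻¹) = y * (w * w) * y⁻¹ := by group
    _ = 1 := by rw [hw2]; group

/-- an element of odd order centralizing `Ω₁(V₀)` centralizes the abelian normal `2`-group `V₀` -/
theorem comm_of_odd_of_comm_omega (V₀ : Subgroup X) [hV : V₀.Normal]
    (hcomm : ∀ a ∈ V₀, ∀ b ∈ V₀, a * b = b * a) (h2 : ∀ v ∈ V₀, ∃ k : ℕ, v ^ (2 ^ k) = 1)
    {g : X} {m : ℕ} (hm : Odd m) (hg : g ^ m = 1)
    (hgW : ∀ w ∈ V₀, w * w = 1 → g * w = w * g) : ∀ v ∈ V₀, g * v = v * g := by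
  have key : ∀ k : ℕ, ∀ v ∈ V₀, v ^ (2 ^ k) = 1 → g * v = v * g := by
    intro k
    induction k with
    | zero =>
      intro v _ hv1
      rw [pow_zero, pow_one] at hv1
      rw [hv1, mul_one, one_mul]
    | succ k ih =>
      intro v hv hvk
      have hvv : v * v ∈ V₀ := V₀.mul_mem hv hv
      have hvvk : (v * v) ^ (2 ^ k) = 1 := by
        rw [← pow_two, ← pow_mul, ← pow_succ']
        exact hvk
      have h1 : g * (v * v) = (v * v) * g := ih _ hvv hvvk
      have hgv : g * v * g⁻¹ ∈ V₀ := hV.conj_mem v hv g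
      set u := g * v * g⁻¹ * v⁻¹ with hu
      have huV : u ∈ V₀ := V₀.mul_mem hgv (V₀.inv_mem hv)
      have huu : u * u = 1 := by
        have c1 : v⁻¹ * (g * v * g⁻¹) = (g * v * g⁻¹) * v⁻¹ := hcomm _ (V₀.inv_mem hv) _ hgv
        calc u * u = (g * v * g⁻¹) * (v⁻¹ * (g * v * g⁻¹)) * v⁻¹ := by rw [hu]; group
          _ = (g * v * g⁻¹) * ((g * v * g⁻¹) * v⁻¹) * v⁻¹ := by rw [c1]
          _ = (g * (v * v)) * g⁻¹ * (v⁻¹ * v⁻¹) := by group
          _ = ((v * v) * g) * g⁻¹ * (v⁻¹ * v⁻¹) := by rw [h1]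
          _ = 1 := by group
      have hgu : g * u = u * g := hgW u huV huu
      have hguv : g * v = u * v * g := by rw [hu]; group
      apply comm_of_sq_comm hm hg
      calc g * g * v = g * (g * v) := by group
        _ = g * (u * v * g) := by rw [hguv]
        _ = (g * u) * v * g := by group
        _ = (u * g) * v * g := by rw [hgu]
        _ = u * (g * v) * g := by group
        _ = u * (u * v * g) * g := by rw [hguv]
        _ = (u * u) * v * (g * g) := by group
        _ = v * (g * g) := by rw [huu, one_mul]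
  intro v hv
  obtain ⟨k, hk⟩ := h2 v hv
  exact key k v hv hk

section main

variable [Finite X] [Group.IsSolvable X] (hF : Cfsg.fittingSubgroup X = Cfsg.pCore 2 X)
  (T : Sylow 2 X)

/-- the module `W = Ω₁(⟨Z(T)^X⟩)` -/
def WT : Subgroup X :=
  omegaW (normalClosure ((ZT (T : Subgroup X) : Subgroup X) : Set X)) (normalClosure_ZT_comm hF T)

theorem WT_normal : (WT hF T).Normal := by
  haveI : (normalClosure ((ZT (T : Subgroup X) : Subgroup X) : Set X)).Normal := normalClosure_normal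
  exact omegaW_normal _ _

theorem WT_le_sylow : WT hF T ≤ (T : Subgroup X) :=
  fun _ hw => normalClosure_ZT_le_sylow hF T hw.1

theorem WT_sq {w : X} (hw : w ∈ WT hF T) : w * w = 1 := hw.2

theorem WT_comm : ∀ a ∈ WT hF T, ∀ b ∈ WT hF T, a * b = b * a :=
  fun a ha b hb => normalClosure_ZT_comm hF T a ha.1 b hb.1

theorem CT_le_centralizer_WT : CT (T : Subgroup X) ≤ centralizer (WT hF T : Set X) := by
  intro c hc
  have := CT_le_centralizer_normalClosure T hc
  rw [mem_centralizer_iff] at this ⊢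
  intro w hw
  exact this w hw.1

/-- `C_X(W) = C` -/
theorem centralizer_WT_le : centralizer (WT hF T : Set X) ≤ CT (T : Subgroup X) := by
  haveI := WT_normal hF T
  haveI : (normalClosure ((ZT (T : Subgroup X) : Subgroup X) : Set X)).Normal := normalClosure_normal
  apply le_CT_of_two_quot T
  intro g hg
  obtain ⟨k, m, hm, hkm⟩ := Nat.exists_eq_two_pow_mul_odd (orderOf_pos g).ne'
  refine ⟨k, ?_⟩
  apply mem_CT_of_comm
  have hgm : (g ^ (2 ^ k)) ^ m = 1 := by
    rw [← pow_mul, ← hkm]; exact pow_orderOf_eq_one g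
  have hgk : g ^ (2 ^ k) ∈ centralizer (WT hF T : Set X) := pow_mem hg _
  apply comm_of_odd_of_comm_omega _ (normalClosure_ZT_comm hF T) _ hm hgm
  · intro w hw hw2
    exact (mem_centralizer_iff.mp hgk w ⟨hw, hw2⟩).symm
  · intro v hv
    have hvT : v ∈ (T : Subgroup X) := normalClosure_ZT_le_sylow hF T hv
    obtain ⟨j, hj⟩ := T.2 ⟨v, hvT⟩
    exact ⟨j, by simpa using congrArg Subtype.val hj⟩

end main

/-- first isomorphism theorem, cardinality form -/
theorem card_map_mul_card_inf_ker [Finite X] {G : Type*} [Group G] (φ : X →* G) (A : Subgroup X) :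
    Nat.card (A.map φ) * Nat.card (A ⊓ φ.ker : Subgroup X) = Nat.card A := by
  have h1 := Subgroup.card_eq_card_quotient_mul_card_subgroup (φ.domRestrict A).ker
  have h2 : Nat.card (↥A ⧸ (φ.domRestrict A).ker) = Nat.card (A.map φ) := by
    rw [Nat.card_congr (QuotientGroup.quotientKerEquivRange (φ.domRestrict A)).toEquiv,
      MonoidHom.domRestrict_range]
  have h3 : Nat.card (φ.domRestrict A).ker = Nat.card (A ⊓ φ.ker : Subgroup X) := by
    rw [MonoidHom.ker_domRestrict, inf_comm, ← Subgroup.inf_subgroupOf_right]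
    exact Nat.card_congr (Subgroup.subgroupOfEquivOfLe inf_le_right).toEquiv
  rw [h1, h2, h3]

open Cfsg.Agent.Lib.Lead.GlaubermanRepl in
/-- the offender inequality on the group side -/
theorem offender_X [Finite X] {T A W : Subgroup X} (hA : A ∈ maxAbIn T) (hWT : W ≤ T)
    (hWc : ∀ a ∈ W, ∀ b ∈ W, a * b = b * a) :
    Nat.card (A ⊓ centralizer (W : Set X) : Subgroup X) * Nat.card W ≤
      Nat.card (W ⊓ centralizer (A : Set X) : Subgroup X) * Nat.card A := by
  obtain ⟨hAT, hAc, hAmax⟩ := hA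
  set A₀ : Subgroup X := A ⊓ centralizer (W : Set X) with hA₀
  have hA₀W : A₀ ≤ centralizer (W : Set X) := inf_le_right
  have hWW : W ≤ centralizer (W : Set X) := by
    intro a ha
    rw [mem_centralizer_iff]
    intro b hb
    exact hWc b hb a ha
  have hA₀A₀ : A₀ ≤ centralizer (A₀ : Set X) := by
    intro a ha
    rw [mem_centralizer_iff]
    intro b hb
    exact hAc b (inf_le_left (a := A) hb) a (inf_le_left (a := A) ha)
  have hBc : A₀ ⊔ W ≤ centralizer ((A₀ ⊔ W : Subgroup X) : Set X) := by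
    apply sup_le
    · rw [le_centralizer_iff]
      exact sup_le hA₀A₀ (le_centralizer_iff.mp hA₀W)
    · rw [le_centralizer_iff]
      exact sup_le hA₀W hWW
  have hBT : A₀ ⊔ W ≤ T := sup_le (inf_le_left.trans hAT) hWT
  have hBA : Nat.card (A₀ ⊔ W : Subgroup X) ≤ Nat.card A := by
    apply hAmax _ hBT
    intro a ha b hb
    exact (mem_centralizer_iff.mp (hBc hb) a ha)
  have h1 := Cfsg.Agent.Lib.Helper17.card_mul_card_le_inf_sup A₀ W
  have h2 : A₀ ⊓ W ≤ W ⊓ centralizer (A : Set X) := by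
    intro x hx
    obtain ⟨hx1, hx2⟩ := mem_inf.mp hx
    refine mem_inf.mpr ⟨hx2, ?_⟩
    rw [mem_centralizer_iff]
    intro a ha
    exact hAc a ha x (inf_le_left (a := A) hx1)
  calc Nat.card A₀ * Nat.card W ≤ Nat.card (A₀ ⊓ W : Subgroup X) * Nat.card (A₀ ⊔ W : Subgroup X) := h1
    _ ≤ Nat.card (W ⊓ centralizer (A : Set X) : Subgroup X) * Nat.card A :=
      Nat.mul_le_mul (Subgroup.card_le_of_le h2) hBA

end Cfsg.Agent.Lib.Helper11.TF
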