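import Mathlib
import Cfsg.Agent.Lib.Helper11.TFg
import Cfsg.Agent.Lib.Helper11.TFi
import Cfsg.Agent.Lib.Helper20.Fitting

/-!
# The solvable Thompson factorization: abstract bridge from the group to its module
-/

set_option autoImplicit false
set_option maxHeartbeats 1000000

namespace Cfsg.Agent.Lib.Helper11.TF

open Subgroup
open Cfsg.Agent.Lib.Lead.GlaubermanRepl

theorem closure_normal_of_conj {G : Type*} [Group G] (S : Set G)
    (hconj : ∀ g : G, ∀ d ∈ S, g * d * g⁻¹ ∈ S) : (closure S).Normal := by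
  constructor
  intro h hh g
  induction hh using Subgroup.closure_induction with
  | mem d hd => exact subset_closure (hconj g d hd)
  | one => simp
  | mul x y _ _ ihx ihy =>
    have : g * (x * y) * g⁻¹ = (g * x * g⁻¹) * (g * y * g⁻¹) := by group
    rw [this]; exact mul_mem ihx ihy
  | inv x _ ihx =>
    have : g * x⁻¹ * g⁻¹ = (g * x * g⁻¹)⁻¹ := by group
    rw [this]; exact inv_mem ihx

/-- in a group with `O₂ = 1` the Fitting subgroup has odd order -/
theorem fitting_odd {G : Type*} [Group G] [Finite G]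
    (hO2 : ∀ N : Subgroup G, N.Normal → IsPGroup 2 N → N = ⊥) :
    Odd (Nat.card (Cfsg.fittingSubgroup G)) := by
  haveI : Fact (Nat.Prime 2) := ⟨Nat.prime_two⟩
  haveI hFn : (Cfsg.fittingSubgroup G).Normal := Cfsg.Agent.Lib.Helper20.fittingSubgroup_normal'
  haveI hnil : Group.IsNilpotent (Cfsg.fittingSubgroup G) :=
    Cfsg.Agent.Lib.Helper20.fittingSubgroup_isNilpotent'
  obtain ⟨P⟩ : Nonempty (Sylow 2 ↥(Cfsg.fittingSubgroup G)) := inferInstance
  have hPn : (P : Subgroup ↥(Cfsg.fittingSubgroup G)).Normal := inferInstance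
  haveI : (P : Subgroup ↥(Cfsg.fittingSubgroup G)).Characteristic := P.characteristic_of_normal hPn
  have h1 : ((P : Subgroup ↥(Cfsg.fittingSubgroup G)).map (Cfsg.fittingSubgroup G).subtype) = ⊥ := by
    apply hO2
    · exact ConjAct.normal_of_characteristic_of_normal
    · exact P.isPGroup'.map _
  have h2 : (P : Subgroup ↥(Cfsg.fittingSubgroup G)) = ⊥ := by
    rw [eq_bot_iff]
    intro x hx
    have : (Cfsg.fittingSubgroup G).subtype x ∈
        ((P : Subgroup ↥(Cfsg.fittingSubgroup G)).map (Cfsg.fittingSubgroup G).subtype) :=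
      mem_map_of_mem _ hx
    rw [h1, mem_bot] at this
    rw [mem_bot]
    exact Subtype.ext this
  have h3 := P.not_dvd_index
  rw [h2, Subgroup.index_bot] at h3
  exact Nat.odd_iff.mpr (Nat.two_dvd_ne_zero.mp h3)

open Cfsg.Agent.Lib.Lead.GlaubermanZJ in
theorem bridge {X G V : Type*} [Group X] [Finite X] [Group.IsSolvable X] [Group G]
    [AddCommGroup V] [DistribMulAction G V]
    (hF : Cfsg.fittingSubgroup X = Cfsg.pCore 2 X) (T : Sylow 2 X)
    (φ : X →* G) (hφ : Function.Surjective φ) (hker : φ.ker = CT (T : Subgroup X))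
    (e : V ≃ ↥(WT hF T))
    (he_add : ∀ v v' : V, e (v + v') = e v * e v')
    (he_smul : ∀ (x : X) (v : V), ((e (φ x • v) : ↥(WT hF T)) : X) = x * (e v : X) * x⁻¹) :
    normalClosure (Cfsg.thompsonSubgroupAOf (T : Subgroup X) : Set X) ≤ CT (T : Subgroup X) ∨
    ∃ n : ℕ, 1 ≤ n ∧
      Nonempty (↥(normalClosure (Cfsg.thompsonSubgroupAOf (T : Subgroup X) : Set X)) ⧸
        (CT (T : Subgroup X)).subgroupOf
          (normalClosure (Cfsg.thompsonSubgroupAOf (T : Subgroup X) : Set X))
        ≃* (Fin n → Equiv.Perm (Fin 3))) := by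
  classical
  haveI : Fact (Nat.Prime 2) := ⟨Nat.prime_two⟩
  haveI hWn : (WT hF T).Normal := WT_normal hF T
  haveI : Finite G := Finite.of_surjective φ hφ
  haveI : Finite V := Finite.of_equiv _ e.symm
  haveI : Group.IsSolvable G := solvable_of_surjective hφ
  have hCW : centralizer (WT hF T : Set X) = CT (T : Subgroup X) :=
    le_antisymm (centralizer_WT_le hF T) (CT_le_centralizer_WT hF T)
  have he0 : e 0 = 1 := by
    have := he_add 0 0
    rw [add_zero] at this
    have h1 : e 0 * 1 = e 0 * e 0 := by rw [mul_one]; exact this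
    exact (mul_left_cancel h1).symm
  have h2 : ∀ v : V, v + v = 0 := by
    intro v
    apply e.injective
    rw [he_add, he0]
    apply Subtype.ext
    exact WT_sq hF T (e v).2
  have hf : ∀ g : G, (∀ v : V, g • v = v) → g = 1 := by
    intro g hg
    obtain ⟨x, rfl⟩ := hφ g
    have : x ∈ φ.ker := by
      rw [hker, ← hCW, mem_centralizer_iff]
      intro w hw
      have h1 := he_smul x (e.symm ⟨w, hw⟩)
      rw [hg, Equiv.apply_symm_apply] at h1
      have h1' : w = x * w * x⁻¹ := h1
      calc w * x = (x * w * x⁻¹) * x := by rw [← h1']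
        _ = x * w := by group
    exact this
  have hO2' : ∀ N : Subgroup G, N.Normal → IsPGroup 2 N → N = ⊥ := by
    intro N hNn hN2
    haveI : (N.comap φ).Normal := hNn.comap φ
    have h1 : N.comap φ ≤ CT (T : Subgroup X) := by
      apply le_CT_of_two_quot T
      intro g hg
      obtain ⟨k, hk⟩ := hN2 ⟨φ g, hg⟩
      refine ⟨k, ?_⟩
      rw [← hker, MonoidHom.mem_ker, map_pow]
      simpa using congrArg Subtype.val hk
    rw [eq_bot_iff]
    intro n hn
    obtain ⟨x, rfl⟩ := hφ n
    have : x ∈ φ.ker := by rw [hker]; exact h1 hn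
    rw [mem_bot]; exact this
  have hO2 : Cfsg.pCore 2 G = ⊥ :=
    hO2' _ (Cfsg.pCore_normal 2 G) (Cfsg.Agent.Lib.Helper16.pCore_isPGroup 2 G)
  set F := Cfsg.fittingSubgroup G with hFdef
  haveI hFn : F.Normal := Cfsg.Agent.Lib.Helper20.fittingSubgroup_normal'
  have hFodd := fitting_odd hO2'
  have hodd : ∀ x ∈ F, ∃ n, Odd n ∧ x ^ n = 1 := by
    intro x hx
    refine ⟨Nat.card F, hFodd, ?_⟩
    have h1 : (⟨x, hx⟩ : F) ^ Nat.card F = 1 := pow_card_eq_one'
    have h1' := congrArg (fun t : F => (t : G)) h1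
    simp only [SubmonoidClass.coe_pow, OneMemClass.coe_one] at h1'
    exact h1'
  have hCF : ∀ g : G, (∀ x ∈ F, g * x = x * g) → g ∈ F := by
    intro g hg
    apply Cfsg.Agent.Lib.Helper13.BenderA.centralizer_fitting_le
    rw [mem_centralizer_iff]
    intro x hx
    exact (hg x hx).symm
  have hdich : ∀ {d d' : G} {c c' : V}, Tv d c → Tv d' c' → (d • c' = c' ↔ d' • c = c) :=
    fun h h' => Tv.fix_iff h2 hf hO2 h h'
  -- offenders
  have hoff : ∀ A ∈ maxAbIn (T : Subgroup X), A.map φ ≤ closure (tvs V (A.map φ)) := by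
    intro A hA
    have hA2 : IsPGroup 2 (A.map φ) := (T.2.to_le hA.1).map φ
    have hAc : ∀ x ∈ A.map φ, ∀ y ∈ A.map φ, x * y = y * x := by
      rintro _ ⟨a, ha, rfl⟩ _ ⟨b, hb, rfl⟩
      rw [← map_mul, ← map_mul, hA.2.1 a ha b hb]
    apply offender_gen h2 hf F hodd hCF hdich _ hA2 hAc
    have h1 := offender_X hA (WT_le_sylow hF T) (WT_comm hF T)
    have h3 := card_map_mul_card_inf_ker φ A
    rw [hker, ← hCW] at h3
    have hfixmem : ∀ w : ↥(WT hF T ⊓ centralizer (A : Set X)),
        e.symm ⟨w.1, (mem_inf.mp w.2).1⟩ ∈ (fixV (A.map φ) : AddSubgroup V) := by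
      rintro ⟨w, hw⟩ g ⟨a, ha, rfl⟩
      obtain ⟨hwW, hwA⟩ := mem_inf.mp hw
      apply e.injective
      apply Subtype.ext
      rw [he_smul, Equiv.apply_symm_apply]
      have := mem_centralizer_iff.mp hwA a ha
      show a * w * a⁻¹ = w
      rw [this]; group
    have h4 : Nat.card (WT hF T ⊓ centralizer (A : Set X) : Subgroup X) ≤
        Nat.card (fixV (A.map φ) : AddSubgroup V) :=
      Nat.card_le_card_of_injective
        (fun w => (⟨_, hfixmem w⟩ : ↥(fixV (A.map φ) : AddSubgroup V))) (by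
          intro w w' h
          have h' := congrArg Subtype.val h
          simp only at h'
          have := e.symm.injective h'
          have h'' : (w : X) = w' := Subtype.mk.inj this
          exact Subtype.ext h'')
    have hV : Nat.card V = Nat.card (WT hF T) := Nat.card_congr e
    have hpos : 0 < Nat.card (A ⊓ centralizer (WT hF T : Set X) : Subgroup X) := Nat.card_pos
    rw [← h3] at h1
    have h5 : Nat.card (WT hF T) ≤ Nat.card (WT hF T ⊓ centralizer (A : Set X) : Subgroup X) *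
        Nat.card (A.map φ) := by
      apply Nat.le_of_mul_le_mul_left _ hpos
      calc Nat.card (A ⊓ centralizer (WT hF T : Set X) : Subgroup X) * Nat.card (WT hF T)
          ≤ Nat.card (WT hF T ⊓ centralizer (A : Set X) : Subgroup X) *
            (Nat.card (A.map φ) * Nat.card (A ⊓ centralizer (WT hF T : Set X) : Subgroup X)) := h1
        _ = _ := by ring
    calc Nat.card V = Nat.card (WT hF T) := hV
      _ ≤ _ := h5
      _ ≤ Nat.card (fixV (A.map φ) : AddSubgroup V) * Nat.card (A.map φ) :=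
        Nat.mul_le_mul_right _ h4
      _ = _ := mul_comm _ _
  -- the transvections
  set 𝒯 : Set G := {d | ∃ g : G, ∃ A ∈ maxAbIn (T : Subgroup X), ∃ d₀ ∈ tvs V (A.map φ),
    d = g * d₀ * g⁻¹} with h𝒯
  have hT : ∀ d ∈ 𝒯, ∃ b : V, Tv d b := by
    rintro _ ⟨g, A, hA, d₀, ⟨_, b, hb⟩, rfl⟩
    exact ⟨g • b, hb.conj g⟩
  have hconj : ∀ g : G, ∀ d ∈ 𝒯, g * d * g⁻¹ ∈ 𝒯 := by
    rintro g _ ⟨g', A, hA, d₀, hd₀, rfl⟩
    exact ⟨g * g', A, hA, d₀, hd₀, by group⟩
  set J := Cfsg.thompsonSubgroupAOf (T : Subgroup X) with hJ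
  set Y := normalClosure (J : Set X) with hY
  have hJeq : J = JA (T : Subgroup X) := thompsonSubgroupAOf_eq _
  have hYmap : Y.map φ = closure 𝒯 := by
    apply le_antisymm
    · rw [map_le_iff_le_comap]
      have hcn : (closure 𝒯).Normal := closure_normal_of_conj 𝒯 hconj
      haveI : ((closure 𝒯).comap φ).Normal := hcn.comap φ
      apply normalClosure_le_normal
      show J ≤ (closure 𝒯).comap φ
      rw [hJeq]
      apply sSup_le
      intro A hA
      rw [← map_le_iff_le_comap]
      refine (hoff A hA).trans (closure_mono ?_)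
      intro d hd
      exact ⟨1, A, hA, d, hd, by group⟩
    · rw [closure_le]
      rintro _ ⟨g, A, hA, d₀, ⟨⟨a, ha, rfl⟩, _⟩, rfl⟩
      obtain ⟨x, rfl⟩ := hφ g
      refine ⟨x * a * x⁻¹, ?_, by simp⟩
      have haJ : a ∈ J := by rw [hJeq]; exact le_JA hA ha
      exact (normalClosure_normal).conj_mem a (subset_normalClosure haJ) x
  by_cases hne : 𝒯.Nonempty
  · right
    obtain ⟨n, hn, ⟨E⟩⟩ := closure_tv_equiv h2 hf F hodd hCF hdich hO2' 𝒯 hT hconj hne
    refine ⟨n, hn, ⟨?_⟩⟩
    have e1 : ↥Y ⧸ (φ.domRestrict Y).ker ≃* (φ.domRestrict Y).range :=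
      QuotientGroup.quotientKerEquivRange _
    have hk : (CT (T : Subgroup X)).subgroupOf Y = (φ.domRestrict Y).ker := by rw [MonoidHom.ker_domRestrict, hker]
    have hr : (φ.domRestrict Y).range = closure 𝒯 := by rw [MonoidHom.domRestrict_range, hYmap]
    exact ((QuotientGroup.quotientMulEquivOfEq hk).trans e1).trans
      ((MulEquiv.subgroupCongr hr).trans E)
  · left
    rw [Set.not_nonempty_iff_eq_empty] at hne
    rw [hne, Subgroup.closure_empty] at hYmap
    intro y hy
    have : φ y ∈ Y.map φ := mem_map_of_mem φ hy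
    rw [hYmap, mem_bot] at this
    rw [← hker]; exact this

end Cfsg.Agent.Lib.Helper11.TF
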