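import Mathlib
import Cfsg.Agent.Lib.Helper11.TFj
import Cfsg.Agent.Lib.Helper29.FrattiniFactor

/-!
# The solvable Thompson factorization: the two parts
-/

set_option autoImplicit false
set_option maxHeartbeats 1000000

namespace Cfsg.Agent.Lib.Helper11.TF

open Subgroup
open Cfsg.Agent.Lib.Lead.GlaubermanRepl Cfsg.Agent.Lib.Lead.GlaubermanZJ

/-- `J(R) = J(T)` for `J(T) ≤ R ≤ T` -/
theorem JA_eq_of_le {X : Type*} [Group X] [Finite X] {T R : Subgroup X} (h1 : JA T ≤ R)
    (h2 : R ≤ T) : JA R = JA T := by
  obtain ⟨A₀, hA₀⟩ := maxAbIn_nonempty T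
  obtain ⟨_, hsub⟩ := maxAbIn_mono hA₀ ((le_JA hA₀).trans h1) h2
  have : maxAbIn R = maxAbIn T := by
    apply Set.Subset.antisymm hsub
    intro A hA
    exact (maxAbIn_mono hA ((le_JA hA).trans h1) h2).1
  unfold JA
  rw [this]

/-- Part 1: the Frattini argument -/
theorem part1 {X : Type*} [Group X] [Finite X] (T : Sylow 2 X) :
    CT (T : Subgroup X) ⊔ normalClosure (Cfsg.thompsonSubgroupAOf (T : Subgroup X) : Set X)
      ⊔ normalizer (Cfsg.thompsonSubgroupAOf (T : Subgroup X) : Set X) = ⊤ := by
  haveI : Fact (Nat.Prime 2) := ⟨Nat.prime_two⟩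
  haveI hCn : (CT (T : Subgroup X)).Normal := Subgroup.normalCore_normal _
  haveI hYn : (normalClosure (Cfsg.thompsonSubgroupAOf (T : Subgroup X) : Set X)).Normal :=
    normalClosure_normal
  rw [thompsonSubgroupAOf_eq]
  set M := CT (T : Subgroup X) ⊔ normalClosure (JA (T : Subgroup X) : Set X) with hM
  haveI hMn : M.Normal := by
    haveI : (normalClosure (JA (T : Subgroup X) : Set X)).Normal := normalClosure_normal
    exact Subgroup.sup_normal _ _
  rw [eq_top_iff]
  intro δ _
  obtain ⟨κ, hκ, ν, rfl, hν⟩ := Cfsg.Agent.Lib.Helper29.exists_mul_normalizer_of_normal T M δ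
  refine mul_mem (le_sup_left (a := M) hκ) (le_sup_right (a := M) ?_)
  have hJR : JA (T : Subgroup X) ≤ (T : Subgroup X) ⊓ M :=
    le_inf (JA_le _) (le_normalClosure.trans le_sup_right)
  have hJeq : JA ((T : Subgroup X) ⊓ M) = JA (T : Subgroup X) := JA_eq_of_le hJR inf_le_left
  have hmap : ((T : Subgroup X) ⊓ M).map (MulAut.conj ν).toMonoidHom = (T : Subgroup X) ⊓ M := by
    apply Subgroup.eq_of_le_of_card_ge
    · rintro _ ⟨t, ht, rfl⟩
      simpa [MulAut.conj_apply] using hν t ht
    · rw [Subgroup.card_map_of_injective (MulAut.conj ν).injective]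
  rw [mem_normalizer_iff_map_conj_eq]
  have := JA_map (MulAut.conj ν) ((T : Subgroup X) ⊓ M)
  rw [hmap, hJeq] at this
  exact this

/-- Part 2 -/
theorem part2 {X : Type*} [Group X] [Finite X] [Group.IsSolvable X]
    (hF : Cfsg.fittingSubgroup X = Cfsg.pCore 2 X) (T : Sylow 2 X) :
    normalClosure (Cfsg.thompsonSubgroupAOf (T : Subgroup X) : Set X) ≤ CT (T : Subgroup X) ∨
    ∃ n : ℕ, 1 ≤ n ∧
      Nonempty (↥(normalClosure (Cfsg.thompsonSubgroupAOf (T : Subgroup X) : Set X)) ⧸
        (CT (T : Subgroup X)).subgroupOf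
          (normalClosure (Cfsg.thompsonSubgroupAOf (T : Subgroup X) : Set X))
        ≃* (Fin n → Equiv.Perm (Fin 3))) := by
  haveI hWn : (WT hF T).Normal := WT_normal hF T
  let φ₀ : X →* MulAut ↥(WT hF T) := MulAut.conjNormal
  letI iV : AddCommGroup (Additive ↥(WT hF T)) :=
    { (inferInstance : AddGroup (Additive ↥(WT hF T))) with
      add_comm := fun a b => by
        apply Additive.toMul.injective
        apply Subtype.ext
        exact WT_comm hF T _ (Additive.toMul a).2 _ (Additive.toMul b).2 }
  letI iA : DistribMulAction ↥φ₀.range (Additive ↥(WT hF T)) :=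
    { smul := fun g v => Additive.ofMul ((g : MulAut ↥(WT hF T)) (Additive.toMul v))
      one_smul := fun v => rfl
      mul_smul := fun g h v => rfl
      smul_zero := fun g => by
        show Additive.ofMul ((g : MulAut ↥(WT hF T)) 1) = 0
        rw [map_one]; rfl
      smul_add := fun g v w => by
        show Additive.ofMul ((g : MulAut ↥(WT hF T)) (Additive.toMul v * Additive.toMul w)) = _
        rw [map_mul]; rfl }
  have hker : φ₀.rangeRestrict.ker = CT (T : Subgroup X) := by
    rw [MonoidHom.ker_rangeRestrict]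
    have h1 : φ₀.ker = centralizer (WT hF T : Set X) := by
      ext x
      rw [MonoidHom.mem_ker, mem_centralizer_iff]
      constructor
      · intro h w hw
        have := congrArg (fun f : MulAut ↥(WT hF T) => ((f ⟨w, hw⟩ : ↥(WT hF T)) : X)) h
        simp only [φ₀, MulAut.conjNormal_apply, MulAut.one_apply] at this
        calc w * x = (x * w * x⁻¹) * x := by rw [this]
          _ = x * w := by group
      · intro h
        apply MulEquiv.ext
        intro w
        apply Subtype.ext
        simp only [φ₀, MulAut.conjNormal_apply, MulAut.one_apply]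
        rw [← h w w.2]; group
    rw [h1]
    exact le_antisymm (centralizer_WT_le hF T) (CT_le_centralizer_WT hF T)
  exact bridge (G := ↥φ₀.range) (V := Additive ↥(WT hF T)) hF T φ₀.rangeRestrict
    φ₀.rangeRestrict_surjective hker Additive.toMul (fun v v' => rfl)
    (fun x v => by
      show (((φ₀ x) (Additive.toMul v) : ↥(WT hF T)) : X) = _
      simp only [φ₀, MulAut.conjNormal_apply])

end Cfsg.Agent.Lib.Helper11.TF
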