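import Mathlib
import Cfsg.Agent.Lib.Helper11.XSc

/-!
No proper subgroup of an extraspecial subgroup `Q` of index `p` (with `|S| ≥ p⁶`) is essential
(helper11): main argument, for S5179.
-/
set_option autoImplicit false

namespace Cfsg.Agent.Lib.Helper11.XSc

open Subgroup Cfsg Cfsg.Agent.Lib.Helper29 Cfsg.Agent.Lib.Helper11.UAa Cfsg.Agent.Lib.Helper11.UAb
  Cfsg.Agent.Lib.Helper11.ESe Cfsg.Agent.Lib.Helper11.XSa Cfsg.Agent.Lib.Helper11.UAc
  Cfsg.Agent.Lib.Helper11.XSb Cfsg.Agent.Lib.Helper11.ESa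

variable {Ω : Type*} [Group Ω] {S : Subgroup Ω} {p : ℕ} [Finite S] [Fact p.Prime]

theorem no_proper_essential (hS : IsPGroup p S) {Q : Subgroup Ω} (h : XS S Q p)
    (hQi : (Q.subgroupOf S).index = p) (h6 : p ^ 6 ≤ Nat.card S) (F : FusionSystem S)
    (hF : F.IsSaturated p) {E : Subgroup Ω} (hEQ : E ≤ Q) (hE : F.IsEssential p E) : E = Q := by
  by_contra hne
  have hES : E ≤ S := hE.1.1
  haveI : Finite E := finite_of_le hES
  have hEp : IsPGroup p E := hS.to_le hES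
  have hWE : Zc Q ≤ E := fun k hk => ZS_le_P F hE (h.WZ hk)
  have cQ : CB Q (Zc Q) p :=
    ⟨h.cardW, le_rfl, h.comm, fun w hw hw1 w' hw' => h.mem_zpowers hw hw1 hw'⟩
  have hQN : ∀ x ∈ Q, x ∈ normalizer (E : Set Ω) := fun x hx => cQ.mem_normalizer hEQ hWE hx
  have hWc : ∀ w ∈ Zc Q, ∀ x ∈ Q, x * w = w * x := fun w hw x hx => (mem_Zc.1 hw).2 x hx
  -- conjugation by elements of `Q` fixes `W` pointwise and has commutators in `W`
  have hfixW : ∀ (n : Ω) (hn : n ∈ Q) (u : E), (u : Ω) ∈ Zc Q →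
      E.normalizerMonoidHom ⟨n, hQN n hn⟩ u = u := by
    intro n hn u hu
    apply Subtype.ext
    show n * (u : Ω) * n⁻¹ = u
    rw [hWc _ hu n hn, mul_inv_cancel_right]
  have hcommW : ∀ (n : Ω) (hn : n ∈ Q) (u : E),
      ((u⁻¹ * E.normalizerMonoidHom ⟨n, hQN n hn⟩ u : E) : Ω) ∈ Zc Q := by
    intro n hn u
    show (u : Ω)⁻¹ * (n * (u : Ω) * n⁻¹) ∈ Zc Q
    have := h.comm _ (Q.inv_mem (hEQ u.2)) _ hn
    simpa [mul_assoc] using this
  -- `W` is moved by some automorphism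
  have hmoved : ∃ γ ∈ F.autGroup E, ∃ w₁ : E, (w₁ : Ω) ∈ Zc Q ∧ ((γ w₁ : E) : Ω) ∉ Zc Q := by
    by_contra hcon
    push Not at hcon
    apply hne
    apply le_antisymm hEQ
    have hr := isRadical_of_isEssential hS F hE
    set M : ℕ → Subgroup Ω := fun i => if i = 0 then ⊥ else if i = 1 then Zc Q else ⊤ with hM
    apply le_of_stab_chain hS F hE.1 hr Q h.le (hEQ.trans le_normalizer) M 2
    · intro i
      by_cases h0 : i = 0
      · subst h0; simp [hM]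
      · by_cases h1 : i = 1
        · subst h1; simp [hM]
        · have : ¬ (i + 1 = 0) := by omega
          have : ¬ (i + 1 = 1) := by omega
          simp [hM, *]
    · simp [hM]
    · intro i α hα y hy
      by_cases h0 : i = 0
      · subst h0
        have hy' : (y : Ω) = 1 := by simpa [hM] using hy
        have : y = 1 := Subtype.ext hy'
        rw [this, map_one]
        exact one_mem _
      · by_cases h1 : i = 1
        · subst h1
          have hy' : (y : Ω) ∈ Zc Q := by simpa [hM] using hy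
          have := hcon α hα y hy'
          simpa [hM] using this
        · simp [hM, *]
    · intro α _
      refine ⟨0, fun y hy => ?_⟩
      have hy' : (y : Ω) = 1 := by simpa [hM] using hy
      have : y = 1 := Subtype.ext hy'
      rw [this, map_one]
    · intro g hg hgN i hi y hyE hy
      interval_cases i
      · have hy' : y ∈ Zc Q := by simpa [hM] using hy
        have : y⁻¹ * (g * y * g⁻¹) = 1 := by
          rw [hWc y hy' g hg]; group
        rw [this]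
        exact one_mem _
      · have h2 : y⁻¹ * (g * y * g⁻¹) ∈ Zc Q := by
          have := h.comm _ (Q.inv_mem (hEQ hyE)) _ hg
          simpa [mul_assoc] using this
        simpa [hM] using h2
  obtain ⟨γ₀, hγ₀, w₁, hw₁, hγ₀w₁⟩ := hmoved
  have hw₁1 : (w₁ : Ω) ≠ 1 := by
    intro hcon
    apply hγ₀w₁
    have : w₁ = 1 := Subtype.ext hcon
    rw [this, map_one]
    exact (Zc Q).one_mem
  -- every element of `W` (in `E`) is a power of `w₁`
  have hpow : ∀ w : E, (w : Ω) ∈ Zc Q → ∃ k : ℤ, w = w₁ ^ k := by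
    intro w hw
    obtain ⟨k, hk⟩ := cQ.gen _ hw₁ hw₁1 _ hw
    exact ⟨k, Subtype.ext (by rw [hk, SubgroupClass.coe_zpow])⟩
  -- `E` is abelian
  have hEab : ∀ a ∈ E, ∀ b ∈ E, a * b = b * a := by
    by_contra hcon
    push Not at hcon
    obtain ⟨a', ha', b', hb', hab'⟩ := hcon
    apply hγ₀w₁
    apply cQ.inv_of_comm hEQ ha' hb' _ γ₀ w₁ hw₁
    intro h1
    apply hab'
    calc a' * b' = (a' * b' * a'⁻¹ * b'⁻¹) * b' * a' := by group
      _ = b' * a' := by rw [h1, one_mul]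
  have hA : ∀ v ∈ E, ∃ x ∈ Q, x ∉ E ∧ x * v = v * x := fun v hv =>
    claimA hS h hQi h6 hEQ hne hEab hv
  obtain ⟨H, ⟨α₀, hα₀G, hα₀H⟩, -, hH⟩ := exists_control_aut hS F hF hE
  -- automorphisms moving `w₁` out of `W` lie in `H`
  have hkey : ∀ γ ∈ F.autGroup E, ((γ w₁ : E) : Ω) ∉ Zc Q → γ ∈ H := by
    intro γ hγ hγw₁
    obtain ⟨x, hxQ, hxE, hxw⟩ := hA _ (γ w₁).2
    obtain ⟨x', hx'Q, hx'E, hx'v⟩ := hA _ (γ⁻¹ w₁).2
    obtain ⟨t, htdef⟩ : ∃ t : MulAut E, t = E.normalizerMonoidHom ⟨x, hQN x hxQ⟩ := ⟨_, rfl⟩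
    obtain ⟨t', ht'def⟩ : ∃ t' : MulAut E, t' = E.normalizerMonoidHom ⟨x', hQN x' hx'Q⟩ :=
      ⟨_, rfl⟩
    have htcoe : ∀ u : E, ((t u : E) : Ω) = x * u * x⁻¹ := fun u => by rw [htdef]; rfl
    have ht'coe : ∀ u : E, ((t' u : E) : Ω) = x' * u * x'⁻¹ := fun u => by rw [ht'def]; rfl
    have htT : t ∈ autInducedBy S E := mem_autInducedBy_iff.2 ⟨x, h.le hxQ, hQN x hxQ, htdef⟩
    have ht'T : t' ∈ autInducedBy S E :=
      mem_autInducedBy_iff.2 ⟨x', h.le hx'Q, hQN x' hx'Q, ht'def⟩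
    have htG : t ∈ F.autGroup E := autInducedBy_le_autGroup F hES htT
    have ht'G : t' ∈ F.autGroup E := autInducedBy_le_autGroup F hES ht'T
    obtain ⟨y, hydef⟩ : ∃ y : MulAut E, y = γ * t' * γ⁻¹ := ⟨_, rfl⟩
    have hya : ∀ u : E, y u = γ (t' (γ⁻¹ u)) := fun u => by rw [hydef]; rfl
    have hyG : y ∈ F.autGroup E := by
      rw [hydef]; exact mul_mem (mul_mem hγ ht'G) (inv_mem hγ)
    have htW : ∀ u : E, (u : Ω) ∈ Zc Q → t u = u := fun u hu => by
      rw [htdef]; exact hfixW x hxQ u hu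
    have ht'W : ∀ u : E, (u : Ω) ∈ Zc Q → t' u = u := fun u hu => by
      rw [ht'def]; exact hfixW x' hx'Q u hu
    have htc : ∀ u : E, ((u⁻¹ * t u : E) : Ω) ∈ Zc Q := fun u => by
      rw [htdef]; exact hcommW x hxQ u
    have ht'c : ∀ u : E, ((u⁻¹ * t' u : E) : Ω) ∈ Zc Q := fun u => by
      rw [ht'def]; exact hcommW x' hx'Q u
    -- `t` fixes `γ w` for `w ∈ W`
    have htγ : ∀ w : E, (w : Ω) ∈ Zc Q → t (γ w) = γ w := by
      intro w hw
      obtain ⟨k, hk⟩ := hpow w hw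
      have h1 : t (γ w₁) = γ w₁ := by
        apply Subtype.ext
        rw [htcoe, hxw, mul_inv_cancel_right]
      rw [hk, map_zpow, map_zpow, h1]
    -- `t'` fixes `γ⁻¹ w` for `w ∈ W`
    have ht'γ : ∀ w : E, (w : Ω) ∈ Zc Q → t' (γ⁻¹ w) = γ⁻¹ w := by
      intro w hw
      obtain ⟨k, hk⟩ := hpow w hw
      have h1 : t' (γ⁻¹ w₁) = γ⁻¹ w₁ := by
        apply Subtype.ext
        rw [ht'coe, hx'v, mul_inv_cancel_right]
      rw [hk, map_zpow, map_zpow, h1]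
    have hyW : ∀ w : E, (w : Ω) ∈ Zc Q → y w = w := by
      intro w hw
      rw [hya, ht'γ w hw, MulAut.apply_inv_self]
    have hyγ : ∀ w : E, (w : Ω) ∈ Zc Q → y (γ w) = γ w := by
      intro w hw
      rw [hya, MulAut.inv_apply_self, ht'W w hw]
    have hyc : ∀ u : E, ∃ k : E, (k : Ω) ∈ Zc Q ∧ u⁻¹ * y u = γ k := by
      intro u
      refine ⟨(γ⁻¹ u)⁻¹ * t' (γ⁻¹ u), ht'c _, ?_⟩
      rw [hya, map_mul, map_inv, MulAut.apply_inv_self]
    obtain ⟨P₀, hP₀⟩ : ∃ P₀ : Subgroup E, P₀ = fixS t ⊓ fixS y := ⟨_, rfl⟩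
    have hmemP₀ : ∀ u : E, u ∈ P₀ ↔ t u = u ∧ y u = u := by
      intro u
      rw [hP₀, Subgroup.mem_inf, mem_fixS, mem_fixS]
    have hW'P₀ : (Zc Q).subgroupOf E ≤ P₀ := by
      intro w hw
      rw [mem_subgroupOf] at hw
      exact (hmemP₀ w).2 ⟨htW w hw, hyW w hw⟩
    have hst : Stab3 ((Zc Q).subgroupOf E) P₀ t := by
      refine ⟨fun w hw => htW w (mem_subgroupOf.1 hw), fun u hu => ?_, fun u => ?_⟩
      · rw [((hmemP₀ u).1 hu).1, inv_mul_cancel]
        exact one_mem _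
      · exact hW'P₀ (mem_subgroupOf.2 (htc u))
    have hsy : Stab3 ((Zc Q).subgroupOf E) P₀ y := by
      refine ⟨fun w hw => hyW w (mem_subgroupOf.1 hw), fun u hu => ?_, fun u => ?_⟩
      · rw [((hmemP₀ u).1 hu).2, inv_mul_cancel]
        exact one_mem _
      · obtain ⟨k, hk, e⟩ := hyc u
        rw [e]
        exact (hmemP₀ _).2 ⟨htγ k hk, hyγ k hk⟩
    have hsub : ({t, y} : Set (MulAut E)) ⊆ {β | Stab3 ((Zc Q).subgroupOf E) P₀ β} := by
      rintro β (rfl | rfl)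
      · exact hst
      · exact hsy
    have hUp : IsPGroup p (closure ({t, y} : Set (MulAut E))) :=
      (isPGroup_closure_stab3 hEp _ P₀ hW'P₀).to_le (closure_mono hsub)
    have hUG : closure ({t, y} : Set (MulAut E)) ≤ F.autGroup E := by
      rw [closure_le]
      rintro β (rfl | rfl)
      · exact htG
      · exact hyG
    obtain ⟨δ, hδG, hδ⟩ := exists_conj_mem hS F hF hE _ hUG hUp
    have h1 := hδ t (subset_closure (Or.inl rfl))
    have h2 := hδ y (subset_closure (Or.inr rfl))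
    obtain ⟨a₁, ha₁S, ha₁N, ha₁⟩ := mem_autInducedBy_iff.1 h1
    have hδH : δ ∈ H := by
      apply hH δ hδG x a₁ ⟨h.le hxQ, hQN x hxQ⟩ ⟨ha₁S, ha₁N⟩ hxE
      intro u hu
      have e : (δ * t * δ⁻¹) (δ u) = E.normalizerMonoidHom ⟨a₁, ha₁N⟩ (δ u) := by rw [ha₁]
      have e2 : (δ * t * δ⁻¹) (δ u) = δ (t u) := by
        show δ (t (δ⁻¹ (δ u))) = _
        rw [MulAut.inv_apply_self]
      have e3 : t u = ⟨x * u * x⁻¹, hu⟩ := Subtype.ext (htcoe u)
      rw [← e3, ← e2, e]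
      rfl
    obtain ⟨a₂, ha₂S, ha₂N, ha₂⟩ := mem_autInducedBy_iff.1 h2
    have hδγH : δ * γ ∈ H := by
      apply hH (δ * γ) (mul_mem hδG hγ) x' a₂ ⟨h.le hx'Q, hQN x' hx'Q⟩ ⟨ha₂S, ha₂N⟩ hx'E
      intro u hu
      have e : (δ * y * δ⁻¹) ((δ * γ) u) = E.normalizerMonoidHom ⟨a₂, ha₂N⟩ ((δ * γ) u) := by
        rw [ha₂]
      have e2 : (δ * y * δ⁻¹) ((δ * γ) u) = (δ * γ) (t' u) := by
        show δ (y (δ⁻¹ (δ (γ u)))) = δ (γ (t' u))
        rw [MulAut.inv_apply_self, hya, MulAut.inv_apply_self]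
      have e3 : t' u = ⟨x' * u * x'⁻¹, hu⟩ := Subtype.ext (ht'coe u)
      rw [← e3, ← e2, e]
      rfl
    have : γ = δ⁻¹ * (δ * γ) := by group
    rw [this]
    exact H.mul_mem (H.inv_mem hδH) hδγH
  -- conclusion
  apply hα₀H
  by_cases hm : ((α₀ w₁ : E) : Ω) ∈ Zc Q
  · have h1 : (((γ₀ * α₀) w₁ : E) : Ω) ∉ Zc Q := by
      intro hcon
      apply hγ₀w₁
      have hα1 : ((α₀ w₁ : E) : Ω) ≠ 1 := by
        intro h0
        apply hw₁1
        have h00 : α₀ w₁ = 1 := Subtype.ext h0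
        have : w₁ = 1 := α₀.injective (by rw [h00, map_one])
        rw [this]; rfl
      obtain ⟨k, hk⟩ := cQ.gen _ hm hα1 _ hw₁
      have hwk : w₁ = (α₀ w₁) ^ k := Subtype.ext (by rw [hk, SubgroupClass.coe_zpow])
      rw [hwk, map_zpow, SubgroupClass.coe_zpow]
      exact (Zc Q).zpow_mem hcon k
    have h2 := hkey (γ₀ * α₀) (mul_mem hγ₀ hα₀G) h1
    have h3 := hkey γ₀ hγ₀ hγ₀w₁
    have : α₀ = γ₀⁻¹ * (γ₀ * α₀) := by group
    rw [this]
    exact H.mul_mem (H.inv_mem h3) h2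
  · exact hkey α₀ hα₀G hm

end Cfsg.Agent.Lib.Helper11.XSc
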