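import Mathlib
import Cfsg.Agent.Lib.Helper11.QuadFree3
import Cfsg.Agent.Lib.Helper11.KInfGlue
import Cfsg.Agent.Lib.Helper11.LG2
import Cfsg.Agent.Lib.Helper1.QdConverseZJ

/-!
# `Z(J)` controls strong fusion in `SL₂(p)`-free groups; restricted local-to-global (helper11)
-/

set_option autoImplicit false
open Cfsg

universe u

namespace Cfsg.Agent.Lib.Helper11.ZJFusion

open Cfsg.Agent.Lib.Helper11.QuadFree Cfsg.Agent.Lib.Helper11.KInfGlue Cfsg.Agent.Lib.Helper11.SFS
open Cfsg.Agent.Lib.Helper11.LG Cfsg.Agent.Lib.Helper11.AG Cfsg.Agent.Lib.Helper1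
open Cfsg.Agent.Lib.Helper29 Cfsg.Agent.Lib.Helper1.QdConv
open Cfsg.Agent.Lib.Lead.GlaubermanRepl Cfsg.Agent.Lib.Lead.ZJFunctor Cfsg.Agent.Lib.Lead.GlaubermanZJ

/-- a section of the subgroup `L`, seen inside `G` -/
theorem exists_section_le {Y : Type*} [Group Y] {G : Type*} [Group G] (L : Subgroup G)
    (h : Cfsg.Involves Y L) :
    ∃ (H K : Subgroup G) (_ : (K.subgroupOf H).Normal), H ≤ L ∧
      Nonempty ((H ⧸ K.subgroupOf H) ≃* Y) := by
  obtain ⟨K', R', hR', ⟨e⟩⟩ := h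
  have hinj : Function.Injective L.subtype := L.subtype_injective
  obtain ⟨Γ, hΓ⟩ : ∃ Γ : Subgroup G, Γ = K'.map L.subtype := ⟨_, rfl⟩
  subst hΓ
  let f : K' ≃* (K'.map L.subtype : Subgroup G) := Subgroup.equivMapOfInjective K' L.subtype hinj
  let Ψ : (K'.map L.subtype : Subgroup G) →* Y :=
    (e.toMonoidHom.comp (QuotientGroup.mk' (R'.subgroupOf K'))).comp f.symm.toMonoidHom
  have hΨ : Function.Surjective Ψ := by
    intro y
    obtain ⟨q, rfl⟩ := e.surjective y
    obtain ⟨k, rfl⟩ := QuotientGroup.mk'_surjective (R'.subgroupOf K') q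
    exact ⟨f k, by simp [Ψ]⟩
  obtain ⟨M, hM⟩ : ∃ M : Subgroup G, M = Ψ.ker.map (K'.map L.subtype : Subgroup G).subtype :=
    ⟨_, rfl⟩
  have hMK : M.subgroupOf (K'.map L.subtype : Subgroup G) = Ψ.ker := by
    ext k
    rw [Subgroup.mem_subgroupOf, hM]
    constructor
    · rintro ⟨k', hk', h⟩
      have : k' = k := Subtype.ext h
      rwa [← this]
    · intro hk
      exact ⟨k, hk, rfl⟩
  have hN : (M.subgroupOf (K'.map L.subtype : Subgroup G)).Normal := by rw [hMK]; infer_instance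
  exact ⟨_, M, hN, Subgroup.map_subtype_le _, ⟨(QuotientGroup.quotientMulEquivOfEq hMK).trans
      (QuotientGroup.quotientKerEquivOfSurjective Ψ hΨ)⟩⟩

/-- the conjugacy functor `Z(J(-))` on subgroups of `G` -/
abbrev WZJ (G : Type u) [Group G] : Subgroup G → Subgroup G := fun T => Cfsg.centerThompsonAOf T

theorem WZJ_conj (p : ℕ) [Fact p.Prime] (G : Type u) [Group G] [Finite G] :
    Cfsg.IsConjugacyFunctor p (WZJ G) := by
  have h := conjFunctor (ZJt_char.{u} p) G
  have e : Cfsg.inducedFunctor (G := G) ZJt.{u} = WZJ G := funext (fun T => induced_ZJt T)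
  rwa [e] at h

theorem WZJ_center {G : Type u} [Group G] [Finite G] (H : Subgroup G) : zz H ≤ WZJ G H := by
  show zz H ≤ Cfsg.centerThompsonAOf H
  rw [centerThompsonAOf_eq]
  exact center_le_ZJ H

theorem WZJ_map_subtype {G : Type u} [Group G] [Finite G] (L : Subgroup G) (T : Subgroup ↥L) :
    (Cfsg.centerThompsonAOf T).map L.subtype = Cfsg.centerThompsonAOf (T.map L.subtype) := by
  rw [centerThompsonAOf_eq, centerThompsonAOf_eq]
  exact (ZJ_map_of_injOn L.subtype (U := T)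
    (fun x _ hx => L.subtype_injective (by rw [hx, map_one]))).symm

/-- **Local control**: in an `SL₂(p)`-free subgroup `L`, `N(Z(J(Q)))` controls strong fusion in a
Sylow `p`-subgroup `Q` of `L`, in the chain form used by the local-to-global theorem. -/
theorem local_ctl {G : Type u} [Group G] [Finite G] {p : ℕ} [Fact p.Prime] (hp2 : p ≠ 2)
    (L : Subgroup G) (hfree : SL2Free p ↥L) (T : Sylow p ↥L) :
    ∀ (X : Set G) (a : G), X ⊆ (((T : Subgroup ↥L).map L.subtype : Subgroup G) : Set G) → a ∈ L →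
      rcs a X ⊆ (((T : Subgroup ↥L).map L.subtype : Subgroup G) : Set G) →
      WS (St (WZJ G) (fun _ => (∅ : Set G)) ((T : Subgroup ↥L).map L.subtype))
        (((T : Subgroup ↥L).map L.subtype : Subgroup G) : Set G) X a := by
  intro X a hX ha hXa
  have hst : ∀ (K R : Subgroup ↥L) [_hR : (R.subgroupOf K).Normal],
      Cfsg.IsNormalizerPStable p (↥K ⧸ R.subgroupOf K) :=
    fun K R _ => nps_of_sl2Free hp2 (sl2Free_section hfree K R)
  have hsec := secLocN_of_nps (hNonNormal_ZJt.{u} hp2) hst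
  have hctl := main (ZJt_char.{u} p) _ ↥L le_rfl hsec T
  have hA : (L.subtype ⁻¹' X) ⊆ ((T : Subgroup ↥L) : Set ↥L) := by
    intro x hx
    obtain ⟨t, ht, hte⟩ := hX hx
    have : t = x := Subtype.ext hte
    rw [← this]; exact ht
  have hgA : ∀ x ∈ (L.subtype ⁻¹' X), (⟨a, ha⟩ : ↥L)⁻¹ * x * (⟨a, ha⟩ : ↥L)⁻¹⁻¹ ∈ (T : Subgroup ↥L) := by
    intro x hx
    have h1 : a⁻¹ * (x : G) * a ∈ rcs a X := ⟨(x : G), hx, rfl⟩
    obtain ⟨t, ht, hte⟩ := hXa h1
    have : t = (⟨a, ha⟩ : ↥L)⁻¹ * x * (⟨a, ha⟩ : ↥L)⁻¹⁻¹ := by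
      apply Subtype.ext
      rw [inv_inv]
      exact hte
    rw [← this]; exact ht
  obtain ⟨n, hn, hna⟩ := hctl (L.subtype ⁻¹' X) (⟨a, ha⟩ : ↥L)⁻¹ hA hgA
  have hna' : ∀ x ∈ X, a⁻¹ * x * a = (n : G) * x * (n : G)⁻¹ := by
    intro x hx
    obtain ⟨t, ht, hte⟩ := hX hx
    have h1 := hna t (by show L.subtype t ∈ X; rw [hte]; exact hx)
    have h2 := congrArg Subtype.val h1
    rw [inv_inv] at h2
    have hte' : (t : G) = x := hte
    simpa [hte'] using h2
  have hc : a * (n : G) ∈ Subgroup.centralizer X := by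
    rw [Subgroup.mem_centralizer_iff]
    intro x hx
    have h1 := hna' x hx
    have h2 : (n : G) * x = a⁻¹ * x * a * (n : G) := by rw [h1]; group
    calc x * (a * (n : G)) = a * (a⁻¹ * x * a * (n : G)) := by group
      _ = a * ((n : G) * x) := by rw [h2]
      _ = a * (n : G) * x := by group
  have hnN : (n : G)⁻¹ ∈ Subgroup.normalizer ((WZJ G ((T : Subgroup ↥L).map L.subtype) : Subgroup G) : Set G) := by
    apply inv_mem
    show (n : G) ∈ Subgroup.normalizer ((Cfsg.centerThompsonAOf ((T : Subgroup ↥L).map L.subtype) : Subgroup G) : Set G)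
    rw [← WZJ_map_subtype]
    apply Subgroup.le_normalizer_map L.subtype
    refine ⟨n, ?_, rfl⟩
    rw [induced_ZJt] at hn
    exact hn
  have hrcs : rcs (n : G)⁻¹ X = rcs a X := by
    unfold rcs
    ext z
    constructor
    · rintro ⟨x, hx, rfl⟩
      refine ⟨x, hx, ?_⟩
      show a⁻¹ * x * a = (n : G)⁻¹⁻¹ * x * (n : G)⁻¹
      rw [inv_inv]; exact hna' x hx
    · rintro ⟨x, hx, rfl⟩
      refine ⟨x, hx, ?_⟩
      show (n : G)⁻¹⁻¹ * x * (n : G)⁻¹ = a⁻¹ * x * a
      rw [inv_inv]; exact (hna' x hx).symm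
  refine ⟨a * (n : G), hc, (n : G)⁻¹, ?_, by group⟩
  have hst' : (n : G)⁻¹ ∈ St (WZJ G) (fun _ => (∅ : Set G)) ((T : Subgroup ↥L).map L.subtype) :=
    Or.inl hnN
  exact SChain.single hst' hX (by rw [hrcs]; exact hXa)

/-- **Global control of fusion by `N(Z(J(S)))`** when the normalizers `N_G(H)`, `Z(S) ≤ H ≤ S`, are
`SL₂(p)`-free. -/
theorem global_ctl {G : Type u} [Group G] [Finite G] {p : ℕ} [Fact p.Prime] (hp2 : p ≠ 2)
    (S : Sylow p G)
    (hfree : ∀ H : Subgroup G, zz (S : Subgroup G) ≤ H → H ≤ (S : Subgroup G) →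
      SL2Free p ↥(Subgroup.normalizer (H : Set G))) :
    ∀ (X : Set G) (a : G), X ⊆ ((S : Subgroup G) : Set G) → rcs a X ⊆ ((S : Subgroup G) : Set G) →
      ∃ c ∈ Subgroup.centralizer X, ∃ n ∈ Subgroup.normalizer
        ((Cfsg.centerThompsonAOf (S : Subgroup G) : Subgroup G) : Set G), a = c * n := by
  intro X a hX hXa
  have hloc : ∀ H : Subgroup G, zz (S : Subgroup G) ≤ H → H ≤ (S : Subgroup G) →
      ∃ Q : Subgroup G, Q ≤ Subgroup.normalizer (H : Set G) ∧ IsPGroup p Q ∧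
        ¬ p ∣ Q.relIndex (Subgroup.normalizer (H : Set G)) ∧
        ∀ (X : Set G) (a : G), X ⊆ (Q : Set G) → a ∈ Subgroup.normalizer (H : Set G) →
          rcs a X ⊆ (Q : Set G) → WS (St (WZJ G) (fun _ => (∅ : Set G)) Q) (Q : Set G) X a := by
    intro H hZH hHS
    obtain ⟨T⟩ : Nonempty (Sylow p ↥(Subgroup.normalizer (H : Set G))) := inferInstance
    refine ⟨(T : Subgroup ↥(Subgroup.normalizer (H : Set G))).map (Subgroup.normalizer (H : Set G)).subtype,
      Subgroup.map_subtype_le _, T.isPGroup'.map _, ?_, ?_⟩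
    · have e : ((T : Subgroup ↥(Subgroup.normalizer (H : Set G))).map
          (Subgroup.normalizer (H : Set G)).subtype).subgroupOf (Subgroup.normalizer (H : Set G)) =
          (T : Subgroup ↥(Subgroup.normalizer (H : Set G))) := by
        rw [Subgroup.subgroupOf, Subgroup.comap_map_eq_self_of_injective (Subgroup.subtype_injective _)]
      rw [Subgroup.relIndex, e]
      exact T.not_dvd_index
    · exact local_ctl hp2 _ (hfree H hZH hHS) T
  obtain ⟨c, hc, y, hy, rfl⟩ := restricted_local_to_global S (WZJ G) (WZJ_conj p G)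
    (fun H _ => WZJ_center H) (fun _ => (∅ : Set G)) (fun _ _ _ _ he => he.elim)
    (fun _ _ _ => subset_refl _) hloc X a hX hXa
  obtain ⟨l, hl, hprod, -⟩ := hy.exists_list
  refine ⟨c, hc, y, ?_, rfl⟩
  rw [← hprod]
  apply Subgroup.list_prod_mem
  intro x hx
  rcases hl x hx with h | h
  · exact h
  · exact h.elim

end Cfsg.Agent.Lib.Helper11.ZJFusion
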